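import Mathlib.GroupTheory.Nilpotent
import Mathlib.GroupTheory.QuotientGroup.Basic

/-!
Commutator subgroups modulo a normal subgroup; lower central series of a subgroup.
-/

open Subgroup

namespace CfsgLib.FGStruct

variable {G : Type*} [Group G]

theorem commutator_le_iff_map (A B N : Subgroup G) [N.Normal] :
    ⁅A, B⁆ ≤ N ↔ ⁅A.map (QuotientGroup.mk' N), B.map (QuotientGroup.mk' N)⁆ = ⊥ := by
  rw [← map_commutator, Subgroup.map_eq_bot_iff, QuotientGroup.ker_mk']

/-- `⁅A, B ⊔ C⁆` is in a normal `N` once both `⁅A, B⁆` and `⁅A, C⁆` are. -/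
theorem commutator_sup_right_le {A B C N : Subgroup G} [N.Normal] (h₁ : ⁅A, B⁆ ≤ N) (h₂ : ⁅A, C⁆ ≤ N) :
    ⁅A, B ⊔ C⁆ ≤ N := by
  rw [commutator_le_iff_map, commutator_comm, commutator_eq_bot_iff_le_centralizer] at h₁ h₂ ⊢
  rw [Subgroup.map_sup]
  exact sup_le h₁ h₂

theorem commutator_iSup_left_le {ι : Sort*} {A : ι → Subgroup G} {B N : Subgroup G} [N.Normal]
    (h : ∀ i, ⁅A i, B⁆ ≤ N) : ⁅⨆ i, A i, B⁆ ≤ N := by
  rw [commutator_le_iff_map, commutator_eq_bot_iff_le_centralizer, Subgroup.map_iSup]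
  refine iSup_le fun i => ?_
  have := h i
  rwa [commutator_le_iff_map, commutator_eq_bot_iff_le_centralizer] at this

/-- Three subgroups lemma modulo a normal subgroup. -/
theorem threeSubgroup_le {A B C N : Subgroup G} [N.Normal] (h₁ : ⁅⁅B, C⁆, A⁆ ≤ N) (h₂ : ⁅⁅C, A⁆, B⁆ ≤ N) :
    ⁅⁅A, B⁆, C⁆ ≤ N := by
  rw [commutator_le_iff_map, map_commutator] at h₁ h₂ ⊢
  exact commutator_commutator_eq_bot_of_rotate h₁ h₂

/-- `⁅γᵢ S, γⱼ S⁆ ≤ γᵢ₊ⱼ₊₁ S` for a normal subgroup `S`. -/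
theorem commutator_lcs_le (S : Subgroup G) [S.Normal] (i j : ℕ) :
    ⁅S.lowerCentralSeries i, S.lowerCentralSeries j⁆ ≤ S.lowerCentralSeries (i + j + 1) := by
  induction j generalizing i with
  | zero => exact le_of_eq rfl
  | succ j ih =>
    rw [Subgroup.lowerCentralSeries_succ, commutator_comm]
    apply threeSubgroup_le
    · rw [commutator_comm S, ← Subgroup.lowerCentralSeries_succ]
      refine (ih (i + 1)).trans (le_of_eq ?_)
      congr 1; omega
    · refine (commutator_mono (ih i) le_rfl).trans ?_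
      rw [← Subgroup.lowerCentralSeries_succ]
      exact le_of_eq (by congr 1)

end CfsgLib.FGStruct
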