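import Mathlib
import Cfsg.Prelude
import Cfsg.Agent.Lib.PLocal.PSolvable

/-!
`p`-solvable groups: gluing along a normal subgroup, and `{p, q}`-Hall subgroups containing a
given Sylow `p`-subgroup.
-/

set_option autoImplicit false

universe u

namespace CfsgLib.FGStruct.HallPQ

/-- Extending a `p`-solvable quotient by a normal `p`-group or `p'`-group. -/
theorem isPSolvable_of_extension {G : Type*} [Group G] {p : ℕ} (N : Subgroup G) [N.Normal]
    (hN : (∃ m, Nat.card N = p ^ m) ∨ (Nat.card N).Coprime p) (h : Cfsg.IsPSolvable p (G ⧸ N)) :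
    Cfsg.IsPSolvable p G := by
  obtain ⟨m, H, h0, hl, hm, hnor, hfac⟩ := h
  have hsurj := QuotientGroup.mk'_surjective N
  have h0' : (H 0).comap (QuotientGroup.mk' N) = N := by
    rw [h0, MonoidHom.comap_bot, QuotientGroup.ker_mk']
  refine ⟨m + 1, Fin.cons ⊥ fun i => (H i).comap (QuotientGroup.mk' N), rfl, ?_, ?_, ?_, ?_⟩
  · rw [← Fin.succ_last, Fin.cons_succ, hl, Subgroup.comap_top]
  · refine Fin.monotone_iff_le_succ.mpr fun i => ?_
    induction i using Fin.cases with
    | zero => exact bot_le
    | succ i =>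
      rw [Fin.cons_succ, ← Fin.succ_castSucc, Fin.cons_succ]
      exact Subgroup.comap_mono (hm i.castSucc_le_succ)
  · intro i
    induction i using Fin.cases with
    | zero => rw [Fin.cons_zero]; infer_instance
    | succ i => rw [Fin.cons_succ]; exact (hnor i).comap _
  · intro i
    induction i using Fin.cases with
    | zero =>
      rw [Fin.cons_succ, Fin.castSucc_zero, Fin.cons_zero, h0', Subgroup.relIndex_bot_left]
      exact hN
    | succ i =>
      rw [Fin.cons_succ, ← Fin.succ_castSucc, Fin.cons_succ, Subgroup.relIndex_comap,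
        Subgroup.map_comap_eq_self_of_surjective hsurj]
      exact hfac i

/-- A nontrivial `p`-solvable group has a nontrivial normal `p`-subgroup or `p'`-subgroup. -/
theorem exists_normal {G : Type*} [Group G] [Nontrivial G] {p : ℕ} (h : Cfsg.IsPSolvable p G) :
    ∃ N : Subgroup G, N.Normal ∧ N ≠ ⊥ ∧ ((∃ m, Nat.card N = p ^ m) ∨ (Nat.card N).Coprime p) := by
  obtain ⟨n, S, h0, hl, hm, hn, hfac⟩ := h
  by_contra hno
  push Not at hno
  have hall : ∀ i, S i = ⊥ := by
    refine Fin.induction h0 fun i ih => ?_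
    by_contra hne
    rcases hfac i with ⟨k, hk⟩ | hc
    · rw [ih, Subgroup.relIndex_bot_left] at hk
      exact (hno _ (hn _) hne).1 k hk
    · rw [ih, Subgroup.relIndex_bot_left] at hc
      exact (hno _ (hn _) hne).2 hc
  exact top_ne_bot (hl.symm.trans (hall _))

theorem factorization_eq_of_relIndex {G : Type*} [Group G] [Finite G] {p : ℕ} [hp : Fact p.Prime]
    (H : Subgroup G) (h : ¬ p ∣ H.index) : (Nat.card H).factorization p = (Nat.card G).factorization p := by
  rw [← H.card_mul_index, Nat.factorization_mul Nat.card_pos.ne' Subgroup.index_ne_zero_of_finite,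
    Finsupp.add_apply, Nat.factorization_eq_zero_of_not_dvd h, add_zero]

theorem not_dvd_index_of_factorization_eq {G : Type*} [Group G] [Finite G] {p : ℕ} [hp : Fact p.Prime]
    (H : Subgroup G) (h : (Nat.card H).factorization p = (Nat.card G).factorization p) : ¬ p ∣ H.index := by
  intro hd
  rw [← H.card_mul_index, Nat.factorization_mul Nat.card_pos.ne' Subgroup.index_ne_zero_of_finite,
    Finsupp.add_apply] at h
  have := hp.out.factorization_pos_of_dvd Subgroup.index_ne_zero_of_finite hd
  omega

/-- Conjugating a subgroup of full `p`-part to contain a given Sylow subgroup. -/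
theorem exists_conj_ge {G : Type*} [Group G] [Finite G] {p : ℕ} [hp : Fact p.Prime] (R : Sylow p G)
    (W : Subgroup G) (h : ¬ p ∣ W.index) :
    ∃ W' : Subgroup G, (R : Subgroup G) ≤ W' ∧ Nat.card W' = Nat.card W := by
  obtain ⟨S⟩ : Nonempty (Sylow p W) := inferInstance
  have hS : ¬ p ∣ ((S : Subgroup W).map W.subtype).index := by
    rw [Subgroup.index_map_subtype]
    exact hp.out.prime.not_dvd_mul S.not_dvd_index h
  let S' : Sylow p G := (S.isPGroup'.map W.subtype).toSylow hS
  obtain ⟨g, hg⟩ := MulAction.exists_smul_eq G S' R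
  refine ⟨W.map (MulAut.conj g).toMonoidHom, ?_, Subgroup.card_map_of_injective (MulAut.conj g).injective⟩
  have he : (R : Subgroup G) = (S' : Subgroup G).map (MulAut.conj g).toMonoidHom := by rw [← hg]; rfl
  rw [he]
  refine Subgroup.map_mono ?_
  show (S : Subgroup W).map W.subtype ≤ W
  exact Subgroup.map_subtype_le _

/-- A `{p, q}`-Hall subgroup through a Sylow `p`-subgroup. -/
theorem exists_hall {p q : ℕ} [hp : Fact p.Prime] [hq : Fact q.Prime] (hpq : p ≠ q) :
    ∀ (n : ℕ) (G : Type u) [Group G] [Finite G], Nat.card G = n → Cfsg.IsPSolvable p G →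
      ∀ R : Sylow p G, ∃ W : Subgroup G, (R : Subgroup G) ≤ W ∧
        Nat.card W = p ^ (Nat.card G).factorization p * q ^ (Nat.card G).factorization q := by
  intro n
  induction n using Nat.strong_induction_on with
  | _ n ih =>
  intro G _ _ hn hs R
  -- passing to a proper subgroup of full `p`- and `q`-part
  have sub : ∀ T : Subgroup G, T ≠ ⊤ → ¬ p ∣ T.index → ¬ q ∣ T.index →
      ∃ W : Subgroup G, (R : Subgroup G) ≤ W ∧
        Nat.card W = p ^ (Nat.card G).factorization p * q ^ (Nat.card G).factorization q := by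
    intro T hT hpT hqT
    obtain ⟨R'⟩ : Nonempty (Sylow p T) := inferInstance
    have hlt : Nat.card T < n := by
      rw [← hn]
      exact lt_of_le_of_ne (Subgroup.card_le_card_group T) fun h => hT (Subgroup.eq_top_of_card_eq T h)
    obtain ⟨W, hW, hWc⟩ := ih _ hlt T rfl (CfsgLib.PLocal.isPSolvable_subgroup hs T) R'
    rw [factorization_eq_of_relIndex T hpT, factorization_eq_of_relIndex T hqT] at hWc
    have hidx : ¬ p ∣ (W.map T.subtype).index := by
      rw [Subgroup.index_map_subtype]
      exact hp.out.prime.not_dvd_mul (fun h => R'.not_dvd_index (h.trans (Subgroup.index_dvd_of_le hW))) hpT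
    obtain ⟨W', h1, h2⟩ := exists_conj_ge R _ hidx
    exact ⟨W', h1, h2.trans ((Subgroup.card_map_of_injective T.subtype_injective).trans hWc)⟩
  rcases subsingleton_or_nontrivial G with hG | hG
  · refine ⟨⊤, le_top, ?_⟩
    rw [Subgroup.card_top, Nat.card_eq_one_iff_unique.2 ⟨hG, inferInstance⟩]
    simp
  obtain ⟨N, hNn, hN1, hN⟩ := exists_normal hs
  have hsurj := QuotientGroup.mk'_surjective N
  have hmulc : Nat.card N * Nat.card (G ⧸ N) = Nat.card G := N.card_mul_index
  have hlt : Nat.card (G ⧸ N) < n := by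
    rw [← hn, ← hmulc]
    exact lt_mul_left Nat.card_pos (Subgroup.one_lt_card_iff_ne_bot N |>.2 hN1)
  obtain ⟨W₀, hW₀, hW₀c⟩ := ih _ hlt (G ⧸ N) rfl (CfsgLib.PLoc.isPSolvable_of_surjective hsurj hs)
    (R.mapSurjective hsurj)
  set T := W₀.comap (QuotientGroup.mk' N) with hT
  have hRT : (R : Subgroup G) ≤ T := fun x hx => hW₀ (Subgroup.mem_map_of_mem _ hx)
  have hidx : T.index = W₀.index := Subgroup.index_comap_of_surjective _ hsurj
  have hf : ∀ (r : ℕ) [Fact r.Prime], (Nat.card W₀).factorization r = (Nat.card (G ⧸ N)).factorization r →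
      ¬ r ∣ T.index := fun r _ h => hidx ▸ not_dvd_index_of_factorization_eq W₀ h
  have hfW : (Nat.card W₀).factorization p = (Nat.card (G ⧸ N)).factorization p ∧
      (Nat.card W₀).factorization q = (Nat.card (G ⧸ N)).factorization q := by
    rw [hW₀c, Nat.factorization_mul (pow_ne_zero _ hp.out.ne_zero) (pow_ne_zero _ hq.out.ne_zero),
      Nat.Prime.factorization_pow hp.out, Nat.Prime.factorization_pow hq.out]
    simp [Finsupp.single_apply, hpq, hpq.symm]
  by_cases hTtop : T = ⊤
  swap
  · exact sub T hTtop (hf p hfW.1) (hf q hfW.2)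
  have hGN : Nat.card (G ⧸ N) = p ^ (Nat.card (G ⧸ N)).factorization p * q ^ (Nat.card (G ⧸ N)).factorization q := by
    rw [← hW₀c]
    have : W₀ = ⊤ := by
      rw [← Subgroup.map_comap_eq_self_of_surjective hsurj W₀, ← hT, hTtop,
        Subgroup.map_top_of_surjective _ hsurj]
    rw [this, Subgroup.card_top]
  have hfac : ∀ r, (Nat.card G).factorization r =
      (Nat.card N).factorization r + (Nat.card (G ⧸ N)).factorization r := fun r => by
    rw [← hmulc, Nat.factorization_mul Nat.card_pos.ne' Nat.card_pos.ne', Finsupp.add_apply]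
  rcases hN with ⟨m, hm⟩ | hN
  · refine ⟨⊤, le_top, ?_⟩
    rw [Subgroup.card_top, hfac, hfac, hm, Nat.Prime.factorization_pow hp.out, Finsupp.single_eq_same,
      Finsupp.single_eq_of_ne hpq.symm, zero_add, pow_add, mul_assoc, ← hGN, ← hm]
    exact hmulc.symm
  obtain ⟨Nq⟩ : Nonempty (Sylow q N) := inferInstance
  set Q := (Nq : Subgroup N).map N.subtype with hQdef
  have hfrat : Subgroup.normalizer (Q : Set G) ⊔ N = ⊤ := Sylow.normalizer_sup_eq_top Nq
  by_cases hQtop : Subgroup.normalizer (Q : Set G) = ⊤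
  swap
  · have hidx' : (Subgroup.normalizer (Q : Set G)).index = (Subgroup.normalizer (Q : Set G)).relIndex N := by
      set H := Subgroup.normalizer (Q : Set G)
      have h1 := Subgroup.relIndex_mul_index (inf_le_left : H ⊓ N ≤ H)
      have h2 := Subgroup.relIndex_mul_index (inf_le_right : H ⊓ N ≤ N)
      rw [Subgroup.inf_relIndex_left, ← Subgroup.relIndex_sup_right, hfrat, Subgroup.relIndex_top_right] at h1
      rw [Subgroup.inf_relIndex_right, ← h1, mul_comm] at h2
      exact (Nat.eq_of_mul_eq_mul_left (Nat.pos_of_ne_zero Subgroup.index_ne_zero_of_finite) h2).symm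
    refine sub _ hQtop (fun h => ?_) fun h => ?_
    · have h1 : p ∣ Nat.card N := (hidx' ▸ h).trans (Subgroup.relIndex_dvd_card _ _)
      exact (hp.out.coprime_iff_not_dvd.1 hN.symm) h1
    · rw [hidx'] at h
      refine Nq.not_dvd_index (h.trans ?_)
      have h2 : (Nq : Subgroup N) ≤ (Subgroup.normalizer (Q : Set G)).subgroupOf N := fun x hx =>
        Subgroup.le_normalizer (Subgroup.mem_map_of_mem N.subtype hx)
      exact Subgroup.index_dvd_of_le h2
  haveI hQn : Q.Normal := Subgroup.normalizer_eq_top_iff.1 hQtop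
  have hQN : Q ≤ N := Subgroup.map_subtype_le _
  set f := QuotientGroup.mk' Q
  have hfs := QuotientGroup.mk'_surjective Q
  haveI : (N.map f).Normal := Subgroup.Normal.map inferInstance _ hfs
  have hQidx : (N.map f).index = N.index := Subgroup.index_map_eq _ hfs (by rw [QuotientGroup.ker_mk']; exact hQN)
  have hNbar : Nat.card (N.map f) = (Nq : Subgroup N).index := by
    rw [← Subgroup.relIndex_ker, QuotientGroup.ker_mk']
    show (Q.subgroupOf N).index = _
    congr 1
    exact Subgroup.comap_map_eq_self_of_injective N.subtype_injective _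
  have hcop : (Nat.card (N.map f)).Coprime (N.map f).index := by
    rw [hNbar, hQidx]
    show (Nq : Subgroup N).index.Coprime (Nat.card (G ⧸ N))
    rw [hGN]
    refine Nat.Coprime.mul_right (Nat.Coprime.pow_right _ ?_) (Nat.Coprime.pow_right _ ?_)
    · exact hN.coprime_dvd_left (Subgroup.index_dvd_card _)
    · exact (hq.out.coprime_iff_not_dvd.2 Nq.not_dvd_index).symm
  obtain ⟨K, hK⟩ := Subgroup.exists_right_complement'_of_coprime hcop
  have hKc : Nat.card K = Nat.card (G ⧸ N) := by
    have h1 := hK.card_mul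
    rw [← (N.map f).card_mul_index] at h1
    rw [Nat.eq_of_mul_eq_mul_left Nat.card_pos h1, hQidx]
    rfl
  have hTc : Nat.card (K.comap f) = Nat.card Q * Nat.card (G ⧸ N) := by
    have h1 := (K.comap f).card_mul_index
    rw [Subgroup.index_comap_of_surjective _ hfs, ← Q.card_mul_index] at h1
    rw [show Q.index = Nat.card (G ⧸ Q) from rfl, ← K.card_mul_index, ← mul_assoc] at h1
    rw [Nat.eq_of_mul_eq_mul_right (Nat.pos_of_ne_zero Subgroup.index_ne_zero_of_finite) h1, hKc]
  have hfQ : Nat.card Q = q ^ (Nat.card N).factorization q := by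
    rw [hQdef, Subgroup.card_map_of_injective N.subtype_injective, Nq.card_eq_multiplicity]
  have hval : Nat.card (K.comap f) = p ^ (Nat.card G).factorization p * q ^ (Nat.card G).factorization q := by
    rw [hTc, hfQ, hfac, hfac, Nat.factorization_eq_zero_of_not_dvd (hp.out.coprime_iff_not_dvd.1 hN.symm),
      zero_add, pow_add]
    nth_rw 1 [hGN]
    ring
  obtain ⟨W', h1, h2⟩ := exists_conj_ge R (K.comap f) (not_dvd_index_of_factorization_eq _ (by
    rw [hval, Nat.factorization_mul (pow_ne_zero _ hp.out.ne_zero) (pow_ne_zero _ hq.out.ne_zero),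
      Nat.Prime.factorization_pow hp.out, Nat.Prime.factorization_pow hq.out]
    simp [Finsupp.single_apply, hpq.symm]))
  exact ⟨W', h1, h2.trans hval⟩

end CfsgLib.FGStruct.HallPQ
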