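import Mathlib

/-!
Bounds for the number of conjugacy classes from counting commuting pairs.
-/

open Subgroup

namespace CfsgLib.FGStruct

variable {X : Type*} [Group X] [Fintype X]

/-- `∑ x, |C(x) ∩ Y|`. -/
noncomputable def centSum (Y : Subgroup X) : ℕ :=
  ∑ x : X, Nat.card {y : Y // Commute x (y : X)}

theorem classNumber_mul_card (G : Type*) [Group G] [Fintype G] :
    Nat.card (ConjClasses G) * Nat.card G = ∑ a : G, Nat.card {b : G // Commute a b} := by
  rw [← card_comm_eq_card_conjClasses_mul_card]
  rw [Nat.card_congr (Equiv.subtypeProdEquivSigmaSubtype (fun a b : G => Commute a b)), Nat.card_sigma]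

theorem centSum_eq_sum_left (Y : Subgroup X) [Fintype Y] :
    centSum Y = ∑ y : Y, Nat.card {x : X // Commute (y : X) x} := by
  unfold centSum
  rw [← Nat.card_sigma, ← Nat.card_sigma]
  exact Nat.card_congr
    { toFun := fun z => ⟨z.2.1, z.1, z.2.2.symm⟩
      invFun := fun z => ⟨z.2.1, z.1, z.2.2.symm⟩
      left_inv := fun _ => rfl
      right_inv := fun _ => rfl }

theorem classNumber_subgroup (Y : Subgroup X) [Fintype Y] :
    Nat.card (ConjClasses Y) * Nat.card Y = ∑ y : Y, Nat.card {b : Y // Commute (y : X) (b : X)} := by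
  rw [classNumber_mul_card]
  refine Finset.sum_congr rfl fun y _ => Nat.card_congr (Equiv.subtypeEquivRight fun b => ?_)
  simp [Commute, SemiconjBy, Subtype.ext_iff]

theorem card_commute_eq (x : X) :
    Nat.card {b : X // Commute x b} = Nat.card (centralizer ({x} : Set X)) := by
  refine Nat.card_congr (Equiv.subtypeEquivRight fun b => ?_)
  rw [mem_centralizer_singleton_iff]
  exact ⟨fun h => h.eq.symm, fun h => h.symm⟩

theorem card_commute_subgroup_eq (Y : Subgroup X) (x : X) :
    Nat.card {b : Y // Commute x (b : X)} = Nat.card ((Y ⊓ centralizer ({x} : Set X) : Subgroup X)) := by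
  refine Nat.card_congr
    { toFun := fun b => ⟨b.1.1, b.1.2, mem_centralizer_singleton_iff.2 b.2.eq.symm⟩
      invFun := fun b => ⟨⟨b.1, b.2.1⟩, (mem_centralizer_singleton_iff.1 b.2.2).symm⟩
      left_inv := fun _ => rfl
      right_inv := fun _ => rfl }

/-- `[C : C ∩ Y] ≤ [X : Y]`, with equality only if `C` meets every coset of `Y`. -/
theorem card_le_index_mul (C Y : Subgroup X) :
    Nat.card C ≤ Y.index * Nat.card (Y ⊓ C : Subgroup X) ∧
      (Nat.card C = Y.index * Nat.card (Y ⊓ C : Subgroup X) → ∀ g : X, ∃ c ∈ C, c⁻¹ * g ∈ Y) := by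
  let f : C ⧸ Y.subgroupOf C → X ⧸ Y := Quotient.map' Subtype.val fun a b h => by
    rw [QuotientGroup.leftRel_apply] at h ⊢
    simpa [mem_subgroupOf] using h
  have hf : Function.Injective f := by
    intro a b
    induction a using QuotientGroup.induction_on with
    | H a =>
      induction b using QuotientGroup.induction_on with
      | H b =>
        intro h
        have h' : (a : X)⁻¹ * b ∈ Y := QuotientGroup.eq.1 h
        exact QuotientGroup.eq.2 (by simpa [mem_subgroupOf] using h')
  have e : Nat.card C = Nat.card (C ⧸ Y.subgroupOf C) * Nat.card (Y ⊓ C : Subgroup X) := by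
    rw [card_eq_card_quotient_mul_card_subgroup (Y.subgroupOf C), ← inf_subgroupOf_right,
      Nat.card_congr (subgroupOfEquivOfLe (inf_le_right : Y ⊓ C ≤ C)).toEquiv]
  have hle := Nat.card_le_card_of_injective f hf
  constructor
  · rw [e]; exact Nat.mul_le_mul_right _ hle
  · intro h g
    rw [e] at h
    have hcard : Nat.card (C ⧸ Y.subgroupOf C) = Y.index := Nat.eq_of_mul_eq_mul_right Nat.card_pos h
    obtain ⟨q, hq⟩ := ((Nat.bijective_iff_injective_and_card f).2 ⟨hf, hcard⟩).surjective (g : X ⧸ Y)
    induction q using QuotientGroup.induction_on with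
    | H c => exact ⟨c, c.2, QuotientGroup.eq.1 hq⟩

theorem classNumber_subgroup_le (Y : Subgroup X) :
    Nat.card (ConjClasses Y) ≤ Y.index * Nat.card (ConjClasses X) := by
  classical
  have hX := classNumber_mul_card X
  have h : Nat.card (ConjClasses Y) * Nat.card Y ≤ Nat.card (ConjClasses X) * Nat.card X := by
    rw [classNumber_subgroup, hX]
    calc ∑ y : Y, Nat.card {b : Y // Commute (y : X) (b : X)}
        ≤ ∑ y : Y, Nat.card {b : X // Commute (y : X) b} := Finset.sum_le_sum fun y _ =>
          Nat.card_le_card_of_injective (fun b => ⟨(b.1 : X), b.2⟩) fun a b h => by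
            exact Subtype.ext (Subtype.ext (congrArg (fun z => z.1) h))
      _ = ∑ x ∈ Finset.univ.filter (· ∈ Y), Nat.card {b : X // Commute x b} := by
          rw [← Finset.sum_subtype (Finset.univ.filter (· ∈ Y)) (by simp) fun x : X => Nat.card {b : X // Commute x b}]
      _ ≤ _ := Finset.sum_le_sum_of_subset (Finset.subset_univ _)
  rw [← Y.index_mul_card, ← mul_assoc, mul_comm (Nat.card (ConjClasses X))] at h
  exact Nat.le_of_mul_le_mul_right h Nat.card_pos

theorem classNumber_le_index_mul (Y : Subgroup X) :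
    Nat.card (ConjClasses X) ≤ Y.index * Nat.card (ConjClasses Y) ∧
      (¬ Y.Normal → Nat.card (ConjClasses X) < Y.index * Nat.card (ConjClasses Y)) := by
  classical
  have h₁ : ∑ a : X, Nat.card {b : X // Commute a b} ≤ Y.index * centSum Y := by
    rw [centSum, Finset.mul_sum]
    refine Finset.sum_le_sum fun x _ => ?_
    rw [card_commute_eq, card_commute_subgroup_eq]
    exact (card_le_index_mul _ Y).1
  have hpt : ∀ y : Y, Nat.card {x : X // Commute (y : X) x} ≤
      Y.index * Nat.card {b : Y // Commute (y : X) (b : X)} := fun y => by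
    rw [card_commute_eq, card_commute_subgroup_eq]
    exact (card_le_index_mul _ Y).1
  have h₂ : centSum Y ≤ Y.index * (Nat.card (ConjClasses Y) * Nat.card Y) := by
    rw [centSum_eq_sum_left, classNumber_subgroup, Finset.mul_sum]
    exact Finset.sum_le_sum fun y _ => hpt y
  have hm : 0 < Y.index := Nat.pos_of_ne_zero index_ne_zero_of_finite
  rw [← classNumber_mul_card] at h₁
  have hX : Nat.card X = Y.index * Nat.card Y := Y.index_mul_card.symm
  refine ⟨?_, fun hn => ?_⟩
  · have : Nat.card (ConjClasses X) * (Y.index * Nat.card Y) ≤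
        (Y.index * Nat.card (ConjClasses Y)) * (Y.index * Nat.card Y) := by
      calc _ ≤ Y.index * centSum Y := hX ▸ h₁
        _ ≤ Y.index * (Y.index * (Nat.card (ConjClasses Y) * Nat.card Y)) := Nat.mul_le_mul_left _ h₂
        _ = _ := by ring
    exact Nat.le_of_mul_le_mul_right this (Nat.mul_pos hm Nat.card_pos)
  · have hne : ∃ y : Y, ∃ g : X, g * y * g⁻¹ ∉ Y := by
      by_contra h
      push Not at h
      exact hn ⟨fun n hn g => h ⟨n, hn⟩ g⟩
    obtain ⟨y, g, hg⟩ := hne
    have h₂' : centSum Y < Y.index * (Nat.card (ConjClasses Y) * Nat.card Y) := by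
      rw [centSum_eq_sum_left, classNumber_subgroup, Finset.mul_sum]
      refine Finset.sum_lt_sum (fun y _ => hpt y) ⟨y, Finset.mem_univ _, lt_of_le_of_ne (hpt y) fun heq => hg ?_⟩
      rw [card_commute_eq, card_commute_subgroup_eq] at heq
      obtain ⟨c, hc, hcg⟩ := (card_le_index_mul _ Y).2 heq g⁻¹
      rw [mem_centralizer_singleton_iff] at hc
      have e : g * y * g⁻¹ = (c⁻¹ * g⁻¹)⁻¹ * y * (c⁻¹ * g⁻¹) := by
        have : c⁻¹ * y * c = (y : X) := by rw [mul_assoc, ← hc, inv_mul_cancel_left]
        calc g * y * g⁻¹ = g * (c * (c⁻¹ * y * c) * c⁻¹) * g⁻¹ := by group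
          _ = g * (c * y * c⁻¹) * g⁻¹ := by rw [this]
          _ = _ := by group
      rw [e]
      exact mul_mem (mul_mem (inv_mem hcg) y.2) hcg
    have : Nat.card (ConjClasses X) * (Y.index * Nat.card Y) <
        (Y.index * Nat.card (ConjClasses Y)) * (Y.index * Nat.card Y) := by
      calc _ ≤ Y.index * centSum Y := hX ▸ h₁
        _ < Y.index * (Y.index * (Nat.card (ConjClasses Y) * Nat.card Y)) := Nat.mul_lt_mul_of_pos_left h₂' hm
        _ = _ := by ring
    exact Nat.lt_of_mul_lt_mul_right this

/-- Gallagher: `k(X) ≤ k(N) k(X/N)`. -/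
theorem classNumber_le_normal_mul_quotient (N : Subgroup X) [N.Normal] :
    Nat.card (ConjClasses X) ≤ Nat.card (ConjClasses N) * Nat.card (ConjClasses (X ⧸ N)) := by
  classical
  let F : X ⧸ N → ℕ := fun q => Nat.card {r : X ⧸ N // Commute q r}
  have hx : ∀ x : X, Nat.card {b : X // Commute x b} ≤ F (x : X ⧸ N) * Nat.card {b : N // Commute x (b : X)} := by
    intro x
    rw [card_commute_eq, card_commute_subgroup_eq]
    let φ : centralizer ({x} : Set X) →* X ⧸ N := (QuotientGroup.mk' N).comp (centralizer {x}).subtype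
    rw [← φ.ker.index_mul_card, index_ker φ]
    refine Nat.mul_le_mul ?_ (le_of_eq ?_)
    · refine Nat.card_le_card_of_injective (fun r => ⟨r.1, ?_⟩) fun a b h => Subtype.ext (congrArg (fun z => z.1) h)
      obtain ⟨c, hc⟩ := r.2
      rw [← hc]
      exact (show Commute x (c : X) from (mem_centralizer_singleton_iff.1 c.2).symm).map (QuotientGroup.mk' N)
    · exact Nat.card_congr
        { toFun := fun c => ⟨c.1.1, (QuotientGroup.eq_one_iff _).1 c.2, c.1.2⟩
          invFun := fun c => ⟨⟨c.1, c.2.2⟩, (QuotientGroup.eq_one_iff _).2 c.2.1⟩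
          left_inv := fun _ => rfl
          right_inv := fun _ => rfl }
  have hcoset : ∀ (n : N) (q : X ⧸ N), Nat.card {x : {x : X // Commute (n : X) x} // ((x : X) : X ⧸ N) = q} ≤
      Nat.card {b : N // Commute (n : X) (b : X)} := by
    intro n q
    rcases isEmpty_or_nonempty {x : {x : X // Commute (n : X) x} // ((x : X) : X ⧸ N) = q} with h | ⟨⟨x₀, hx₀⟩⟩
    · simp
    · refine Nat.card_le_card_of_injective
        (fun x => ⟨⟨(x₀ : X)⁻¹ * x.1.1, QuotientGroup.eq.1 (hx₀.trans x.2.symm)⟩, (x₀.2.inv_right).mul_right x.1.2⟩) ?_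
      intro a b h
      have := congrArg (fun z => (z.1.1 : X)) h
      exact Subtype.ext (Subtype.ext (mul_left_cancel this))
  have main : ∑ x : X, Nat.card {b : X // Commute x b} ≤
      (∑ n : N, Nat.card {b : N // Commute (n : X) (b : X)}) * ∑ q : X ⧸ N, F q := by
    calc ∑ x : X, Nat.card {b : X // Commute x b}
        ≤ ∑ x : X, F (x : X ⧸ N) * Nat.card {b : N // Commute x (b : X)} := Finset.sum_le_sum fun x _ => hx x
      _ = ∑ n : N, ∑ x : {x : X // Commute (n : X) x}, F ((x : X) : X ⧸ N) := by
          rw [← Fintype.sum_sigma']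
          calc ∑ x : X, F (x : X ⧸ N) * Nat.card {b : N // Commute x (b : X)}
              = ∑ x : X, ∑ _b : {b : N // Commute x (b : X)}, F (x : X ⧸ N) := by
                simp [mul_comm, Nat.card_eq_fintype_card]
            _ = _ := by
                rw [← Fintype.sum_sigma']
                exact Fintype.sum_equiv
                  { toFun := fun z => ⟨z.2.1, z.1, z.2.2.symm⟩
                    invFun := fun z => ⟨z.2.1, z.1, z.2.2.symm⟩
                    left_inv := fun _ => rfl
                    right_inv := fun _ => rfl } _ _ fun _ => rfl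
      _ ≤ ∑ n : N, ∑ q : X ⧸ N, Nat.card {b : N // Commute (n : X) (b : X)} * F q := Finset.sum_le_sum fun n _ => by
          rw [← Fintype.sum_fiberwise' (fun x : {x : X // Commute (n : X) x} => ((x : X) : X ⧸ N)) F]
          refine Finset.sum_le_sum fun q _ => ?_
          rw [Finset.sum_const, Finset.card_univ, smul_eq_mul, ← Nat.card_eq_fintype_card]
          exact Nat.mul_le_mul_right _ (hcoset n q)
      _ = _ := by rw [Finset.sum_mul_sum]
  rw [← classNumber_mul_card, ← classNumber_subgroup, ← classNumber_mul_card] at main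
  rw [card_eq_card_quotient_mul_card_subgroup N] at main
  refine Nat.le_of_mul_le_mul_right (le_trans main (le_of_eq ?_)) (Nat.mul_pos (Nat.card_pos (α := X ⧸ N)) Nat.card_pos)
  ring

end CfsgLib.FGStruct
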