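import Mathlib
import Cfsg.Prelude.Def_Solvable
import Cfsg.Agent.Lib.CharP.PCore

/-!
Elementary facts on elements of prime power class size.
-/

set_option autoImplicit false
set_option linter.style.haveILetI false

open scoped Pointwise

namespace CfsgLib.FGStruct.PPowerClass

variable {G : Type*} [Group G] [Finite G] {p : ℕ} [Fact p.Prime]

/-- A subgroup of `p`-power index and a Sylow `p`-subgroup have product `G`. -/
theorem exists_mul_of_index_eq_pow (C : Subgroup G) {a : ℕ} (hC : C.index = p ^ a) (P : Sylow p G)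
    (g : G) : ∃ h ∈ (P : Subgroup G), ∃ c ∈ C, g = h * c := by
  classical
  let f : ((P : Subgroup G) ⧸ C.subgroupOf (P : Subgroup G)) → G ⧸ C :=
    Quotient.lift (fun h : (P : Subgroup G) => ((h : G) : G ⧸ C)) (fun x y hxy => by
      replace hxy := QuotientGroup.leftRel_apply.mp hxy
      exact QuotientGroup.eq.mpr hxy)
  have hinj : Function.Injective f := by
    rintro ⟨x⟩ ⟨y⟩ h
    replace h : ((x : G) : G ⧸ C) = ((y : G) : G ⧸ C) := h
    refine Quotient.sound (QuotientGroup.leftRel_apply.mpr ?_)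
    exact (QuotientGroup.eq (s := C)).mp h
  have h1 : C.relIndex (P : Subgroup G) * (P : Subgroup G).index =
      (C ⊓ (P : Subgroup G)).relIndex C * C.index := by
    rw [Subgroup.relIndex_mul_index inf_le_left, ← Subgroup.inf_relIndex_right,
      Subgroup.relIndex_mul_index inf_le_right]
  have hdvd : C.index ∣ C.relIndex (P : Subgroup G) := by
    refine Nat.Coprime.dvd_of_dvd_mul_right ?_ ⟨_, h1.trans (mul_comm _ _)⟩
    rw [hC]
    exact Nat.Coprime.pow_left _ ((Nat.Prime.coprime_iff_not_dvd Fact.out).mpr P.not_dvd_index)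
  have hsurj : Function.Surjective f := by
    refine (Function.Injective.bijective_of_nat_card_le hinj ?_).2
    exact Nat.le_of_dvd Nat.card_pos hdvd
  obtain ⟨⟨h⟩, hh⟩ := hsurj (g : G ⧸ C)
  exact ⟨h, h.2, (h : G)⁻¹ * g, QuotientGroup.eq.mp hh, by simp⟩

/-- All conjugates of an element of `p`-power class size are conjugate to it inside a given Sylow
subgroup. -/
theorem exists_conj_eq (x g : G) {a : ℕ}
    (hx : (Subgroup.centralizer ({x} : Set G)).index = p ^ a) (P : Sylow p G) :
    ∃ h ∈ (P : Subgroup G), g * x * g⁻¹ = h * x * h⁻¹ := by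
  obtain ⟨h, hh, c, hc, rfl⟩ := exists_mul_of_index_eq_pow _ hx P g
  refine ⟨h, hh, ?_⟩
  rw [Subgroup.mem_centralizer_singleton_iff] at hc
  calc h * c * x * (h * c)⁻¹ = h * (c * x) * c⁻¹ * h⁻¹ := by simp [mul_assoc]
    _ = _ := by rw [hc]; simp [mul_assoc]

/-- A `p`-element of `p`-power class size lies in `O_p`. -/
theorem mem_pCore (x : G) {k a : ℕ} (hk : orderOf x = p ^ k)
    (hx : (Subgroup.centralizer ({x} : Set G)).index = p ^ a) : x ∈ Cfsg.pCore p G := by
  obtain ⟨P, hP⟩ := (IsPGroup.of_card (p := p) (n := k) (G := ↥(Subgroup.zpowers x))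
    (by rw [Nat.card_zpowers, hk])).exists_le_sylow
  refine CfsgLib.CharP.le_pCore' (Subgroup.normalClosure_normal (s := ({x} : Set G)))
    (P.isPGroup'.to_le ?_) (Subgroup.subset_normalClosure rfl)
  refine (Subgroup.closure_le _).mpr fun y hy => ?_
  obtain ⟨z, hz, hzy⟩ := Group.mem_conjugatesOfSet_iff.mp hy
  rw [Set.mem_singleton_iff] at hz
  obtain ⟨g, hg⟩ := isConj_iff.mp hzy
  subst hz
  obtain ⟨h, hh, he⟩ := exists_conj_eq z g hx P
  rw [← hg, he]
  exact Subgroup.mul_mem _ (Subgroup.mul_mem _ hh (hP (Subgroup.mem_zpowers z))) (Subgroup.inv_mem _ hh)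

/-- Jordan: the conjugates of a proper subgroup do not cover a finite group. -/
theorem eq_top_of_conj_cover {X : Type*} [Group X] [Finite X] (U : Subgroup X)
    (h : ∀ z : X, ∃ c : X, c⁻¹ * z * c ∈ U) : U = ⊤ := by
  classical
  haveI : Fintype X := Fintype.ofFinite X
  haveI : Fintype (X ⧸ U) := Fintype.ofFinite _
  let T : X ⧸ U → Finset X := fun q => Finset.univ.filter fun z => z ≠ 1 ∧ q.out⁻¹ * z * q.out ∈ U
  have hcov : (Finset.univ : Finset X).erase 1 ⊆ Finset.univ.biUnion T := by
    intro z hz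
    obtain ⟨c, hc⟩ := h z
    refine Finset.mem_biUnion.mpr ⟨(c : X ⧸ U), Finset.mem_univ _, ?_⟩
    obtain ⟨u, hu⟩ := QuotientGroup.mk_out_eq_mul U c
    simp only [T, Finset.mem_filter, Finset.mem_univ, true_and]
    refine ⟨(Finset.mem_erase.mp hz).1, ?_⟩
    rw [hu]
    have e : (c * (u : X))⁻¹ * z * (c * u) = (u : X)⁻¹ * (c⁻¹ * z * c) * u := by simp [mul_assoc]
    rw [e]
    exact U.mul_mem (U.mul_mem (U.inv_mem u.2) hc) u.2
  have hT : ∀ q, (T q).card ≤ Nat.card U - 1 := by
    intro q
    have hU : ((Finset.univ.filter fun z : X => z ∈ U).erase 1).card = Nat.card U - 1 := by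
      rw [Finset.card_erase_of_mem (by simp), Nat.card_eq_fintype_card, Fintype.card_subtype]
    rw [← hU]
    refine Finset.card_le_card_of_injOn (fun z => q.out⁻¹ * z * q.out) (fun z hz => ?_)
      (fun z _ w _ hzw => by simpa using hzw)
    simp only [Finset.mem_coe, T, Finset.mem_filter, Finset.mem_univ, true_and] at hz
    simp only [Finset.mem_coe, Finset.mem_erase, Finset.mem_filter, Finset.mem_univ, true_and]
    refine ⟨fun h1 => hz.1 ?_, hz.2⟩
    calc z = q.out * (q.out⁻¹ * z * q.out) * q.out⁻¹ := by simp [mul_assoc]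
      _ = 1 := by rw [h1]; simp
  have h1 := (Finset.card_le_card hcov).trans (Finset.card_biUnion_le.trans
    (Finset.sum_le_card_nsmul _ _ _ fun q _ => hT q))
  rw [Finset.card_erase_of_mem (Finset.mem_univ _), Finset.card_univ, Finset.card_univ, smul_eq_mul,
    ← Nat.card_eq_fintype_card, ← Nat.card_eq_fintype_card, ← U.index_eq_card, ← U.index_mul_card,
    Nat.mul_sub, mul_one] at h1
  have h2 : 0 < Nat.card U := Nat.card_pos
  have h3 : U.index ≠ 0 := Subgroup.index_ne_zero_of_finite
  have h4 : U.index ≤ U.index * Nat.card U := Nat.le_mul_of_pos_right _ h2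
  exact Subgroup.index_eq_one.mp (by omega)

end CfsgLib.FGStruct.PPowerClass
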