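import Mathlib
import Cfsg.Prelude.Def_Transfer

/-!
Finite groups in which every subgroup is normal.
-/

open Subgroup

namespace CfsgLib.FGStruct.Dedekind

/-- Powers of a product when the commutator commutes with both factors. -/
theorem mul_pow_of_central_comm {G : Type*} [Group G] {x y d : G} (h : y * x = d * x * y) (hdx : Commute d x)
    (hdy : Commute d y) : ∀ k : ℕ, (x * y) ^ k = d ^ (k.choose 2) * x ^ k * y ^ k
  | 0 => by simp
  | k + 1 => by
    have h2 : y ^ k * x = d ^ k * x * y ^ k := by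
      clear * - h hdx hdy
      induction k with
      | zero => simp
      | succ k ih =>
        calc y ^ (k + 1) * x = y * (y ^ k * x) := by rw [pow_succ']; group
          _ = (y * d ^ k) * x * y ^ k := by rw [ih]; group
          _ = d ^ k * (y * x) * y ^ k := by rw [(hdy.pow_left k).symm.eq]; group
          _ = (d ^ k * d) * x * (y * y ^ k) := by rw [h]; group
          _ = d ^ (k + 1) * x * y ^ (k + 1) := by rw [← pow_succ, ← pow_succ']
    rw [pow_succ, mul_pow_of_central_comm h hdx hdy k]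
    calc d ^ (k.choose 2) * x ^ k * y ^ k * (x * y) = d ^ (k.choose 2) * x ^ k * (y ^ k * x) * y := by group
      _ = d ^ (k.choose 2) * (x ^ k * d ^ k) * x * (y ^ k * y) := by rw [h2]; group
      _ = (d ^ (k.choose 2) * d ^ k) * (x ^ k * x) * (y ^ k * y) := by
          rw [(hdx.pow_pow k k).symm.eq]; group
      _ = d ^ ((k + 1).choose 2) * x ^ (k + 1) * y ^ (k + 1) := by
          rw [← pow_add, ← pow_succ, ← pow_succ, Nat.choose_succ_succ', Nat.choose_one_right, Nat.add_comm k (k.choose 2)]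

variable {G : Type*} [Group G] (hn : ∀ H : Subgroup G, H.Normal)
include hn

theorem conj_mem (a g : G) : g * a * g⁻¹ ∈ zpowers a := (hn _).conj_mem a (mem_zpowers a) g

theorem comm_mem_left (a b : G) : a * b * a⁻¹ * b⁻¹ ∈ zpowers a := by
  have := (zpowers a).mul_mem (mem_zpowers a) (conj_mem hn a⁻¹ b |> fun h => by
    rwa [zpowers_inv] at h)
  simpa [mul_assoc] using this

theorem comm_mem_right (a b : G) : a * b * a⁻¹ * b⁻¹ ∈ zpowers b :=
  (zpowers b).mul_mem (conj_mem hn b a) ((zpowers b).inv_mem (mem_zpowers b))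

theorem involution_central {x : G} (hx : x ^ 2 = 1) (g : G) : g * x = x * g := by
  obtain ⟨i, hi⟩ := mem_zpowers_iff.1 (conj_mem hn x g)
  have h1 : g * x * g⁻¹ = 1 ∨ g * x * g⁻¹ = x := by
    rcases Int.even_or_odd i with ⟨j, hj⟩ | ⟨j, hj⟩
    · left; rw [← hi, hj, ← two_mul, zpow_mul, zpow_ofNat, hx, one_zpow]
    · right; rw [← hi, hj, zpow_add, zpow_mul, zpow_ofNat, hx, one_zpow, one_mul, zpow_one]
  rcases h1 with h1 | h1
  · rw [conj_eq_one_iff] at h1; rw [h1]; simp
  · exact mul_inv_eq_iff_eq_mul.1 h1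

theorem commute_of_coprime {a b : G} (h : (orderOf a).Coprime (orderOf b)) : Commute a b := by
  have h1 := orderOf_dvd_of_mem_zpowers (comm_mem_left hn a b)
  have h2 := orderOf_dvd_of_mem_zpowers (comm_mem_right hn a b)
  have := orderOf_eq_one_iff.1 (Nat.eq_one_of_dvd_coprimes h h1 h2)
  exact mul_inv_eq_iff_eq_mul.1 (mul_inv_eq_one.1 this)

variable [Finite G]

omit hn in
/-- Every element is a product of elements of prime power order. -/
theorem mem_of_primePow {S : Subgroup G} (h : ∀ y : G, (∃ p k : ℕ, p.Prime ∧ orderOf y = p ^ k) → y ∈ S) (g : G) :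
    g ∈ S := by
  induction hn : orderOf g using Nat.strong_induction_on generalizing g with
  | _ n ih =>
  by_cases h1 : n = 1
  · rw [hn.trans h1 |> orderOf_eq_one_iff.1]; exact one_mem _
  obtain ⟨p, hp, hd⟩ := Nat.exists_prime_and_dvd h1
  subst hn
  obtain ⟨e, m, hm, he⟩ := Nat.exists_eq_pow_mul_and_not_dvd (orderOf_pos g).ne' p hp.ne_one
  by_cases hm1 : m = 1
  · exact h g ⟨p, e, hp, by rw [he, hm1, mul_one]⟩
  obtain ⟨s, t, hst⟩ : IsCoprime ((p ^ e : ℕ) : ℤ) (m : ℤ) :=
    Int.isCoprime_iff_gcd_eq_one.2 (by exact_mod_cast ((hp.coprime_iff_not_dvd).2 hm).pow_left e)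
  have hm0 : m ≠ 0 := fun e' => (orderOf_pos g).ne' (by rw [he, e', mul_zero])
  have hg : g = (g ^ (p ^ e : ℕ)) ^ s * (g ^ m) ^ t := by
    rw [← zpow_natCast g (p ^ e), ← zpow_natCast g m, ← zpow_mul, ← zpow_mul, ← zpow_add,
      show ((p ^ e : ℕ) : ℤ) * s + (m : ℤ) * t = 1 by linarith, zpow_one]
  rw [hg]
  have he0 : e ≠ 0 := fun h0 => hm (by rw [he, h0, pow_zero, one_mul] at hd; exact hd)
  refine mul_mem (zpow_mem (ih _ ?_ _ rfl) _) (zpow_mem (ih _ ?_ _ rfl) _)
  · rw [orderOf_pow_of_dvd (pow_ne_zero _ hp.ne_zero) (by rw [he]; exact dvd_mul_right _ _)]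
    exact Nat.div_lt_self (orderOf_pos g) (Nat.one_lt_pow he0 hp.one_lt)
  · rw [orderOf_pow_of_dvd hm0 (by rw [he]; exact dvd_mul_left _ _)]
    exact Nat.div_lt_self (orderOf_pos g) (by omega)

omit hn in
theorem comm_of_primePow (h : ∀ a b : G, (∃ p k : ℕ, p.Prime ∧ orderOf a = p ^ k) →
    (∃ p k : ℕ, p.Prime ∧ orderOf b = p ^ k) → Commute a b) (a b : G) : Commute a b := by
  have h1 : ∀ x : G, (∃ p k : ℕ, p.Prime ∧ orderOf x = p ^ k) → ∀ g : G, x * g = g * x := fun x hx g =>
    (mem_centralizer_singleton_iff.1 (mem_of_primePow (S := centralizer {x})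
      (fun y hy => mem_centralizer_singleton_iff.2 (h y x hy hx).eq) g)).symm
  exact (mem_centralizer_singleton_iff.1 (mem_of_primePow (S := centralizer {b})
    (fun y hy => mem_centralizer_singleton_iff.2 (h1 y hy b)) a))

/-- A non-abelian such group contains a quaternion pair. -/
theorem exists_quaternion_pair (hna : ∃ x y : G, ¬ Commute x y) :
    (∃ a b : G, orderOf a = 4 ∧ a ^ 2 = b ^ 2 ∧ b * a * b⁻¹ = a⁻¹) ∧
      ∀ x y : G, Odd (orderOf x) → Odd (orderOf y) → Commute x y := by
  let PP : G → Prop := fun x => ∃ p k : ℕ, p.Prime ∧ orderOf x = p ^ k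
  -- a minimal non-commuting pair is a quaternion pair
  have main : ∀ a b : G, PP a → PP b → ¬ Commute a b →
      (∀ a' b' : G, PP a' → PP b' → ¬ Commute a' b' → (∃ i : ℤ, a' = a ^ i) ∨ (∃ s : ℤ, b' = b * a ^ s) ∨ True →
        (orderOf a' ∣ orderOf a ∧ orderOf b' ∣ orderOf b) → orderOf a ≤ orderOf a' ∧ orderOf b ≤ orderOf b') →
      orderOf b ≤ orderOf a →
      orderOf a = 4 ∧ a ^ 2 = b ^ 2 ∧ b * a * b⁻¹ = a⁻¹ := by
    rintro a b ⟨p, m, hp, ha⟩ ⟨q, n, hq, hb⟩ hab hmin hle
    haveI := Fact.mk hp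
    have hqp : q = p := by
      by_contra hne
      exact hab (commute_of_coprime hn (by rw [ha, hb]; exact ((Nat.coprime_primes hp hq).2 (Ne.symm hne)).pow m n))
    subst hqp
    have hmn : n ≤ m := (Nat.pow_le_pow_iff_right hp.one_lt).1 (by rw [← ha, ← hb]; exact hle)
    set c := a * b * a⁻¹ * b⁻¹ with hc
    have hc1 : c ≠ 1 := fun e => hab (mul_inv_eq_iff_eq_mul.1 (mul_inv_eq_one.1 e))
    obtain ⟨ca, hca⟩ := mem_zpowers_iff.1 (comm_mem_left hn a b)
    obtain ⟨cb, hcb⟩ := mem_zpowers_iff.1 (comm_mem_right hn a b)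
    have hcA : Commute c a := by rw [hc, ← hca]; exact (Commute.refl a).zpow_left ca
    have hcB : Commute c b := by rw [hc, ← hcb]; exact (Commute.refl b).zpow_left cb
    have hba : a * b = c * b * a := by rw [hc]; group
    have hpow : ∀ k : ℕ, a ^ k * b = c ^ k * b * a ^ k := by
      intro k
      induction k with
      | zero => simp
      | succ k ih =>
        calc a ^ (k + 1) * b = a * (a ^ k * b) := by rw [pow_succ']; group
          _ = (a * c ^ k) * b * a ^ k := by rw [ih]; group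
          _ = c ^ k * (a * b) * a ^ k := by rw [(hcA.pow_left k).symm.eq]; group
          _ = (c ^ k * c) * b * (a * a ^ k) := by rw [hba]; group
          _ = c ^ (k + 1) * b * a ^ (k + 1) := by rw [← pow_succ, ← pow_succ']
    have hm0 : m ≠ 0 := fun e => hab (by rw [orderOf_eq_one_iff.1 (show orderOf a = 1 by rw [ha, e, pow_zero])]; exact Commute.one_left b)
    have hn0 : n ≠ 0 := fun e => hab (by rw [orderOf_eq_one_iff.1 (show orderOf b = 1 by rw [hb, e, pow_zero])]; exact Commute.one_right a)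
    have hcp : c ^ q = 1 := by
      have hcomm : Commute (a ^ q) b := by
        by_contra hh
        have h1 := (hmin (a ^ q) b ⟨q, m - 1, hp, by
            rw [orderOf_pow_of_dvd hp.ne_zero (by rw [ha]; exact dvd_pow_self q hm0), ha, show q ^ m / q = q ^ (m - 1) from by simpa using Nat.pow_div (show 1 ≤ m by omega) hp.pos]⟩
          ⟨q, n, hp, hb⟩ hh (Or.inr (Or.inr trivial)) ⟨orderOf_pow_dvd q, dvd_rfl⟩).1
        rw [orderOf_pow_of_dvd hp.ne_zero (by rw [ha]; exact dvd_pow_self q hm0)] at h1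
        exact absurd h1 (not_le.2 (Nat.div_lt_self (orderOf_pos a) hp.one_lt))
      have h2 := hpow q
      rw [hcomm.eq, mul_assoc (c ^ q)] at h2
      exact mul_eq_right.1 h2.symm
    have hoc : orderOf c = q := orderOf_eq_prime hcp hc1
    -- the subgroup generated by `c` in both cyclic groups
    have hsock : ∀ (x : G) (e : ℕ), orderOf x = q ^ e → e ≠ 0 → c ∈ zpowers x → ∃ t : ℤ, x ^ q ^ (e - 1) = c ^ t := by
      intro x e hx he hcx
      have h1 : orderOf (x ^ q ^ (e - 1)) = q := by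
        rw [orderOf_pow_of_dvd (pow_ne_zero _ hp.ne_zero) (by rw [hx]; exact pow_dvd_pow q (by omega)), hx,
          Nat.pow_div (by omega) hp.pos, show e - (e - 1) = 1 by omega, pow_one]
      have heq : zpowers c = zpowers (x ^ q ^ (e - 1)) := by
        have hx' : Nat.card (zpowers x) = q ^ e := by rw [Nat.card_zpowers, hx]
        obtain ⟨i, hi⟩ := mem_zpowers_iff.1 hcx
        have hdq : ((q ^ (e - 1) : ℕ) : ℤ) ∣ i := by
          have h3 : x ^ (i * q) = 1 := by rw [zpow_mul, hi, zpow_natCast, hcp]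
          rw [← orderOf_dvd_iff_zpow_eq_one, hx, show e = e - 1 + 1 by omega, pow_succ] at h3
          push_cast at h3 ⊢
          exact Int.dvd_of_mul_dvd_mul_right (by exact_mod_cast hp.ne_zero) h3
        obtain ⟨j, rfl⟩ := hdq
        refine eq_of_le_of_card_ge (zpowers_le.2 ?_) (by rw [Nat.card_zpowers, Nat.card_zpowers, h1, hoc])
        rw [← hi, zpow_mul, zpow_natCast]
        exact zpow_mem (mem_zpowers _) j
      obtain ⟨t, ht⟩ := mem_zpowers_iff.1 (show x ^ q ^ (e - 1) ∈ zpowers c by rw [heq]; exact mem_zpowers _)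
      exact ⟨t, ht.symm⟩
    have hcAm : c ∈ zpowers a := comm_mem_left hn a b
    have hcBm : c ∈ zpowers b := comm_mem_right hn a b
    obtain ⟨ta, hta⟩ := hsock a m ha hm0 hcAm
    obtain ⟨tb, htb⟩ := hsock b n hb hn0 hcBm
    have hta0 : ¬ (q : ℤ) ∣ ta := fun hd => by
      have : a ^ q ^ (m - 1) = 1 := by
        rw [hta, ← orderOf_dvd_iff_zpow_eq_one, hoc]; exact hd
      have h1 := orderOf_dvd_of_pow_eq_one this
      rw [ha] at h1
      have := (Nat.pow_dvd_pow_iff_le_right hp.one_lt).1 h1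
      omega
    obtain ⟨u, v, huv⟩ : IsCoprime (q : ℤ) ta := (Nat.prime_iff_prime_int.1 hp).coprime_iff_not_dvd.2 hta0
    have hcv : c = (a ^ q ^ (m - 1)) ^ v := by
      rw [hta, ← zpow_mul, show ta * v = 1 - (q : ℤ) * u by linarith, zpow_sub, zpow_one, zpow_mul, zpow_natCast, hcp]
      simp
    -- the modified element
    set s : ℤ := -(v * tb) * (q ^ (m - n) : ℕ) with hs
    have hsq : b ^ q ^ (n - 1) * (a ^ s) ^ q ^ (n - 1) = 1 := by
      rw [htb, hcv, ← zpow_natCast (a ^ s), ← zpow_natCast a (q ^ (m - 1)), ← zpow_mul, ← zpow_mul, ← zpow_mul, ← zpow_add,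
        hs, show ((q ^ (m - 1) : ℕ) : ℤ) = (q ^ (m - n) : ℕ) * (q ^ (n - 1) : ℕ) by
          rw [← Nat.cast_mul, ← pow_add, show m - n + (n - 1) = m - 1 by omega]]
      convert zpow_zero a using 2
      ring
    have hcs : a ^ s * b = c ^ s * b * a ^ s := by
      rcases Int.eq_nat_or_neg s with ⟨k, hk | hk⟩
      · rw [hk, zpow_natCast, zpow_natCast, hpow k]
      · rw [hk, zpow_neg, zpow_neg, zpow_natCast, zpow_natCast]
        have h1 := hpow k
        have h2 : Commute ((c ^ k)⁻¹) (a ^ k) := (hcA.pow_pow k k).inv_left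
        calc (a ^ k)⁻¹ * b = (a ^ k)⁻¹ * ((c ^ k)⁻¹ * (c ^ k * b * a ^ k)) * (a ^ k)⁻¹ := by group
          _ = (a ^ k)⁻¹ * ((c ^ k)⁻¹ * a ^ k) * b * (a ^ k)⁻¹ := by rw [← h1]; group
          _ = (c ^ k)⁻¹ * b * (a ^ k)⁻¹ := by rw [h2.eq]; group
    have hd1 : Commute (c ^ s) b := hcB.zpow_left s
    have hd2 : Commute (c ^ s) (a ^ s) := hcA.zpow_zpow s s
    have hb'pow := mul_pow_of_central_comm hcs hd1 hd2 (q ^ (n - 1))
    rw [mul_assoc, hsq, mul_one] at hb'pow
    have hnot : ¬ (c ^ s) ^ (q ^ (n - 1)).choose 2 = 1 := by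
      intro h1
      rw [h1] at hb'pow
      have hnc : ¬ Commute a (b * a ^ s) := fun hh => hab (by
        have := hh.mul_right ((Commute.refl a).zpow_right (-s))
        rwa [mul_assoc, ← zpow_add, add_neg_cancel, zpow_zero, mul_one] at this)
      have hd := orderOf_dvd_of_pow_eq_one hb'pow
      obtain ⟨j, hj, hoj⟩ := (Nat.dvd_prime_pow hp).1 hd
      have h2 := (hmin a (b * a ^ s) ⟨q, m, hp, ha⟩ ⟨q, j, hp, hoj⟩ hnc (Or.inr (Or.inr trivial))
        ⟨dvd_rfl, by rw [hoj, hb]; exact pow_dvd_pow q (by omega)⟩).2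
      rw [hoj, hb] at h2
      have := (Nat.pow_le_pow_iff_right hp.one_lt).1 h2
      omega
    -- hence `p = 2` and `n = 2`
    have hdiv : ∀ k : ℕ, q ∣ k → (c ^ s) ^ k = 1 := fun k hk => by
      obtain ⟨j, rfl⟩ := hk
      rw [← zpow_natCast, ← zpow_mul, mul_comm s, zpow_mul, zpow_natCast, pow_mul, hcp, one_pow, one_zpow]
    have hn1 : n ≠ 1 := fun e => by
      rw [e, Nat.sub_self, pow_zero, pow_one] at htb
      exact hab (by rw [htb]; exact (hcA.zpow_left tb).symm)
    have hq2 : q = 2 := by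
      by_contra hq2
      refine hnot (hdiv _ ?_)
      obtain ⟨j, hj⟩ : q ∣ q ^ (n - 1) := dvd_pow_self q (by omega)
      have h1 : q ∣ 2 * (q ^ (n - 1)).choose 2 := by
        rw [Nat.choose_two_right, Nat.mul_div_cancel' (Nat.even_mul_pred_self _).two_dvd]
        exact (hj ▸ dvd_mul_right q j : q ∣ q ^ (n - 1)).mul_right _
      exact ((Nat.coprime_primes hp Nat.prime_two).2 hq2).dvd_of_dvd_mul_left h1
    subst hq2
    have hn2 : n = 2 := by
      by_contra hn2
      refine hnot (hdiv _ ?_)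
      rw [show n - 1 = (n - 3) + 2 by omega, Nat.choose_two_right, pow_add]
      refine ⟨2 ^ (n - 3) * (2 ^ (n - 3) * 2 ^ 2 - 1), ?_⟩
      rw [show 2 ^ (n - 3) * 2 ^ 2 * (2 ^ (n - 3) * 2 ^ 2 - 1) = 2 * (2 * (2 ^ (n - 3) * (2 ^ (n - 3) * 2 ^ 2 - 1))) by ring,
        Nat.mul_div_cancel_left _ (by norm_num)]
    have hm2 : m = 2 := by
      by_contra hm2
      refine hnot ?_
      have : c ^ s = 1 := by
        rw [hs, show m - n = (m - n - 1) + 1 by omega, pow_succ, Nat.cast_mul, ← mul_assoc, mul_comm, zpow_mul, zpow_natCast, hcp, one_zpow]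
      rw [this, one_pow]
    subst hn2 hm2
    have hpre : ∀ (x : G) (t : ℤ), x ^ 2 ^ (2 - 1) = c ^ t → orderOf x = 4 → x ^ 2 = c := by
      intro x t ht hx
      norm_num at ht
      rcases Int.even_or_odd t with ⟨j, hj⟩ | ⟨j, hj⟩
      · exfalso
        have : x ^ 2 = 1 := by rw [ht, hj, ← two_mul, zpow_mul, zpow_ofNat, hcp, one_zpow]
        have := orderOf_dvd_of_pow_eq_one this
        rw [hx] at this; norm_num at this
      · rw [ht, hj, zpow_add, zpow_mul, zpow_ofNat, hcp, one_zpow, one_mul, zpow_one]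
    have ha4 : orderOf a = 4 := ha
    have hb4 : orderOf b = 4 := hb
    have ha2 := hpre a ta hta ha4
    have hb2 := hpre b tb htb hb4
    refine ⟨ha4, ha2.trans hb2.symm, ?_⟩
    have hci : c⁻¹ = c := inv_eq_of_mul_eq_one_left (by rw [← sq, hcp])
    calc b * a * b⁻¹ = c⁻¹ * (c * b * a) * b⁻¹ := by group
      _ = c⁻¹ * a := by rw [← hba]; group
      _ = a ^ 2 * a := by rw [hci, ha2]
      _ = a⁻¹ := by
        apply eq_inv_of_mul_eq_one_left
        rw [← pow_succ, ← pow_succ, show 2 + 1 + 1 = orderOf a by rw [ha4], pow_orderOf_eq_one]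
  constructor
  · obtain ⟨x, y, hxy⟩ := hna
    have hex : ∃ n, ∃ a b : G, PP a ∧ PP b ∧ ¬ Commute a b ∧ orderOf a + orderOf b = n := by
      by_contra hh
      push Not at hh
      refine hxy (comm_of_primePow (fun a b ha hb => ?_) x y)
      by_contra hab
      exact hh _ a b ha hb hab rfl
    classical
    obtain ⟨a, b, ha, hb, hab, hs⟩ := Nat.find_spec hex
    have hmin : ∀ a' b' : G, PP a' → PP b' → ¬ Commute a' b' → orderOf a + orderOf b ≤ orderOf a' + orderOf b' :=
      fun a' b' ha' hb' hab' => hs ▸ Nat.find_min' hex ⟨a', b', ha', hb', hab', rfl⟩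
    rcases le_total (orderOf b) (orderOf a) with hle | hle
    · refine ⟨a, b, main a b ha hb hab (fun a' b' h1 h2 h3 _ hd => ?_) hle⟩
      have := hmin a' b' h1 h2 h3
      have := Nat.le_of_dvd (orderOf_pos a) hd.1
      have := Nat.le_of_dvd (orderOf_pos b) hd.2
      omega
    · refine ⟨b, a, main b a hb ha (fun h => hab h.symm) (fun a' b' h1 h2 h3 _ hd => ?_) hle⟩
      have := hmin b' a' h2 h1 (fun h => h3 h.symm)
      have := Nat.le_of_dvd (orderOf_pos b) hd.1
      have := Nat.le_of_dvd (orderOf_pos a) hd.2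
      omega
  · intro x y hx hy
    by_contra hxy
    have hex : ∃ n, ∃ a b : G, PP a ∧ PP b ∧ Odd (orderOf a) ∧ Odd (orderOf b) ∧ ¬ Commute a b ∧ orderOf a + orderOf b = n := by
      by_contra hh
      push Not at hh
      let f := (zpowers x).subtype
      refine hxy ?_
      have h1 : ∀ a : zpowers x, ∀ b : zpowers y, Commute (a : G) (b : G) := by
        intro a b
        refine (mem_centralizer_singleton_iff.1 ?_ : (a : G) * b = b * a)
        have h2 := mem_of_primePow (G := zpowers x) (S := (centralizer {(b : G)}).subgroupOf (zpowers x)) (fun a' ha' => ?_) a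
        · exact h2
        · rw [mem_subgroupOf, mem_centralizer_singleton_iff]
          have h3 := mem_of_primePow (G := zpowers y) (S := (centralizer {(a' : G)}).subgroupOf (zpowers y)) (fun b' hb' => ?_) b
          · exact (mem_centralizer_singleton_iff.1 h3).symm
          · rw [mem_subgroupOf, mem_centralizer_singleton_iff]
            by_contra hne
            obtain ⟨p, k, hp, hk⟩ := ha'
            obtain ⟨p', k', hp', hk'⟩ := hb'
            exact hh _ a' b' ⟨p, k, hp, by rw [Subgroup.orderOf_coe, hk]⟩ ⟨p', k', hp', by rw [Subgroup.orderOf_coe, hk']⟩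
              (hx.of_dvd_nat (orderOf_dvd_of_mem_zpowers a'.2)) (hy.of_dvd_nat (orderOf_dvd_of_mem_zpowers b'.2))
              (fun h => hne h.eq.symm) rfl
      exact h1 ⟨x, mem_zpowers x⟩ ⟨y, mem_zpowers y⟩
    classical
    obtain ⟨a, b, ha, hb, hoa, hob, hab, hs⟩ := Nat.find_spec hex
    have hmin : ∀ a' b' : G, PP a' → PP b' → Odd (orderOf a') → Odd (orderOf b') → ¬ Commute a' b' →
        orderOf a + orderOf b ≤ orderOf a' + orderOf b' :=
      fun a' b' ha' hb' o1 o2 hab' => hs ▸ Nat.find_min' hex ⟨a', b', ha', hb', o1, o2, hab', rfl⟩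
    rcases le_total (orderOf b) (orderOf a) with hle | hle
    · have := (main a b ha hb hab (fun a' b' h1 h2 h3 _ hd => by
        have := hmin a' b' h1 h2 (hoa.of_dvd_nat hd.1) (hob.of_dvd_nat hd.2) h3
        have := Nat.le_of_dvd (orderOf_pos a) hd.1
        have := Nat.le_of_dvd (orderOf_pos b) hd.2
        omega) hle).1
      rw [this] at hoa; exact absurd hoa (by decide)
    · have := (main b a hb ha (fun h => hab h.symm) (fun a' b' h1 h2 h3 _ hd => by
        have := hmin b' a' h2 h1 (hoa.of_dvd_nat hd.2) (hob.of_dvd_nat hd.1) (fun h => h3 h.symm)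
        have := Nat.le_of_dvd (orderOf_pos b) hd.1
        have := Nat.le_of_dvd (orderOf_pos a) hd.2
        omega) hle).1
      rw [this] at hob; exact absurd hob (by decide)

/-- Dedekind's theorem. -/
theorem structure_theorem (hna : ¬ IsMulCommutative G) :
    ∃ Q E A : Subgroup G, Nonempty (Q ≃* QuaternionGroup 2) ∧ Cfsg.IsElementaryAbelian 2 E ∧ IsMulCommutative A ∧
      Odd (Nat.card A) ∧ E ⊓ A = ⊥ ∧ Q ⊓ (E ⊔ A) = ⊥ ∧ Q ⊔ (E ⊔ A) = ⊤ := by
  obtain ⟨⟨a, b, ha, hab2, hba⟩, hodd⟩ := exists_quaternion_pair hn (by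
    by_contra hh
    push Not at hh
    exact hna ⟨⟨fun x y => (hh x y).eq⟩⟩)
  have ha4 : a ^ 4 = 1 := by rw [← ha]; exact pow_orderOf_eq_one a
  have haneq : ∀ k, k < 4 → a ^ k = 1 → k = 0 := fun k hk h => by
    have := orderOf_dvd_of_pow_eq_one h
    rw [ha] at this
    exact Nat.eq_zero_of_dvd_of_lt this hk
  have hnc : ¬ Commute a b := fun h => by
    have : a ^ 2 = 1 := by
      rw [show b * a * b⁻¹ = a by rw [← h.eq]; group] at hba
      rw [sq, mul_eq_one_iff_eq_inv, ← hba]
    exact absurd (haneq 2 (by norm_num) this) (by norm_num)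
  have hb4 : b ^ 4 = 1 := by rw [show (4 : ℕ) = 2 * 2 by norm_num, pow_mul, ← hab2, ← pow_mul, ha4]
  -- the quaternion subgroup
  have hconj : ∀ i : ℕ, a ^ i * b = b * (a ^ i)⁻¹ := fun i => by
    have h1 : a⁻¹ * b = b * a := by rw [← hba]; group
    induction i with
    | zero => simp
    | succ i ih =>
      have h2 : a * b = b * a⁻¹ := by
        calc a * b = a * (a⁻¹ * b) * a⁻¹ * 1 := by rw [h1]; group
          _ = b * a⁻¹ := by group
      calc a ^ (i + 1) * b = a ^ i * (a * b) := by rw [pow_succ]; group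
        _ = (a ^ i * b) * a⁻¹ := by rw [h2]; group
        _ = b * (a ^ (i + 1))⁻¹ := by rw [ih, pow_succ']; group
  let A4 : ZMod (2 * 2) → G := fun i => a ^ i.val
  have hA4add : ∀ i j, A4 (i + j) = A4 i * A4 j := fun i j => by
    simp only [A4]
    rw [← pow_add, ← pow_mod_orderOf a (i.val + j.val), ha, ZMod.val_add]
  have hA4sub : ∀ i j, A4 (i - j) = A4 i * (A4 j)⁻¹ := fun i j => by
    rw [eq_mul_inv_iff_mul_eq, ← hA4add, sub_add_cancel]
  let f : QuaternionGroup 2 →* G := MonoidHom.mk'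
    (fun x => match x with
      | QuaternionGroup.a i => A4 i
      | QuaternionGroup.xa i => b * A4 i) (by
    rintro (i | i) (j | j)
    · simp only [QuaternionGroup.a_mul_a]; exact hA4add i j
    · simp only [QuaternionGroup.a_mul_xa]
      rw [hA4sub, ← mul_assoc (A4 i), show A4 i = a ^ i.val from rfl, hconj, mul_assoc b,
        ((Commute.refl a).pow_pow j.val i.val).inv_right.eq]
    · simp only [QuaternionGroup.xa_mul_a]; rw [hA4add, mul_assoc]
    · simp only [QuaternionGroup.xa_mul_xa]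
      rw [show ((2 : ℕ) : ZMod (2 * 2)) + j - i = (2 + j) - i by norm_num, hA4sub, hA4add,
        show A4 2 = a ^ 2 from rfl, hab2, mul_assoc b (A4 i), ← mul_assoc (A4 i) b,
        show A4 i = a ^ i.val from rfl, hconj, sq, show A4 j = a ^ j.val from rfl]
      simp only [mul_assoc]
      rw [((Commute.refl a).pow_pow j.val i.val).inv_right.eq])
  have hf : Function.Injective f := by
    rw [← MonoidHom.ker_eq_bot_iff, eq_bot_iff]
    rintro (i | i) hx
    · change a ^ i.val = 1 at hx
      have := haneq _ (ZMod.val_lt i) hx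
      rw [(ZMod.val_eq_zero i).1 this]; rfl
    · change b * a ^ i.val = 1 at hx
      exact absurd (by rw [eq_inv_of_mul_eq_one_left hx]; exact ((Commute.refl a).pow_right _).inv_right) hnc
  let Q := f.range
  have haQ : a ∈ Q := ⟨QuaternionGroup.a 1, pow_one a⟩
  have hbQ : b ∈ Q := ⟨QuaternionGroup.xa 0, by show b * a ^ 0 = b; simp⟩
  have hgen : ∀ z ∈ Q, z ^ 4 = 1 ∧ (Commute z a → Commute z b → z = 1 ∨ z = a ^ 2) := by
    rintro _ ⟨(i | i), rfl⟩
    · change (a ^ i.val) ^ 4 = 1 ∧ (Commute (a ^ i.val) a → Commute (a ^ i.val) b → a ^ i.val = 1 ∨ a ^ i.val = a ^ 2)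
      refine ⟨by rw [← pow_mul, mul_comm, pow_mul, ha4, one_pow], fun _ h => ?_⟩
      have h1 := hconj i.val
      rw [h.eq, mul_right_inj, eq_inv_iff_mul_eq_one, ← pow_add] at h1
      have h2 := orderOf_dvd_of_pow_eq_one h1
      rw [ha] at h2
      have := ZMod.val_lt i
      have : i.val = 0 ∨ i.val = 2 := by omega
      rcases this with e | e <;> simp [e]
    · change (b * a ^ i.val) ^ 4 = 1 ∧ (Commute (b * a ^ i.val) a → _ → _)
      refine ⟨?_, fun h _ => absurd ?_ hnc⟩
      · have h2 : (b * a ^ i.val) ^ 2 = b ^ 2 := by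
          rw [sq, sq, mul_assoc, ← mul_assoc (a ^ i.val), hconj]; group
        rw [show (4 : ℕ) = 2 * 2 by norm_num, pow_mul, h2, ← pow_mul]; exact hb4
      · have := h.mul_left (((Commute.refl a).pow_left i.val).inv_left)
        rw [mul_inv_cancel_right] at this
        exact this.symm
  -- every element is in `Q C(Q)`
  have hQC : ∀ g : G, ∃ q ∈ Q, Commute (q⁻¹ * g) a ∧ Commute (q⁻¹ * g) b := by
    have half : ∀ (u w : G), orderOf u = 4 → w * u * w⁻¹ = u⁻¹ → ∀ g : G,
        g * u * g⁻¹ = u ∨ w⁻¹ * g * u * (w⁻¹ * g)⁻¹ = u := by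
      intro u w hu hw g
      obtain ⟨i, hi⟩ := mem_zpowers_iff.1 (conj_mem hn u g)
      rw [← zpow_mod_orderOf, hu] at hi
      have hord : orderOf (g * u * g⁻¹) = 4 := by rw [← MulAut.conj_apply, MulEquiv.orderOf_eq, hu]
      have h0 : 0 ≤ i % ((4 : ℕ) : ℤ) := Int.emod_nonneg _ (by norm_num)
      have h4 : i % ((4 : ℕ) : ℤ) < 4 := Int.emod_lt_of_pos _ (by norm_num)
      obtain ⟨k, hk⟩ := Int.eq_ofNat_of_zero_le h0
      rw [hk, zpow_natCast] at hi
      have hk4 : k < 4 := by omega
      rw [← hi] at hord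
      interval_cases k
      · simp at hord
      · left; rw [← hi, pow_one]
      · exfalso
        rw [orderOf_pow_of_dvd (by norm_num) (by rw [hu]; norm_num), hu] at hord
        norm_num at hord
      · right
        have h3 : u ^ 3 = u⁻¹ := eq_inv_of_mul_eq_one_left (by rw [← pow_succ]; exact orderOf_dvd_iff_pow_eq_one.1 hu.dvd)
        calc w⁻¹ * g * u * (w⁻¹ * g)⁻¹ = w⁻¹ * (g * u * g⁻¹) * w := by group
          _ = w⁻¹ * (w * u * w⁻¹) * w := by rw [← hi, h3, hw]
          _ = u := by group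
    have hb4' : orderOf b = 4 := by
      refine orderOf_eq_prime_pow (p := 2) (n := 1) ?_ hb4
      rw [show (2 : ℕ) ^ 1 = 2 by norm_num, ← hab2]
      exact fun h => absurd (haneq 2 (by norm_num) h) (by norm_num)
    have hab' : a * b * a⁻¹ = b⁻¹ := by
      have := hconj 1
      rw [pow_one] at this
      rw [this, mul_assoc]
      apply eq_inv_of_mul_eq_one_left
      calc b * (a⁻¹ * a⁻¹) * b = b * (a ^ 2)⁻¹ * b := by rw [sq]; group
        _ = 1 := by rw [hab2]; group
    intro g
    obtain ⟨q1, hq1, h1⟩ : ∃ q1 ∈ Q, q1⁻¹ * g * a * (q1⁻¹ * g)⁻¹ = a := by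
      rcases half a b ha hba g with h | h
      · exact ⟨1, one_mem _, by simpa using h⟩
      · exact ⟨b, hbQ, h⟩
    rcases half b a hb4' hab' (q1⁻¹ * g) with h | h
    · exact ⟨q1, hq1, mul_inv_eq_iff_eq_mul.1 h1, mul_inv_eq_iff_eq_mul.1 h⟩
    · refine ⟨q1 * a, mul_mem hq1 haQ, ?_, ?_⟩
      · rw [show (q1 * a)⁻¹ * g = a⁻¹ * (q1⁻¹ * g) by group]
        exact ((Commute.refl a).inv_left).mul_left (mul_inv_eq_iff_eq_mul.1 h1)
      · rw [show (q1 * a)⁻¹ * g = a⁻¹ * (q1⁻¹ * g) by group]
        exact mul_inv_eq_iff_eq_mul.1 h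
  -- the odd part and the involutions
  have hoddc : ∀ x : G, Odd (orderOf x) → ∀ y : G, x * y = y * x := by
    intro x hx
    have : ∀ y : G, y ∈ centralizer {x} := mem_of_primePow (fun y ⟨p, k, hp, hk⟩ => by
      rw [mem_centralizer_singleton_iff]
      rcases hp.eq_two_or_odd' with rfl | hpo
      · refine (commute_of_coprime hn ?_).eq
        rw [hk]
        exact ((Nat.prime_two.coprime_iff_not_dvd).2 (fun h => Nat.not_even_iff_odd.2 hx (even_iff_two_dvd.2 h))).pow_left k
      · exact (hodd y x (hk ▸ hpo.pow) hx).eq)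
    exact fun y => (mem_centralizer_singleton_iff.1 (this y)).symm
  let A : Subgroup G :=
    { carrier := {x | Odd (orderOf x)}
      one_mem' := by simp
      mul_mem' := fun {x y} hx hy => by
        have := Commute.orderOf_mul_dvd_mul_orderOf (show Commute x y from hoddc x hx y)
        exact (Odd.mul hx hy).of_dvd_nat this
      inv_mem' := fun {x} hx => by simpa using hx }
  let T : Subgroup G :=
    { carrier := {x | x ^ 2 = 1}
      one_mem' := one_pow 2
      mul_mem' := fun {x y} (hx : x ^ 2 = 1) (hy : y ^ 2 = 1) => by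
        show (x * y) ^ 2 = 1
        rw [(show Commute x y from (involution_central hn hx y).symm).mul_pow, hx, hy, one_mul]
      inv_mem' := fun {x} (hx : x ^ 2 = 1) => by show (x⁻¹) ^ 2 = 1; rw [inv_pow, hx, inv_one] }
  have hc1 : a ^ 2 ≠ 1 := fun h => absurd (haneq 2 (by norm_num) h) (by norm_num)
  obtain ⟨E, -, hE⟩ := (Set.toFinite {E : Subgroup G | E ≤ T ∧ a ^ 2 ∉ E}).exists_le_maximal
    (a := ⊥) ⟨bot_le, by rw [mem_bot]; exact hc1⟩
  obtain ⟨hET, hcE⟩ := hE.prop
  have hTE : ∀ t ∈ T, t ∈ E ∨ t * a ^ 2 ∈ E := by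
    intro t ht
    by_contra hh
    push Not at hh
    have hgt : E < E ⊔ zpowers t := lt_of_le_of_ne le_sup_left fun e => hh.1 (e ▸ mem_sup_right (mem_zpowers t))
    have hc : a ^ 2 ∈ E ⊔ zpowers t := by
      by_contra hc
      exact hgt.not_ge (hE.le_of_ge ⟨sup_le hET (zpowers_le.2 ht), hc⟩ hgt.le)
    have hcen : zpowers t ≤ normalizer (E : Set G) := (hn E |> fun h => (normalizer_eq_top_iff.2 h).symm ▸ le_top)
    rw [← SetLike.mem_coe, coe_mul_of_right_le_normalizer_left E (zpowers t) hcen, Set.mem_mul] at hc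
    obtain ⟨e, he, z, hz, hez⟩ := hc
    obtain ⟨i, rfl⟩ := mem_zpowers_iff.1 hz
    have ht2 : t ^ 2 = 1 := ht
    rcases Int.even_or_odd i with ⟨j, hj⟩ | ⟨j, hj⟩
    · rw [hj, ← two_mul, zpow_mul, zpow_ofNat, ht2, one_zpow, mul_one] at hez
      exact hcE (hez ▸ he)
    · rw [hj, zpow_add, zpow_mul, zpow_ofNat, ht2, one_zpow, one_mul, zpow_one] at hez
      apply hh.2
      rw [← hez, show t * (e * t) = e * t ^ 2 by rw [← mul_assoc, ← involution_central hn ht2 e, mul_assoc, ← sq], ht2, mul_one]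
      exact he
  have hsup : Q ⊔ (E ⊔ A) = ⊤ := by
    refine eq_top_iff.2 fun g _ => ?_
    obtain ⟨q, hq, hxa, hxb⟩ := hQC g
    set x := q⁻¹ * g with hx
    rw [show g = q * x by rw [hx]; group]
    refine mul_mem (mem_sup_left hq) ?_
    have key : ∀ y : G, (∃ p k : ℕ, p.Prime ∧ orderOf y = p ^ k) → Commute y a → Commute y b → y ∈ Q ⊔ (E ⊔ A) := by
      rintro y ⟨p, k, hp, hk⟩ hya hyb
      rcases hp.eq_two_or_odd' with rfl | hpo
      · have hy2 : y ^ 2 = 1 := by
          by_contra hy2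
          have hk2 : 2 ≤ k := by
            by_contra hlt
            exact hy2 (orderOf_dvd_iff_pow_eq_one.1 (hk ▸ (pow_dvd_pow 2 (by omega : k ≤ 1)).trans (pow_one 2).dvd))
          -- an element of order four centralising both generators
          set w := y ^ 2 ^ (k - 2) with hw
          have hw4 : orderOf w = 4 := by
            rw [hw, orderOf_pow_of_dvd (by norm_num) (by rw [hk]; exact pow_dvd_pow 2 (by omega)), hk,
              Nat.pow_div (by omega) (by norm_num), show k - (k - 2) = 2 by omega]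
          have hwa : Commute w a := hya.pow_left _
          have hwb : Commute w b := hyb.pow_left _
          have hw22 : (w ^ 2) ^ 2 = 1 := by rw [← pow_mul]; exact orderOf_dvd_iff_pow_eq_one.1 hw4.dvd
          have hnc' : ¬ Commute (a * w) b := fun h => hnc (by
            have := h.mul_left hwb.inv_left
            rwa [mul_inv_cancel_right] at this)
          by_cases hwc : w ^ 2 = a ^ 2
          · have h1 : (a * w) ^ 2 = 1 := by rw [hwa.symm.mul_pow, hwc, ← pow_add, show 2 + 2 = 4 from rfl, ha4]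
            exact hnc' (involution_central hn h1 b).symm
          · obtain ⟨i, hi⟩ := mem_zpowers_iff.1 (conj_mem hn (a * w) b)
            have h1 : b * (a * w) * b⁻¹ = a⁻¹ * w := by
              rw [← hba]
              calc b * (a * w) * b⁻¹ = b * a * (w * b⁻¹) := by group
                _ = b * a * (b⁻¹ * w) := by rw [hwb.inv_right.eq]
                _ = b * a * b⁻¹ * w := by group
            rw [h1, hwa.symm.mul_zpow] at hi
            -- exponents
            have h2 : a ^ (i + 1) = w ^ (1 - i) := by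
              rw [zpow_add_one, zpow_sub, zpow_one, eq_mul_inv_iff_mul_eq]
              calc a ^ i * a * w ^ i = a * (a ^ i * w ^ i) := by
                    rw [((Commute.refl a).zpow_left i).eq, mul_assoc]
                _ = w := by rw [hi]; group
            rcases Int.even_or_odd i with ⟨j, hj⟩ | ⟨j, hj⟩
            · have h3 : a ^ (i + 1) ∈ zpowers w := h2 ▸ zpow_mem (mem_zpowers w) _
              have h4 : Commute (a ^ (i + 1)) b := by rw [h2]; exact hwb.zpow_left _
              have h5 : a ^ (i + 1) = a ∨ a ^ (i + 1) = a⁻¹ := by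
                rw [hj, ← two_mul, zpow_add_one, zpow_mul, zpow_ofNat]
                rcases Int.even_or_odd j with ⟨l, hl⟩ | ⟨l, hl⟩
                · left; rw [hl, ← two_mul, zpow_mul, zpow_ofNat, ← pow_mul, ha4, one_zpow, one_mul]
                · right
                  rw [hl, zpow_add, zpow_mul, zpow_ofNat, ← pow_mul, ha4, one_zpow, one_mul, zpow_one]
                  apply eq_inv_of_mul_eq_one_left
                  rw [← pow_succ, ← pow_succ, ha4]
              rcases h5 with h5 | h5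
              · exact hnc (h5 ▸ h4)
              · exact hnc (by simpa using (h5 ▸ h4 : Commute a⁻¹ b).inv_left)
            · have h3 : a ^ (i + 1) = 1 ∨ a ^ (i + 1) = a ^ 2 := by
                rw [hj, show 2 * j + 1 + 1 = 2 * (j + 1) by ring, zpow_mul, zpow_ofNat]
                rcases Int.even_or_odd (j + 1) with ⟨l, hl⟩ | ⟨l, hl⟩
                · left; rw [hl, ← two_mul, zpow_mul, zpow_ofNat, ← pow_mul, ha4, one_zpow]
                · right; rw [hl, zpow_add, zpow_mul, zpow_ofNat, ← pow_mul, ha4, one_zpow, one_mul, zpow_one]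
              have h4 : w ^ (1 - i) = 1 ∨ w ^ (1 - i) = w ^ 2 := by
                rw [hj, show 1 - (2 * j + 1) = 2 * (-j) by ring, zpow_mul, zpow_ofNat]
                rcases Int.even_or_odd (-j) with ⟨l, hl⟩ | ⟨l, hl⟩
                · left; rw [hl, ← two_mul, zpow_mul, zpow_ofNat, hw22, one_zpow]
                · right; rw [hl, zpow_add, zpow_mul, zpow_ofNat, hw22, one_zpow, one_mul, zpow_one]
              -- compare with the parity of `(i + 1) / 2` and `(1 - i) / 2`
              rw [hj, show 2 * j + 1 + 1 = 2 * (j + 1) by ring, show 1 - (2 * j + 1) = 2 * (-j) by ring,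
                zpow_mul, zpow_ofNat, zpow_mul, zpow_ofNat] at h2
              rcases Int.even_or_odd j with ⟨l, hl⟩ | ⟨l, hl⟩
              · rw [hl, show -(l + l) = 2 * (-l) by ring, zpow_mul (w ^ 2), zpow_ofNat, hw22, one_zpow,
                  show l + l + 1 = 2 * l + 1 by ring, zpow_add_one, zpow_mul (a ^ 2), zpow_ofNat, ← pow_mul, ha4, one_zpow, one_mul] at h2
                exact hc1 h2
              · rw [hl, show -(2 * l + 1) = 2 * (-l - 1) + 1 by ring, zpow_add_one (w ^ 2), zpow_mul (w ^ 2), zpow_ofNat,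
                  hw22, one_zpow, one_mul, show 2 * l + 1 + 1 = 2 * (l + 1) by ring, zpow_mul (a ^ 2), zpow_ofNat, ← pow_mul,
                  ha4, one_zpow] at h2
                rw [← h2] at hw22
                exact absurd (orderOf_dvd_of_pow_eq_one h2.symm) (by rw [hw4]; norm_num)
        rcases hTE y hy2 with h | h
        · exact mem_sup_right (mem_sup_left h)
        · have hy : y = a ^ 2 * (y * a ^ 2) := by
            rw [← mul_assoc, (hya.symm.pow_left 2).eq, mul_assoc, ← pow_add, show 2 + 2 = 4 from rfl, ha4, mul_one]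
          rw [hy]
          exact mul_mem (mem_sup_left (pow_mem haQ 2)) (mem_sup_right (mem_sup_left h))
      · exact mem_sup_right (mem_sup_right (show Odd (orderOf y) from hk ▸ hpo.pow))
    have hgood := mem_of_primePow (G := zpowers x) (S := (Q ⊔ (E ⊔ A)).subgroupOf (zpowers x))
      (fun z ⟨p, k, hp, hk⟩ => by
        rw [mem_subgroupOf]
        obtain ⟨i, hi⟩ := mem_zpowers_iff.1 z.2
        exact key z ⟨p, k, hp, by rw [Subgroup.orderOf_coe, hk]⟩ (hi ▸ hxa.zpow_left i) (hi ▸ hxb.zpow_left i))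
      ⟨x, mem_zpowers x⟩
    exact hgood
  refine ⟨Q, E, A, ⟨(MonoidHom.ofInjective hf).symm⟩, ⟨⟨⟨fun u v => Subtype.ext (involution_central hn (hET v.2) u)⟩⟩, fun e he => hET he⟩,
    ⟨⟨fun u v => Subtype.ext (hoddc u u.2 v)⟩⟩, ?_, ?_, ?_, hsup⟩
  · rw [← Nat.not_even_iff_odd, even_iff_two_dvd]
    intro h2
    haveI : Fact (Nat.Prime 2) := ⟨Nat.prime_two⟩
    obtain ⟨z, hz⟩ := exists_prime_orderOf_dvd_card' 2 h2
    have : Odd (orderOf (z : G)) := z.2
    rw [Subgroup.orderOf_coe, hz] at this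
    exact absurd this (by decide)
  · rw [eq_bot_iff]
    rintro y ⟨hy1, hy2⟩
    exact mem_bot.2 (orderOf_eq_one_iff.1 (Nat.eq_one_of_dvd_coprimes (Nat.coprime_two_left.2 hy2)
      (orderOf_dvd_of_pow_eq_one (hET hy1)) dvd_rfl))
  · rw [eq_bot_iff]
    rintro y ⟨hy1, hy2⟩
    have hcen : E ≤ normalizer (A : Set G) := (normalizer_eq_top_iff.2 (hn A)).symm ▸ le_top
    replace hy2 : y ∈ ((E ⊔ A : Subgroup G) : Set G) := hy2
    rw [coe_mul_of_left_le_normalizer_right E A hcen, Set.mem_mul] at hy2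
    obtain ⟨e, he, o, ho, rfl⟩ := hy2
    have he2 : e ^ 2 = 1 := hET he
    have h4 := (hgen _ hy1).1
    rw [(show Commute e o from (hoddc o ho e).symm).mul_pow, show (4 : ℕ) = 2 * 2 from rfl, pow_mul, he2, one_pow, one_mul] at h4
    have ho1 : o = 1 := orderOf_eq_one_iff.1 (Nat.eq_one_of_dvd_coprimes ((Nat.coprime_two_left.2 ho).pow_left 2)
      (orderOf_dvd_of_pow_eq_one h4) dvd_rfl)
    subst ho1
    rw [mul_one] at hy1 ⊢
    rcases (hgen e hy1).2 (involution_central hn he2 a).symm (involution_central hn he2 b).symm with h | h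
    · exact mem_bot.2 h
    · exact absurd (h ▸ he) hcE

end CfsgLib.FGStruct.Dedekind
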