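import Cfsg.Agent.Lib.PGroup.Basic
import Mathlib.GroupTheory.IndexNormal
import Cfsg.Agent.Lib.PNilpotent.Basic
import Cfsg.Agent.Lib.FGStruct.PPowerClass
import Cfsg.Agent.Lib.Frobenius.Fpf

/-!
Finite groups with two class sizes (Itô): primary decomposition of centralisers, and the fact that
only one prime has noncentral elements.
-/

set_option autoImplicit false
set_option linter.style.haveILetI false
set_option linter.unusedSectionVars false

namespace CfsgLib.FGStruct.ItoTwoSizes

open Subgroup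

variable {G : Type*} [Group G] [Finite G]

local notation "Cl" x => Subgroup.centralizer ({x} : Set _)

theorem mem_cl_iff {x y : G} : y ∈ (Cl x : Subgroup G) ↔ Commute y x := by
  rw [mem_centralizer_singleton_iff, commute_iff_eq]

theorem mem_center_iff_index {x : G} :
    x ∈ center G ↔ (Cl x : Subgroup G).index = 1 := by
  rw [index_eq_one, centralizer_eq_top_iff_subset, Set.singleton_subset_iff]
  rfl

theorem not_mem_center_of_le {x y : G} (hx : x ∉ center G)
    (h : (Cl y : Subgroup G) ≤ (Cl x : Subgroup G)) : y ∉ center G := fun hy => hx (by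
  rw [mem_center_iff_index, index_eq_one] at hy ⊢
  exact top_le_iff.mp (hy ▸ h))

theorem cl_le_pow (x : G) (k : ℕ) : (Cl x : Subgroup G) ≤ (Cl (x ^ k) : Subgroup G) := fun _ hy =>
  mem_cl_iff.mpr ((mem_cl_iff.mp hy).pow_right k)

theorem mem_cl_self (x : G) : x ∈ (Cl x : Subgroup G) := mem_cl_iff.mpr (Commute.refl x)

theorem center_le_cl (x : G) : center G ≤ (Cl x : Subgroup G) := fun _ hz =>
  mem_cl_iff.mpr (Subgroup.mem_center_iff.mp hz x).symm

/-- A noncentral element has a noncentral power of prime power order. -/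
theorem exists_primary_not_mem {H : Subgroup G} {x : G} (hx : x ∉ H) :
    ∃ q k a : ℕ, q.Prime ∧ orderOf (x ^ a) = q ^ k ∧ x ^ a ∉ H := by
  by_contra! hall
  apply hx
  have hle : zpowers x ≤ H := by
    have hcard : Nat.card (zpowers x) ∣ Nat.card (zpowers x ⊓ H : Subgroup G) := by
      rw [Nat.dvd_iff_prime_pow_dvd_dvd]
      intro q k hq hqk
      rw [Nat.card_zpowers] at hqk
      have h0 : orderOf x / q ^ k ≠ 0 :=
        (Nat.div_pos (Nat.le_of_dvd (orderOf_pos x) hqk) (pow_pos hq.pos k)).ne'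
      have hord : orderOf (x ^ (orderOf x / q ^ k)) = q ^ k := by
        rw [orderOf_pow_of_dvd h0 (Nat.div_dvd_of_dvd hqk),
          Nat.div_div_self hqk (orderOf_pos x).ne']
      have := hall q k _ hq hord
      rw [← hord]
      exact orderOf_dvd_natCard (zpowers x ⊓ H : Subgroup G) ⟨pow_mem (mem_zpowers x) _, this⟩
    have := eq_of_le_of_card_ge inf_le_left (Nat.le_of_dvd Nat.card_pos hcard)
    exact inf_eq_left.mp this
  exact hle (mem_zpowers x)

/-- If `x` and `y` have coprime orders and commute up to a central element, they commute. -/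
theorem commute_of_commutator_central {x y : G} (hxy : (orderOf x).Coprime (orderOf y))
    (hz : x * y * x⁻¹ * y⁻¹ ∈ center G) : Commute x y := by
  set z := x * y * x⁻¹ * y⁻¹ with hzdef
  have hzc : ∀ g, Commute g z := fun g => Subgroup.mem_center_iff.mp hz g
  have hy : ∀ n : ℕ, x ^ n * y * (x ^ n)⁻¹ = z ^ n * y := by
    intro n
    induction n with
    | zero => simp
    | succ n ih =>
      have hxn : x ^ (n + 1) * y * (x ^ (n + 1))⁻¹ = x * (x ^ n * y * (x ^ n)⁻¹) * x⁻¹ := by
        rw [pow_succ']; group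
      rw [hxn, ih, ← mul_assoc x, ((hzc x).pow_right n).eq, pow_succ]
      have : x * y * x⁻¹ = z * y := by rw [hzdef]; group
      calc z ^ n * x * y * x⁻¹ = z ^ n * (x * y * x⁻¹) := by group
        _ = z ^ n * z * y := by rw [this, ← mul_assoc]
  have h1 : z ^ orderOf x = 1 := by
    have := hy (orderOf x)
    rw [pow_orderOf_eq_one, one_mul, inv_one, mul_one, right_eq_mul] at this
    exact this
  have h2 : z ^ orderOf y = 1 := by
    have hc : x * y * x⁻¹ = z * y := by rw [hzdef]; group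
    have h3 : (x * y * x⁻¹) ^ orderOf y = 1 := by rw [conj_pow, pow_orderOf_eq_one]; group
    rw [hc, ((hzc y).symm).mul_pow, pow_orderOf_eq_one, mul_one] at h3
    exact h3
  have h4 : z = 1 :=
    orderOf_eq_one_iff.mp (Nat.eq_one_of_dvd_coprimes hxy (orderOf_dvd_of_pow_eq_one h1)
      (orderOf_dvd_of_pow_eq_one h2))
  rw [hzdef, mul_inv_eq_one, mul_inv_eq_iff_eq_mul] at h4
  exact h4

section Hyp

variable {n : ℕ} (h : ∀ x : G, x ∉ center G → (Cl x : Subgroup G).index = n)
include h

theorem card_cl_eq {x y : G} (hx : x ∉ center G) (hy : y ∉ center G) :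
    Nat.card (Cl x : Subgroup G) = Nat.card (Cl y : Subgroup G) := by
  have h1 := (Cl x : Subgroup G).card_mul_index
  have h2 := (Cl y : Subgroup G).card_mul_index
  rw [h x hx] at h1
  rw [h y hy] at h2
  have hn : n ≠ 0 := by rw [← h x hx]; exact index_ne_zero_of_finite
  exact Nat.eq_of_mul_eq_mul_right (Nat.pos_of_ne_zero hn) (h1.trans h2.symm)

theorem cl_eq_of_le {x y : G} (hy : y ∉ center G)
    (hle : (Cl x : Subgroup G) ≤ (Cl y : Subgroup G)) :
    (Cl x : Subgroup G) = (Cl y : Subgroup G) :=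
  eq_of_le_of_card_ge hle (card_cl_eq h hy (not_mem_center_of_le hy hle)).le

/-- Centralisers of noncentral elements all contain noncentral `q`-elements, if there is any. -/
theorem exists_not_mem_center_in_cl {q k : ℕ} (hq : q.Prime) {t : G} (ht : orderOf t = q ^ k)
    (htc : t ∉ center G) {x : G} (hx : x ∉ center G) :
    ∃ s ∈ (Cl x : Subgroup G), (∃ j, orderOf s = q ^ j) ∧ s ∉ center G := by
  by_contra! hall
  haveI := Fact.mk hq
  obtain ⟨S⟩ : Nonempty (Sylow q (Cl x : Subgroup G)) := inferInstance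
  set S' := (S : Subgroup (Cl x : Subgroup G)).map (Cl x : Subgroup G).subtype with hS'
  have hS'p : IsPGroup q S' := S.isPGroup'.map _
  have hS'c : S' ≤ center G := by
    intro s hs
    obtain ⟨j, hj⟩ := (IsPGroup.iff_orderOf.mp hS'p) ⟨s, hs⟩
    exact hall s (map_subtype_le _ hs) ⟨j, by rw [← hj, ← orderOf_coe]⟩
  haveI : S'.Normal := ⟨fun s hs g => by
    rwa [Subgroup.mem_center_iff.mp (hS'c hs) g, mul_inv_cancel_right]⟩
  set U := S' ⊔ zpowers t with hU
  have hUp : IsPGroup q U := by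
    refine IsPGroup.to_sup_of_normal_left hS'p ?_
    exact IsPGroup.of_card (n := k) (by rw [Nat.card_zpowers, ht])
  have hUle : U ≤ (Cl t : Subgroup G) :=
    sup_le (hS'c.trans (center_le_cl t)) (zpowers_le.mpr (mem_cl_self t))
  have hcardU : Nat.card U ≤ Nat.card S' := by
    obtain ⟨j, hj⟩ := IsPGroup.iff_card.mp hUp
    rw [hS', Nat.card_congr ((S : Subgroup (Cl x : Subgroup G)).equivMapOfInjective _
      (subtype_injective _)).toEquiv.symm, S.card_eq_multiplicity]
    have hdvd := card_dvd_of_le hUle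
    rw [card_cl_eq h htc hx, hj] at hdvd
    rw [hj]
    exact Nat.pow_le_pow_right hq.pos ((hq.pow_dvd_iff_le_factorization Nat.card_pos.ne').mp hdvd)
  have heq : S' = U := eq_of_le_of_card_ge le_sup_left hcardU
  exact htc (hS'c (heq ▸ mem_sup_right (mem_zpowers t)))

/-- Sylow subgroups for primes not dividing the class size are central. -/
theorem sylow_le_center {q : ℕ} [hq : Fact q.Prime] (hn : ¬ q ∣ n) (Q : Sylow q G) :
    (Q : Subgroup G) ≤ center G := by
  classical
  have hQ : centralizer ((Q : Subgroup G) : Set G) = ⊤ := by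
    apply CfsgLib.FGStruct.PPowerClass.eq_top_of_conj_cover
    intro z
    have hnd : ¬ q ∣ (Cl z : Subgroup G).index := by
      by_cases hz : z ∈ center G
      · rw [mem_center_iff_index.mp hz]; exact hq.out.not_dvd_one
      · rwa [h z hz]
    obtain ⟨S⟩ : Nonempty (Sylow q (Cl z : Subgroup G)) := inferInstance
    set S' := (S : Subgroup (Cl z : Subgroup G)).map (Cl z : Subgroup G).subtype with hS'
    have hcard : Nat.card S' = q ^ (Nat.card G).factorization q := by
      rw [hS', Nat.card_congr ((S : Subgroup (Cl z : Subgroup G)).equivMapOfInjective _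
        (subtype_injective _)).toEquiv.symm, S.card_eq_multiplicity,
        ← (Cl z : Subgroup G).card_mul_index,
        Nat.factorization_mul Nat.card_pos.ne' index_ne_zero_of_finite, Finsupp.add_apply,
        Nat.factorization_eq_zero_of_not_dvd hnd, add_zero]
    obtain ⟨c, hc⟩ := MulAction.exists_smul_eq G Q (Sylow.ofCard S' hcard)
    refine ⟨c, mem_centralizer_iff.mpr fun w hw => ?_⟩
    have hmem : c * w * c⁻¹ ∈ S' := by
      have : (c * w * c⁻¹) ∈ ((c • Q : Sylow q G) : Subgroup G) := ⟨w, hw, rfl⟩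
      rw [hc] at this
      exact this
    have hcomm := mem_cl_iff.mp (map_subtype_le _ hmem)
    calc w * (c⁻¹ * z * c) = c⁻¹ * ((c * w * c⁻¹) * z) * c := by group
      _ = c⁻¹ * (z * (c * w * c⁻¹)) * c := by rw [hcomm.eq]
      _ = c⁻¹ * z * c * w := by group
  exact centralizer_eq_top_iff_subset.mp hQ

/-- In the primary case: a noncentral `p`-element commuting with no noncentral `p'`-element. -/
theorem coprime_central_of_isolated {p k : ℕ} (hp : p.Prime) {x : G} (hxo : orderOf x = p ^ k)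
    (hx : x ∉ center G)
    (hiso : ∀ y ∈ (Cl x : Subgroup G), (orderOf y).Coprime p → y ∈ center G) :
    ∀ y : G, (orderOf y).Coprime p → y ∈ center G := by
  intro y hy
  by_contra hyc
  obtain ⟨q, j, a, hq, hqj, hac⟩ := exists_primary_not_mem hyc
  have hqp : q ≠ p := by
    rintro rfl
    have hj0 : j ≠ 0 := by
      rintro rfl
      rw [pow_zero, orderOf_eq_one_iff] at hqj
      exact hac (hqj ▸ one_mem _)
    have h1 : q ∣ orderOf y := (hqj ▸ dvd_pow_self q hj0).trans (orderOf_pow_dvd a)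
    exact (hp.coprime_iff_not_dvd.mp hy.symm) h1
  obtain ⟨s, hs, ⟨i, hi⟩, hsc⟩ := exists_not_mem_center_in_cl h hq hqj hac hx
  exact hsc (hiso s hs (by rw [hi]; exact ((Nat.coprime_primes hq hp).mpr hqp).pow_left i))

/-- If every noncentral element of prime power order commutes with a noncentral element of coprime
order, all centralisers of noncentral elements are abelian. -/
theorem commute_in_cl
    (hB : ∀ (p k : ℕ) (x : G), p.Prime → orderOf x = p ^ k → x ∉ center G →
      ∃ y ∈ (Cl x : Subgroup G), (orderOf y).Coprime p ∧ y ∉ center G)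
    {x u v : G} (hx : x ∉ center G) (hu : u ∈ (Cl x : Subgroup G))
    (hv : v ∈ (Cl x : Subgroup G)) : Commute u v := by
  -- coprime elements of a primary centraliser are central in it
  have key : ∀ (p k : ℕ) (s : G), p.Prime → orderOf s = p ^ k → s ∉ center G →
      ∀ w ∈ (Cl s : Subgroup G), (orderOf w).Coprime p →
        (Cl s : Subgroup G) ≤ (Cl w : Subgroup G) := by
    intro p k s hp hs hsc w hw hwp
    have hcomm : Commute s w := (mem_cl_iff.mp hw).symm
    obtain ⟨a, ha1, ha2⟩ := Nat.chineseRemainder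
      (show Nat.Coprime (orderOf s) (orderOf w) by rw [hs]; exact (hwp.symm).pow_left k) 1 0
    have hsa : s = (s * w) ^ a := by
      rw [hcomm.mul_pow, orderOf_dvd_iff_pow_eq_one.mp (Nat.modEq_zero_iff_dvd.mp ha2), mul_one]
      conv_lhs => rw [← pow_one s]
      exact (pow_eq_pow_iff_modEq.mpr ha1.symm)
    have h1 : (Cl (s * w) : Subgroup G) ≤ (Cl s : Subgroup G) := by
      conv_rhs => rw [hsa]
      exact cl_le_pow _ a
    have h2 := cl_eq_of_le h hsc h1
    intro g hg
    rw [← h2] at hg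
    have h3 := mem_cl_iff.mp hg
    have h4 := mem_cl_iff.mp (h1 hg)
    rw [mem_cl_iff]
    have : g * (s * w) = s * w * g := h3
    rw [← mul_assoc, h4.eq, mul_assoc, mul_assoc] at this
    exact mul_left_cancel this
  obtain ⟨p, k, a, hp, hpk, hac⟩ := exists_primary_not_mem hx
  have hcs := cl_eq_of_le h hac (cl_le_pow x a)
  rw [hcs] at hu hv
  obtain ⟨y, hy, hyp, hyc⟩ := hB p k _ hp hpk hac
  obtain ⟨q, j, b, hq, hqj, hbc⟩ := exists_primary_not_mem hyc
  have hqp : q ≠ p := by
    rintro rfl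
    have hj0 : j ≠ 0 := by
      rintro rfl
      rw [pow_zero, orderOf_eq_one_iff] at hqj
      exact hbc (hqj ▸ one_mem _)
    have h1 : q ∣ orderOf y := (hqj ▸ dvd_pow_self q hj0).trans (orderOf_pow_dvd b)
    exact (hp.coprime_iff_not_dvd.mp hyp.symm) h1
  have hyb : y ^ b ∈ (Cl (x ^ a) : Subgroup G) := pow_mem hy b
  have hyb' : (orderOf (y ^ b)).Coprime p := Nat.Coprime.coprime_dvd_left (orderOf_pow_dvd b) hyp
  have hceq := cl_eq_of_le h hbc (key p k _ hp hpk hac _ hyb hyb')
  haveI := Fact.mk hp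
  obtain ⟨c, d, hcd, ⟨i, hi⟩, hd⟩ := CfsgLib.PNilpotent.exists_pPart_decomp (p := p) u
  have hc1 : Commute (u ^ c) v := by
    have h1 := key q j _ hq hqj hbc (u ^ c) (hceq ▸ pow_mem hu c)
      (by rw [hi]; exact ((Nat.coprime_primes hp hq).mpr hqp.symm).pow_left i)
    exact (mem_cl_iff.mp (h1 (hceq ▸ hv))).symm
  have hc2 : Commute (u ^ d) v :=
    (mem_cl_iff.mp (key p k _ hp hpk hac (u ^ d) (pow_mem hu d) hd hv)).symm
  rw [← hcd]
  exact hc1.mul_left hc2

theorem cl_eq_of_mem
    (hB : ∀ (p k : ℕ) (x : G), p.Prime → orderOf x = p ^ k → x ∉ center G →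
      ∃ y ∈ (Cl x : Subgroup G), (orderOf y).Coprime p ∧ y ∉ center G)
    {x y : G} (hx : x ∉ center G) (hy : y ∈ (Cl x : Subgroup G)) (hyc : y ∉ center G) :
    (Cl y : Subgroup G) = (Cl x : Subgroup G) :=
  (cl_eq_of_le h hyc fun _ hg => mem_cl_iff.mpr (commute_in_cl h hB hx hg hy)).symm

/-- If all noncentral primary elements commute with noncentral elements of coprime order, no
prime square divides the class size. -/
theorem not_sq_dvd
    (hB : ∀ (p k : ℕ) (x : G), p.Prime → orderOf x = p ^ k → x ∉ center G →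
      ∃ y ∈ (Cl x : Subgroup G), (orderOf y).Coprime p ∧ y ∉ center G)
    (hne : ∃ x : G, x ∉ center G) {p : ℕ} (hp : p.Prime) : ¬ p ^ 2 ∣ n := by
  classical
  intro hpn
  haveI := Fact.mk hp
  obtain ⟨P⟩ : Nonempty (Sylow p G) := inferInstance
  by_cases hPc : (P : Subgroup G) ≤ center G
  · obtain ⟨x, hx⟩ := hne
    have hd : p ∣ n := (dvd_pow_self p two_ne_zero).trans hpn
    rw [← h x hx] at hd
    exact P.not_dvd_index (hd.trans (index_dvd_of_le (hPc.trans (center_le_cl x))))
  obtain ⟨x₀, hx₀P, hx₀, hx₀p, hx₀c⟩ := CfsgLib.PGroup.exists_step P.isPGroup'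
    ((center G).subgroupOf (P : Subgroup G)) ⊤ (lt_top_iff_ne_top.mpr fun hh =>
      hPc (subgroupOf_eq_top.mp hh))
  set x : G := (x₀ : G) with hxdef
  have hx : x ∉ center G := hx₀
  have hxp : x ^ p ∈ center G := hx₀p
  have hxc : ∀ u ∈ (P : Subgroup G), x * u * x⁻¹ * u⁻¹ ∈ center G := fun u hu => hx₀c ⟨u, hu⟩
  set A : Subgroup G := (Cl x : Subgroup G) with hA
  set N : Subgroup G := Subgroup.normalizer (A : Set G) with hN
  have hAN : A ≤ N := le_normalizer
  have hPN : (P : Subgroup G) ≤ N := by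
    have hstep : ∀ u ∈ (P : Subgroup G), ∀ a ∈ A, u * a * u⁻¹ ∈ A := by
      intro u hu a ha
      have hz := hxc u⁻¹ (inv_mem hu)
      rw [inv_inv] at hz
      rw [hA, mem_cl_iff, commute_iff_eq]
      set z := x * u⁻¹ * x⁻¹ * u with hzdef
      have hc : ∀ g, g * z = z * g := Subgroup.mem_center_iff.mp hz
      have hxu : u⁻¹ * x * u = x * z⁻¹ := by
        have h1 : x * z⁻¹ = z⁻¹ * x := by
          rw [eq_inv_mul_iff_mul_eq, ← mul_assoc, ← hc x, mul_inv_cancel_right]
        rw [h1, hzdef]; group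
      have hax : a * x = x * a := mem_cl_iff.mp ha
      have h2 : a * (x * z⁻¹) = x * z⁻¹ * a := by
        rw [← mul_assoc, hax, mul_assoc, mul_assoc]
        congr 1
        rw [eq_inv_mul_iff_mul_eq, ← mul_assoc, ← hc a, mul_inv_cancel_right]
      calc u * a * u⁻¹ * x = u * (a * (u⁻¹ * x * u)) * u⁻¹ := by group
        _ = u * (u⁻¹ * x * u * a) * u⁻¹ := by rw [hxu, h2]
        _ = x * (u * a * u⁻¹) := by group
    intro u hu
    rw [hN, Subgroup.mem_normalizer_iff]
    refine fun a => ⟨hstep u hu a, fun ha => ?_⟩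
    have := hstep u⁻¹ (inv_mem hu) _ ha
    simpa [mul_assoc] using this
  -- `p`-th powers of elements of `P` lie in `A`
  have hpow : ∀ u ∈ (P : Subgroup G), u ^ p ∈ A := by
    intro u hu
    set z := x * u * x⁻¹ * u⁻¹ with hzdef
    have hc : ∀ g, g * z = z * g := Subgroup.mem_center_iff.mp (hxc u hu)
    have h1 : x * u * x⁻¹ = z * u := by rw [hzdef]; group
    have hn' : ∀ i : ℕ, x ^ i * u * (x ^ i)⁻¹ = z ^ i * u := by
      intro i
      induction i with
      | zero => simp
      | succ i ih =>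
        have h3 : x ^ (i + 1) * u * (x ^ (i + 1))⁻¹ = x * (x ^ i * u * (x ^ i)⁻¹) * x⁻¹ := by
          rw [pow_succ']; group
        rw [h3, ih, ← mul_assoc x, ((Commute.pow_right (hc x) i)).eq, pow_succ]
        calc z ^ i * x * u * x⁻¹ = z ^ i * (x * u * x⁻¹) := by group
          _ = z ^ i * z * u := by rw [h1, ← mul_assoc]
    have hzp : z ^ p = 1 := by
      have := hn' p
      rw [← Subgroup.mem_center_iff.mp hxp u, mul_inv_cancel_right, right_eq_mul] at this
      exact this
    rw [hA, mem_cl_iff]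
    have h2 : (x * u * x⁻¹) ^ p = u ^ p := by
      rw [h1, (Commute.symm (hc u)).mul_pow, hzp, one_mul]
    rw [conj_pow, mul_inv_eq_iff_eq_mul] at h2
    exact h2.symm
  -- a noncentral element of another prime in `A`
  obtain ⟨k, hk⟩ : ∃ k, orderOf x = p ^ k := by
    obtain ⟨k, hk⟩ := (IsPGroup.iff_orderOf.mp P.isPGroup') x₀
    exact ⟨k, by rw [← hk, hxdef, orderOf_coe]⟩
  obtain ⟨y, hyA, hyp, hyc⟩ := hB p k x hp hk hx
  obtain ⟨q, j, b, hq, hqj, hbc⟩ := exists_primary_not_mem hyc
  have hqp : q ≠ p := by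
    rintro rfl
    have hj0 : j ≠ 0 := by
      rintro rfl
      rw [pow_zero, orderOf_eq_one_iff] at hqj
      exact hbc (hqj ▸ one_mem _)
    have h1 : q ∣ orderOf y := (hqj ▸ dvd_pow_self q hj0).trans (orderOf_pow_dvd b)
    exact (hp.coprime_iff_not_dvd.mp hyp.symm) h1
  haveI := Fact.mk hq
  set t := y ^ b with htdef
  have htA : t ∈ A := pow_mem hyA b
  have hAc : ∀ a ∈ A, ∀ a' ∈ A, Commute a a' := fun a ha a' ha' => commute_in_cl h hB hx ha ha'
  -- kill the `q'`-part of `A` and the centre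
  set m := Nat.card A / q ^ (Nat.card A).factorization q with hm
  have hmq : m.Coprime q := (Nat.coprime_ordCompl hq Nat.card_pos.ne').symm
  have hAm : m * q ^ (Nat.card A).factorization q = Nat.card A :=
    Nat.div_mul_cancel (Nat.ordProj_dvd _ _)
  let K : Subgroup G :=
    { carrier := {a | a ∈ A ∧ a ^ m ∈ center G}
      one_mem' := ⟨one_mem _, by rw [one_pow]; exact one_mem _⟩
      mul_mem' := fun {a b} ha hb => ⟨mul_mem ha.1 hb.1, by
        rw [(hAc a ha.1 b hb.1).mul_pow]; exact mul_mem ha.2 hb.2⟩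
      inv_mem' := fun {a} ha => ⟨inv_mem ha.1, by rw [inv_pow]; exact inv_mem ha.2⟩ }
  have hKmem : ∀ a, a ∈ K ↔ a ∈ A ∧ a ^ m ∈ center G := fun a => Iff.rfl
  haveI hKn : (K.subgroupOf N).Normal := by
    refine ⟨fun a ha g => ?_⟩
    rw [mem_subgroupOf, hKmem] at ha ⊢
    refine ⟨?_, ?_⟩
    · exact ((Subgroup.mem_normalizer_iff.mp g.2) a).mp ha.1
    · push_cast
      rw [conj_pow, Subgroup.mem_center_iff.mp ha.2 g, mul_inv_cancel_right]
      exact ha.2
  let π := QuotientGroup.mk' (K.subgroupOf N)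
  have hπ : ∀ g : N, π g = 1 ↔ (g : G) ∈ K := fun g => by
    rw [QuotientGroup.mk'_apply, QuotientGroup.eq_one_iff, mem_subgroupOf]
  let f : (P : Subgroup G) →* N ⧸ K.subgroupOf N := π.comp (Subgroup.inclusion hPN)
  -- `p`-elements of `A` die
  have hpK : ∀ a : G, a ∈ A → a ∈ (P : Subgroup G) → a ∈ K := by
    intro a ha haP
    refine ⟨ha, ?_⟩
    obtain ⟨i, hi⟩ := (IsPGroup.iff_orderOf.mp P.isPGroup') ⟨a, haP⟩
    rw [← orderOf_coe] at hi
    change orderOf a = p ^ i at hi
    have hd : orderOf a ∣ m * q ^ (Nat.card A).factorization q := by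
      rw [hAm]; exact Subgroup.orderOf_dvd_natCard A ha
    rw [orderOf_dvd_iff_pow_eq_one.mp (Nat.Coprime.dvd_of_dvd_mul_right (hi ▸
      Nat.Coprime.pow _ _ ((Nat.coprime_primes hp hq).mpr hqp.symm)) hd)]
    exact one_mem _
  have hker : f.ker = A.subgroupOf (P : Subgroup G) := by
    ext u
    rw [MonoidHom.mem_ker, mem_subgroupOf]
    show π _ = 1 ↔ _
    rw [hπ]
    exact ⟨fun hu => hu.1, fun hu => hpK _ hu u.2⟩
  have hp2 : p ^ 2 ∣ Nat.card f.range := by
    rw [← Nat.card_congr (QuotientGroup.quotientKerEquivRange f).toEquiv, ← index_eq_card, hker]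
    have h1 : p ^ 2 * Nat.card (A.subgroupOf (P : Subgroup G)) ∣ n * Nat.card A := by
      refine Nat.mul_dvd_mul hpn ?_
      exact ((Nat.card_congr (((A.subgroupOf (P : Subgroup G)).equivMapOfInjective _
        (subtype_injective _)).toEquiv)).trans (congrArg (fun H : Subgroup G => Nat.card H)
          (subgroupOf_map_subtype A (P : Subgroup G)))).dvd.trans (card_dvd_of_le inf_le_left)
    rw [← h x hx, mul_comm (index _), card_mul_index] at h1
    obtain ⟨j', hj'⟩ : ∃ j', p ^ 2 * Nat.card (A.subgroupOf (P : Subgroup G)) = p ^ j' := by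
      obtain ⟨i, hi⟩ := IsPGroup.iff_card.mp
        (P.isPGroup'.to_subgroup (A.subgroupOf (P : Subgroup G)))
      exact ⟨2 + i, by rw [pow_add, hi]⟩
    have h2 : p ^ 2 * Nat.card (A.subgroupOf (P : Subgroup G)) ∣ Nat.card (P : Subgroup G) := by
      rw [hj'] at h1 ⊢
      rw [P.card_eq_multiplicity]
      exact pow_dvd_pow p ((hp.pow_dvd_iff_le_factorization Nat.card_pos.ne').mp h1)
    rw [← card_mul_index (A.subgroupOf (P : Subgroup G)), mul_comm (p ^ 2)] at h2
    exact Nat.dvd_of_mul_dvd_mul_left Nat.card_pos h2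
  obtain ⟨E₀, hE₀⟩ := Sylow.exists_subgroup_card_pow_prime p hp2
  set E := E₀.map f.range.subtype with hE
  set V := (A.subgroupOf N).map π with hV
  have hVn : V.Normal := by
    haveI : (A.subgroupOf N).Normal := Subgroup.normal_in_normalizer
    exact Subgroup.Normal.map ‹_› π (QuotientGroup.mk'_surjective _)
  have hVne : V ≠ ⊥ := by
    intro hbot
    have htK : π ⟨t, hAN htA⟩ = 1 := by
      rw [← Subgroup.mem_bot, ← hbot]
      exact ⟨⟨t, hAN htA⟩, htA, rfl⟩
    rw [hπ] at htK
    apply hbc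
    have hcm : (orderOf t).Coprime m := by rw [hqj]; exact hmq.symm.pow_left j
    obtain ⟨i, hi⟩ := exists_pow_eq_self_of_coprime hcm.symm
    rw [← hi]
    exact pow_mem htK.2 i
  haveI : IsMulCommutative V := ⟨⟨by
    rintro ⟨_, a, ha, rfl⟩ ⟨_, a', ha', rfl⟩
    apply Subtype.ext
    show π a * π a' = π a' * π a
    rw [← map_mul, ← map_mul]
    exact congrArg π (Subtype.ext (hAc _ ha _ ha'))⟩⟩
  refine hVne (CfsgLib.Frobenius.eq_bot_of_elementary_fpf (A := E) (V := V) ?_ ?_ hp ?_ ?_)
  · rw [Subgroup.normalizer_eq_top]; exact le_top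
  · intro e he hne
    obtain ⟨⟨_, u, rfl⟩, -, rfl⟩ := he
    rw [eq_bot_iff]
    rintro _ ⟨⟨a, ha, rfl⟩, hac⟩
    rw [Subgroup.mem_bot, hπ]
    have huA : (u : G) ∉ A := fun hu => hne (by
      show f u = 1
      rw [← MonoidHom.mem_ker, hker]; exact hu)
    have hcomm : π (Subgroup.inclusion hPN u * a * (Subgroup.inclusion hPN u)⁻¹ * a⁻¹) = 1 := by
      have h3 := Subgroup.mem_centralizer_singleton_iff.mp hac
      rw [map_mul, map_mul, map_mul, map_inv, map_inv]
      change π a * f u = f u * π a at h3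
      show f u * π a * (f u)⁻¹ * (π a)⁻¹ = 1
      rw [← h3, mul_inv_cancel_right, mul_inv_cancel]
    rw [hπ] at hcomm
    obtain ⟨-, hcm⟩ := hcomm
    have haA : (a : G) ∈ A := ha
    push_cast at hcm
    have hua : (u : G) * a * (u : G)⁻¹ ∈ A :=
      ((Subgroup.mem_normalizer_iff.mp (hPN u.2)) a).mp haA
    rw [Subgroup.coe_inclusion, (hAc _ hua _ (inv_mem haA)).mul_pow, conj_pow, inv_pow] at hcm
    refine ⟨haA, ?_⟩
    by_contra hac'
    obtain ⟨i, hi⟩ := (IsPGroup.iff_orderOf.mp P.isPGroup') u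
    rw [← orderOf_coe] at hi
    have hod : orderOf ((a : G) ^ m) ∣ q ^ (Nat.card A).factorization q := by
      apply orderOf_dvd_of_pow_eq_one
      rw [← pow_mul, hAm]
      exact orderOf_dvd_iff_pow_eq_one.mp (Subgroup.orderOf_dvd_natCard A haA)
    have hcop : (orderOf (u : G)).Coprime (orderOf ((a : G) ^ m)) := by
      rw [hi]
      exact Nat.Coprime.coprime_dvd_right hod
        (Nat.Coprime.pow _ _ ((Nat.coprime_primes hp hq).mpr hqp.symm))
    have := commute_of_commutator_central hcop hcm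
    apply huA
    rw [hA, ← cl_eq_of_mem h hB hx (pow_mem haA m) hac', mem_cl_iff]
    exact this
  · rw [hE, Nat.card_congr (E₀.equivMapOfInjective _ (subtype_injective _)).toEquiv.symm, hE₀]
  · rintro e ⟨⟨_, u, rfl⟩, -, rfl⟩
    show f u ^ p = 1
    rw [← map_pow, ← MonoidHom.mem_ker, hker, mem_subgroupOf]
    exact hpow u u.2

/-- Only one prime has noncentral elements. -/
theorem exists_isolated (hne : ∃ x : G, x ∉ center G) :
    ∃ (p : ℕ), p.Prime ∧ ∀ y : G, (orderOf y).Coprime p → y ∈ center G := by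
  classical
  by_cases hB : ∀ (p k : ℕ) (x : G), p.Prime → orderOf x = p ^ k → x ∉ center G →
      ∃ y ∈ (Cl x : Subgroup G), (orderOf y).Coprime p ∧ y ∉ center G
  swap
  · push Not at hB
    obtain ⟨p, k, x, hp, hk, hx, hiso⟩ := hB
    exact ⟨p, hp, coprime_central_of_isolated h hp hk hx fun y hy hyp => hiso y hy hyp⟩
  exfalso
  -- every centraliser of a noncentral element is normal
  have hnormal : ∀ x : G, x ∉ center G → (Cl x : Subgroup G).Normal := by
    intro x hx
    set A := (Cl x : Subgroup G) with hA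
    set N := Subgroup.normalizer (A : Set G) with hN
    have hAN : A ≤ N := le_normalizer
    have hkey : ∀ p : ℕ, p.Prime → p ∣ n → p ∣ A.relIndex N := by
      intro p hp hpn
      haveI := Fact.mk hp
      obtain ⟨t, ht, ⟨k, hk⟩⟩ : ∃ t : G, t ∉ center G ∧ ∃ k, orderOf t = p ^ k := by
        by_contra! hall
        obtain ⟨P⟩ : Nonempty (Sylow p G) := inferInstance
        have hle : (P : Subgroup G) ≤ A := by
          refine le_trans (fun u hu => ?_) (center_le_cl x)
          by_contra huc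
          obtain ⟨i, hi⟩ := (IsPGroup.iff_orderOf.mp P.isPGroup') ⟨u, hu⟩
          exact hall u huc i (by rw [← hi, ← orderOf_coe])
        rw [← h x hx] at hpn
        exact P.not_dvd_index (hpn.trans (index_dvd_of_le hle))
      obtain ⟨s, hs, ⟨i, hi⟩, hsc⟩ := exists_not_mem_center_in_cl h hp hk ht hx
      obtain ⟨S, hS⟩ := (IsPGroup.of_card (G := zpowers (⟨s, hs⟩ : A)) (p := p) (n := i)
        (by rw [Nat.card_zpowers, ← orderOf_coe]; exact hi)).exists_le_sylow
      set S' := (S : Subgroup A).map A.subtype with hS'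
      have hsS : s ∈ S' := ⟨⟨s, hs⟩, hS (mem_zpowers _), rfl⟩
      have hScard : Nat.card S' = p ^ (Nat.card A).factorization p := by
        rw [hS', Nat.card_congr ((S : Subgroup A).equivMapOfInjective _
          (subtype_injective _)).toEquiv.symm, S.card_eq_multiplicity]
      have hsucc : p ^ ((Nat.card A).factorization p + 1) ∣ Nat.card G := by
        rw [← A.card_mul_index, pow_succ]
        exact Nat.mul_dvd_mul (Nat.ordProj_dvd _ _) (by rw [hA, h x hx]; exact hpn)
      obtain ⟨R, hR, hSR⟩ := Sylow.exists_subgroup_card_pow_succ hsucc hScard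
      haveI : (S'.subgroupOf R).Normal := by
        apply Subgroup.normal_of_index_eq_minFac_card
        rw [hR, Nat.Prime.pow_minFac hp (Nat.succ_ne_zero _)]
        refine Nat.eq_of_mul_eq_mul_left (Nat.card_pos (α := S'.subgroupOf R)) ?_
        rw [card_mul_index, Nat.card_congr (subgroupOfEquivOfLe hSR).toEquiv, hScard, hR,
          pow_succ]
      have hRN : R ≤ N := by
        intro r hr
        have hconj : ∀ r ∈ R, ∀ a ∈ A, r * a * r⁻¹ ∈ A := by
          intro r hr a ha
          have hs' : r * s * r⁻¹ ∈ S' :=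
            Subgroup.Normal.conj_mem ‹(S'.subgroupOf R).Normal› ⟨s, hSR hsS⟩ hsS ⟨r, hr⟩
          have hs'c : r * s * r⁻¹ ∉ center G := fun hc => hsc (by
            have : r⁻¹ * (r * s * r⁻¹) * r = r * s * r⁻¹ := by
              rw [mul_assoc, ← Subgroup.mem_center_iff.mp hc r, inv_mul_cancel_left]
            rw [← this] at hc
            rwa [show r⁻¹ * (r * s * r⁻¹) * r = s by group] at hc)
          rw [hA, ← cl_eq_of_mem h hB hx (map_subtype_le _ hs') hs'c, mem_cl_iff]
          exact (commute_in_cl h hB hx ha hs).map (MulAut.conj r)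
        rw [hN, Subgroup.mem_normalizer_iff]
        refine fun a => ⟨hconj r hr a, fun ha => ?_⟩
        have := hconj r⁻¹ (inv_mem hr) _ ha
        simpa [mul_assoc] using this
      have hd := card_dvd_of_le hRN
      rw [hR, ← relIndex_bot_left N, ← relIndex_mul_relIndex ⊥ A N bot_le hAN,
        relIndex_bot_left] at hd
      by_contra hnd
      have h1 := (Nat.Coprime.dvd_of_dvd_mul_right
        ((hp.coprime_iff_not_dvd.mpr hnd).pow_left _) hd)
      have h2 := (hp.pow_dvd_iff_le_factorization Nat.card_pos.ne').mp h1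
      omega
    have hidx : A.relIndex N * N.index = n := by
      rw [relIndex_mul_index hAN, hA, h x hx]
    have hN1 : N.index = 1 := by
      by_contra hne1
      obtain ⟨r, hr, hrd⟩ := Nat.exists_prime_and_dvd hne1
      have hrn : r ∣ n := hidx ▸ hrd.mul_left _
      exact not_sq_dvd h hB ⟨x, hx⟩ hr (by rw [← hidx, sq]; exact Nat.mul_dvd_mul (hkey r hr hrn) hrd)
    rw [index_eq_one] at hN1
    exact normalizer_eq_top_iff.mp hN1
  obtain ⟨x, hx⟩ := hne
  obtain ⟨w, hw⟩ : ∃ w : G, w ∉ (Cl x : Subgroup G) := by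
    by_contra! hall
    exact hx (Subgroup.mem_center_iff.mpr fun g => mem_cl_iff.mp (hall g))
  have hwc : w ∉ center G := fun hc => hw (center_le_cl x hc)
  obtain ⟨p, k, a, hp, hpk, hac⟩ := exists_primary_not_mem hx
  obtain ⟨t, htw, htc, htp⟩ :
      ∃ t ∈ (Cl w : Subgroup G), t ∉ center G ∧ (orderOf t).Coprime p := by
    obtain ⟨q, j, b, hq, hqj, hbc⟩ := exists_primary_not_mem hwc
    by_cases hqp : q = p
    · subst hqp
      obtain ⟨t, ht, htp, htc⟩ := hB q j _ hq hqj hbc
      refine ⟨t, ?_, htc, htp⟩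
      rw [cl_eq_of_le h hbc (cl_le_pow w b)]
      exact ht
    · exact ⟨w ^ b, pow_mem (mem_cl_self w) b, hbc,
        by rw [hqj]; exact ((Nat.coprime_primes hq hp).mpr hqp).pow_left j⟩
  have hAx : (Cl (x ^ a) : Subgroup G) = (Cl x : Subgroup G) :=
    cl_eq_of_mem h hB hx (pow_mem (mem_cl_self x) a) hac
  have hBw : (Cl t : Subgroup G) = (Cl w : Subgroup G) := cl_eq_of_mem h hB hwc htw htc
  have hne' : (Cl x : Subgroup G) ≠ (Cl w : Subgroup G) := fun he => hw (he ▸ mem_cl_self w)
  have hz : x ^ a * t * (x ^ a)⁻¹ * t⁻¹ ∈ center G := by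
    by_contra hzc
    have h1 : x ^ a * t * (x ^ a)⁻¹ * t⁻¹ ∈ (Cl x : Subgroup G) := by
      have hm : x ^ a ∈ (Cl x : Subgroup G) := pow_mem (mem_cl_self x) a
      have := mul_mem hm ((hnormal x hx).conj_mem _ (inv_mem hm) t)
      simpa [mul_assoc] using this
    have h2 : x ^ a * t * (x ^ a)⁻¹ * t⁻¹ ∈ (Cl w : Subgroup G) :=
      mul_mem ((hnormal w hwc).conj_mem _ htw _) (inv_mem htw)
    exact hne' ((cl_eq_of_mem h hB hx h1 hzc).symm.trans (cl_eq_of_mem h hB hwc h2 hzc))
  have hcomm := commute_of_commutator_central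
    (by rw [hpk]; exact htp.symm.pow_left k) hz
  have h5 : t ∈ (Cl x : Subgroup G) := by rw [← hAx]; exact mem_cl_iff.mpr hcomm.symm
  exact hne' ((cl_eq_of_mem h hB hx h5 htc).symm.trans hBw)

end Hyp

end CfsgLib.FGStruct.ItoTwoSizes
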