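import Cfsg.Agent.Lib.Transfer.PResidual
import Cfsg.Agent.Lib.Transfer.Tate
import Cfsg.Agent.Lib.PNilpotent.Basic
import Cfsg.Agent.Lib.Solvable.Basic
import Cfsg.Agent.Lib.FGStruct.PPowerClass

/-!
Groups in which no class size is divisible by the square of the smallest prime `p` of the group
order have a normal `p`-complement.

Elementary proof: `p`-th powers and commutators of a Sylow `p`-subgroup are central; in a minimal
counterexample the Sylow subgroup is abelian and `N(P)/C(P)` acts semiregularly on it; then there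
are fewer `p`-singular elements than elements of order prime to `p`, although each of the latter
centralizes a nontrivial `p`-element.
-/

set_option autoImplicit false
set_option linter.style.haveILetI false
set_option linter.unusedSectionVars false

open Cfsg

namespace CfsgLib.FGStruct.ClassPSq

universe u

section Basic

variable {G : Type*} [Group G] [Finite G] {p : ℕ} [hp : Fact p.Prime]

/-- A `p`-subgroup centralizing `x` lies in a Sylow subgroup of which `C(x)` contains a subgroup
of index dividing `p`. -/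
theorem exists_sylow_relIndex {x : G}
    (hx : ¬ p ^ 2 ∣ (Subgroup.centralizer ({x} : Set G)).index) {Q : Subgroup G}
    (hQ : IsPGroup p Q) (hQC : Q ≤ Subgroup.centralizer ({x} : Set G)) :
    ∃ S : Sylow p G, Q ≤ (S : Subgroup G) ∧
      (Subgroup.centralizer ({x} : Set G)).relIndex (S : Subgroup G) ∣ p := by
  set C := Subgroup.centralizer ({x} : Set G) with hC
  obtain ⟨R, hR⟩ := (hQ.comap_of_injective C.subtype C.subtype_injective).exists_le_sylow
  obtain ⟨S, hS⟩ := (R.isPGroup'.map C.subtype).exists_le_sylow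
  refine ⟨S, fun q hq => hS ⟨⟨q, hQC hq⟩, hR hq, rfl⟩, ?_⟩
  have hRS : (R : Subgroup C).map C.subtype ≤ C ⊓ (S : Subgroup G) :=
    le_inf (Subgroup.map_subtype_le _) hS
  have hd : Nat.card (S : Subgroup G) ∣ Nat.card ↥(C ⊓ (S : Subgroup G)) * p := by
    rw [S.card_eq_multiplicity]
    refine dvd_trans ?_ (Nat.mul_dvd_mul_right (Subgroup.card_dvd_of_le hRS) p)
    rw [Subgroup.card_map_of_injective C.subtype_injective, R.card_eq_multiplicity, ← pow_succ]
    refine pow_dvd_pow _ ?_
    rw [← C.card_mul_index, Nat.factorization_mul Nat.card_pos.ne' Subgroup.index_ne_zero_of_finite,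
      Finsupp.add_apply]
    by_contra hlt
    refine hx ((pow_dvd_pow p ?_).trans (Nat.ordProj_dvd C.index p))
    omega
  rw [← CfsgLib.Solvable.card_inf_mul_relIndex C (S : Subgroup G)] at hd
  exact Nat.dvd_of_mul_dvd_mul_left Nat.card_pos hd

/-- Conversely. -/
theorem not_sq_dvd_of_sylow (C : Subgroup G) (S : Sylow p G)
    (hS : C.relIndex (S : Subgroup G) ∣ p) : ¬ p ^ 2 ∣ C.index := by
  intro h
  obtain ⟨n, hn⟩ := IsPGroup.iff_card.1 S.isPGroup'
  have h1 : Nat.card ↥(C ⊓ (S : Subgroup G)) * C.relIndex (S : Subgroup G) = p ^ n :=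
    (CfsgLib.Solvable.card_inf_mul_relIndex C _).trans hn
  have h2 : p ^ n ∣ Nat.card ↥(C ⊓ (S : Subgroup G)) * p := h1 ▸ Nat.mul_dvd_mul_left _ hS
  have h3 : Nat.card ↥(C ⊓ (S : Subgroup G)) * p ^ 2 ∣ Nat.card G := by
    rw [← C.card_mul_index]
    exact Nat.mul_dvd_mul (Subgroup.card_dvd_of_le inf_le_left) h
  have h4 : p ^ (n + 1) ∣ Nat.card G := by
    refine dvd_trans ?_ h3
    rw [pow_succ, pow_two, ← mul_assoc]
    exact Nat.mul_dvd_mul_right h2 p
  have h5 := S.pow_dvd_card_of_pow_dvd_card h4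
  rw [hn, Nat.pow_dvd_pow_iff_le_right hp.out.one_lt] at h5
  omega

/-- In a normal subgroup the index of a centralizer divides the one in the group. -/
theorem relIndex_dvd_index_of_normal' (C N : Subgroup G) [N.Normal] : C.relIndex N ∣ C.index := by
  refine Dvd.dvd.trans ?_
    (Dvd.intro _ (Subgroup.relIndex_mul_index (le_sup_right : C ≤ N ⊔ C)) : C.relIndex (N ⊔ C) ∣ C.index)
  have h1 := CfsgLib.Solvable.card_inf_mul_relIndex C N
  have h2 := CfsgLib.Solvable.card_inf_mul_relIndex C (N ⊔ C)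
  have h3 := CfsgLib.Solvable.card_inf_mul_relIndex N C
  have h4 := CfsgLib.Solvable.card_inf_mul_relIndex N (N ⊔ C)
  rw [inf_eq_left.2 (le_sup_right : C ≤ N ⊔ C)] at h2
  rw [inf_eq_left.2 (le_sup_left : N ≤ N ⊔ C),
    CfsgLib.Solvable.relIndex_sup_of_le_normalizer
      (by rw [Subgroup.normalizer_eq_top]; exact le_top)] at h4
  rw [inf_comm] at h3
  refine dvd_of_eq (Nat.eq_of_mul_eq_mul_left (Nat.card_pos (α := ↥(C ⊓ N))) ?_)
  refine Nat.eq_of_mul_eq_mul_right (Nat.pos_of_ne_zero
    (Subgroup.index_ne_zero_of_finite (H := N.subgroupOf C))) ?_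
  show Nat.card ↥(C ⊓ N) * C.relIndex N * N.relIndex C =
    Nat.card ↥(C ⊓ N) * C.relIndex (N ⊔ C) * N.relIndex C
  rw [h1, h4, mul_right_comm, h3, h2]

theorem centralizer_subtype {N : Subgroup G} (x : N) :
    (Subgroup.centralizer ({x} : Set N)) =
      (Subgroup.centralizer ({(x : G)} : Set G)).subgroupOf N := by
  ext y
  simp only [Subgroup.mem_subgroupOf, Subgroup.mem_centralizer_singleton_iff]
  exact ⟨fun h => congrArg Subtype.val h, fun h => Subtype.ext h⟩

theorem index_centralizer_dvd_of_normal (N : Subgroup G) [N.Normal] (x : N) :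
    (Subgroup.centralizer ({x} : Set N)).index ∣ (Subgroup.centralizer ({(x : G)} : Set G)).index := by
  rw [centralizer_subtype x]
  exact relIndex_dvd_index_of_normal' _ _

theorem index_centralizer_dvd_of_surjective {K : Type*} [Group K] (f : G →* K)
    (hf : Function.Surjective f) (x : G) :
    (Subgroup.centralizer ({f x} : Set K)).index ∣ (Subgroup.centralizer ({x} : Set G)).index := by
  refine (Subgroup.index_dvd_of_le ?_).trans (Subgroup.index_map_dvd _ hf)
  rintro _ ⟨y, hy, rfl⟩
  rw [Subgroup.mem_centralizer_singleton_iff, ← map_mul, ← map_mul,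
    Subgroup.mem_centralizer_singleton_iff.1 hy]

/-- A subgroup of index dividing `p` in a `p`-group contains the `p`-th powers and the commutators. -/
theorem pow_and_commutator_mem (D S : Subgroup G) (hS : IsPGroup p S) (h : D.relIndex S ∣ p)
    {a b : G} (ha : a ∈ S) (hb : b ∈ S) : a ^ p ∈ D ∧ a * b * a⁻¹ * b⁻¹ ∈ D := by
  set D' := D.subgroupOf S with hD'
  haveI hn : D'.Normal := by
    rcases (Nat.dvd_prime hp.out).1 h with h1 | h1
    · rw [show D' = ⊤ from Subgroup.index_eq_one.1 h1]; infer_instance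
    · refine Subgroup.normal_of_index_eq_minFac_card ?_
      rw [show D'.index = p from h1]
      obtain ⟨n, hn⟩ := IsPGroup.iff_card.1 hS
      rcases Nat.eq_zero_or_pos n with rfl | hn0
      · have h2 : D'.index ∣ 1 := by simpa [hn] using D'.index_dvd_card
        rw [Nat.dvd_one, show D'.index = p from h1] at h2
        exact absurd h2 hp.out.ne_one
      · rw [hn, Nat.pow_minFac hn0.ne', hp.out.minFac_eq]
  have hq : Nat.card (S ⧸ D') ∣ p := by rw [← Subgroup.index_eq_card]; exact h
  refine ⟨?_, ?_⟩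
  · have : ((⟨a, ha⟩ : S) : S ⧸ D') ^ p = 1 :=
      orderOf_dvd_iff_pow_eq_one.1 ((orderOf_dvd_natCard _).trans hq)
    rw [← QuotientGroup.mk_pow, QuotientGroup.eq_one_iff] at this
    exact this
  · have hcomm : ((⟨a, ha⟩ : S) : S ⧸ D') * ((⟨b, hb⟩ : S) : S ⧸ D') =
        ((⟨b, hb⟩ : S) : S ⧸ D') * ((⟨a, ha⟩ : S) : S ⧸ D') := by
      rcases (Nat.dvd_prime hp.out).1 hq with h1 | h1
      · haveI : Subsingleton (S ⧸ D') := (Nat.card_eq_one_iff_unique.1 h1).1
        exact Subsingleton.elim _ _
      · haveI := isCyclic_of_prime_card h1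
        exact (IsCyclic.commutative (α := S ⧸ D')).is_comm.comm _ _
    have h2 : ((⟨a, ha⟩ * ⟨b, hb⟩ * (⟨a, ha⟩ : S)⁻¹ * (⟨b, hb⟩ : S)⁻¹ : S) : S ⧸ D') = 1 := by
      rw [QuotientGroup.mk_mul, QuotientGroup.mk_mul, QuotientGroup.mk_mul, QuotientGroup.mk_inv,
        QuotientGroup.mk_inv, hcomm]
      group
    rw [QuotientGroup.eq_one_iff] at h2
    exact h2

/-- If no class size is divisible by `p ^ 2`, then the `p`-th powers and the commutators of a Sylow
`p`-subgroup are central in the group. -/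
theorem pow_and_commutator_central
    (h : ∀ x : G, ¬ p ^ 2 ∣ (Subgroup.centralizer ({x} : Set G)).index) (P : Sylow p G)
    {a b : G} (ha : a ∈ (P : Subgroup G)) (hb : b ∈ (P : Subgroup G)) :
    a ^ p ∈ Subgroup.center G ∧ a * b * a⁻¹ * b⁻¹ ∈ Subgroup.center G := by
  set U := Subgroup.centralizer ({a ^ p, a * b * a⁻¹ * b⁻¹} : Set G) with hU
  have htop : U = ⊤ := by
    refine CfsgLib.FGStruct.PPowerClass.eq_top_of_conj_cover U fun x => ?_
    obtain ⟨S, -, hS⟩ := exists_sylow_relIndex (h x) (Q := ⊥) IsPGroup.of_bot bot_le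
    obtain ⟨g, rfl⟩ := MulAction.exists_smul_eq G P S
    have hga : ∀ y ∈ (P : Subgroup G), g * y * g⁻¹ ∈ ((g • P : Sylow p G) : Subgroup G) := fun y hy => by
      rw [Sylow.coe_subgroup_smul]
      exact Subgroup.smul_mem_pointwise_smul y (MulAut.conj g) _ hy
    obtain ⟨h1, h2⟩ := pow_and_commutator_mem _ _ (g • P).isPGroup' hS (hga a ha) (hga b hb)
    refine ⟨g, Subgroup.mem_centralizer_iff.2 ?_⟩
    rintro y (rfl | rfl)
    · rw [conj_pow] at h1
      have h3 := Subgroup.mem_centralizer_singleton_iff.1 h1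
      calc a ^ p * (g⁻¹ * x * g) = g⁻¹ * ((g * a ^ p * g⁻¹) * x) * g := by group
        _ = g⁻¹ * (x * (g * a ^ p * g⁻¹)) * g := by rw [h3]
        _ = g⁻¹ * x * g * a ^ p := by group
    · have e : g * a * g⁻¹ * (g * b * g⁻¹) * (g * a * g⁻¹)⁻¹ * (g * b * g⁻¹)⁻¹ =
          g * (a * b * a⁻¹ * b⁻¹) * g⁻¹ := by group
      rw [e] at h2
      have h3 := Subgroup.mem_centralizer_singleton_iff.1 h2
      calc a * b * a⁻¹ * b⁻¹ * (g⁻¹ * x * g) = g⁻¹ * ((g * (a * b * a⁻¹ * b⁻¹) * g⁻¹) * x) * g := by group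
        _ = g⁻¹ * (x * (g * (a * b * a⁻¹ * b⁻¹) * g⁻¹)) * g := by rw [h3]
        _ = g⁻¹ * x * g * (a * b * a⁻¹ * b⁻¹) := by group
  have key : ∀ y ∈ ({a ^ p, a * b * a⁻¹ * b⁻¹} : Set G), y ∈ Subgroup.center G := fun y hy =>
    Subgroup.mem_center_iff.2 fun z =>
      (Subgroup.mem_centralizer_iff.1 (htop ▸ Subgroup.mem_top z : z ∈ U) y hy).symm
  exact ⟨key _ (Set.mem_insert _ _), key _ (Set.mem_insert_of_mem _ rfl)⟩

/-- A normal `p`-complement of a quotient by a central `p`-subgroup lifts. -/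
theorem hasNormalPComplement_of_central_quotient (Z : Subgroup G) [Z.Normal]
    (hZ : Z ≤ Subgroup.center G) (hZp : IsPGroup p Z) (h : HasNormalPComplement p (G ⧸ Z)) :
    HasNormalPComplement p G := by
  rw [CfsgLib.Transfer.hasNormalPComplement_iff_frobenius] at h ⊢
  intro D hD g hg hgc
  rw [Subgroup.mem_centralizer_iff]
  intro d hd
  have h1 := h (D.map (QuotientGroup.mk' Z)) (hD.map _) (g : G ⧸ Z)
    (Subgroup.le_normalizer_map _ ⟨g, hg, rfl⟩)
    (Nat.Coprime.coprime_dvd_left (orderOf_map_dvd (QuotientGroup.mk' Z) g) hgc)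
  have h2 := Subgroup.mem_centralizer_iff.1 h1 _ ⟨d, hd, rfl⟩
  simp only [QuotientGroup.mk'_apply] at h2
  have hz : g * d * g⁻¹ * d⁻¹ ∈ Z := by
    rw [← QuotientGroup.eq_one_iff, QuotientGroup.mk_mul, QuotientGroup.mk_mul, QuotientGroup.mk_mul,
      QuotientGroup.mk_inv, QuotientGroup.mk_inv, ← h2]
    group
  set z := g * d * g⁻¹ * d⁻¹ with hzdef
  have hzc := Subgroup.mem_center_iff.1 (hZ hz)
  have hk : ∀ k : ℕ, g ^ k * d * (g ^ k)⁻¹ = z ^ k * d := by
    intro k
    induction k with
    | zero => simp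
    | succ k ih =>
      calc g ^ (k + 1) * d * (g ^ (k + 1))⁻¹ = g * (g ^ k * d * (g ^ k)⁻¹) * g⁻¹ := by
            rw [pow_succ']; group
        _ = g * z ^ k * g⁻¹ * (g * d * g⁻¹ * d⁻¹) * d := by rw [ih]; group
        _ = z ^ k * z * d := by
          rw [((Commute.pow_right (show Commute g z from hzc g) k).eq : g * z ^ k = z ^ k * g),
            mul_inv_cancel_right]
        _ = z ^ (k + 1) * d := by rw [pow_succ]
  have h3 := hk (orderOf g)
  rw [pow_orderOf_eq_one, one_mul, inv_one, mul_one, right_eq_mul] at h3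
  obtain ⟨j, hj⟩ := IsPGroup.iff_orderOf.1 hZp ⟨z, hz⟩
  rw [Subgroup.orderOf_mk] at hj
  have hz1 : z = 1 := orderOf_eq_one_iff.1 (Nat.eq_one_of_dvd_coprimes (hgc.symm.pow_left j)
    (hj ▸ dvd_rfl) (orderOf_dvd_of_pow_eq_one h3))
  rw [hzdef, mul_inv_eq_one, mul_inv_eq_iff_eq_mul] at hz1
  exact hz1.symm

end Basic

section Main

variable {G : Type u} [Group G] [Finite G] {p : ℕ} [hp : Fact p.Prime]

/-- The counting step: if the centralizer of each nontrivial `p`-element has a normal `p`-complement,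
and each element of order prime to `p` centralizes a nontrivial `p`-element, then the abelian Sylow
subgroup is central in its normalizer. -/
theorem normalizer_le_centralizer_of_cover (P : Sylow p G) (hab : IsMulCommutative (P : Subgroup G))
    (hloc : ∀ u : G, u ≠ 1 → (∃ k, orderOf u = p ^ k) →
      HasNormalPComplement p (Subgroup.centralizer ({u} : Set G)))
    (hcov : ∀ x : G, (orderOf x).Coprime p →
      ∃ u : G, u ≠ 1 ∧ (∃ k, orderOf u = p ^ k) ∧ Commute x u) :
    Subgroup.normalizer ((P : Subgroup G) : Set G) ≤ Subgroup.centralizer ((P : Subgroup G) : Set G) := by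
  classical
  haveI : Fintype G := Fintype.ofFinite G
  by_contra hne
  set c := Nat.card (Subgroup.centralizer ((P : Subgroup G) : Set G)) with hc
  -- every Sylow subgroup is abelian
  have habS : ∀ (S : Sylow p G), ∀ a ∈ (S : Subgroup G), ∀ b ∈ (S : Subgroup G), a * b = b * a := by
    intro S a ha b hb
    exact congrArg Subtype.val ((P.equiv S).symm.injective (a₁ := ⟨a, ha⟩ * ⟨b, hb⟩)
      (a₂ := ⟨b, hb⟩ * ⟨a, ha⟩) (by rw [map_mul, map_mul, hab.is_comm.comm]))
  have hSC : ∀ (S : Sylow p G) (u : G), u ∈ (S : Subgroup G) →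
      (S : Subgroup G) ≤ Subgroup.centralizer ({u} : Set G) := fun S u hu a ha =>
    Subgroup.mem_centralizer_singleton_iff.2 (habS S a ha u hu)
  have hpow : ∀ (S : Sylow p G) (u : G), u ∈ (S : Subgroup G) → ∃ k, orderOf u = p ^ k := fun S u hu => by
    obtain ⟨k, hk⟩ := IsPGroup.iff_orderOf.1 S.isPGroup' ⟨u, hu⟩
    exact ⟨k, by rwa [Subgroup.orderOf_mk] at hk⟩
  -- semiregularity
  have hsemi : ∀ (S : Sylow p G) (u : G), u ∈ (S : Subgroup G) → u ≠ 1 →
      ∀ g ∈ Subgroup.normalizer ((S : Subgroup G) : Set G), g * u = u * g →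
        g ∈ Subgroup.centralizer ((S : Subgroup G) : Set G) := by
    intro S u hu hu1 g hg hgu
    set C := Subgroup.centralizer ({u} : Set G) with hC
    have hgC : g ∈ C := Subgroup.mem_centralizer_singleton_iff.2 hgu
    have hSu := hSC S u hu
    have hCn := hloc u hu1 (hpow S u hu)
    obtain ⟨a, b, hab', ha, hb⟩ := CfsgLib.PNilpotent.exists_pPart_decomp (p := p) g
    set T := (S : Subgroup G).subgroupOf C with hT
    have hTn : ∀ k : ℕ, (⟨g, hgC⟩ : C) ^ k ∈ Subgroup.normalizer (T : Set C) := by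
      intro k
      refine Subgroup.pow_mem _ ?_ k
      rw [Subgroup.mem_normalizer_iff]
      intro y
      exact Subgroup.mem_normalizer_iff.1 hg y
    have hb' : g ^ b ∈ Subgroup.centralizer ((S : Subgroup G) : Set G) := by
      have h1 := CfsgLib.Transfer.HasNormalPComplement.mem_centralizer hCn
        (D := T) (S.isPGroup'.comap_of_injective C.subtype C.subtype_injective) (hTn b)
        (by rw [← Subgroup.orderOf_coe]; simpa using hb)
      rw [Subgroup.mem_centralizer_iff] at h1 ⊢
      intro y hy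
      simpa using congrArg Subtype.val (h1 ⟨y, hSu hy⟩ hy)
    have ha' : g ^ a ∈ Subgroup.centralizer ((S : Subgroup G) : Set G) := by
      obtain ⟨k, hk⟩ := ha
      have hgaN : g ^ a ∈ Subgroup.normalizer ((S : Subgroup G) : Set G) := Subgroup.pow_mem _ hg a
      have hle : Subgroup.zpowers (g ^ a) ≤ Subgroup.normalizer ((S : Subgroup G) : Set G) :=
        Subgroup.zpowers_le.2 hgaN
      have hz : IsPGroup p (Subgroup.zpowers (g ^ a)) := IsPGroup.of_card (n := k) (by rw [Nat.card_zpowers, hk])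
      have hmem : g ^ a ∈ (S : Subgroup G) :=
        (S.3 (hz.to_sup_of_normal_right' S.isPGroup' hle) le_sup_right).le
          (le_sup_left (a := Subgroup.zpowers (g ^ a)) (Subgroup.mem_zpowers _))
      exact Subgroup.mem_centralizer_iff.2 fun y hy => habS S y hy _ hmem
    rw [← hab']
    exact mul_mem ha' hb'
  -- the centralizers of the Sylow subgroups all have order `c`
  have hcS : ∀ S : Sylow p G, Nat.card (Subgroup.centralizer ((S : Subgroup G) : Set G)) = c := by
    intro S
    obtain ⟨g, rfl⟩ := MulAction.exists_smul_eq G P S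
    rw [hc, ← Subgroup.card_map_of_injective (f := (MulAut.conj g).toMonoidHom)
      (MulAut.conj g).injective (K := Subgroup.centralizer ((P : Subgroup G) : Set G))]
    congr 2
    ext y
    simp only [Subgroup.mem_map, Subgroup.mem_centralizer_iff, Sylow.coe_subgroup_smul,
      MulEquiv.coe_toMonoidHom, MulAut.conj_apply, SetLike.mem_coe,
      CfsgLib.Solvable.mem_conj_smul]
    constructor
    · intro hy
      refine ⟨g⁻¹ * y * g, fun z hz => ?_, by group⟩
      have h1 := hy (g * z * g⁻¹) (by simpa [mul_assoc] using hz)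
      calc z * (g⁻¹ * y * g) = g⁻¹ * ((g * z * g⁻¹) * y) * g := by group
        _ = g⁻¹ * (y * (g * z * g⁻¹)) * g := by rw [h1]
        _ = g⁻¹ * y * g * z := by group
    · rintro ⟨w, hw, rfl⟩ z hz
      have h1 := hw _ hz
      calc z * (g * w * g⁻¹) = g * ((g⁻¹ * z * g) * w) * g⁻¹ := by group
        _ = g * (w * (g⁻¹ * z * g)) * g⁻¹ := by rw [h1]
        _ = g * w * g⁻¹ * z := by group
  -- Sylow subgroups containing a given element
  have hcount : ∀ u : G, u ≠ 1 → (∃ k, orderOf u = p ^ k) →
      Nat.card {S : Sylow p G // u ∈ (S : Subgroup G)} * c =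
        Nat.card (Subgroup.centralizer ({u} : Set G)) := by
    intro u hu1 hu
    set C := Subgroup.centralizer ({u} : Set G) with hC
    obtain ⟨k, hk⟩ := hu
    obtain ⟨S₀, hS₀⟩ := (IsPGroup.of_card (p := p) (G := Subgroup.zpowers u) (n := k)
      (by rw [Nat.card_zpowers, hk])).exists_le_sylow
    have hu₀ : u ∈ (S₀ : Subgroup G) := hS₀ (Subgroup.mem_zpowers u)
    have horbit : MulAction.orbit C S₀ = {S : Sylow p G | u ∈ (S : Subgroup G)} := by
      ext S
      constructor
      · rintro ⟨⟨g, hg⟩, rfl⟩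
        show u ∈ ((g • S₀ : Sylow p G) : Subgroup G)
        rw [Sylow.coe_subgroup_smul, CfsgLib.Solvable.mem_conj_smul,
          mul_assoc, ← Subgroup.mem_centralizer_singleton_iff.1 hg, inv_mul_cancel_left]
        exact hu₀
      · intro hS
        obtain ⟨g, hg⟩ := MulAction.exists_smul_eq C (S₀.subtype (hSC S₀ u hu₀)) (S.subtype (hSC S u hS))
        rw [Sylow.smul_subtype] at hg
        exact ⟨g, Sylow.subtype_injective hg⟩
    have hstab : MulAction.stabilizer C S₀ =
        (Subgroup.centralizer ((S₀ : Subgroup G) : Set G)).subgroupOf C := by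
      ext g
      rw [MulAction.mem_stabilizer_iff, Subgroup.mem_subgroupOf]
      change (g : G) • S₀ = S₀ ↔ _
      rw [Sylow.smul_eq_iff_mem_normalizer]
      exact ⟨fun h => hsemi S₀ u hu₀ hu1 _ h (Subgroup.mem_centralizer_singleton_iff.1 g.2),
        fun h => Subgroup.centralizer_le_normalizer _ h⟩
    have hle : Subgroup.centralizer ((S₀ : Subgroup G) : Set G) ≤ C := fun g hg =>
      Subgroup.mem_centralizer_singleton_iff.2 (Subgroup.mem_centralizer_iff.1 hg u hu₀).symm
    have h1 := Nat.card_congr (MulAction.orbitProdStabilizerEquivGroup C S₀)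
    rw [Nat.card_prod, hstab, Nat.card_congr (Subgroup.subgroupOfEquivOfLe hle).toEquiv, hcS,
      horbit] at h1
    exact h1
  -- elements of order prime to `p` in the centralizers
  have hK : ∀ u : G, u ≠ 1 → (∃ k, orderOf u = p ^ k) →
      Nat.card {x : G // (orderOf x).Coprime p ∧ Commute x u} * Nat.card (P : Subgroup G) =
        Nat.card (Subgroup.centralizer ({u} : Set G)) := by
    intro u hu1 hu
    set C := Subgroup.centralizer ({u} : Set G) with hC
    obtain ⟨k, hk⟩ := id hu
    obtain ⟨S₀, hS₀⟩ := (IsPGroup.of_card (p := p) (G := Subgroup.zpowers u) (n := k)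
      (by rw [Nat.card_zpowers, hk])).exists_le_sylow
    have hn := hloc u hu1 hu
    have h1 := (CfsgLib.Transfer.HasNormalPComplement.isComplement' hn
      (S₀.subtype (hSC S₀ u (hS₀ (Subgroup.mem_zpowers u))))).card_mul_card
    rw [Sylow.coe_subtype, Nat.card_congr (Subgroup.subgroupOfEquivOfLe
      (hSC S₀ u (hS₀ (Subgroup.mem_zpowers u)))).toEquiv,
      ← Nat.card_congr (P.equiv S₀).toEquiv] at h1
    rw [← h1]
    congr 1
    refine Nat.card_congr
      { toFun := fun x => ⟨⟨x.1, Subgroup.mem_centralizer_singleton_iff.2 x.2.2.eq⟩,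
          (CfsgLib.Transfer.mem_pResidual_iff_of_hasNormalPComplement hn _).2
            (by rw [← Subgroup.orderOf_coe]; exact x.2.1)⟩
        invFun := fun x => ⟨x.1.1, by
          refine ⟨?_, Subgroup.mem_centralizer_singleton_iff.1 x.1.2⟩
          rw [Subgroup.orderOf_coe]
          exact (CfsgLib.Transfer.mem_pResidual_iff_of_hasNormalPComplement hn _).1 x.2⟩
        left_inv := fun x => rfl
        right_inv := fun x => rfl }
  let U := {u : G // u ≠ 1 ∧ ∃ k, orderOf u = p ^ k}
  let R := fun u : U => {x : G // (orderOf x).Coprime p ∧ Commute x u.1}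
  haveI : Fintype U := Fintype.ofFinite U
  set s := Nat.card (Σ u : U, R u) with hs
  -- every element corresponds to such a pair, at most twice
  have hG : Nat.card G ≤ 2 * s := by
    have hex : ∀ x : {x : G // (orderOf x).Coprime p}, ∃ u : U, Commute x.1 u.1 := fun x => by
      obtain ⟨u, h1, h2, h3⟩ := hcov x.1 x.2
      exact ⟨⟨u, h1, h2⟩, h3⟩
    choose w hw using hex
    have hdec : ∀ x : G, ∃ a b : ℕ, x ^ a * x ^ b = x ∧ (∃ k, orderOf (x ^ a) = p ^ k) ∧
        (orderOf (x ^ b)).Coprime p := fun x => CfsgLib.PNilpotent.exists_pPart_decomp x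
    choose A B hAB hA hB using hdec
    have hsing : ∀ x : G, ¬ (orderOf x).Coprime p → x ^ A x ≠ 1 := by
      intro x hx h1
      apply hx
      have h2 := hAB x
      rw [h1, one_mul] at h2
      conv => arg 1; rw [← h2]
      exact hB x
    let f : G → Bool × (Σ u : U, R u) := fun x =>
      if hx : (orderOf x).Coprime p then (true, ⟨w ⟨x, hx⟩, x, hx, hw ⟨x, hx⟩⟩)
      else (false, ⟨⟨x ^ A x, hsing x hx, hA x⟩, x ^ B x, hB x, Commute.pow_pow_self x _ _⟩)
    have hf : Function.Injective f := by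
      intro x y hxy
      by_cases hx : (orderOf x).Coprime p <;> by_cases hy : (orderOf y).Coprime p
      · simp only [f, dif_pos hx, dif_pos hy] at hxy
        exact congrArg (fun t : Bool × (Σ u : U, R u) => t.2.2.1) hxy
      · exact absurd (congrArg Prod.fst hxy) (by simp only [f, dif_pos hx, dif_neg hy]; decide)
      · exact absurd (congrArg Prod.fst hxy) (by simp only [f, dif_neg hx, dif_pos hy]; decide)
      · simp only [f, dif_neg hx, dif_neg hy] at hxy
        have e1 : x ^ A x = y ^ A y := congrArg (fun t : Bool × (Σ u : U, R u) => t.2.1.1) hxy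
        have e2 : x ^ B x = y ^ B y := congrArg (fun t : Bool × (Σ u : U, R u) => t.2.2.1) hxy
        rw [← hAB x, ← hAB y, e1, e2]
    calc Nat.card G ≤ Nat.card (Bool × (Σ u : U, R u)) := Nat.card_le_card_of_injective f hf
      _ = 2 * s := by simp [Nat.card_prod, hs]
  -- count the pairs
  have hsP : s * Nat.card (P : Subgroup G) =
      c * (Nat.card (Sylow p G) * (Nat.card (P : Subgroup G) - 1)) := by
    rw [hs, Nat.card_sigma, Finset.sum_mul, Finset.sum_congr rfl (g := fun u : U =>
      c * Nat.card {S : Sylow p G // u.1 ∈ (S : Subgroup G)})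
      (fun u _ => by rw [hK u.1 u.2.1 u.2.2, ← hcount u.1 u.2.1 u.2.2, mul_comm]),
      ← Finset.mul_sum, ← Nat.card_sigma]
    congr 1
    haveI : Fintype (Sylow p G) := Fintype.ofFinite _
    calc Nat.card (Σ u : U, {S : Sylow p G // u.1 ∈ (S : Subgroup G)}) =
          Nat.card (Σ S : Sylow p G, {u : G // u ∈ (S : Subgroup G) ∧ u ≠ 1}) :=
        Nat.card_congr
          { toFun := fun t => ⟨t.2.1, t.1.1, t.2.2, t.1.2.1⟩
            invFun := fun t => ⟨⟨t.2.1, t.2.2.2, hpow t.1 t.2.1 t.2.2.1⟩, t.1, t.2.2.1⟩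
            left_inv := fun t => rfl
            right_inv := fun t => rfl }
      _ = _ := by
        rw [Nat.card_sigma, Finset.sum_congr rfl (g := fun _ => Nat.card (P : Subgroup G) - 1)
          (fun S _ => ?_), Finset.sum_const, Finset.card_univ, smul_eq_mul, Nat.card_eq_fintype_card (α := Sylow p G)]
        rw [Nat.card_congr (P.equiv S).toEquiv, ← SetLike.coe_sort_coe, Nat.card_coe_set_eq,
          ← Set.ncard_sdiff_singleton_of_mem (show (1 : G) ∈ ((S : Subgroup G) : Set G) from one_mem _),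
          ← Nat.card_coe_set_eq]
        rfl
  have hnc : 2 * c ≤ Nat.card (Subgroup.normalizer ((P : Subgroup G) : Set G)) := by
    have hle : Subgroup.centralizer ((P : Subgroup G) : Set G) ≤
        Subgroup.normalizer ((P : Subgroup G) : Set G) := Subgroup.centralizer_le_normalizer _
    obtain ⟨m, hm⟩ := Subgroup.card_dvd_of_le hle
    have hm0 : m ≠ 0 := fun h => Nat.card_pos.ne' (by rw [hm, h, mul_zero])
    have hm1 : m ≠ 1 := fun h => hne (Subgroup.eq_of_le_of_card_ge hle (by rw [hm, h, mul_one])).ge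
    rw [hm, mul_comm 2 c]
    exact Nat.mul_le_mul_left _ (by omega)
  have hcardG : Nat.card (Sylow p G) * Nat.card (Subgroup.normalizer ((P : Subgroup G) : Set G)) =
      Nat.card G := by
    rw [P.card_eq_index_normalizer]; exact Subgroup.index_mul_card _
  have h1 : Nat.card G * Nat.card (P : Subgroup G) ≤ Nat.card G * (Nat.card (P : Subgroup G) - 1) :=
    calc Nat.card G * Nat.card (P : Subgroup G) ≤ 2 * s * Nat.card (P : Subgroup G) :=
          Nat.mul_le_mul_right _ hG
      _ = Nat.card (Sylow p G) * (2 * c) * (Nat.card (P : Subgroup G) - 1) := by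
          rw [mul_assoc, hsP]; ring
      _ ≤ _ := by
          rw [← hcardG]
          exact Nat.mul_le_mul_right _ (Nat.mul_le_mul_left _ hnc)
  have h2 : 0 < Nat.card G := Nat.card_pos
  have h3 : 0 < Nat.card (P : Subgroup G) := Nat.card_pos
  have h4 := Nat.le_of_mul_le_mul_left h1 h2
  omega

/-- **Normal `p`-complement for the smallest prime.** -/
theorem hasNormalPComplement (hmin : ∀ r : ℕ, r.Prime → r ∣ Nat.card G → p ≤ r)
    (h : ∀ x : G, ¬ p ^ 2 ∣ (Subgroup.centralizer ({x} : Set G)).index) :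
    HasNormalPComplement p G := by
  classical
  obtain ⟨n, hn⟩ : ∃ n, n = Nat.card G := ⟨_, rfl⟩
  induction n using Nat.strong_induction_on generalizing G with
  | _ n ih =>
  subst hn
  by_cases hpG : p ∣ Nat.card G
  swap
  · exact CfsgLib.Transfer.hasNormalPComplement_of_not_dvd hpG
  by_cases hzc : ∃ z ∈ Subgroup.center G, orderOf z = p
  · obtain ⟨z, hz, hzo⟩ := hzc
    set Z := Subgroup.zpowers z with hZdef
    have hZ : Z ≤ Subgroup.center G := Subgroup.zpowers_le.2 hz
    haveI : Z.Normal := ⟨fun y hy g => by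
      rw [Subgroup.mem_center_iff.1 (hZ hy) g, mul_inv_cancel_right]; exact hy⟩
    have hcard : Nat.card Z = p ^ 1 := by rw [Nat.card_zpowers, hzo, pow_one]
    refine hasNormalPComplement_of_central_quotient Z hZ (IsPGroup.of_card hcard) ?_
    have hlt : Nat.card (G ⧸ Z) < Nat.card G := by
      rw [Subgroup.card_eq_card_quotient_mul_card_subgroup Z, hcard, pow_one]
      exact lt_mul_of_one_lt_right Nat.card_pos hp.out.one_lt
    refine ih _ hlt (G := G ⧸ Z)
      (fun r hr hrd => hmin r hr (hrd.trans (Z.card_quotient_dvd_card))) ?_ rfl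
    intro x hx
    obtain ⟨y, rfl⟩ := QuotientGroup.mk'_surjective Z x
    exact h y (hx.trans (index_centralizer_dvd_of_surjective _ (QuotientGroup.mk'_surjective Z) y))
  inhabit Sylow p G
  set P : Sylow p G := default with hP
  have hnz : ∀ a : G, (∃ k, orderOf a = p ^ k) → a ∈ Subgroup.center G → a = 1 := by
    rintro a ⟨k, hk⟩ ha
    rcases k with _ | k
    · simpa using hk
    · exact absurd ⟨a ^ p ^ k, Subgroup.pow_mem _ ha _, by
        rw [orderOf_pow_of_dvd (pow_pos hp.out.pos k).ne' (hk ▸ pow_dvd_pow p (Nat.le_succ k)), hk,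
          pow_succ, Nat.mul_div_cancel_left _ (pow_pos hp.out.pos k)]⟩ hzc
  have hab : IsMulCommutative (P : Subgroup G) := by
    refine ⟨⟨fun a b => Subtype.ext ?_⟩⟩
    have h1 := (pow_and_commutator_central h P a.2 b.2).2
    obtain ⟨k, hk⟩ := IsPGroup.iff_orderOf.1 P.isPGroup' (a * b * a⁻¹ * b⁻¹)
    have h2 := hnz _ ⟨k, by rw [← Subgroup.orderOf_coe] at hk; simpa using hk⟩ h1
    rw [mul_inv_eq_one, mul_inv_eq_iff_eq_mul] at h2
    exact h2
  refine ⟨P, _, inferInstance, MonoidHom.ker_transferSylow_isComplement' P ?_⟩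
  by_cases hsmall : Nat.card (P : Subgroup G) = p
  · have hG1 : Nat.card G ≠ 1 := fun e => hp.out.ne_one (Nat.dvd_one.1 (e ▸ hpG))
    exact IsCyclic.normalizer_le_centralizer
      (le_antisymm (Nat.minFac_le_of_dvd hp.out.two_le hpG)
        (hmin _ (Nat.minFac_prime hG1) (Nat.minFac_dvd _))) (isCyclic_of_prime_card hsmall)
  have hloc : ∀ u : G, u ≠ 1 → (∃ k, orderOf u = p ^ k) →
      HasNormalPComplement p (Subgroup.centralizer ({u} : Set G)) := by
    intro u hu1 hu
    set C := Subgroup.centralizer ({u} : Set G) with hC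
    have hlt : Nat.card C < Nat.card G := by
      refine lt_of_le_of_ne (Subgroup.card_le_card_group C) fun e => hu1 (hnz u hu ?_)
      exact Subgroup.mem_center_iff.2 fun g => Subgroup.mem_centralizer_singleton_iff.1
        ((Subgroup.eq_top_of_card_eq C e).symm.le (Subgroup.mem_top g))
    refine ih _ hlt (G := C) (fun r hr hrd => hmin r hr (hrd.trans C.card_subgroup_dvd_card)) ?_ rfl
    intro x
    obtain ⟨k, hk⟩ := hu
    have hux : u ∈ Subgroup.centralizer ({(x : G)} : Set G) :=
      Subgroup.mem_centralizer_singleton_iff.2 (Subgroup.mem_centralizer_singleton_iff.1 x.2).symm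
    obtain ⟨S, hQS, hS⟩ := exists_sylow_relIndex (h (x : G)) (Q := Subgroup.zpowers u)
      (IsPGroup.of_card (n := k) (by rw [Nat.card_zpowers, hk])) (Subgroup.zpowers_le.2 hux)
    have hSC : (S : Subgroup G) ≤ C := by
      intro a ha
      rw [hC, Subgroup.mem_centralizer_singleton_iff]
      exact congrArg Subtype.val ((P.equiv S).symm.injective
        (a₁ := ⟨a, ha⟩ * ⟨u, hQS (Subgroup.mem_zpowers u)⟩)
        (a₂ := ⟨u, hQS (Subgroup.mem_zpowers u)⟩ * ⟨a, ha⟩)
        (by rw [map_mul, map_mul, hab.is_comm.comm]))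
    refine not_sq_dvd_of_sylow _ (S.subtype hSC) ?_
    rw [centralizer_subtype x, Sylow.coe_subtype, Subgroup.relIndex_subgroupOf hSC]
    exact hS
  refine normalizer_le_centralizer_of_cover P hab hloc fun x _ => ?_
  obtain ⟨S, -, hS⟩ := exists_sylow_relIndex (h x) (Q := ⊥) IsPGroup.of_bot bot_le
  set D := Subgroup.centralizer ({x} : Set G) ⊓ (S : Subgroup G) with hD
  have hDne : D ≠ ⊥ := by
    intro e
    have h1 := CfsgLib.Solvable.card_inf_mul_relIndex (Subgroup.centralizer ({x} : Set G)) (S : Subgroup G)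
    rw [← hD, e, Subgroup.card_bot, one_mul] at h1
    rw [h1, ← Nat.card_congr (P.equiv S).toEquiv, Nat.dvd_prime hp.out] at hS
    exact hS.elim (fun e1 => P.ne_bot_of_dvd_card hpG (Subgroup.card_eq_one.1 e1)) hsmall
  obtain ⟨u, hu, hu1⟩ := (Subgroup.bot_or_exists_ne_one D).resolve_left hDne
  obtain ⟨k, hk⟩ := IsPGroup.iff_orderOf.1 S.isPGroup' ⟨u, hu.2⟩
  exact ⟨u, hu1, ⟨k, by rwa [Subgroup.orderOf_mk] at hk⟩,
    (Subgroup.mem_centralizer_singleton_iff.1 hu.1).symm⟩

end Main

/-- A group with square-free class sizes is solvable. -/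
theorem isSolvable_of_squarefree {G : Type*} [Group G] [Finite G]
    (h : ∀ x : G, Squarefree (Subgroup.centralizer ({x} : Set G)).index) : Group.IsSolvable G := by
  obtain ⟨n, hn⟩ : ∃ n, n = Nat.card G := ⟨_, rfl⟩
  induction n using Nat.strong_induction_on generalizing G with
  | _ n ih =>
  subst hn
  by_cases h1 : Nat.card G = 1
  · haveI : Subsingleton G := (Nat.card_eq_one_iff_unique.1 h1).1
    infer_instance
  haveI : Fact (Nat.card G).minFac.Prime := ⟨Nat.minFac_prime h1⟩
  set p := (Nat.card G).minFac with hp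
  have hcomp : HasNormalPComplement p G := by
    refine hasNormalPComplement (fun r hr hrd => Nat.minFac_le_of_dvd hr.two_le hrd) fun x hd => ?_
    rw [pow_two] at hd
    exact (Nat.minFac_prime h1).ne_one (Nat.isUnit_iff.1 (h x p hd))
  obtain ⟨P, N, hN, hc⟩ := hcomp
  haveI := hN
  haveI hNs : Group.IsSolvable N := by
    refine ih _ (lt_of_le_of_ne (Subgroup.card_le_card_group N) fun e => ?_) (G := N)
      (fun x => (h x).squarefree_of_dvd (index_centralizer_dvd_of_normal N x)) rfl
    refine P.ne_bot_of_dvd_card (Nat.minFac_dvd _) (Subgroup.card_eq_one.1 ?_)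
    have := hc.card_mul_card
    rw [e] at this
    exact (Nat.mul_eq_left (Nat.card_pos (α := G)).ne').1 this
  haveI : Group.IsSolvable (G ⧸ N) := by
    haveI : Group.IsNilpotent (P : Subgroup G) := P.isPGroup'.isNilpotent
    exact Group.isSolvable_of_surjective (f := hc.symm.QuotientMulEquiv.symm.toMonoidHom)
      hc.symm.QuotientMulEquiv.symm.surjective
  exact (Group.isSolvable_iff_subgroup_quotient N).2 ⟨hNs, inferInstance⟩

end CfsgLib.FGStruct.ClassPSq
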