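import Mathlib

/-!
Grün's first theorem.
-/

open Subgroup MulAction
open scoped commutatorElement

namespace CfsgLib.FGStruct

variable {G : Type*} [Group G] [Finite G] {p : ℕ} [Fact p.Prime]

/-- The subgroup of `P` generated by `P ∩ N(P)'` and the `P ∩ (P')^z`. -/
def gruenSubgroup (P : Subgroup G) : Subgroup G :=
  (P ⊓ ⁅normalizer (P : Set G), normalizer (P : Set G)⁆) ⊔
    ⨆ z : G, P ⊓ (⁅P, P⁆).map (MulAut.conj z).toMonoidHom

theorem gruenSubgroup_le (P : Subgroup G) : gruenSubgroup P ≤ P :=
  sup_le inf_le_left (iSup_le fun _ => inf_le_left)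

theorem commutator_le_gruenSubgroup (P : Subgroup G) : ⁅P, P⁆ ≤ gruenSubgroup P := by
  refine le_trans ?_ le_sup_left
  exact le_inf (commutator_le.2 fun u hu v hv => mul_mem (mul_mem (mul_mem hu hv) (inv_mem hu)) (inv_mem hv))
    (commutator_mono le_normalizer le_normalizer)

theorem conj_commutator_mem_gruen {P : Subgroup G} {z d : G} (hd : d ∈ ⁅P, P⁆) (hP : z⁻¹ * d * z ∈ P) :
    z⁻¹ * d * z ∈ gruenSubgroup P := by
  refine le_sup_right (a := P ⊓ ⁅normalizer (P : Set G), normalizer (P : Set G)⁆) (mem_iSup_of_mem z⁻¹ ⟨hP, d, hd, ?_⟩)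
  simp

theorem inf_commutator_le_gruen (P : Sylow p G) :
    (P : Subgroup G) ⊓ commutator G ≤ gruenSubgroup (P : Subgroup G) := by
  classical
  haveI := Fintype.ofFinite G
  set H : Subgroup G := (P : Subgroup G) with hH
  set R := gruenSubgroup H with hR
  let R' : Subgroup H := R.subgroupOf H
  have hn : R'.Normal := ⟨fun n hn g => by
    have hc : ⁅(g : G), (n : G)⁆ ∈ R := commutator_le_gruenSubgroup H (commutator_mem_commutator g.2 n.2)
    have hn' : (n : G) ∈ R := hn
    show ((g : G) * n * (g : G)⁻¹) ∈ R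
    have := mul_mem hc hn'
    rwa [commutatorElement_def, inv_mul_cancel_right] at this⟩
  letI : CommGroup (H ⧸ R') :=
    { (inferInstance : Group (H ⧸ R')) with
      mul_comm := fun a b => by
        induction a using QuotientGroup.induction_on with
        | H x =>
          induction b using QuotientGroup.induction_on with
          | H y =>
            refine QuotientGroup.eq.2 (show (((x * y)⁻¹ * (y * x) : H) : G) ∈ R from ?_)
            have e : (((x * y)⁻¹ * (y * x) : H) : G) = ⁅(y : G)⁻¹, (x : G)⁻¹⁆ := by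
              rw [commutatorElement_def]; push_cast; group
            rw [e]
            exact commutator_le_gruenSubgroup H (commutator_mem_commutator (inv_mem y.2) (inv_mem x.2)) }
  let φ : H →* H ⧸ R' := QuotientGroup.mk' R'
  have φ_eq : ∀ a b : H, φ a = φ b ↔ (a : G)⁻¹ * b ∈ R := fun a b => by
    rw [show φ a = (a : H ⧸ R') from rfl, show φ b = (b : H ⧸ R') from rfl, QuotientGroup.eq]
    rfl
  have φ_one : ∀ a : H, φ a = 1 ↔ (a : G) ∈ R := fun a => by
    rw [show φ a = (a : H ⧸ R') from rfl, QuotientGroup.eq_one_iff]; rfl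
  suffices key : ∀ (m : ℕ) (x : G), orderOf x = m → x ∈ H → x ∈ commutator G → x ∈ R from
    fun x hx => key _ x rfl hx.1 hx.2
  intro m
  induction m using Nat.strong_induction_on with
  | _ m IH =>
  intro x hm hx hxG
  -- smaller powers of conjugates are already in `R`
  have small : ∀ (j : ℕ) (z : G), j ≠ 1 → j ∣ orderOf x → z⁻¹ * x ^ j * z ∈ H → z⁻¹ * x ^ j * z ∈ R := by
    intro j z hj1 hjd hz
    have hconj : z⁻¹ * x ^ j * z = MulAut.conj z⁻¹ (x ^ j) := by simp
    have hpos := orderOf_pos x
    have hj0 : j ≠ 0 := fun h => hpos.ne' (zero_dvd_iff.1 (h ▸ hjd))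
    refine IH (orderOf x / j) ?_ _ ?_ hz ?_
    · rw [← hm]; exact Nat.div_lt_self hpos (by omega)
    · rw [hconj, MulEquiv.orderOf_eq, orderOf_pow_of_dvd hj0 hjd]
    · have := (inferInstance : (commutator G).Normal).conj_mem _ (pow_mem hxG j) z⁻¹
      rwa [inv_inv] at this
  let xP : H := ⟨x, hx⟩
  have hmem : ∀ c : G ⧸ H, x • c = c → c.out⁻¹ * x * c.out ∈ H := fun c hc => by
    have : ((x * c.out : G) : G ⧸ H) = (c.out : G ⧸ H) := by
      rw [QuotientGroup.out_eq']
      exact (congrArg (x • ·) (QuotientGroup.out_eq' c)).trans hc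
    have h2 := QuotientGroup.eq.1 this.symm
    simpa [mul_assoc] using h2
  let h : G ⧸ H → H ⧸ R' := fun c => if hc : x • c = c then φ ⟨c.out⁻¹ * x * c.out, hmem c hc⟩ else 1
  haveI : Fintype (G ⧸ H) := Fintype.ofFinite _
  haveI : Fintype (Quotient (orbitRel (zpowers x) (G ⧸ H))) := Fintype.ofFinite _
  -- the transfer of `x` is the product over the fixed cosets
  have hV : MonoidHom.transfer φ x = ∏ c, h c := by
    rw [MonoidHom.transfer_eq_prod_quotient_orbitRel_zpowers_quot,
      ← Fintype.prod_fiberwise (fun c : G ⧸ H => (Quotient.mk'' c : Quotient (orbitRel (zpowers x) (G ⧸ H)))) h]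
    refine Fintype.prod_congr _ _ fun q => ?_
    by_cases hq : x • q.out = q.out
    · have hper : Function.minimalPeriod (x • ·) q.out = 1 :=
        Function.minimalPeriod_eq_one_iff_isFixedPt.2 hq
      have hall : ∀ d : G ⧸ H, (Quotient.mk'' d : Quotient (orbitRel (zpowers x) (G ⧸ H))) = q → d = q.out := by
        intro d hd
        have : d ∈ orbit (zpowers x) q.out := by
          rw [← Quotient.out_eq' q] at hd; exact Quotient.exact' hd
        obtain ⟨⟨g, hg⟩, rfl⟩ := this
        have hstab : g ∈ stabilizer G q.out := (zpowers_le.2 (show x ∈ stabilizer G q.out from hq)) hg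
        exact hstab
      refine Eq.trans ?_ (Fintype.prod_eq_single (⟨q.out, Quotient.out_eq' q⟩ :
        {d : G ⧸ H // (Quotient.mk'' d : Quotient (orbitRel (zpowers x) (G ⧸ H))) = q}) fun d hd => absurd (Subtype.ext (hall d.1 d.2)) hd).symm
      show _ = h q.out
      simp only [h, dif_pos hq]
      congr 1
      exact Subtype.ext (by simp [hper])
    · rw [Finset.prod_eq_one]
      · rw [φ_one]
        have hper : Function.minimalPeriod (x • ·) q.out ∣ orderOf x := by
          refine Function.IsPeriodicPt.minimalPeriod_dvd ?_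
          show (x • ·)^[orderOf x] q.out = q.out
          rw [smul_iterate, pow_orderOf_eq_one]
          exact one_smul _ _
        exact small _ _ (fun h1 => hq (Function.minimalPeriod_eq_one_iff_isFixedPt.1 h1)) hper
          (QuotientGroup.out_conj_pow_minimalPeriod_mem H x q.out)
      · intro d _
        have hd : ¬ x • d.1 = d.1 := fun hd => hq (by
          have : q.out ∈ orbit (zpowers x) d.1 := by
            have h' : (Quotient.mk'' d.1 : Quotient (orbitRel (zpowers x) (G ⧸ H))) = Quotient.mk'' q.out :=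
              d.2.trans (Quotient.out_eq' q).symm
            exact Quotient.exact' h'.symm
          obtain ⟨⟨g, hg⟩, hgd⟩ := this
          have hstab : g ∈ stabilizer G d.1 := (zpowers_le.2 (show x ∈ stabilizer G d.1 from hd)) hg
          have : q.out = d.1 := hgd.symm.trans hstab
          rw [this]; exact hd)
        simp only [h, dif_neg hd]
  -- group the cosets by `P`-orbits
  haveI : Fintype (Quotient (orbitRel H (G ⧸ H))) := Fintype.ofFinite _
  have horb : ∀ q : Quotient (orbitRel H (G ⧸ H)),
      ∏ d : {d : G ⧸ H // (Quotient.mk'' d : Quotient (orbitRel H (G ⧸ H))) = q}, h d.1 =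
        if ∀ u : H, u • q.out = q.out then φ xP else 1 := by
    intro q
    have orb_iff : ∀ d : G ⧸ H, (Quotient.mk'' d : Quotient (orbitRel H (G ⧸ H))) = q ↔ d ∈ orbit H q.out := by
      intro d
      conv_lhs => rw [← Quotient.out_eq' q]
      exact Quotient.eq''
    split_ifs with hfix
    · rw [Fintype.prod_eq_single ⟨q.out, Quotient.out_eq' q⟩ fun d hd => absurd (Subtype.ext (by
        obtain ⟨u, hu⟩ := (orb_iff d.1).1 d.2
        exact hu.symm.trans (hfix u))) hd]
      show h q.out = _
      have hxq : x • q.out = q.out := hfix xP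
      simp only [h, dif_pos hxq]
      have hzN : q.out.out⁻¹ ∈ normalizer (H : Set G) := by
        rw [Subgroup.mem_normalizer_iff_map_conj_eq]
        refine Subgroup.eq_of_le_of_card_ge ?_ (le_of_eq ?_)
        · rintro _ ⟨u, hu, rfl⟩
          have := hfix ⟨u, hu⟩
          have h2 : ((u * q.out.out : G) : G ⧸ H) = (q.out.out : G ⧸ H) := by
            rw [QuotientGroup.out_eq']
            exact (congrArg (u • ·) (QuotientGroup.out_eq' q.out)).trans this
          have h3 := QuotientGroup.eq.1 h2.symm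
          simpa [mul_assoc] using h3
        · exact (Subgroup.card_map_of_injective (MulEquiv.injective _)).symm
      symm
      rw [φ_eq]
      refine le_sup_left (b := ⨆ z : G, H ⊓ (⁅H, H⁆).map (MulAut.conj z).toMonoidHom) ⟨?_, ?_⟩
      · exact H.mul_mem (H.inv_mem hx) (hmem q.out hxq)
      · rw [show (x : G)⁻¹ * (q.out.out⁻¹ * x * q.out.out) = ⁅x⁻¹, q.out.out⁻¹⁆ by rw [commutatorElement_def]; group]
        exact commutator_mem_commutator (le_normalizer (H.inv_mem hx)) hzN
    · -- orbits of size divisible by `p`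
      by_cases hex : ∃ d₁ : {d : G ⧸ H // (Quotient.mk'' d : Quotient (orbitRel H (G ⧸ H))) = q}, x • d₁.1 = d₁.1
      swap
      · push Not at hex
        exact Finset.prod_eq_one fun d _ => by simp only [h, dif_neg (hex d)]
      obtain ⟨⟨d₁, hd₁q⟩, hd₁⟩ := hex
      set z := d₁.out with hz
      have hy : z⁻¹ * x * z ∈ H := hmem d₁ hd₁
      -- all fixed cosets in the orbit give the same value
      have hconst : ∀ d : G ⧸ H, (Quotient.mk'' d : Quotient (orbitRel H (G ⧸ H))) = q → x • d = d →
          h d = φ ⟨z⁻¹ * x * z, hy⟩ := by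
        intro d hdq hd
        simp only [h, dif_pos hd]
        obtain ⟨u, hu⟩ : d ∈ orbit H d₁ := by
          rw [MulAction.orbit_eq_iff.2 ((orb_iff d₁).1 hd₁q)]
          exact (orb_iff d).1 hdq
        have h2 : (((u : G) * z : G) : G ⧸ H) = (d.out : G ⧸ H) := by
          rw [QuotientGroup.out_eq']
          exact (congrArg ((u : G) • ·) (QuotientGroup.out_eq' d₁)).trans hu
        have hv : ((u : G) * z)⁻¹ * d.out ∈ H := QuotientGroup.eq.1 h2
        set v := ((u : G) * z)⁻¹ * d.out with hvdef
        have hw : z⁻¹ * ((u : G)⁻¹ * x * u) * z ∈ H := by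
          have : z⁻¹ * ((u : G)⁻¹ * x * u) * z = v * (d.out⁻¹ * x * d.out) * v⁻¹ := by rw [hvdef]; group
          rw [this]; exact mul_mem (mul_mem hv (hmem d hd)) (inv_mem hv)
        have e1 : φ ⟨d.out⁻¹ * x * d.out, hmem d hd⟩ = φ ⟨z⁻¹ * ((u : G)⁻¹ * x * u) * z, hw⟩ := by
          have : (⟨d.out⁻¹ * x * d.out, hmem d hd⟩ : H) =
              (⟨v, hv⟩ : H)⁻¹ * ⟨z⁻¹ * ((u : G)⁻¹ * x * u) * z, hw⟩ * ⟨v, hv⟩ :=
            Subtype.ext (by simp [hvdef]; group)
          rw [this, map_mul, map_mul, map_inv, mul_right_comm, inv_mul_cancel, one_mul]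
        rw [e1]
        symm
        rw [φ_eq]
        show (z⁻¹ * x * z)⁻¹ * (z⁻¹ * ((u : G)⁻¹ * x * u) * z) ∈ R
        have e2 : (z⁻¹ * x * z)⁻¹ * (z⁻¹ * ((u : G)⁻¹ * x * u) * z) = z⁻¹ * ⁅x⁻¹, (u : G)⁻¹⁆ * z := by
          rw [commutatorElement_def]; group
        rw [e2]
        refine conj_commutator_mem_gruen (commutator_mem_commutator (inv_mem hx) (inv_mem u.2)) ?_
        rw [← e2]; exact mul_mem (inv_mem hy) hw
      have hp' : (φ ⟨z⁻¹ * x * z, hy⟩) ^ p = 1 := by
        by_cases hx1 : x = 1
        · have : (⟨z⁻¹ * x * z, hy⟩ : H) = 1 := Subtype.ext (by simp [hx1])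
          rw [this, map_one, one_pow]
        rw [← map_pow, φ_one]
        obtain ⟨k, hk⟩ := IsPGroup.iff_orderOf.1 P.isPGroup' ⟨x, hx⟩
        rw [Subgroup.orderOf_mk] at hk
        have hk0 : k ≠ 0 := fun h0 => hx1 (orderOf_eq_one_iff.1 (by rw [hk, h0, pow_zero]))
        have e3 : (((⟨z⁻¹ * x * z, hy⟩ : H) ^ p : H) : G) = z⁻¹ * x ^ p * z := by
          rw [SubmonoidClass.coe_pow]
          have := conj_pow (a := z⁻¹) (b := x) (i := p)
          rwa [inv_inv] at this
        rw [e3]
        refine small p z (Fact.out : p.Prime).one_lt.ne' (hk ▸ dvd_pow_self p hk0) ?_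
        rw [← e3]; exact SetLike.coe_mem _
      -- the number of fixed cosets in the orbit is divisible by `p`
      have hfixcard : p ∣ Nat.card (fixedPoints (zpowers xP) (orbit H q.out)) := by
        have hpz : IsPGroup p (zpowers xP) := P.isPGroup'.to_subgroup _
        rw [← Nat.modEq_zero_iff_dvd]
        refine ((hpz.card_modEq_card_fixedPoints (orbit H q.out)).symm.trans ?_)
        rw [Nat.modEq_zero_iff_dvd]
        obtain ⟨k, hk⟩ := P.isPGroup'.card_orbit q.out
        rw [hk]
        refine dvd_pow_self p fun hk0 => hfix fun u => ?_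
        rw [hk0, pow_zero] at hk
        haveI : Subsingleton (orbit H q.out) := (Nat.card_eq_one_iff_unique.1 hk).1
        exact congrArg Subtype.val (Subsingleton.elim (⟨u • q.out, mem_orbit _ u⟩ : orbit H q.out) ⟨q.out, mem_orbit_self _⟩)
      obtain ⟨s, hs⟩ := hfixcard
      have hcount : (Finset.univ.filter fun d : {d : G ⧸ H // (Quotient.mk'' d : Quotient (orbitRel H (G ⧸ H))) = q} =>
          x • d.1 = d.1).card = p * s := by
        rw [← hs, ← Fintype.card_subtype, ← Nat.card_eq_fintype_card]
        refine Nat.card_congr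
          { toFun := fun d => ⟨⟨d.1.1, (orb_iff _).1 d.1.2⟩, fun g => ?_⟩
            invFun := fun d => ⟨⟨d.1.1, (orb_iff _).2 d.1.2⟩, congrArg Subtype.val (d.2 ⟨xP, mem_zpowers xP⟩)⟩
            left_inv := fun d => rfl
            right_inv := fun d => rfl }
        apply Subtype.ext
        have hstab : xP ∈ stabilizer H d.1.1 := d.2
        exact (zpowers_le.2 hstab) g.2
      rw [Finset.prod_congr rfl (g := fun d => if x • d.1 = d.1 then φ ⟨z⁻¹ * x * z, hy⟩ else 1) fun d _ => by
        split_ifs with hd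
        · exact hconst d.1 d.2 hd
        · simp only [h, dif_neg hd]]
      rw [← Finset.prod_filter, Finset.prod_const, hcount, pow_mul, hp', one_pow]
  have hsplit : ∏ c, h c = φ xP ^ (Finset.univ.filter fun q : Quotient (orbitRel H (G ⧸ H)) => ∀ u : H, u • q.out = q.out).card := by
    rw [← Fintype.prod_fiberwise (fun c : G ⧸ H => (Quotient.mk'' c : Quotient (orbitRel H (G ⧸ H)))) h,
      Fintype.prod_congr _ _ horb, ← Finset.prod_filter, Finset.prod_const]
  have hone : MonoidHom.transfer φ x = 1 := Abelianization.commutator_subset_ker _ hxG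
  set k := (Finset.univ.filter fun q : Quotient (orbitRel H (G ⧸ H)) => ∀ u : H, u • q.out = q.out).card with hkdef
  have hk : k = Nat.card (fixedPoints H (G ⧸ H)) := by
    rw [hkdef, ← Fintype.card_subtype, ← Nat.card_eq_fintype_card]
    refine Nat.card_congr
      { toFun := fun q => ⟨q.1.out, q.2⟩
        invFun := fun c => ⟨Quotient.mk'' c.1, fun u => ?_⟩
        left_inv := fun q => Subtype.ext (Quotient.out_eq' q.1)
        right_inv := fun c => Subtype.ext ?_ }
    · have he := Quotient.exact' (Quotient.out_eq' (Quotient.mk'' c.1 : Quotient (orbitRel H (G ⧸ H))))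
      obtain ⟨w, hw⟩ := he
      simp only at hw
      rw [← hw]
      show u • w • c.1 = w • c.1
      rw [c.2 w, c.2 u]
    · have he := Quotient.exact' (Quotient.out_eq' (Quotient.mk'' c.1 : Quotient (orbitRel H (G ⧸ H))))
      obtain ⟨w, hw⟩ := he
      simp only at hw
      exact hw.symm.trans (c.2 w)
  have hpk : ¬ p ∣ k := by
    rw [hk]
    intro hd
    have hmod := P.isPGroup'.card_modEq_card_fixedPoints (G ⧸ H)
    exact P.not_dvd_index ((Nat.modEq_zero_iff_dvd).1 (hmod.trans ((Nat.modEq_zero_iff_dvd).2 hd)))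
  rw [hV, hsplit] at hone
  have hquot : IsPGroup p (H ⧸ R') := P.isPGroup'.to_quotient R'
  obtain ⟨e, he⟩ := IsPGroup.iff_orderOf.1 hquot (φ xP)
  have hdvd : orderOf (φ xP) ∣ k := orderOf_dvd_of_pow_eq_one hone
  rw [he] at hdvd
  have he0 : e = 0 := by
    by_contra h0
    exact hpk ((dvd_pow_self p h0).trans hdvd)
  rw [he0, pow_zero, orderOf_eq_one_iff, φ_one] at he
  exact he

end CfsgLib.FGStruct
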