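import Mathlib

/-!
Class numbers of symmetric and alternating groups: `k(A_n) < k(S_n)` and `p(n) ≤ 2^(n-2)` for `n ≥ 5`.
-/

open Equiv Equiv.Perm Finset

namespace CfsgLib.FGStruct

theorem card_partition_five : Nat.card (Nat.Partition 5) ≤ 8 := by
  let T := {t : Fin 6 × Fin 3 × Fin 2 × Fin 2 × Fin 2 //
    (t.1 : ℕ) + 2 * (t.2.1 : ℕ) + 3 * (t.2.2.1 : ℕ) + 4 * (t.2.2.2.1 : ℕ) + 5 * (t.2.2.2.2 : ℕ) = 5}
  have hT : Nat.card T ≤ 8 := by
    rw [Nat.card_eq_fintype_card, Fintype.card_subtype]
    decide
  refine le_trans ?_ hT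
  have hsub : ∀ P : Nat.Partition 5, P.parts.toFinset ⊆ ({1, 2, 3, 4, 5} : Finset ℕ) := by
    intro P i hi
    rw [Multiset.mem_toFinset] at hi
    have h1 : 1 ≤ i := P.parts_pos hi
    have h2 : i ≤ 5 := (Multiset.single_le_sum (fun x _ => Nat.zero_le x) i hi).trans_eq P.parts_sum
    simp only [Finset.mem_insert, Finset.mem_singleton]
    omega
  have hsum : ∀ P : Nat.Partition 5, P.parts.count 1 + 2 * P.parts.count 2 + 3 * P.parts.count 3 +
      4 * P.parts.count 4 + 5 * P.parts.count 5 = 5 := by
    intro P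
    have h := Finset.sum_multiset_count_of_subset P.parts _ (hsub P)
    rw [P.parts_sum] at h
    simp [Finset.sum_insert, mul_comm] at h
    omega
  let f : Nat.Partition 5 → T := fun P =>
    ⟨(⟨P.parts.count 1, by have := hsum P; omega⟩, ⟨P.parts.count 2, by have := hsum P; omega⟩,
      ⟨P.parts.count 3, by have := hsum P; omega⟩, ⟨P.parts.count 4, by have := hsum P; omega⟩,
      ⟨P.parts.count 5, by have := hsum P; omega⟩), hsum P⟩
  refine Nat.card_le_card_of_injective f fun P Q h => ?_
  have h1 : P.parts.count 1 = Q.parts.count 1 := congrArg (fun t : T => (t.1.1 : ℕ)) h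
  have h2 : P.parts.count 2 = Q.parts.count 2 := congrArg (fun t : T => (t.1.2.1 : ℕ)) h
  have h3 : P.parts.count 3 = Q.parts.count 3 := congrArg (fun t : T => (t.1.2.2.1 : ℕ)) h
  have h4 : P.parts.count 4 = Q.parts.count 4 := congrArg (fun t : T => (t.1.2.2.2.1 : ℕ)) h
  have h5 : P.parts.count 5 = Q.parts.count 5 := congrArg (fun t : T => (t.1.2.2.2.2 : ℕ)) h
  apply Nat.Partition.ext
  refine Multiset.ext.2 fun i => ?_
  by_cases hi : i ∈ ({1, 2, 3, 4, 5} : Finset ℕ)
  · simp only [Finset.mem_insert, Finset.mem_singleton] at hi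
    rcases hi with rfl | rfl | rfl | rfl | rfl <;> assumption
  · rw [Multiset.count_eq_zero_of_notMem, Multiset.count_eq_zero_of_notMem]
    · exact fun hm => hi (hsub Q (Multiset.mem_toFinset.2 hm))
    · exact fun hm => hi (hsub P (Multiset.mem_toFinset.2 hm))

theorem card_partition_succ_le {n : ℕ} (hn : 0 < n) :
    Nat.card (Nat.Partition (n + 1)) ≤ 2 * Nat.card (Nat.Partition n) := by
  classical
  have key : ∀ P : Nat.Partition (n + 1), 1 ∉ P.parts → ∃ m, m ∈ P.parts ∧ 2 ≤ m ∧ ∀ x ∈ P.parts, m ≤ x := by
    intro P hP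
    have hne : P.parts.toFinset.Nonempty := by
      rw [Multiset.toFinset_nonempty]
      intro h
      have := P.parts_sum
      simp [h] at this
    refine ⟨P.parts.toFinset.min' hne, Multiset.mem_toFinset.1 (Finset.min'_mem _ _), ?_,
      fun x hx => Finset.min'_le _ _ (Multiset.mem_toFinset.2 hx)⟩
    have hm := Multiset.mem_toFinset.1 (Finset.min'_mem P.parts.toFinset hne)
    have h0 := P.parts_pos hm
    rcases Nat.lt_or_ge (P.parts.toFinset.min' hne) 2 with h | h
    · exfalso
      have : P.parts.toFinset.min' hne = 1 := by omega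
      rw [this] at hm
      exact hP hm
    · exact h
  choose m hm1 hm2 hm3 using key
  let f : Nat.Partition (n + 1) → Nat.Partition n ⊕ Nat.Partition n := fun P =>
    if h : 1 ∈ P.parts then
      .inl ⟨P.parts.erase 1, fun {i} hi => P.parts_pos (Multiset.mem_of_mem_erase hi), by
        have := congrArg Multiset.sum (Multiset.cons_erase h)
        rw [Multiset.sum_cons, P.parts_sum] at this
        omega⟩
    else
      .inr ⟨(m P h - 1) ::ₘ P.parts.erase (m P h), fun {i} hi => by
        rcases Multiset.mem_cons.1 hi with rfl | hi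
        · have := hm2 P h; omega
        · exact P.parts_pos (Multiset.mem_of_mem_erase hi), by
        have := congrArg Multiset.sum (Multiset.cons_erase (hm1 P h))
        rw [Multiset.sum_cons, P.parts_sum] at this
        rw [Multiset.sum_cons]
        have := hm2 P h
        omega⟩
  have hf : Function.Injective f := by
    intro P Q hPQ
    by_cases hP : 1 ∈ P.parts <;> by_cases hQ : 1 ∈ Q.parts <;> simp only [f, dif_pos, dif_neg, hP, hQ, not_false_iff] at hPQ
    · simp only [Sum.inl.injEq] at hPQ
      apply Nat.Partition.ext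
      rw [← Multiset.cons_erase hP, ← Multiset.cons_erase hQ]
      exact congrArg _ (congrArg Nat.Partition.parts hPQ)
    · exact absurd hPQ (by simp)
    · exact absurd hPQ (by simp)
    · simp only [Sum.inr.injEq] at hPQ
      have h := congrArg Nat.Partition.parts hPQ
      simp only at h
      have hle : ∀ (A : Nat.Partition (n + 1)) (hA : 1 ∉ A.parts) (B : Nat.Partition (n + 1)) (hB : 1 ∉ B.parts),
          (m A hA - 1) ::ₘ A.parts.erase (m A hA) = (m B hB - 1) ::ₘ B.parts.erase (m B hB) →
          m B hB - 1 ≤ m A hA - 1 := by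
        intro A hA B hB e
        have hmem : m A hA - 1 ∈ (m B hB - 1) ::ₘ B.parts.erase (m B hB) := e ▸ Multiset.mem_cons_self _ _
        rcases Multiset.mem_cons.1 hmem with h1 | h1
        · omega
        · have := hm3 B hB _ (Multiset.mem_of_mem_erase h1); omega
      have e1 := hle P hP Q hQ h
      have e2 := hle Q hQ P hP h.symm
      have := hm2 P hP
      have := hm2 Q hQ
      have em : m P hP = m Q hQ := by omega
      rw [em, Multiset.cons_inj_right] at h
      apply Nat.Partition.ext
      rw [← Multiset.cons_erase (hm1 P hP), ← Multiset.cons_erase (hm1 Q hQ), em, h]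
  have := Nat.card_le_card_of_injective f hf
  rw [Nat.card_sum] at this
  omega

theorem card_partition_le_two_pow {n : ℕ} (hn : 5 ≤ n) : Nat.card (Nat.Partition n) ≤ 2 ^ (n - 2) := by
  induction n, hn using Nat.le_induction with
  | base => exact card_partition_five
  | succ n hn ih =>
    refine (card_partition_succ_le (by omega)).trans ?_
    rw [show n + 1 - 2 = (n - 2) + 1 by omega, pow_succ]
    omega

variable {α : Type*} [Fintype α] [DecidableEq α]

theorem card_conjClasses_perm_le : Nat.card (ConjClasses (Perm α)) ≤ Nat.card (Nat.Partition (Fintype.card α)) := by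
  refine Nat.card_le_card_of_injective (fun c => Quotient.liftOn c Equiv.Perm.partition
    fun a b h => Equiv.Perm.partition_eq_of_isConj.1 h) fun c d h => ?_
  obtain ⟨a, rfl⟩ := ConjClasses.mk_surjective c
  obtain ⟨b, rfl⟩ := ConjClasses.mk_surjective d
  exact ConjClasses.mk_eq_mk_iff_isConj.2 (Equiv.Perm.partition_eq_of_isConj.2 h)

/-- A permutation all of whose centralizing permutations are even. -/
def EvenCentralizer (σ : Perm α) : Prop := ∀ g : Perm α, g * σ = σ * g → sign g = 1

theorem EvenCentralizer.of_conj {σ τ : Perm α} (h : EvenCentralizer σ) (hc : IsConj σ τ) : EvenCentralizer τ := by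
  obtain ⟨c, rfl⟩ := isConj_iff.1 hc
  intro g hg
  have := h (c⁻¹ * g * c) (by
    calc c⁻¹ * g * c * σ = c⁻¹ * (g * (c * σ * c⁻¹)) * c := by group
      _ = c⁻¹ * (c * σ * c⁻¹ * g) * c := by rw [hg]
      _ = σ * (c⁻¹ * g * c) := by group)
  rw [map_mul, map_mul, map_inv, mul_right_comm, inv_mul_cancel, one_mul] at this
  exact this

theorem EvenCentralizer.odd_cycleType {σ : Perm α} (h : EvenCentralizer σ) : ∀ m ∈ σ.cycleType, Odd m := by
  intro m hm
  rw [cycleType_def, Multiset.mem_map] at hm
  obtain ⟨c, hc, rfl⟩ := hm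
  by_contra hev
  rw [Nat.not_odd_iff_even] at hev
  have hsign := h c (self_mem_cycle_factors_commute hc).eq
  rw [(mem_cycleFactorsFinset_iff.1 hc).1.sign, show (#c.support : ℕ) = (Finset.card ∘ support) c from rfl,
    hev.neg_one_pow] at hsign
  exact absurd hsign (by decide)

theorem EvenCentralizer.cycleType_ne_zero (hn : 2 ≤ Fintype.card α) {σ : Perm α} (h : EvenCentralizer σ) :
    σ.cycleType ≠ 0 := by
  intro h0
  rw [cycleType_eq_zero] at h0
  subst h0
  obtain ⟨a, b, hab⟩ := Fintype.one_lt_card_iff.1 hn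
  have := h (swap a b) (by simp)
  rw [sign_swap hab] at this
  exact absurd this (by decide)

/-- Every such class yields an odd class, injectively, and the class of a transposition is missed. -/
theorem exists_split_cycleType (hn : 5 ≤ Fintype.card α) {σ : Perm α} (h : EvenCentralizer σ) :
    ∃ (τ : Perm α) (L : ℕ), L ∈ σ.cycleType ∧ (∀ x ∈ σ.cycleType, x ≤ L) ∧ 3 ≤ L ∧
      τ.cycleType = (L - 1) ::ₘ σ.cycleType.erase L ∧ sign τ = -sign σ := by
  classical
  have hne : σ.cycleType.toFinset.Nonempty :=
    Multiset.toFinset_nonempty.2 (h.cycleType_ne_zero (by omega))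
  set L := σ.cycleType.toFinset.max' hne with hL
  have hLmem : L ∈ σ.cycleType := Multiset.mem_toFinset.1 (Finset.max'_mem _ _)
  have hLmax : ∀ x ∈ σ.cycleType, x ≤ L := fun x hx => Finset.le_max' _ _ (Multiset.mem_toFinset.2 hx)
  have hL3 : 3 ≤ L := by
    have h2 := two_le_of_mem_cycleType hLmem
    obtain ⟨k, hk⟩ := h.odd_cycleType L hLmem
    omega
  have hcons := congrArg Multiset.sum (Multiset.cons_erase hLmem)
  rw [Multiset.sum_cons] at hcons
  have hcard := congrArg Multiset.card (Multiset.cons_erase hLmem)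
  rw [Multiset.card_cons] at hcard
  obtain ⟨τ, hτ⟩ := (exists_with_cycleType_iff (α := α) (m := (L - 1) ::ₘ σ.cycleType.erase L)).2 ⟨by
      rw [Multiset.sum_cons]
      have := σ.sum_cycleType
      have := Finset.card_le_univ σ.support
      omega, fun x hx => by
      rcases Multiset.mem_cons.1 hx with rfl | hx
      · omega
      · exact two_le_of_mem_cycleType (Multiset.mem_of_mem_erase hx)⟩
  refine ⟨τ, L, hLmem, hLmax, hL3, hτ, ?_⟩
  rw [sign_of_cycleType, sign_of_cycleType, hτ, Multiset.sum_cons, Multiset.card_cons,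
    show σ.cycleType.sum + Multiset.card σ.cycleType =
      L - 1 + (σ.cycleType.erase L).sum + (Multiset.card (σ.cycleType.erase L) + 1) + 1 by omega,
    pow_succ _ (L - 1 + (σ.cycleType.erase L).sum + (Multiset.card (σ.cycleType.erase L) + 1))]
  simp

theorem not_evenCentralizer_threeCycle (hn : 5 ≤ Fintype.card α) {σ : Perm α} (h : σ.cycleType = {3}) :
    ¬ EvenCentralizer σ := by
  intro hev
  have hs : #σ.support = 3 := by rw [← σ.sum_cycleType, h]; simp
  have hc : 1 < #(σ.supportᶜ) := by rw [Finset.card_compl, hs]; omega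
  obtain ⟨a, ha, b, hb, hab⟩ := Finset.one_lt_card.1 hc
  rw [Finset.mem_compl, notMem_support] at ha hb
  have hd : Equiv.Perm.Disjoint (swap a b) σ := fun x => by
    by_cases hx : x = a ∨ x = b
    · right; rcases hx with rfl | rfl <;> assumption
    · left; push Not at hx; exact swap_apply_of_ne_of_ne hx.1 hx.2
  have := hev (swap a b) hd.commute.eq
  rw [sign_swap hab] at this
  exact absurd this (by decide)

/-- `k(A_n) < k(S_n)`. -/
theorem card_conjClasses_alternating_lt (hn : 5 ≤ Fintype.card α) :
    Nat.card (ConjClasses (alternatingGroup α)) < Nat.card (ConjClasses (Perm α)) := by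
  classical
  let ι : ConjClasses (alternatingGroup α) → ConjClasses (Perm α) := ConjClasses.map (alternatingGroup α).subtype
  let sgn : ConjClasses (Perm α) → ℤˣ := fun c => Quotient.liftOn c sign fun a b (h : IsConj a b) => by
    obtain ⟨g, rfl⟩ := isConj_iff.1 h
    rw [map_mul, map_mul, map_inv, mul_right_comm, mul_inv_cancel, one_mul]
  let split : ConjClasses (Perm α) → Prop := fun c => ∀ σ : Perm α, ConjClasses.mk σ = c → EvenCentralizer σ
  haveI : Fintype (ConjClasses (Perm α)) := Fintype.ofFinite _
  haveI : Fintype (ConjClasses (alternatingGroup α)) := Fintype.ofFinite _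
  let E : Finset (ConjClasses (Perm α)) := univ.filter fun c => sgn c = 1
  let O : Finset (ConjClasses (Perm α)) := univ.filter fun c => ¬ sgn c = 1
  let S : Finset (ConjClasses (Perm α)) := E.filter split
  have hι : ∀ c, ι c ∈ E := fun c => by
    obtain ⟨a, rfl⟩ := ConjClasses.mk_surjective c
    exact Finset.mem_filter.2 ⟨Finset.mem_univ _, mem_alternatingGroup.1 a.2⟩
  -- two elements conjugate by an even permutation are conjugate in the alternating group
  have conjA : ∀ (a b : alternatingGroup α) (g : Perm α), sign g = 1 → g * a * g⁻¹ = b →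
      ConjClasses.mk a = ConjClasses.mk b := fun a b g hg e =>
    ConjClasses.mk_eq_mk_iff_isConj.2 (isConj_iff.2 ⟨⟨g, mem_alternatingGroup.2 hg⟩, Subtype.ext e⟩)
  have fib : ∀ c ∈ E, #(univ.filter fun d => ι d = c) ≤ 1 + (if split c then 1 else 0) := by
    intro c _
    by_contra hlt
    push Not at hlt
    by_cases hs : split c
    · rw [if_pos hs] at hlt
      obtain ⟨x, y, z, hx, hy, hz, hxy, hxz, hyz⟩ := Finset.two_lt_card_iff.1 hlt
      simp only [Finset.mem_filter, Finset.mem_univ, true_and] at hx hy hz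
      obtain ⟨a, rfl⟩ := ConjClasses.mk_surjective x
      obtain ⟨b, rfl⟩ := ConjClasses.mk_surjective y
      obtain ⟨d, rfl⟩ := ConjClasses.mk_surjective z
      obtain ⟨g, hg⟩ := isConj_iff.1 (ConjClasses.mk_eq_mk_iff_isConj.1 (hx.trans hy.symm : ι (.mk a) = ι (.mk b)))
      obtain ⟨k, hk⟩ := isConj_iff.1 (ConjClasses.mk_eq_mk_iff_isConj.1 (hx.trans hz.symm : ι (.mk a) = ι (.mk d)))
      change g * (a : Perm α) * g⁻¹ = b at hg
      change k * (a : Perm α) * k⁻¹ = d at hk
      rcases Int.units_eq_one_or (sign g) with hg1 | hg1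
      · exact hxy (conjA a b g hg1 hg)
      rcases Int.units_eq_one_or (sign k) with hk1 | hk1
      · exact hxz (conjA a d k hk1 hk)
      refine hyz (conjA b d (k * g⁻¹) (by rw [map_mul, map_inv, hg1, hk1]; rfl) ?_)
      change (k : Perm α) * g⁻¹ * b * (k * g⁻¹)⁻¹ = d
      rw [← hk, ← hg]
      group
    · rw [if_neg hs] at hlt
      obtain ⟨x, hx, y, hy, hxy⟩ := Finset.one_lt_card.1 hlt
      simp only [Finset.mem_filter, Finset.mem_univ, true_and] at hx hy
      obtain ⟨a, rfl⟩ := ConjClasses.mk_surjective x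
      obtain ⟨b, rfl⟩ := ConjClasses.mk_surjective y
      obtain ⟨g, hg⟩ := isConj_iff.1 (ConjClasses.mk_eq_mk_iff_isConj.1 (hx.trans hy.symm : ι (.mk a) = ι (.mk b)))
      change g * (a : Perm α) * g⁻¹ = b at hg
      rcases Int.units_eq_one_or (sign g) with hg1 | hg1
      · exact hxy (conjA a b g hg1 hg)
      have hna : ¬ EvenCentralizer (a : Perm α) := fun hev => hs fun σ hσ =>
        hev.of_conj (ConjClasses.mk_eq_mk_iff_isConj.1 (hx.trans hσ.symm))
      simp only [EvenCentralizer, not_forall] at hna
      obtain ⟨t, ht, ht1⟩ := hna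
      have ht2 := (Int.units_eq_one_or (sign t)).resolve_left ht1
      refine hxy (conjA a b (g * t) (by rw [map_mul, hg1, ht2]; rfl) ?_)
      change g * t * (a : Perm α) * (g * t)⁻¹ = b
      rw [mul_assoc g t, ht, ← hg]
      group
  have hA : Nat.card (ConjClasses (alternatingGroup α)) ≤ #E + #S := by
    rw [Nat.card_eq_fintype_card, ← Finset.card_univ, Finset.card_eq_sum_card_fiberwise (t := E) fun c _ => hι c]
    calc _ ≤ ∑ c ∈ E, (1 + if split c then 1 else 0) := Finset.sum_le_sum fib
      _ = #E + #S := by rw [Finset.sum_add_distrib, ← Finset.card_eq_sum_ones, ← Finset.sum_filter, ← Finset.card_eq_sum_ones]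
  have hSO : #S < #O := by
    have hS : ∀ c ∈ S, ∀ σ, ConjClasses.mk σ = c → EvenCentralizer σ ∧ sign σ = 1 := fun c hc σ hσ => by
      simp only [S, E, Finset.mem_filter, Finset.mem_univ, true_and] at hc
      exact ⟨hc.2 σ hσ, by rw [← hσ] at hc; exact hc.1⟩
    choose rep hrep using fun c : ConjClasses (Perm α) => ConjClasses.mk_surjective c
    have hsp : ∀ c : S, ∃ (τ : Perm α) (L : ℕ), L ∈ (rep c).cycleType ∧ (∀ x ∈ (rep c).cycleType, x ≤ L) ∧ 3 ≤ L ∧
        τ.cycleType = (L - 1) ::ₘ (rep c).cycleType.erase L ∧ sign τ = -sign (rep c) :=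
      fun c => exists_split_cycleType hn (hS c c.2 _ (hrep c)).1
    choose τ L hL1 hL2 hL3 hτ hτs using hsp
    obtain ⟨u, v, huv⟩ := Fintype.one_lt_card_iff.1 (show 1 < Fintype.card α by omega)
    have htO : ConjClasses.mk (swap u v) ∈ O := Finset.mem_filter.2 ⟨Finset.mem_univ _, by
      show ¬ sign (swap u v) = 1
      rw [sign_swap huv]; decide⟩
    have h2 : (swap u v).cycleType = {2} := isSwap_iff_cycleType.1 ⟨u, v, huv, rfl⟩
    calc #S = #(univ : Finset S) := by simp
      _ = #((univ : Finset S).image fun c => ConjClasses.mk (τ c)) := by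
        refine (Finset.card_image_of_injective _ fun c d hcd => ?_).symm
        have e := isConj_iff_cycleType_eq.1 (ConjClasses.mk_eq_mk_iff_isConj.1 hcd)
        rw [hτ, hτ] at e
        have hodd := (hS c c.2 _ (hrep c)).1.odd_cycleType
        have hodd' := (hS d d.2 _ (hrep d)).1.odd_cycleType
        have hev : ∀ (w : S), Even (L w - 1) := fun w => by
          obtain ⟨k, hk⟩ := (hS w w.2 _ (hrep w)).1.odd_cycleType _ (hL1 w)
          exact ⟨k, by omega⟩
        have hLeq : L c - 1 = L d - 1 := by
          have : L c - 1 ∈ (L d - 1) ::ₘ (rep d).cycleType.erase (L d) := e ▸ Multiset.mem_cons_self _ _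
          rcases Multiset.mem_cons.1 this with h | h
          · exact h
          · exact absurd (hev c) (Nat.not_even_iff_odd.2 (hodd' _ (Multiset.mem_of_mem_erase h)))
        have := hL3 c
        have := hL3 d
        have hLe : L c = L d := by omega
        rw [hLe, Multiset.cons_inj_right] at e
        apply Subtype.ext
        rw [← hrep c.1, ← hrep d.1, ConjClasses.mk_eq_mk_iff_isConj, isConj_iff_cycleType_eq,
          ← Multiset.cons_erase (hL1 c), ← Multiset.cons_erase (hL1 d), hLe, e]
      _ < #O := by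
        refine Finset.card_lt_card ((Finset.ssubset_iff_of_subset ?_).2 ⟨_, htO, ?_⟩)
        · intro x hx
          obtain ⟨c, -, rfl⟩ := Finset.mem_image.1 hx
          refine Finset.mem_filter.2 ⟨Finset.mem_univ _, ?_⟩
          show ¬ sign (τ c) = 1
          rw [hτs c, (hS c c.2 _ (hrep c)).2]; decide
        · intro hx
          obtain ⟨c, -, hc⟩ := Finset.mem_image.1 hx
          have e := isConj_iff_cycleType_eq.1 (ConjClasses.mk_eq_mk_iff_isConj.1 hc)
          rw [hτ, h2] at e
          have hz : (rep c).cycleType.erase (L c) = 0 := by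
            have := congrArg Multiset.card e
            rw [Multiset.card_cons, Multiset.card_singleton] at this
            exact Multiset.card_eq_zero.1 (by omega)
          rw [hz] at e
          have e' : L c - 1 = 2 := Multiset.singleton_inj.1 e
          have hLc : L c = 3 := by have := hL3 c; omega
          refine not_evenCentralizer_threeCycle hn ?_ (hS c c.2 _ (hrep c)).1
          rw [← Multiset.cons_erase (hL1 c), hz, hLc]
          rfl
  have hT : #E + #O = Nat.card (ConjClasses (Perm α)) := by
    rw [Nat.card_eq_fintype_card, ← Finset.card_univ]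
    exact Finset.card_filter_add_card_filter_not _
  omega

end CfsgLib.FGStruct
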