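import Mathlib
import Cfsg.Agent.Lib.Alt.Aut
import Cfsg.Agent.Lib.FGStruct.SymClasses

/-!
Automorphisms of odd order of alternating groups (including degree `6`) are conjugations by permutations.
`exists_conjNormal_eq_of_threeCycle_map` is the argument of `CfsgLib.AltAut.conjNormal_surjective` with the
preservation of three-cycles taken as a hypothesis.
-/

open Equiv Equiv.Perm
open CfsgLib.AltAut

namespace CfsgLib.FGStruct

variable {α : Type*} [Fintype α] [DecidableEq α]

theorem exists_conjNormal_eq_of_threeCycle_map (h4 : 4 ≤ Fintype.card α) (φ : MulAut (alternatingGroup α))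
    (hmap : ∀ x : alternatingGroup α, (x : Perm α).IsThreeCycle → ((φ x : alternatingGroup α) : Perm α).IsThreeCycle) :
    ∃ σ : Perm α, MulAut.conjNormal σ = φ := by
  obtain ⟨v0, v1, h01⟩ : ∃ v0 v1 : α, v0 ≠ v1 := Fintype.exists_pair_of_one_lt_card (by omega)
  obtain ⟨i2, -, hi2⟩ := Finset.exists_mem_notMem_of_card_lt_card
    (lt_of_le_of_lt (Finset.card_le_two (a := v0) (b := v1))
      (by rw [Finset.card_univ]; omega : 2 < (Finset.univ : Finset α).card))
  simp only [Finset.mem_insert, Finset.mem_singleton, not_or] at hi2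
  obtain ⟨i3, -, hi3⟩ := Finset.exists_mem_notMem_of_card_lt_card
    (lt_of_le_of_lt (Finset.card_le_three (a := v0) (b := v1) (c := i2))
      (by rw [Finset.card_univ]; omega : 3 < (Finset.univ : Finset α).card))
  simp only [Finset.mem_insert, Finset.mem_singleton, not_or] at hi3
  have hT : ∀ i, i ≠ v0 → i ≠ v1 → (cyc v0 v1 i).IsThreeCycle := fun i a b =>
    cyc_isThreeCycle h01 (Ne.symm a) (Ne.symm b)
  let X : ∀ i, i ≠ v0 → i ≠ v1 → Perm α := fun i a b =>
    ((φ ⟨cyc v0 v1 i, (hT i a b).mem_alternatingGroup⟩ : alternatingGroup α) : Perm α)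
  have hX : ∀ i a b, (X i a b).IsThreeCycle := fun i a b =>
    hmap ⟨cyc v0 v1 i, _⟩ (hT i a b)
  have hinj : ∀ i j a b a' b', X i a b = X j a' b' → i = j := by
    intro i j a b a' b' h
    have h' := congrArg Subtype.val (φ.injective (Subtype.ext h))
    have := congrArg (fun g : Perm α => g v1) h'
    simpa [cyc_apply_snd (Ne.symm a) (Ne.symm b), cyc_apply_snd (Ne.symm a') (Ne.symm b')] using this
  have hedge : ∀ i j (a : i ≠ v0) (b : i ≠ v1) (a' : j ≠ v0) (b' : j ≠ v1), i ≠ j →
      ∃ z, X i a b z ≠ z ∧ X j a' b' z = X i a b z := by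
    intro i j a b a' b' hij
    have ne : cyc v0 v1 i * cyc v0 v1 j ≠ 1 := by
      intro h
      have := congrArg (fun g : Perm α => g v0) h
      simp [cyc_apply_fst h01 (Ne.symm a'), cyc_apply_snd (Ne.symm a) (Ne.symm b)] at this
      exact a this
    have sq : (cyc v0 v1 i * cyc v0 v1 j) ^ 2 = 1 := by
      ext y
      rw [pow_two]
      by_cases y1 : y = v0
      · subst y1; simp [cyc_apply_fst, cyc_apply_snd, cyc_apply_other, cyc_apply_trd, h01,
          Ne.symm a, Ne.symm b, Ne.symm a', Ne.symm b', a, b, hij]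
      by_cases y2 : y = v1
      · subst y2; simp [cyc_apply_fst, cyc_apply_snd, cyc_apply_other, cyc_apply_trd, h01,
          Ne.symm a, Ne.symm b, Ne.symm a', Ne.symm b', a', b', Ne.symm hij]
      by_cases y3 : y = i
      · subst y3; simp [cyc_apply_fst, cyc_apply_snd, cyc_apply_other, cyc_apply_trd, h01,
          Ne.symm a, Ne.symm b, Ne.symm a', a, b, hij]
      by_cases y4 : y = j
      · subst y4; simp [cyc_apply_fst, cyc_apply_snd, cyc_apply_other, cyc_apply_trd, h01,
          Ne.symm a, Ne.symm b, Ne.symm a', Ne.symm b', a', b', Ne.symm hij]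
      simp [cyc_apply_other y1 y2 y3, cyc_apply_other y1 y2 y4]
    refine common_edge (hX i a b) (hX j a' b') ?_ ?_
    · intro h
      apply ne
      have h' : φ (⟨cyc v0 v1 i, (hT i a b).mem_alternatingGroup⟩ *
          ⟨cyc v0 v1 j, (hT j a' b').mem_alternatingGroup⟩) = φ 1 := by
        rw [map_mul, map_one]; exact Subtype.ext h
      simpa using congrArg Subtype.val (φ.injective h')
    · have h' : φ ((⟨cyc v0 v1 i, (hT i a b).mem_alternatingGroup⟩ *
          ⟨cyc v0 v1 j, (hT j a' b').mem_alternatingGroup⟩) ^ 2) = φ 1 :=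
        congrArg φ (Subtype.ext (by simpa using sq))
      rw [map_pow, map_mul, map_one] at h'
      simpa [X] using congrArg Subtype.val h'
  obtain ⟨p, hpmv, hq⟩ := hedge i2 i3 hi2.1 hi2.2 hi3.1 hi3.2.1 (Ne.symm hi3.2.2)
  set P := X i2 hi2.1 hi2.2 with hPdef
  obtain ⟨hP3, hpq, hpc, hqc⟩ := cycle_orbit (threeCycle_pow_three (hX i2 hi2.1 hi2.2)) hpmv
  set q := P p with hqdef
  have hQmv : X i3 hi3.1 hi3.2.1 p ≠ p := by rw [hq]; exact hpmv
  set Q := X i3 hi3.1 hi3.2.1 with hQdef
  obtain ⟨hQ3, -, hpd, hqd⟩ := cycle_orbit (threeCycle_pow_three (hX i3 hi3.1 hi3.2.1)) hQmv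
  rw [hq] at hQ3 hpd hqd
  have hP' := threeCycle_eq_cyc (hX i2 hi2.1 hi2.2) hpmv
  have hQ' := threeCycle_eq_cyc (hX i3 hi3.1 hi3.2.1) hQmv
  rw [← hQdef, hq] at hQ'
  rw [← hPdef, ← hqdef] at hP'
  set c := P q with hcdef
  set d := Q q with hddef
  have hcd : c ≠ d := fun h => hi3.2.2 (hinj i3 i2 hi3.1 hi3.2.1 hi2.1 hi2.2 (by
    rw [← hPdef, ← hQdef, hQ', hP', h]))
  have hQc : Q c = c := by rw [hQ']; exact cyc_apply_other (Ne.symm hpc) (Ne.symm hqc) hcd
  have hPd : P d = d := by rw [hP']; exact cyc_apply_other (Ne.symm hpd) (Ne.symm hqd) (Ne.symm hcd)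
  -- every image contains the edge `p ↦ q`
  have hall : ∀ i a b, X i a b p = q := by
    intro i a b
    by_cases h2 : i = i2
    · subst h2; rfl
    by_cases h3 : i = i3
    · subst h3; exact hq
    by_contra hne
    obtain ⟨u, hu1, hu2⟩ := hedge i2 i hi2.1 hi2.2 a b (Ne.symm h2)
    obtain ⟨w, hw1, hw2⟩ := hedge i3 i hi3.1 hi3.2.1 a b (Ne.symm h3)
    rw [← hPdef] at hu1 hu2
    rw [← hQdef] at hw1 hw2
    set Z := X i a b with hZ
    have hu : (u = q ∧ Z q = c) ∨ (u = c ∧ Z c = p) := by
      by_cases e1 : u = p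
      · subst e1; exact absurd hu2 hne
      by_cases e2 : u = q
      · subst e2; exact Or.inl ⟨rfl, hu2⟩
      by_cases e3 : u = c
      · subst e3; exact Or.inr ⟨rfl, hu2.trans hP3⟩
      exact absurd (by rw [hP']; exact cyc_apply_other e1 e2 e3) hu1
    have hw : (w = q ∧ Z q = d) ∨ (w = d ∧ Z d = p) := by
      by_cases e1 : w = p
      · subst e1; exact absurd (hw2.trans hq) hne
      by_cases e2 : w = q
      · subst e2; exact Or.inl ⟨rfl, hw2⟩
      by_cases e3 : w = d
      · subst e3; exact Or.inr ⟨rfl, hw2.trans hQ3⟩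
      exact absurd (by rw [hQ']; exact cyc_apply_other e1 e2 e3) hw1
    have h4 : ({p, q, c, d} : Finset α).card = 4 := by
      rw [Finset.card_insert_of_notMem, Finset.card_insert_of_notMem, Finset.card_insert_of_notMem,
        Finset.card_singleton] <;> simp [hpq, hpc, hqc, hpd, hqd, hcd]
    have hsub : ({p, q, c, d} : Finset α) ⊆ Z.support := by
      intro y hy
      simp only [Finset.mem_insert, Finset.mem_singleton] at hy
      rcases hu with ⟨rfl, hu⟩ | ⟨rfl, hu⟩ <;> rcases hw with ⟨rfl, hw⟩ | ⟨rfl, hw⟩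
      · exact absurd (hu.symm.trans hw) hcd
      · -- `q ↦ c` and `d ↦ p`
        rcases hy with rfl | rfl | rfl | rfl
        · exact apply_mem_support.2 (mem_support.2 (by rw [hw]; exact hpd)) |> fun h => by
            rwa [hw] at h
        · exact mem_support.2 (by rw [hu]; exact hqc.symm)
        · exact apply_mem_support.2 (mem_support.2 (by rw [hu]; exact hqc.symm)) |> fun h => by
            rwa [hu] at h
        · exact mem_support.2 (by rw [hw]; exact hpd)
      · rcases hy with rfl | rfl | rfl | rfl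
        · exact apply_mem_support.2 (mem_support.2 (by rw [hu]; exact hpc)) |> fun h => by
            rwa [hu] at h
        · exact mem_support.2 (by rw [hw]; exact hqd.symm)
        · exact mem_support.2 (by rw [hu]; exact hpc)
        · exact apply_mem_support.2 (mem_support.2 (by rw [hw]; exact hqd.symm)) |> fun h => by
            rwa [hw] at h
      · exact absurd (Z.injective (hu.trans hw.symm)) hcd
    have := Finset.card_le_card hsub
    rw [h4, (hX i a b).card_support] at this
    omega
  have hform : ∀ i a b, X i a b = cyc p q (X i a b q) ∧ X i a b q ≠ p ∧ X i a b q ≠ q := by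
    intro i a b
    have hm : X i a b p ≠ p := by rw [hall i a b]; exact hpq.symm
    obtain ⟨-, -, h2, h3⟩ := cycle_orbit (threeCycle_pow_three (hX i a b)) hm
    rw [hall i a b] at h2 h3
    exact ⟨by conv_lhs => rw [threeCycle_eq_cyc (hX i a b) hm, hall i a b], h2.symm, h3.symm⟩
  let s : α → α := fun i => if a : i = v0 then p else if b : i = v1 then q else X i a b q
  have hs0 : s v0 = p := by simp [s]
  have hs1 : s v1 = q := by simp [s, Ne.symm h01]
  have hsi : ∀ i a b, s i = X i a b q := fun i a b => by simp [s, a, b]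
  have hsinj : Function.Injective s := by
    intro i j h
    by_cases a : i = v0 <;> by_cases a' : j = v0
    · rw [a, a']
    · subst a
      by_cases b' : j = v1
      · subst b'; rw [hs0, hs1] at h; exact absurd h hpq
      · rw [hs0, hsi j a' b'] at h; exact absurd h.symm (hform j a' b').2.1
    · subst a'
      by_cases b : i = v1
      · subst b; rw [hs0, hs1] at h; exact absurd h hpq.symm
      · rw [hs0, hsi i a b] at h; exact absurd h (hform i a b).2.1
    · by_cases b : i = v1 <;> by_cases b' : j = v1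
      · rw [b, b']
      · subst b; rw [hs1, hsi j a' b'] at h; exact absurd h.symm (hform j a' b').2.2
      · subst b'; rw [hs1, hsi i a b] at h; exact absurd h (hform i a b).2.2
      · rw [hsi i a b, hsi j a' b'] at h
        exact hinj i j a b a' b' (by rw [(hform i a b).1, (hform j a' b').1, h])
  let σ : Perm α := Equiv.ofBijective s (Finite.injective_iff_bijective.1 hsinj)
  refine ⟨σ, ?_⟩
  let K : Subgroup (alternatingGroup α) :=
    MonoidHom.eqLocus (MulAut.conjNormal σ).toMonoidHom φ.toMonoidHom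
  have hgen : ∀ i, i ≠ v0 → i ≠ v1 → cyc v0 v1 i ∈ K.map (alternatingGroup α).subtype := by
    intro i a b
    refine ⟨⟨cyc v0 v1 i, (hT i a b).mem_alternatingGroup⟩, ?_, rfl⟩
    refine Subtype.ext ?_
    simp only [MulEquiv.coe_toMonoidHom, MulAut.conjNormal_apply, cyc_conj]
    show cyc (s v0) (s v1) (s i) = X i a b
    rw [hs0, hs1, hsi i a b, ← (hform i a b).1]
  have hle := cyc_mem_of_edge (K.map (alternatingGroup α).subtype) h01 hgen
  refine MulEquiv.ext fun y => ?_
  obtain ⟨z, hz, hzy⟩ := hle y.2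
  obtain rfl : z = y := Subtype.ext hzy
  exact hz

theorem isConj_alternating_of_isConj {a b : alternatingGroup α} (h : IsConj (a : Perm α) b)
    (ha : ¬ EvenCentralizer (a : Perm α)) : IsConj a b := by
  obtain ⟨g, hg⟩ := isConj_iff.1 h
  rcases Int.units_eq_one_or (sign g) with hg1 | hg1
  · exact isConj_iff.2 ⟨⟨g, mem_alternatingGroup.2 hg1⟩, Subtype.ext hg⟩
  simp only [EvenCentralizer, not_forall] at ha
  obtain ⟨t, ht, ht1⟩ := ha
  have ht2 := (Int.units_eq_one_or (sign t)).resolve_left ht1
  refine isConj_iff.2 ⟨⟨g * t, mem_alternatingGroup.2 (by rw [map_mul, hg1, ht2]; rfl)⟩, Subtype.ext ?_⟩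
  show g * t * (a : Perm α) * (g * t)⁻¹ = b
  rw [mul_assoc g t, ht, ← hg]
  group

theorem cycleType_of_order_three {x : Perm (Fin 6)} (hx : orderOf x = 3) :
    x.cycleType = {3} ∨ x.cycleType = {3, 3} := by
  obtain ⟨k, hk⟩ := cycleType_prime_order (σ := x) (by rw [hx]; exact Nat.prime_three)
  rw [hx] at hk
  have hs : x.support.card = 3 * (k + 1) := by
    rw [← sum_cycleType, hk, Multiset.sum_replicate, smul_eq_mul, mul_comm]
  have hle := x.support.card_le_univ
  rw [Fintype.card_fin] at hle
  rcases k with _ | _ | k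
  · exact Or.inl hk
  · exact Or.inr hk
  · omega

theorem not_evenCentralizer_three_three {x : Perm (Fin 6)} (hx : x.cycleType = {3, 3}) :
    ¬ EvenCentralizer x := by
  intro h
  have h0 : (cyc (0 : Fin 6) 1 2 * cyc 3 4 5).cycleType = {3, 3} := by
    have hd : Equiv.Perm.Disjoint (cyc (0 : Fin 6) 1 2) (cyc 3 4 5) := fun z => by revert z; decide
    rw [hd.cycleType_mul, (cyc_isThreeCycle (by decide) (by decide) (by decide)).cycleType,
      (cyc_isThreeCycle (by decide) (by decide) (by decide)).cycleType]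
    rfl
  have := (h.of_conj (isConj_iff_cycleType_eq.2 (hx.trans h0.symm))) (swap 0 3 * swap 1 4 * swap 2 5)
    (by decide)
  exact absurd this (by decide)

/-- An automorphism of odd order of `A₆` preserves the three-cycles. -/
theorem threeCycle_map_six (φ : MulAut (alternatingGroup (Fin 6))) (hodd : Odd (orderOf φ))
    (x : alternatingGroup (Fin 6)) (hx : (x : Perm (Fin 6)).IsThreeCycle) :
    ((φ x : alternatingGroup (Fin 6)) : Perm (Fin 6)).IsThreeCycle := by
  have ord : ∀ (ψ : MulAut (alternatingGroup (Fin 6))) (y : alternatingGroup (Fin 6)),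
      orderOf (y : Perm (Fin 6)) = 3 → orderOf ((ψ y : alternatingGroup (Fin 6)) : Perm (Fin 6)) = 3 := fun ψ y hy => by
    rw [Subgroup.orderOf_coe] at hy ⊢
    rwa [MulEquiv.orderOf_eq]
  -- automorphisms map conjugate elements to elements of equal type
  have same : ∀ (ψ : MulAut (alternatingGroup (Fin 6))) (y z : alternatingGroup (Fin 6)),
      orderOf (y : Perm (Fin 6)) = 3 → (y : Perm (Fin 6)).cycleType = (z : Perm (Fin 6)).cycleType →
      ((ψ y : alternatingGroup (Fin 6)) : Perm (Fin 6)).cycleType = ((ψ z : alternatingGroup (Fin 6)) : Perm (Fin 6)).cycleType := by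
    intro ψ y z hy h
    have hne : ¬ EvenCentralizer (y : Perm (Fin 6)) := by
      rcases cycleType_of_order_three hy with h3 | h3
      · exact not_evenCentralizer_threeCycle (by simp) h3
      · exact not_evenCentralizer_three_three h3
    obtain ⟨g, rfl⟩ := isConj_iff.1 (isConj_alternating_of_isConj (isConj_iff_cycleType_eq.2 h) hne)
    rw [map_mul, map_mul, map_inv]
    exact isConj_iff_cycleType_eq.1 (isConj_iff.2 ⟨((ψ g : alternatingGroup (Fin 6)) : Perm (Fin 6)), rfl⟩)
  have key : ∀ (ψ : MulAut (alternatingGroup (Fin 6))) (y : alternatingGroup (Fin 6)), (y : Perm (Fin 6)).IsThreeCycle →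
      (((ψ * ψ) y : alternatingGroup (Fin 6)) : Perm (Fin 6)).IsThreeCycle := by
    intro ψ y hy
    rcases cycleType_of_order_three (ord ψ y hy.orderOf) with h | h
    · show ((ψ (ψ y) : alternatingGroup (Fin 6)) : Perm (Fin 6)).cycleType = {3}
      rw [same ψ (ψ y) y (ord ψ y hy.orderOf) (h.trans hy.symm)]
      exact h
    · rcases cycleType_of_order_three (ord ψ _ (ord ψ y hy.orderOf)) with h' | h'
      · exact h'
      · exfalso
        obtain ⟨w, hw⟩ := ψ.surjective y
        have hw3 : orderOf (w : Perm (Fin 6)) = 3 := by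
          have := ord ψ⁻¹ y hy.orderOf
          rwa [← hw, show (ψ⁻¹ : MulAut (alternatingGroup (Fin 6))) (ψ w) = w from ψ.symm_apply_apply w] at this
        have h1 : ({3} : Multiset ℕ) = {3, 3} := by
          rcases cycleType_of_order_three hw3 with e | e
          · rw [← h, ← hy, ← hw]; exact (same ψ w y hw3 (e.trans hy.symm)).trans (by rw [hw])
          · rw [← h', ← hy, ← hw]; exact (same ψ w (ψ y) hw3 (e.trans h.symm)).trans (by rw [hw])
        exact absurd h1 (by decide)
  obtain ⟨k, hk⟩ := hodd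
  have hφ : φ = φ ^ (k + 1) * φ ^ (k + 1) := by
    rw [← pow_add, show k + 1 + (k + 1) = orderOf φ + 1 by omega, pow_succ, pow_orderOf_eq_one, one_mul]
  rw [hφ]
  exact key _ x hx

/-- An automorphism of odd order of `A_n` is conjugation by a permutation. -/
theorem exists_conjNormal_eq_of_odd {n : ℕ} (hn : 4 ≤ n) (φ : MulAut (alternatingGroup (Fin n)))
    (hodd : Odd (orderOf φ)) : ∃ σ : Perm (Fin n), MulAut.conjNormal σ = φ := by
  by_cases h6 : n = 6
  · subst h6
    exact exists_conjNormal_eq_of_threeCycle_map (by simp) φ (threeCycle_map_six φ hodd)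
  · exact conjNormal_surjective (by rwa [Fintype.card_fin]) (by rwa [Fintype.card_fin]) φ

/-- An `r`-group of permutations of fewer than `r²` points is abelian. -/
theorem commute_of_isPGroup_of_card_lt_sq {r : ℕ} [hr : Fact r.Prime] (P : Subgroup (Perm α)) (hP : IsPGroup r P)
    (hα : Fintype.card α < r ^ 2) (x y : Perm α) (hx : x ∈ P) (hy : y ∈ P) : x * y = y * x := by
  classical
  ext a
  let O := MulAction.orbit P a
  have hcardO : Nat.card O ≤ r := by
    obtain ⟨i, hi⟩ := hP.card_orbit a
    rcases Nat.lt_or_ge i 2 with h | h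
    · rw [hi]; exact le_trans (Nat.pow_le_pow_right hr.out.pos (show i ≤ 1 by omega)) (pow_one r).le
    · exfalso
      have h1 : Nat.card O ≤ Fintype.card α := by
        rw [← Nat.card_eq_fintype_card]; exact Nat.card_le_card_of_injective _ Subtype.val_injective
      rw [hi] at h1
      have := Nat.pow_le_pow_right hr.out.pos h
      omega
  let f : P →* Perm O := MulAction.toPermHom P O
  have hfr : IsPGroup r f.range := hP.of_surjective f.rangeRestrict f.rangeRestrict_surjective
  obtain ⟨m, hm⟩ := IsPGroup.iff_card.1 hfr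
  have hm1 : m ≤ 1 := by
    by_contra h
    have hd : Nat.card f.range ∣ Nat.card (Perm O) := Subgroup.card_subgroup_dvd_card _
    rw [Nat.card_perm, hm] at hd
    have h2 : r ^ 2 ∣ (Nat.card O).factorial := (pow_dvd_pow r (by omega)).trans hd
    have h3 : r ^ 2 ∣ r.factorial := h2.trans (Nat.factorial_dvd_factorial hcardO)
    obtain ⟨s, hs⟩ : ∃ s, r = s + 1 := ⟨r - 1, by have := hr.out.two_le; omega⟩
    have h4 : r * r ∣ r * s.factorial := by rw [← sq]; rwa [hs, Nat.factorial_succ, ← hs] at h3
    have h5 := (Nat.Prime.dvd_factorial hr.out).1 (Nat.dvd_of_mul_dvd_mul_left hr.out.pos h4)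
    omega
  have hcyc : IsCyclic f.range := by
    rcases Nat.le_one_iff_eq_zero_or_eq_one.1 hm1 with h | h
    · rw [h, pow_zero] at hm
      haveI : Subsingleton f.range := (Nat.card_eq_one_iff_unique.1 hm).1
      exact isCyclic_of_subsingleton
    · rw [h, pow_one] at hm; exact isCyclic_of_prime_card hm
  letI : CommGroup f.range := IsCyclic.commGroup
  have := congrArg Subtype.val (mul_comm (f.rangeRestrict ⟨x, hx⟩) (f.rangeRestrict ⟨y, hy⟩))
  have h' := congrArg (fun g : Perm O => ((g ⟨a, MulAction.mem_orbit_self a⟩ : O) : α)) this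
  exact h'

end CfsgLib.FGStruct
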