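import Cfsg.Agent.Lib.Zassenhaus.Structure
import Cfsg.Agent.Lib.Solvable.Core
import Cfsg.Agent.Lib.PermGen.SwapClosure

/-!
The automorphism group of a solvable group with a fixed-point-free representation is solvable.
-/

set_option autoImplicit false
set_option linter.style.haveILetI false

namespace CfsgLib.AutFpf

open CfsgLib.Zassenhaus

theorem isSolvable_of_ker_comm {A B : Type*} [Group A] [Group B] [hB : Group.IsSolvable B]
    (f : A →* B) (h : ∀ a b : A, f a = 1 → f b = 1 → a * b = b * a) : Group.IsSolvable A := by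
  haveI : Group.IsSolvable f.ker := Group.isSolvable_of_comm fun a b => Subtype.ext (h a b a.2 b.2)
  exact Group.isSolvable_of_ker_le_range f.ker.subtype f (by rw [Subgroup.range_subtype])

theorem isSolvable_mulAut_of_le_four (V : Type*) [Group V] [Finite V] (h : Nat.card V ≤ 4) :
    Group.IsSolvable (MulAut V) := by
  classical
  have := Fintype.ofFinite V
  obtain ⟨e⟩ : Nonempty (V ↪ Fin 4) := by
    apply Function.Embedding.nonempty_of_card_le
    simpa [Nat.card_eq_fintype_card] using h
  haveI := CfsgLib.PermGen.perm_four_isSolvable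
  haveI : Group.IsSolvable (Equiv.Perm V) :=
    Group.isSolvable_of_isSolvable_injective (Equiv.Perm.viaEmbeddingHom_injective e)
  exact Group.isSolvable_of_isSolvable_injective (f := MulAut.toPerm V)
    fun a b hab => MulEquiv.ext fun v => Equiv.ext_iff.mp hab v

theorem isSolvable_mulAut_congr {P Q : Type*} [Group P] [Group Q] (e : P ≃* Q)
    (h : Group.IsSolvable (MulAut P)) : Group.IsSolvable (MulAut Q) :=
  Group.isSolvable_of_isSolvable_injective (f := (MulAut.congr e).symm.toMonoidHom)
    (MulAut.congr e).symm.injective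

theorem isSolvable_mulAut_of_isCyclic (A : Type*) [Group A] [IsCyclic A] :
    Group.IsSolvable (MulAut A) :=
  Group.isSolvable_of_comm fun a b => by
    obtain ⟨u, rfl⟩ := (IsCyclic.mulAutMulEquiv A).symm.surjective a
    obtain ⟨v, rfl⟩ := (IsCyclic.mulAutMulEquiv A).symm.surjective b
    rw [← map_mul, ← map_mul, mul_comm]

variable {P : Type*} [Group P]

theorem apply_mem_of_char (A : Subgroup P) [hA : A.Characteristic] (α : MulAut P) {a : P}
    (ha : a ∈ A) : α a ∈ A := by
  have h := Subgroup.characteristic_iff_map_le.1 hA α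
  exact h ⟨a, ha, rfl⟩

/-- Restriction of automorphisms to a characteristic subgroup. -/
def restrictHom (A : Subgroup P) [A.Characteristic] : MulAut P →* MulAut A where
  toFun α :=
    { toFun := fun a => ⟨α a, apply_mem_of_char A α a.2⟩
      invFun := fun a => ⟨α⁻¹ (a : P), apply_mem_of_char A α⁻¹ a.2⟩
      left_inv := fun a => Subtype.ext (by simp)
      right_inv := fun a => Subtype.ext (by simp)
      map_mul' := fun x y => Subtype.ext (by simp) }
  map_one' := by ext a; rfl
  map_mul' := fun α β => by ext a; rfl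

theorem restrictHom_fix {A : Subgroup P} [A.Characteristic] {α : MulAut P}
    (h : restrictHom A α = 1) {a : P} (ha : a ∈ A) : α a = a :=
  congrArg Subtype.val (MulEquiv.congr_fun h ⟨a, ha⟩)

/-- The automorphisms fixing an abelian subgroup and moving each element inside its coset commute. -/
theorem stabilizer_comm {A : Subgroup P} (hA : ∀ a ∈ A, ∀ b ∈ A, a * b = b * a) {α β : MulAut P}
    (hα : ∀ a ∈ A, α a = a) (hβ : ∀ a ∈ A, β a = a)
    (hα' : ∀ x, x⁻¹ * α x ∈ A) (hβ' : ∀ x, x⁻¹ * β x ∈ A) : α * β = β * α := by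
  ext x
  have h1 : α (β x) = x * ((x⁻¹ * α x) * (x⁻¹ * β x)) := by
    conv_lhs => rw [← mul_inv_cancel_left x (β x), map_mul, hα _ (hβ' x)]
    group
  have h2 : β (α x) = x * ((x⁻¹ * β x) * (x⁻¹ * α x)) := by
    conv_lhs => rw [← mul_inv_cancel_left x (α x), map_mul, hβ _ (hα' x)]
    group
  simp only [MulAut.mul_apply]
  rw [h1, h2, hA _ (hα' x) _ (hβ' x)]

/-- A characteristic abelian subgroup with solvable automorphism groups above and below. -/
theorem isSolvable_mulAut_of_char (A : Subgroup P) [A.Characteristic]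
    (hA : ∀ a ∈ A, ∀ b ∈ A, a * b = b * a) (h1 : Group.IsSolvable (MulAut A))
    (h2 : Group.IsSolvable (MulAut (P ⧸ A))) : Group.IsSolvable (MulAut P) := by
  have hmap : ∀ α : MulAut P, A.map α.toMonoidHom = A := fun α =>
    Subgroup.characteristic_iff_map_eq.1 inferInstance α
  let ψ : MulAut P →* MulAut (P ⧸ A) :=
    { toFun := fun α => QuotientGroup.congr A A α (hmap α)
      map_one' := by
        ext v; induction v using QuotientGroup.induction_on with
        | H v => rfl
      map_mul' := fun a b => by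
        ext v; induction v using QuotientGroup.induction_on with
        | H v => rfl }
  let f : MulAut P →* MulAut A × MulAut (P ⧸ A) := (restrictHom A).prod ψ
  refine isSolvable_of_ker_comm f fun α β hα hβ => ?_
  simp only [f, MonoidHom.prod_apply, Prod.mk_eq_one] at hα hβ
  have hdisp : ∀ γ : MulAut P, ψ γ = 1 → ∀ x, x⁻¹ * γ x ∈ A := fun γ hγ x =>
    QuotientGroup.eq.mp (MulEquiv.congr_fun hγ (QuotientGroup.mk x)).symm
  exact stabilizer_comm hA (fun a ha => restrictHom_fix hα.1 ha) (fun a ha => restrictHom_fix hβ.1 ha)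
    (hdisp α hα.2) (hdisp β hβ.2)

/-- Cyclic and quaternion groups have solvable automorphism groups. -/
theorem isSolvable_mulAut_of_quat {G : Type*} [Group G] [Finite G] {Q : Subgroup G} {t : G} {a : ℕ}
    (h : IsQuat Q t a) : Group.IsSolvable (MulAut Q) := by
  by_cases ha : 4 ≤ a
  · let t' : Q := ⟨t, h.mem⟩
    have hchar : (Subgroup.zpowers t').Characteristic := by
      rw [Subgroup.characteristic_iff_map_le]
      intro α
      rw [MonoidHom.map_zpowers, Subgroup.zpowers_le]
      by_contra hne
      have hne' : ((α t' : Q) : G) ∉ Subgroup.zpowers t := by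
        rintro ⟨k, hk⟩
        exact hne ⟨k, Subtype.ext (by simpa using hk)⟩
      have h4 := h.orderOf_outer (α t').2 hne'
      rw [Subgroup.orderOf_coe, MulEquiv.orderOf_eq, Subgroup.orderOf_mk, h.orderOf_t] at h4
      omega
    have hcard : Nat.card (Q ⧸ Subgroup.zpowers t') ≤ 4 := by
      have := Subgroup.card_eq_card_quotient_mul_card_subgroup (Subgroup.zpowers t')
      rw [h.card, Nat.card_zpowers, Subgroup.orderOf_mk, h.orderOf_t] at this
      nlinarith
    exact isSolvable_mulAut_of_char (Subgroup.zpowers t')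
      (fun x hx y hy => by
        obtain ⟨i, rfl⟩ := hx; obtain ⟨j, rfl⟩ := hy; exact (Commute.zpow_zpow_self t' i j).eq)
      (isSolvable_mulAut_of_isCyclic _) (isSolvable_mulAut_of_le_four _ hcard)
  · have ha2 : a = 2 := by
      obtain ⟨k, hk⟩ := h.exists_pow
      have h2 := h.two_le
      match k with
      | 0 => simp at hk; omega
      | 1 => simpa using hk
      | k + 2 => rw [pow_succ, pow_succ] at hk; have := Nat.one_le_two_pow (n := k); omega
    haveI : Fact (Nat.Prime 2) := ⟨Nat.prime_two⟩
    haveI : Nontrivial Q := by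
      rw [← Finite.one_lt_card_iff_nontrivial, h.card]
      omega
    haveI := h.isPGroup.center_nontrivial
    have hne : Subgroup.center Q ≠ ⊤ := by
      intro htop
      obtain ⟨g, hg, hgt⟩ := h.exists_outer
      have hc : (⟨g, hg⟩ : Q) * ⟨t, h.mem⟩ = ⟨t, h.mem⟩ * ⟨g, hg⟩ :=
        (Subgroup.mem_center_iff.1 (htop ▸ Subgroup.mem_top (⟨t, h.mem⟩ : Q)) ⟨g, hg⟩)
      have hc' : g * t = t * g := congrArg Subtype.val hc
      have h3 := (h.outer g hg hgt).2
      rw [hc', mul_inv_cancel_right] at h3
      have h4 : orderOf t ∣ 2 := orderOf_dvd_of_pow_eq_one (by rw [pow_two]; nth_rw 1 [h3]; simp)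
      rw [h.orderOf_t, ha2] at h4
      norm_num at h4
    have hc := Subgroup.card_eq_card_quotient_mul_card_subgroup (Subgroup.center Q)
    rw [h.card, ha2] at hc
    have h1 : 1 < Nat.card (Subgroup.center Q) := Finite.one_lt_card
    have h2 : 1 < Nat.card (Q ⧸ Subgroup.center Q) := by
      rw [← Subgroup.index_eq_card]
      have e0 := Subgroup.index_ne_zero_of_finite (H := Subgroup.center Q)
      have e1 : (Subgroup.center Q).index ≠ 1 := fun e => hne (Subgroup.index_eq_one.1 e)
      omega
    refine isSolvable_mulAut_of_char (Subgroup.center Q)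
      (fun x hx y _ => (Subgroup.mem_center_iff.1 hx y).symm)
      (isSolvable_mulAut_of_le_four _ (by nlinarith)) (isSolvable_mulAut_of_le_four _ (by nlinarith))

theorem isSolvable_mulAut_pgroup {G : Type*} [Group G] [Finite G] (hG : HasFpf G) {p : ℕ}
    [Fact p.Prime] {Q : Subgroup G} (hQ : IsPGroup p Q) : Group.IsSolvable (MulAut Q) := by
  rcases hG.cyclic_or_quat hQ with hc | ⟨-, t, a, h⟩
  · exact isSolvable_mulAut_of_isCyclic Q
  · exact isSolvable_mulAut_of_quat h

/-- The automorphism group of a nilpotent group with a fixed-point-free representation. -/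
theorem isSolvable_mulAut_nilpotent {F : Type*} [Group F] [Finite F] [Group.IsNilpotent F]
    (hF : HasFpf F) : Group.IsSolvable (MulAut F) := by
  classical
  let S : (Nat.card F).primeFactors → Subgroup F := fun q =>
    haveI : Fact (q : ℕ).Prime := ⟨(Nat.mem_primeFactors.1 q.2).1⟩
    ((default : Sylow (q : ℕ) F) : Subgroup F)
  have hchar : ∀ q, (S q).Characteristic := fun q => by
    haveI : Fact (q : ℕ).Prime := ⟨(Nat.mem_primeFactors.1 q.2).1⟩
    exact Sylow.characteristic_of_normal _ inferInstance
  have hsol : ∀ q, Group.IsSolvable (MulAut (S q)) := fun q => by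
    haveI : Fact (q : ℕ).Prime := ⟨(Nat.mem_primeFactors.1 q.2).1⟩
    exact isSolvable_mulAut_pgroup hF (default : Sylow (q : ℕ) F).isPGroup'
  have hn : ∀ q, ∃ n, derivedSeries (MulAut (S q)) n = ⊥ := fun q => (hsol q).solvable
  choose n hn using hn
  refine ⟨⟨Finset.univ.sup n, eq_bot_iff.2 fun α hα => ?_⟩⟩
  rw [Subgroup.mem_bot]
  have hfix : ∀ q, ∀ a ∈ S q, α a = a := fun q a ha => by
    haveI := hchar q
    refine restrictHom_fix ?_ ha
    rw [← Subgroup.mem_bot, ← hn q]
    exact derivedSeries_antitone _ (Finset.le_sup (Finset.mem_univ q))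
      (map_derivedSeries_le_derivedSeries (restrictHom (S q)) _ ⟨α, hα, rfl⟩)
  have htop : (⨆ q, S q) = ⊤ := by
    refine Subgroup.eq_top_of_card_eq _ (Nat.dvd_antisymm (Subgroup.card_subgroup_dvd_card _) ?_)
    rw [← Nat.factorization_le_iff_dvd Nat.card_pos.ne' Nat.card_pos.ne']
    intro q
    by_cases hq : q ∈ (Nat.card F).primeFactors
    swap
    · rw [← Nat.support_factorization, Finsupp.notMem_support_iff] at hq
      simp [hq]
    have hqp := (Nat.mem_primeFactors.1 hq).1
    haveI : Fact q.Prime := ⟨hqp⟩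
    refine (hqp.pow_dvd_iff_le_factorization Nat.card_pos.ne').1 ?_
    rw [← Sylow.card_eq_multiplicity (default : Sylow q F)]
    exact Subgroup.card_dvd_of_le (le_iSup S ⟨q, hq⟩)
  ext x
  show α x = x
  have hle : (⨆ q, S q) ≤ MonoidHom.eqLocus α.toMonoidHom (MonoidHom.id F) :=
    iSup_le fun q a ha => hfix q a ha
  rw [htop] at hle
  exact hle (Subgroup.mem_top x)

/-- The automorphism group of a solvable group with a fixed-point-free representation is
solvable. -/
theorem isSolvable_mulAut {H : Type*} [Group H] [Finite H] [Group.IsSolvable H] (hH : HasFpf H) :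
    Group.IsSolvable (MulAut H) := by
  haveI := CfsgLib.Solvable.fittingSubgroup_characteristic H
  haveI := CfsgLib.Solvable.fittingSubgroup_isNilpotent H
  haveI := CfsgLib.Solvable.fittingSubgroup_normal H
  haveI := isSolvable_mulAut_nilpotent (hH.subgroup (Cfsg.fittingSubgroup H))
  refine isSolvable_of_ker_comm (restrictHom (Cfsg.fittingSubgroup H)) fun α β hα hβ => ?_
  have key : ∀ γ : MulAut H, restrictHom (Cfsg.fittingSubgroup H) γ = 1 →
      ∀ x, x⁻¹ * γ x ∈ (Subgroup.center (Cfsg.fittingSubgroup H)).map (Subgroup.subtype _) := by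
    intro γ hγ x
    have hc : x⁻¹ * γ x ∈ Subgroup.centralizer (Cfsg.fittingSubgroup H : Set H) := by
      rw [Subgroup.mem_centralizer_iff]
      intro f hf
      have hxf : x * f * x⁻¹ ∈ Cfsg.fittingSubgroup H :=
        (CfsgLib.Solvable.fittingSubgroup_normal H).conj_mem f hf x
      have h1 := restrictHom_fix hγ hxf
      rw [map_mul, map_mul, map_inv, restrictHom_fix hγ hf] at h1
      calc f * (x⁻¹ * γ x) = x⁻¹ * (x * f * x⁻¹) * γ x := by group
        _ = x⁻¹ * (γ x * f * (γ x)⁻¹) * γ x := by rw [h1]
        _ = x⁻¹ * γ x * f := by group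
    have hF := CfsgLib.Solvable.centralizer_fittingSubgroup_le hc
    exact ⟨⟨_, hF⟩, Subgroup.mem_center_iff.2 fun f =>
      Subtype.ext (Subgroup.mem_centralizer_iff.1 hc f f.2), rfl⟩
  refine stabilizer_comm (A := (Subgroup.center (Cfsg.fittingSubgroup H)).map (Subgroup.subtype _)) ?_
    (fun a ha => restrictHom_fix hα (Subgroup.map_subtype_le _ ha))
    (fun a ha => restrictHom_fix hβ (Subgroup.map_subtype_le _ ha)) (key α hα) (key β hβ)
  rintro _ ⟨a, ha, rfl⟩ _ ⟨b, -, rfl⟩
  exact congrArg Subtype.val ((Subgroup.mem_center_iff.1 ha b).symm)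

end CfsgLib.AutFpf
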