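import Mathlib
import Cfsg.Agent.Lib.PGroup.Basic

/-!
Burnside's basis theorem: generating tuples of a finite `p`-group, and the order of its automorphism group.
-/

open Subgroup
open scoped commutatorElement

namespace CfsgLib.FGStruct

variable {P : Type*} [Group P] [Finite P] {p : ℕ} [Fact p.Prime]

/-- Generating `r`-tuples. -/
abbrev GenTuple (G : Type*) [Group G] (r : ℕ) := {f : Fin r → G // closure (Set.range f) = ⊤}

theorem natCard_genTuple_elementary {V : Type*} [CommGroup V] [Finite V] {r : ℕ}
    (hV : ∀ v : V, v ^ p = 1) (hr : Nat.card V = p ^ r) :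
    Nat.card (GenTuple V r) = ∏ i ∈ Finset.range r, (p ^ r - p ^ i) := by
  letI : Module (ZMod p) (Additive V) := AddCommGroup.zmodModule (n := p) (G := Additive V) (fun v => hV v.toMul)
  have hfin : Module.finrank (ZMod p) (Additive V) = r := by
    haveI : Module.Finite (ZMod p) (Additive V) := Module.Finite.of_finite
    have h : Nat.card (Additive V) = Nat.card (ZMod p) ^ Module.finrank (ZMod p) (Additive V) :=
      (Nat.card_congr (Module.finBasis (ZMod p) (Additive V)).equivFun.toEquiv).trans (by rw [Nat.card_fun, Nat.card_fin])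
    rw [Nat.card_zmod, show Nat.card (Additive V) = p ^ r from hr] at h
    exact (Nat.pow_right_injective (Fact.out : p.Prime).two_le h).symm
  have hgen : ∀ f : Fin r → V, closure (Set.range f) = ⊤ ↔
      LinearIndependent (ZMod p) (fun i => Additive.ofMul (f i)) := by
    intro f
    have hspan : closure (Set.range f) = ⊤ ↔
        (⊤ : Submodule (ZMod p) (Additive V)) ≤ Submodule.span (ZMod p) (Set.range fun i => Additive.ofMul (f i)) := by
      constructor
      · intro h
        refine SetLike.le_def.2 fun v => ?_
        intro htop; clear htop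
        have hv : v.toMul ∈ closure (Set.range f) := h ▸ mem_top _
        obtain ⟨w, rfl⟩ : ∃ w : V, Additive.ofMul w = v := ⟨v.toMul, rfl⟩
        change w ∈ closure (Set.range f) at hv
        induction hv using Subgroup.closure_induction with
        | mem x hx => exact Submodule.subset_span (by obtain ⟨i, rfl⟩ := hx; exact ⟨i, rfl⟩)
        | one => exact Submodule.zero_mem _
        | mul x y _ _ hx hy => exact Submodule.add_mem _ hx hy
        | inv x _ hx => exact Submodule.neg_mem _ hx
      · intro h
        refine eq_top_iff.2 fun v _ => ?_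
        have hle : Submodule.span (ZMod p) (Set.range fun i => Additive.ofMul (f i)) ≤
            AddSubgroup.toZModSubmodule p (Subgroup.toAddSubgroup (closure (Set.range f))) := by
          rw [Submodule.span_le]
          rintro _ ⟨i, rfl⟩
          exact (Subgroup.subset_closure ⟨i, rfl⟩ : f i ∈ closure (Set.range f))
        exact hle (SetLike.le_def.1 h (Submodule.mem_top (x := Additive.ofMul v)))
    rw [hspan]
    exact ⟨fun h => linearIndependent_of_top_le_span_of_card_eq_finrank h (by rw [Fintype.card_fin, hfin]),
      fun h => (h.span_eq_top_of_card_eq_finrank' (by rw [Fintype.card_fin, hfin])).ge⟩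
  have := card_linearIndependent (K := ZMod p) (V := Additive V) (k := r) hfin.ge
  rw [ZMod.card, hfin, Finset.prod_fin_eq_prod_range] at this
  rw [Nat.card_congr (Equiv.subtypeEquiv (q := fun a : Fin r → Additive V => LinearIndependent (ZMod p) a)
    (Equiv.piCongrRight fun _ : Fin r => (Additive.ofMul : V ≃ Additive V)) hgen)]
  refine this.trans (Finset.prod_congr rfl fun i hi => ?_)
  rw [dif_pos (Finset.mem_range.1 hi)]

theorem closure_range_eq_top_iff {r : ℕ} (f : Fin r → P) :
    closure (Set.range f) = ⊤ ↔ closure (Set.range (fun i => (f i : P ⧸ frattini P))) = ⊤ := by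
  have hmap : closure (Set.range (fun i => (f i : P ⧸ frattini P))) =
      (closure (Set.range f)).map (QuotientGroup.mk' (frattini P)) := by
    rw [MonoidHom.map_closure, ← Set.range_comp]; rfl
  rw [hmap]
  constructor
  · intro h; rw [h]; exact Subgroup.map_top_of_surjective _ (QuotientGroup.mk'_surjective _)
  · intro h
    apply frattini_nongenerating
    have := congrArg (Subgroup.comap (QuotientGroup.mk' (frattini P))) h
    rwa [Subgroup.comap_map_eq, QuotientGroup.ker_mk', Subgroup.comap_top] at this

/-- The tuples above a given tuple of the Frattini quotient. -/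
noncomputable def fiberEquiv {r : ℕ} (g : Fin r → P ⧸ frattini P) :
    {f : Fin r → P // ∀ i, (f i : P ⧸ frattini P) = g i} ≃ (Fin r → frattini P) where
  toFun f i := ⟨(Quotient.out (g i))⁻¹ * f.1 i,
    QuotientGroup.eq.1 ((QuotientGroup.out_eq' (g i)).trans (f.2 i).symm)⟩
  invFun h := ⟨fun i => Quotient.out (g i) * h i, fun i => by
    rw [QuotientGroup.mk_mul_of_mem _ (h i).2, QuotientGroup.out_eq']⟩
  left_inv f := Subtype.ext (funext fun i => mul_inv_cancel_left _ _)
  right_inv h := funext fun i => Subtype.ext (inv_mul_cancel_left _ _)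

theorem natCard_frattini {n r : ℕ} (hP : Nat.card P = p ^ n) (hr : (frattini P).index = p ^ r) :
    Nat.card (frattini P) = p ^ (n - r) ∧ r ≤ n := by
  have h := (frattini P).card_mul_index
  rw [hP, hr] at h
  have hp := (Fact.out : p.Prime)
  have hle : r ≤ n := (Nat.pow_dvd_pow_iff_le_right hp.one_lt).1 ⟨_, (mul_comm (Nat.card (frattini P)) _ ▸ h).symm⟩
  refine ⟨Nat.eq_of_mul_eq_mul_right (pow_pos hp.pos r) ?_, hle⟩
  rw [h, ← pow_add, Nat.sub_add_cancel hle]

/-- Generating `r`-tuples of the Frattini quotient. -/
theorem natCard_genTuple_quotient {n r : ℕ} (hP : Nat.card P = p ^ n) (hr : (frattini P).index = p ^ r) :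
    Nat.card (GenTuple (P ⧸ frattini P) r) = ∏ i ∈ Finset.range r, (p ^ r - p ^ i) := by
  have hPp : IsPGroup p P := IsPGroup.of_card hP
  letI : CommGroup (P ⧸ frattini P) :=
    { (inferInstance : Group (P ⧸ frattini P)) with
      mul_comm := fun a b => by
        induction a using QuotientGroup.induction_on with
        | H x =>
          induction b using QuotientGroup.induction_on with
          | H y =>
            refine QuotientGroup.eq.2 (CfsgLib.PGroup.commutator_le_frattini hPp ?_)
            rw [show (x * y)⁻¹ * (y * x) = ⁅y⁻¹, x⁻¹⁆ by rw [commutatorElement_def]; group]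
            exact commutator_mem_commutator (mem_top _) (mem_top _) }
  refine natCard_genTuple_elementary (V := P ⧸ frattini P) (fun v => ?_) hr
  induction v using QuotientGroup.induction_on with
  | H x => exact (QuotientGroup.eq_one_iff _).2 (CfsgLib.PGroup.pow_mem_frattini hPp x)

/-- A group of automorphisms acting on a set of generating tuples has order dividing its size. -/
theorem card_dvd_of_tuples {r : ℕ} (A : Subgroup (MulAut P)) (S : (Fin r → P) → Prop)
    (hgen : ∀ f, S f → closure (Set.range f) = ⊤) (hinv : ∀ α ∈ A, ∀ f, S f → S (fun i => α (f i))) :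
    Nat.card A ∣ Nat.card {f // S f} := by
  let act : MulAction A {f // S f} :=
    { smul := fun α f => ⟨fun i => (α : MulAut P) (f.1 i), hinv _ α.2 _ f.2⟩
      one_smul := fun f => rfl
      mul_smul := fun α β f => rfl }
  have hfree : ∀ f : {f // S f}, MulAction.stabilizer A f = ⊥ := by
    intro f
    rw [eq_bot_iff]
    intro α hα
    have heq : Set.EqOn ((α : MulAut P) : P → P) (id : P → P) (Set.range f.1) := by
      rintro _ ⟨i, rfl⟩
      exact congrFun (congrArg Subtype.val hα) i
    have := MonoidHom.eq_of_eqOn_dense (f := (α : MulAut P).toMonoidHom) (g := MonoidHom.id P) (hgen _ f.2) heq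
    exact Subgroup.mem_bot.2 (Subtype.ext (MulEquiv.ext fun x => DFunLike.congr_fun this x))
  rw [Nat.card_congr (MulAction.selfEquivOrbitsQuotientProd hfree), Nat.card_prod]
  exact dvd_mul_left _ _

/-- Automorphisms trivial on the Frattini quotient. -/
theorem card_dvd_trivial_on_frattini_quotient {n r : ℕ} (hP : Nat.card P = p ^ n)
    (hr : (frattini P).index = p ^ r) (A : Subgroup (MulAut P))
    (hA : ∀ α ∈ A, ∀ x : P, α x * x⁻¹ ∈ frattini P) : Nat.card A ∣ p ^ (r * (n - r)) := by
  have hne : Nonempty (GenTuple (P ⧸ frattini P) r) := by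
    refine (Nat.card_pos_iff.1 ?_).1
    rw [natCard_genTuple_quotient hP hr]
    exact Finset.prod_pos fun i hi => Nat.sub_pos_of_lt
      (Nat.pow_lt_pow_right (Fact.out : p.Prime).one_lt (Finset.mem_range.1 hi))
  obtain ⟨g, hg⟩ := hne
  have h := card_dvd_of_tuples A (fun f => ∀ i, (f i : P ⧸ frattini P) = g i)
    (fun f hf => (closure_range_eq_top_iff f).2 (by rwa [funext hf]))
    (fun α hα f hf i => by
      rw [← hf i]
      refine QuotientGroup.eq.2 ?_
      have h1 := inv_mem (hA α hα (f i))
      have h2 := (inferInstance : (frattini P).Normal).conj_mem _ h1 (f i)⁻¹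
      simpa [mul_assoc] using h2)
  rwa [Nat.card_congr (fiberEquiv g), Nat.card_fun, (natCard_frattini hP hr).1, ← pow_mul, Nat.card_fin,
    mul_comm (n - r)] at h

/-- The order of `Aut P`. -/
theorem card_mulAut_dvd {n r : ℕ} (hP : Nat.card P = p ^ n) (hr : (frattini P).index = p ^ r) :
    Nat.card (MulAut P) ∣ p ^ (r * (n - r)) * ∏ i ∈ Finset.range r, (p ^ r - p ^ i) := by
  rw [← Subgroup.card_top]
  refine (card_dvd_of_tuples ⊤ (fun f : Fin r → P => closure (Set.range f) = ⊤) (fun f h => h) (fun α _ f hf => ?_)).trans ?_
  · have := congrArg (Subgroup.map α.toMonoidHom) hf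
    rw [MonoidHom.map_closure, ← Set.range_comp, Subgroup.map_top_of_surjective _ α.surjective] at this
    exact this
  · let e : {f : Fin r → P // closure (Set.range f) = ⊤} ≃
        Σ g : GenTuple (P ⧸ frattini P) r, {f : Fin r → P // ∀ i, (f i : P ⧸ frattini P) = g.1 i} :=
      { toFun := fun f => ⟨⟨fun i => (f.1 i : P ⧸ frattini P), (closure_range_eq_top_iff f.1).1 f.2⟩, f.1, fun i => rfl⟩
        invFun := fun z => ⟨z.2.1, (closure_range_eq_top_iff _).2 (by rw [funext z.2.2]; exact z.1.2)⟩
        left_inv := fun f => rfl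
        right_inv := fun z => by
          obtain ⟨⟨g, hg⟩, f, hf⟩ := z
          obtain rfl : (fun i => (f i : P ⧸ frattini P)) = g := funext hf
          rfl }
    haveI : Fintype (GenTuple (P ⧸ frattini P) r) := Fintype.ofFinite _
    rw [Nat.card_congr e, Nat.card_sigma,
      Finset.sum_congr rfl fun g _ => (Nat.card_congr (fiberEquiv g.1)).trans Nat.card_fun,
      Finset.sum_const, Finset.card_univ, ← Nat.card_eq_fintype_card, smul_eq_mul,
      natCard_genTuple_quotient hP hr, (natCard_frattini hP hr).1, ← pow_mul, Nat.card_fin, mul_comm (n - r), mul_comm]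

end CfsgLib.FGStruct
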