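import Mathlib
import Cfsg.Agent.Lib.PGroup.KulakoffTwo
import Cfsg.Agent.S3975
import Cfsg.Agent.Lib.Solvable.Basic
import Cfsg.Agent.Lib.Solvable.Core

/-!
The number of subgroups of order `p ^ a` modulo `p ^ 2`.
-/

open Subgroup
open scoped Pointwise

namespace CfsgLib.FGStruct.CountPSquare

/-- A finite set all of whose orbits have size divisible by `d`. -/
theorem dvd_card_of_orbits {P α : Type*} [Group P] [MulAction P α] [Finite α] {d : ℕ}
    (h : ∀ x : α, d ∣ Nat.card (MulAction.orbit P x)) : d ∣ Nat.card α := by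
  classical
  have := Fintype.ofFinite (MulAction.orbitRel.Quotient P α)
  rw [Nat.card_congr (MulAction.selfEquivSigmaOrbits P α), Nat.card_sigma]
  exact Finset.dvd_sum fun ω _ => h _

theorem cyclic_subgroup_eq {P : Type*} [Group P] [Finite P] [IsCyclic P] (A B : Subgroup P)
    (h : Nat.card A = Nat.card B) : A = B := by
  classical
  have := Fintype.ofFinite P
  let S : Set P := {x | x ^ Nat.card A = 1}
  have hS : S.ncard ≤ Nat.card A := by
    have h1 := IsCyclic.card_pow_eq_one_le (α := P) (n := Nat.card A) Nat.card_pos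
    rw [Set.ncard_eq_toFinset_card']
    simpa [S] using h1
  have key : ∀ C : Subgroup P, Nat.card C = Nat.card A → (C : Set P) = S := by
    intro C hC
    refine Set.eq_of_subset_of_ncard_le (fun x hx => ?_) ?_ (Set.toFinite _)
    · show x ^ Nat.card A = 1
      rw [← hC]; exact congrArg Subtype.val (pow_card_eq_one' (x := (⟨x, hx⟩ : C)))
    · rw [← Nat.card_coe_set_eq (C : Set P)]; exact hS.trans hC.ge
  exact SetLike.coe_injective ((key A rfl).trans (key B h.symm).symm)

theorem numSub_pgroup {P : Type*} [Group P] [Finite P] {p : ℕ} [hp : Fact p.Prime] {N a : ℕ} (hP : Nat.card P = p ^ N)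
    (ha : a < N) :
    Kulakoff.numSub P (p ^ a) ≡ 1 [MOD p ^ 2] ∨ Kulakoff.numSub P (p ^ a) ≡ 1 + p [MOD p ^ 2] := by
  have hGp : IsPGroup p P := IsPGroup.of_card hP
  rcases Nat.eq_zero_or_pos a with rfl | ha0
  · left; rw [pow_zero, Kulakoff.numSub_one]
  by_cases hc : IsCyclic P
  · left
    have h : Kulakoff.numSub P (p ^ a) = 1 := by
      rw [Kulakoff.numSub, Nat.card_eq_one_iff_unique]
      obtain ⟨H, hH⟩ := Sylow.exists_subgroup_card_pow_prime p (G := P) (n := a) (hP ▸ pow_dvd_pow p ha.le)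
      refine ⟨⟨fun A B => Subtype.ext ?_⟩, ⟨⟨H, hH⟩⟩⟩
      exact cyclic_subgroup_eq _ _ (A.2.trans B.2.symm)
    rw [h]
  rcases Nat.lt_or_ge (a + 1) N with hlt | hge
  swap
  · right
    have h1 := Kulakoff.card_index_eq (G := P) hp.out hP (show 1 ≤ N by omega)
    rw [pow_one, show N - 1 = a by omega] at h1
    rw [← h1]
    exact (Kulakoff.frattini_quotient_counts hGp hc).1
  by_cases h2 : p = 2 ∧ (commutator P).index = 4
  · left
    obtain ⟨rfl, h4⟩ := h2
    exact Kulakoff.numSub_maximal_class hP h4 ha0 (by omega)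
  · right
    exact Kulakoff.kulakoff N hP hc (fun h _ h4 => h2 ⟨h, h4⟩) a ha0 ha

variable {G : Type*} [Group G] [Finite G] {p : ℕ} [hp : Fact p.Prime]

/-- The normal subgroups of order `p ^ a` of a `p`-subgroup `R` inside a normal subgroup `S`. -/
theorem card_normal_modEq (R : Subgroup G) (hR : IsPGroup p R) (S : Subgroup G) (hSR : S ≤ R)
    (hS : R ≤ normalizer (S : Set G)) {a : ℕ} (ha : p ^ a ∣ Nat.card S) :
    Nat.card {H : Subgroup G // Nat.card H = p ^ a ∧ H ≤ S ∧ R ≤ normalizer (H : Set G)} ≡ 1 [MOD p] := by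
  let _ : MulAction R {H : Subgroup G // Nat.card H = p ^ a ∧ H ≤ S} :=
    { smul := fun r H => ⟨MulAut.conj (r : G) • H.1, (CfsgLib.Solvable.card_conj_smul _ _).trans H.2.1,
        fun x hx => by
          rw [CfsgLib.Solvable.conj_smul_eq_map] at hx
          obtain ⟨y, hy, rfl⟩ := hx
          exact (mem_normalizer_iff.1 (hS r.2) y).1 (H.2.2 hy)⟩
      one_smul := fun H => Subtype.ext (by show MulAut.conj (1 : G) • H.1 = _; rw [map_one, one_smul])
      mul_smul := fun r s H => Subtype.ext (by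
        show MulAut.conj ((r : G) * s) • H.1 = MulAut.conj (r : G) • MulAut.conj (s : G) • H.1
        rw [map_mul, mul_smul]) }
  have hmod := hR.card_modEq_card_fixedPoints {H : Subgroup G // Nat.card H = p ^ a ∧ H ≤ S}
  refine Nat.ModEq.trans ?_ (hmod.symm.trans ?_)
  · have e : Nat.card {H : Subgroup G // Nat.card H = p ^ a ∧ H ≤ S ∧ R ≤ normalizer (H : Set G)} =
        Nat.card (MulAction.fixedPoints R {H : Subgroup G // Nat.card H = p ^ a ∧ H ≤ S}) :=
      Nat.card_congr ⟨fun H => ⟨⟨H.1, H.2.1, H.2.2.1⟩, fun r => Subtype.ext (CfsgLib.Solvable.conj_smul_eq_self_iff.2 (H.2.2.2 r.2))⟩,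
        fun H => ⟨H.1.1, H.1.2.1, H.1.2.2, fun r hr => CfsgLib.Solvable.conj_smul_eq_self_iff.1 (congrArg Subtype.val (H.2 ⟨r, hr⟩))⟩,
        fun H => rfl, fun H => rfl⟩
    rw [e]
  · rw [← Kulakoff.numSub_subgroup S (p ^ a)]
    exact Cfsg.Agent.S3975.result p a hp.out ha

/-- The count in `G` agrees with that in a Sylow subgroup modulo `p ^ 2`. -/
theorem numSub_modEq_sylow (P : Sylow p G) {N a : ℕ} (hP : Nat.card (P : Subgroup G) = p ^ N) (ha : a < N) :
    Kulakoff.numSub G (p ^ a) ≡ Kulakoff.numSub (P : Subgroup G) (p ^ a) [MOD p ^ 2] := by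
  classical
  rw [Kulakoff.numSub_subgroup]
  let X := {H : Subgroup G // Nat.card H = p ^ a}
  let _ : MulAction (P : Subgroup G) X :=
    { smul := fun r H => ⟨MulAut.conj (r : G) • H.1, (CfsgLib.Solvable.card_conj_smul _ _).trans H.2⟩
      one_smul := fun H => Subtype.ext (by show MulAut.conj (1 : G) • H.1 = _; rw [map_one, one_smul])
      mul_smul := fun r s H => Subtype.ext (by
        show MulAut.conj ((r : G) * s) • H.1 = MulAut.conj (r : G) • MulAut.conj (s : G) • H.1
        rw [map_mul, mul_smul]) }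
  have hPp : IsPGroup p (P : Subgroup G) := P.2
  have hsp : ∀ (r : (P : Subgroup G)) (H : X), ((r • H).1 ≤ (P : Subgroup G) ↔ H.1 ≤ (P : Subgroup G)) := by
    intro r H
    show MulAut.conj (r : G) • H.1 ≤ _ ↔ _
    have e : MulAut.conj (r : G) • (P : Subgroup G) = (P : Subgroup G) :=
      CfsgLib.Solvable.conj_smul_eq_self_iff.2 (le_normalizer r.2)
    exact ⟨fun h => pointwise_smul_le_pointwise_smul_iff.1 (h.trans e.ge),
      fun h => (pointwise_smul_le_pointwise_smul_iff.2 h).trans e.le⟩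
  -- the stabilisers
  have hstab : ∀ (H : X) (r : (P : Subgroup G)), r ∈ MulAction.stabilizer (P : Subgroup G) H ↔ (r : G) ∈ normalizer (H.1 : Set G) := by
    intro H r
    rw [MulAction.mem_stabilizer_iff, ← CfsgLib.Solvable.conj_smul_eq_self_iff]
    exact ⟨fun h => congrArg Subtype.val h, fun h => Subtype.ext h⟩
  -- split off the subgroups outside `P`
  have hsplit : Kulakoff.numSub G (p ^ a) = Nat.card {H : Subgroup G // Nat.card H = p ^ a ∧ H ≤ (P : Subgroup G)} +
      Nat.card {H : X // ¬ H.1 ≤ (P : Subgroup G)} := by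
    rw [Kulakoff.numSub, ← Nat.card_congr (Equiv.sumCompl (fun H : X => H.1 ≤ (P : Subgroup G))), Nat.card_sum]
    congr 1
    exact Nat.card_congr (Equiv.subtypeSubtypeEquivSubtypeInter _ fun H : Subgroup G => H ≤ (P : Subgroup G))
  suffices h0 : p ^ 2 ∣ Nat.card {H : X // ¬ H.1 ≤ (P : Subgroup G)} by
    rw [hsplit]
    exact ((Nat.modEq_zero_iff_dvd.2 h0).add_left _).trans (by rw [Nat.add_zero])
  let st : {H : X // ¬ H.1 ≤ (P : Subgroup G)} → Subgroup G := fun H => (P : Subgroup G) ⊓ normalizer (H.1.1 : Set G)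
  let Y := {H : X // ¬ H.1 ≤ (P : Subgroup G)}
  rw [← Nat.card_congr (Equiv.sumCompl (fun H : Y => (st H).relIndex (P : Subgroup G) = p)), Nat.card_sum]
  have hidx : ∀ H : X, (MulAction.stabilizer (P : Subgroup G) H).index = ((P : Subgroup G) ⊓ normalizer (H.1 : Set G)).relIndex (P : Subgroup G) := by
    intro H
    rw [inf_relIndex_left]
    show _ = ((normalizer (H.1 : Set G)).subgroupOf (P : Subgroup G)).index
    congr 1
    ext r
    rw [hstab H r, mem_subgroupOf]
  have hnot : ∀ H : Y, ¬ (P : Subgroup G) ≤ normalizer (H.1.1 : Set G) := by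
    intro H hle
    have hHp : IsPGroup p H.1.1 := IsPGroup.of_card H.1.2
    have hJ : IsPGroup p ((P : Subgroup G) ⊔ H.1.1 : Subgroup G) := hPp.to_sup_of_normal_right' hHp hle
    exact H.2 (le_sup_right.trans (P.3 hJ le_sup_left).le)
  refine Nat.dvd_add ?_ ?_
  · -- stabilisers of index `p`
    let Z := {H : Y // (st H).relIndex (P : Subgroup G) = p}
    have := Fintype.ofFinite {M : Subgroup G // M ≤ (P : Subgroup G) ∧ M.relIndex (P : Subgroup G) = p}
    let f : Z → {M : Subgroup G // M ≤ (P : Subgroup G) ∧ M.relIndex (P : Subgroup G) = p} :=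
      fun H => ⟨st H.1, inf_le_left, H.2⟩
    rw [← Nat.card_congr (Equiv.sigmaFiberEquiv f), Nat.card_sigma]
    refine Finset.dvd_sum fun ⟨M, hMP, hMi⟩ _ => ?_
    -- the fibre over `M`
    have hMc : Nat.card M = p ^ (N - 1) := by
      have h := CfsgLib.Solvable.card_inf_mul_relIndex M (P : Subgroup G)
      rw [inf_of_le_left hMP, hMi, hP, show N = N - 1 + 1 by omega, pow_succ] at h
      exact Nat.eq_of_mul_eq_mul_right hp.out.pos h
    have hMp : IsPGroup p M := hPp.to_le hMP
    have hSylM : ∀ R : Sylow p G, M ≤ (R : Subgroup G) → (R : Subgroup G) ≤ normalizer (M : Set G) := by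
      intro R hMR
      have hRi : (M.subgroupOf (R : Subgroup G)).index = p := by
        have h := CfsgLib.Solvable.card_inf_mul_relIndex M (R : Subgroup G)
        rw [inf_of_le_left hMR, hMc, Nat.card_congr (R.equiv P).toEquiv, hP, show N = N - 1 + 1 by omega, pow_succ] at h
        exact Nat.eq_of_mul_eq_mul_left (pow_pos hp.out.pos _) h
      have hn : (M.subgroupOf (R : Subgroup G)).Normal := by
        haveI := R.2.isNilpotent
        refine NormalizerCondition.normal_of_coatom _ normalizerCondition_of_isNilpotent ⟨fun e => ?_, fun L hL => ?_⟩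
        · rw [e, index_top] at hRi; exact hp.out.ne_one hRi.symm
        · have h1 := index_dvd_of_le hL.le
          rw [hRi] at h1
          rcases (Nat.dvd_prime hp.out).1 h1 with h | h
          · exact index_eq_one.1 h
          · exact absurd (eq_of_le_of_card_ge hL.le (by
              have e1 := L.card_mul_index
              have e2 := (M.subgroupOf (R : Subgroup G)).card_mul_index
              rw [h] at e1
              rw [hRi] at e2
              exact (Nat.eq_of_mul_eq_mul_right hp.out.pos (e1.trans e2.symm)).le)) hL.ne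
      exact (normal_subgroupOf_iff_le_normalizer hMR).1 hn
    let T := {R : Sylow p G // M ≤ (R : Subgroup G) ∧ R ≠ P}
    let C : Subgroup G → Subgroup G → Prop := fun R H =>
      Nat.card H = p ^ a ∧ H ≤ R ∧ ¬ H ≤ M ∧ R ≤ normalizer (H : Set G)
    have e1 : Nat.card {z : Z // f z = ⟨M, hMP, hMi⟩} = Nat.card (Σ R : T, {H : Subgroup G // C (R.1 : Subgroup G) H}) := by
      have hz : ∀ z : {z : Z // f z = ⟨M, hMP, hMi⟩}, ∃ R : Sylow p G, (R : Subgroup G) = M ⊔ z.1.1.1.1 ∧ R ≠ P ∧ M ≤ normalizer (z.1.1.1.1 : Set G) := by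
        rintro ⟨⟨H, hH⟩, hz⟩
        have hM : (P : Subgroup G) ⊓ normalizer (H.1.1 : Set G) = M := congrArg Subtype.val hz
        have hMn : M ≤ normalizer (H.1.1 : Set G) := hM ▸ inf_le_right
        have hJ : IsPGroup p (M ⊔ H.1.1 : Subgroup G) := hMp.to_sup_of_normal_right' (IsPGroup.of_card H.1.2) hMn
        obtain ⟨R, hR⟩ := hJ.exists_le_sylow
        refine ⟨R, le_antisymm ?_ hR, fun e => H.2 ((le_sup_right.trans hR).trans (congrArg Sylow.toSubgroup e).le), hMn⟩
        by_contra hne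
        have hlt : M ⊔ H.1.1 < (R : Subgroup G) := lt_of_le_of_ne hR fun e => hne e.ge
        obtain ⟨j, hj⟩ := IsPGroup.iff_card.1 hJ
        have h1 : Nat.card (M ⊔ H.1.1 : Subgroup G) < p ^ N := by
          rw [← hP, ← Nat.card_congr (R.equiv P).toEquiv]
          exact Set.Finite.card_lt_card (Set.toFinite _) hlt
        rw [hj] at h1
        have h2 : Nat.card M ≤ p ^ j := hj ▸ Nat.le_of_dvd Nat.card_pos (card_dvd_of_le le_sup_left)
        rw [hMc] at h2
        have h1' := (Nat.pow_lt_pow_iff_right hp.out.one_lt).1 h1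
        have h2' := (Nat.pow_le_pow_iff_right hp.out.one_lt).1 h2
        have heq : M = M ⊔ H.1.1 := eq_of_le_of_card_ge le_sup_left (by rw [hj, hMc, show j = N - 1 by omega])
        exact H.2 ((le_sup_right.trans heq.ge).trans hMP)
      have hout : ∀ s : (Σ R : T, {H : Subgroup G // C (R.1 : Subgroup G) H}), ¬ s.2.1 ≤ (P : Subgroup G) := by
        intro s hle
        refine s.1.2.2 (Sylow.ext ?_)
        have hJ : M ⊔ s.2.1 ≤ (s.1.1 : Subgroup G) ⊓ (P : Subgroup G) := sup_le (le_inf s.1.2.1 hMP) (le_inf s.2.2.2.1 hle)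
        by_contra hne
        apply s.2.2.2.2.1
        have hlt : (s.1.1 : Subgroup G) ⊓ (P : Subgroup G) < (P : Subgroup G) := lt_of_le_of_ne inf_le_right fun e => hne (by
          have : (P : Subgroup G) ≤ (s.1.1 : Subgroup G) := e ▸ inf_le_left
          exact (P.3 s.1.1.2 this))
        have heq : M = (s.1.1 : Subgroup G) ⊓ (P : Subgroup G) := by
          refine eq_of_le_of_card_ge (le_sup_left.trans hJ) ?_
          obtain ⟨j, hj⟩ := IsPGroup.iff_card.1 (hPp.to_le (inf_le_right : (s.1.1 : Subgroup G) ⊓ (P : Subgroup G) ≤ _))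
          have h1 := Set.Finite.card_lt_card (Set.toFinite _) hlt
          change Nat.card ((s.1.1 : Subgroup G) ⊓ (P : Subgroup G) : Subgroup G) < Nat.card (P : Subgroup G) at h1
          rw [hj, hP] at h1
          rw [hj, hMc]
          exact Nat.pow_le_pow_right hp.out.pos (by have := (Nat.pow_lt_pow_iff_right hp.out.one_lt).1 h1; omega)
        exact (le_sup_right.trans hJ).trans heq.ge
      choose R hR1 hR2 hR3 using hz
      refine Nat.card_congr ⟨fun z => ⟨⟨R z, (hR1 z).ge.trans' le_sup_left, hR2 z⟩, ⟨z.1.1.1.1, z.1.1.1.2, (hR1 z).ge.trans' le_sup_right,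
          fun h => z.1.1.2 (h.trans hMP), by rw [hR1 z]; exact sup_le (hR3 z) le_normalizer⟩⟩,
        fun s => ⟨⟨⟨⟨s.2.1, s.2.2.1⟩, hout s⟩, ?_⟩, ?_⟩, fun z => rfl, fun s => ?_⟩
      · have hY : ¬ (P : Subgroup G) ≤ normalizer (s.2.1 : Set G) := hnot ⟨⟨s.2.1, s.2.2.1⟩, hout s⟩
        have hMle : M ≤ (P : Subgroup G) ⊓ normalizer (s.2.1 : Set G) := le_inf hMP (s.1.2.1.trans s.2.2.2.2.2)
        show ((P : Subgroup G) ⊓ normalizer (s.2.1 : Set G)).relIndex (P : Subgroup G) = p
        have h1 : ((P : Subgroup G) ⊓ normalizer (s.2.1 : Set G)).relIndex (P : Subgroup G) ∣ p := (relIndex_dvd_of_le_left _ hMle).trans hMi.dvd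
        refine ((Nat.dvd_prime hp.out).1 h1).resolve_left fun h => hY ?_
        exact (relIndex_eq_one.1 h).trans inf_le_right
      · have hY : ¬ (P : Subgroup G) ≤ normalizer (s.2.1 : Set G) := hnot ⟨⟨s.2.1, s.2.2.1⟩, hout s⟩
        have hMle : M ≤ (P : Subgroup G) ⊓ normalizer (s.2.1 : Set G) := le_inf hMP (s.1.2.1.trans s.2.2.2.2.2)
        refine Subtype.ext (le_antisymm ?_ hMle)
        show (P : Subgroup G) ⊓ normalizer (s.2.1 : Set G) ≤ M
        rw [← relIndex_eq_one]
        have h1 := relIndex_mul_relIndex M _ _ hMle (inf_le_left : (P : Subgroup G) ⊓ normalizer (s.2.1 : Set G) ≤ _)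
        rw [hMi] at h1
        refine ((Nat.dvd_prime hp.out).1 (Dvd.intro _ h1)).resolve_right fun h => hY ?_
        rw [h] at h1
        exact (relIndex_eq_one.1 ((Nat.mul_eq_left hp.out.ne_zero).1 h1)).trans inf_le_right
      · obtain ⟨⟨R', hMR', hRP'⟩, ⟨H, hH1, hH2, hH3, hH4⟩⟩ := s
        refine Sigma.subtype_ext (Subtype.ext (Sylow.ext ?_)) rfl
        show (R _ : Subgroup G) = (R' : Subgroup G)
        exact eq_of_le_of_card_ge ((hR1 _).le.trans (sup_le hMR' hH2)) (by rw [Nat.card_congr ((R _).equiv R').toEquiv])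
    rw [e1]
    have := Fintype.ofFinite T
    rw [Nat.card_sigma]
    -- all fibres have the same size, divisible by `p`
    have hconst : ∀ R : T, Nat.card {H : Subgroup G // C (R.1 : Subgroup G) H} = Nat.card {H : Subgroup G // C (P : Subgroup G) H} := by
      rintro ⟨R, hMR, -⟩
      obtain ⟨g, hg⟩ := MulAction.exists_smul_eq (normalizer (M : Set G)) (P.subtype (hSylM P hMP)) (R.subtype (hSylM R hMR))
      have hgR : MulAut.conj (g : G) • (P : Subgroup G) = (R : Subgroup G) := by
        refine eq_of_le_of_card_ge (fun x hx => ?_) ?_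
        · rw [CfsgLib.Solvable.conj_smul_eq_map] at hx
          obtain ⟨y, hy, rfl⟩ := hx
          have h1 : MulAut.conj g • (⟨y, hSylM P hMP hy⟩ : normalizer (M : Set G)) ∈ ((g • P.subtype (hSylM P hMP) : Sylow p _) : Subgroup _) :=
            Subgroup.smul_mem_pointwise_smul _ (MulAut.conj g) _ hy
          rw [hg] at h1
          exact h1
        · rw [CfsgLib.Solvable.card_conj_smul, Nat.card_congr (R.equiv P).toEquiv]
      have hgM : MulAut.conj (g : G) • M = M := CfsgLib.Solvable.conj_smul_eq_self_iff.2 g.2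
      have key : ∀ H, C (R : Subgroup G) (MulAut.conj (g : G) • H) ↔ C (P : Subgroup G) H := by
        intro H
        simp only [C]
        rw [CfsgLib.Solvable.card_conj_smul, ← hgR]
        have hn : MulAut.conj (g : G) • (P : Subgroup G) ≤ normalizer ((MulAut.conj (g : G) • H : Subgroup G) : Set G) ↔
            (P : Subgroup G) ≤ normalizer (H : Set G) := by
          rw [← pointwise_smul_le_pointwise_smul_iff (a := MulAut.conj (g : G)) (T := normalizer (H : Set G)),
            CfsgLib.Solvable.conj_smul_eq_map _ (normalizer (H : Set G)), CfsgLib.Solvable.conj_smul_eq_map _ H]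
          rw [map_equiv_normalizer_eq]
        have h2 : MulAut.conj (g : G) • H ≤ M ↔ H ≤ M := ⟨fun h => pointwise_smul_le_pointwise_smul_iff.1 (h.trans hgM.ge),
          fun h => (pointwise_smul_le_pointwise_smul_iff.2 h).trans hgM.le⟩
        rw [pointwise_smul_le_pointwise_smul_iff, h2, hn]
      exact Nat.card_congr ⟨fun H => ⟨(MulAut.conj (g : G))⁻¹ • H.1, (key _).1 (by rw [smul_inv_smul]; exact H.2)⟩,
        fun H => ⟨MulAut.conj (g : G) • H.1, (key _).2 H.2⟩,
        fun H => Subtype.ext (smul_inv_smul _ _), fun H => Subtype.ext (inv_smul_smul _ _)⟩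
    simp only [hconst, Finset.sum_const, Finset.card_univ, smul_eq_mul, ← Nat.card_eq_fintype_card]
    rw [pow_two]
    refine Nat.mul_dvd_mul ?_ ?_
    · let T0 := {R : Sylow p G // M ≤ (R : Subgroup G)}
      have hPnM : (P : Subgroup G) ≤ normalizer (M : Set G) := hSylM P hMP
      let _ : MulAction (P : Subgroup G) T0 :=
        { smul := fun r R => ⟨(r : G) • R.1,
            (CfsgLib.Solvable.conj_smul_eq_self_iff.2 (hPnM r.2)).ge.trans (pointwise_smul_le_pointwise_smul_iff.2 R.2)⟩
          one_smul := fun R => Subtype.ext (one_smul G R.1)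
          mul_smul := fun r s R => Subtype.ext (mul_smul (r : G) (s : G) R.1) }
      have hmod := hPp.card_modEq_card_fixedPoints T0
      have hfp : Nat.card (MulAction.fixedPoints (P : Subgroup G) T0) = 1 := by
        rw [Nat.card_eq_one_iff_unique]
        refine ⟨⟨fun A B => Subtype.ext (Subtype.ext ?_)⟩, ⟨⟨⟨P, hMP⟩, fun r => Subtype.ext (Sylow.smul_eq_iff_mem_normalizer.2 (le_normalizer r.2))⟩⟩⟩
        have : ∀ A : MulAction.fixedPoints (P : Subgroup G) T0, A.1.1 = P := fun A => by
          have h1 : A.1.1 ∈ MulAction.fixedPoints (P : Subgroup G) (Sylow p G) := fun r => congrArg Subtype.val (A.2 r)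
          rw [P.2.sylow_mem_fixedPoints_iff] at h1
          exact Sylow.ext (P.3 A.1.1.2 h1)
        rw [this A, this B]
      rw [hfp, ← Nat.card_congr (Equiv.sumCompl (fun R : T0 => R.1 = P)), Nat.card_sum,
        show Nat.card {R : T0 // R.1 = P} = 1 from Nat.card_eq_one_iff_unique.2
          ⟨⟨fun A B => Subtype.ext (Subtype.ext (A.2.trans B.2.symm))⟩, ⟨⟨⟨P, hMP⟩, rfl⟩⟩⟩] at hmod
      have e : Nat.card T = Nat.card {R : T0 // ¬ R.1 = P} :=
        Nat.card_congr (Equiv.subtypeSubtypeEquivSubtypeInter (fun R : Sylow p G => M ≤ (R : Subgroup G)) fun R => ¬ R = P).symm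
      rw [e]
      have h2 : 1 + Nat.card {R : T0 // ¬ R.1 = P} ≡ 1 + 0 [MOD p] := by simpa using hmod
      exact Nat.modEq_zero_iff_dvd.1 (Nat.ModEq.add_left_cancel' 1 h2)
    · have hN : p ^ a ∣ Nat.card (P : Subgroup G) := hP ▸ pow_dvd_pow p ha.le
      have h1 := card_normal_modEq (P : Subgroup G) hPp (P : Subgroup G) le_rfl le_normalizer hN
      have h2 := card_normal_modEq (P : Subgroup G) hPp M hMP (hSylM P hMP) (a := a) (hMc ▸ pow_dvd_pow p (by omega))
      rw [← Nat.card_congr (Equiv.sumCompl (fun H : {H : Subgroup G // Nat.card H = p ^ a ∧ H ≤ (P : Subgroup G) ∧ (P : Subgroup G) ≤ normalizer (H : Set G)} => H.1 ≤ M)), Nat.card_sum] at h1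
      have eA : Nat.card {H : {H : Subgroup G // Nat.card H = p ^ a ∧ H ≤ (P : Subgroup G) ∧ (P : Subgroup G) ≤ normalizer (H : Set G)} // H.1 ≤ M} =
          Nat.card {H : Subgroup G // Nat.card H = p ^ a ∧ H ≤ M ∧ (P : Subgroup G) ≤ normalizer (H : Set G)} :=
        Nat.card_congr ⟨fun H => ⟨H.1.1, H.1.2.1, H.2, H.1.2.2.2⟩, fun H => ⟨⟨H.1, H.2.1, H.2.2.1.trans hMP, H.2.2.2⟩, H.2.2.1⟩, fun H => rfl, fun H => rfl⟩
      have eB : Nat.card {H : {H : Subgroup G // Nat.card H = p ^ a ∧ H ≤ (P : Subgroup G) ∧ (P : Subgroup G) ≤ normalizer (H : Set G)} // ¬ H.1 ≤ M} =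
          Nat.card {H : Subgroup G // C (P : Subgroup G) H} :=
        Nat.card_congr ⟨fun H => ⟨H.1.1, H.1.2.1, H.1.2.2.1, H.2, H.1.2.2.2⟩, fun H => ⟨⟨H.1, H.2.1, H.2.2.1, H.2.2.2.2⟩, H.2.2.2.1⟩, fun H => rfl, fun H => rfl⟩
      rw [eA, eB] at h1
      exact Nat.modEq_zero_iff_dvd.1 (Nat.ModEq.add_left_cancel h2 (h1.trans (by rw [Nat.add_zero])))
  · -- larger orbits
    let Z := {H : Y // ¬ (st H).relIndex (P : Subgroup G) = p}
    have hinv : ∀ (r : (P : Subgroup G)) (H : X),
        ((P : Subgroup G) ⊓ normalizer ((r • H).1 : Set G)).relIndex (P : Subgroup G) = ((P : Subgroup G) ⊓ normalizer (H.1 : Set G)).relIndex (P : Subgroup G) := by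
      intro r H
      rw [← hidx, ← hidx, MulAction.index_stabilizer, MulAction.index_stabilizer]
      congr 1
      exact MulAction.orbit_eq_iff.2 (MulAction.mem_orbit H r)
    let _ : MulAction (P : Subgroup G) Z :=
      { smul := fun r H => ⟨⟨r • H.1.1, fun h => H.1.2 ((hsp r _).1 h)⟩, fun h => H.2 ((hinv r H.1.1).symm.trans h)⟩
        one_smul := fun H => Subtype.ext (Subtype.ext (one_smul (P : Subgroup G) H.1.1))
        mul_smul := fun r s H => Subtype.ext (Subtype.ext (mul_smul r s H.1.1)) }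
    refine dvd_card_of_orbits (P := (P : Subgroup G)) fun H => ?_
    rw [Nat.card_coe_set_eq, ← MulAction.index_stabilizer]
    have e : MulAction.stabilizer (P : Subgroup G) H = MulAction.stabilizer (P : Subgroup G) H.1.1 := by
      ext r
      exact ⟨fun h => congrArg (fun z : Z => z.1.1) h, fun h => Subtype.ext (Subtype.ext h)⟩
    rw [e]
    obtain ⟨k, hk⟩ : ∃ k, (MulAction.stabilizer (P : Subgroup G) H.1.1).index = p ^ k := by
      obtain ⟨k, -, hk⟩ := (Nat.dvd_prime_pow hp.out).1 ((MulAction.stabilizer (P : Subgroup G) H.1.1).index_dvd_card.trans hP.dvd)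
      exact ⟨k, hk⟩
    rw [hk]
    refine pow_dvd_pow p ?_
    by_contra hlt
    rcases (show k = 0 ∨ k = 1 by omega) with rfl | rfl
    · refine hnot H.1 fun r hr => (hstab H.1.1 ⟨r, hr⟩).1 ?_
      rw [index_eq_one.1 (hk.trans (pow_zero p))]; exact mem_top _
    · refine H.2 ?_
      exact ((hidx _).symm.trans hk).trans (pow_one p)

/-- Subgroups of order `p ^ a` modulo `p ^ 2`. -/
theorem card_mod_sq {p a : ℕ} (hp : p.Prime) (hdvd : p ^ (a + 1) ∣ Nat.card G) :
    Nat.card {H : Subgroup G // Nat.card H = p ^ a} ≡ 1 [MOD p ^ 2] ∨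
      Nat.card {H : Subgroup G // Nat.card H = p ^ a} ≡ 1 + p [MOD p ^ 2] := by
  haveI := Fact.mk hp
  obtain ⟨P⟩ : Nonempty (Sylow p G) := inferInstance
  have ha : a < (Nat.card G).factorization p := (hp.pow_dvd_iff_le_factorization Nat.card_pos.ne').1 hdvd
  have h := numSub_modEq_sylow P P.card_eq_multiplicity ha
  rcases numSub_pgroup P.card_eq_multiplicity ha with h1 | h1
  · exact Or.inl (h.trans h1)
  · exact Or.inr (h.trans h1)

end CfsgLib.FGStruct.CountPSquare
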