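import Mathlib
import Cfsg.Prelude
import Cfsg.Agent.Lib.PGroup.Basic
import Cfsg.Agent.Lib.FGStruct.BurnsideBasis
import Cfsg.Agent.Lib.Solvable.Hall
import Cfsg.Agent.Lib.PLocal.HallHigman
import Cfsg.Agent.Lib.Transfer.ThompsonFactor

/-!
Odd order automorphism groups of an elementary abelian group of order sixteen.
-/

set_option autoImplicit false
set_option linter.style.haveILetI false

namespace CfsgLib.FGStruct.Sixteen

/-- The automorphism group of an elementary abelian `p`-group of order `p ^ n`. -/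
theorem card_mulAut_dvd {U : Type*} [Group U] [Finite U] {p n : ℕ} [Fact p.Prime]
    (hU : Nat.card U = p ^ n) (hc : ∀ a b : U, a * b = b * a) (hexp : ∀ a : U, a ^ p = 1) :
    Nat.card (MulAut U) ∣ ∏ i ∈ Finset.range n, (p ^ n - p ^ i) := by
  have hf : frattini U = ⊥ := le_bot_iff.1 (CfsgLib.PGroup.frattini_le_of_elementary (p := p)
    (fun a b => Subgroup.mem_bot.2 (commutatorElement_eq_one_iff_mul_comm.2 (hc a b)))
    (fun a => Subgroup.mem_bot.2 (hexp a)))
  have h := CfsgLib.FGStruct.card_mulAut_dvd (p := p) hU (r := n) (by rw [hf, Subgroup.index_bot, hU])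
  simpa using h

theorem dvd_315 {k : ℕ} (hk : Odd k) (h : k ∣ 20160) : k ∣ 315 := by
  have h2 : k.Coprime 64 := by
    rw [show (64 : ℕ) = 2 ^ 6 by norm_num]
    exact (Nat.coprime_two_right.2 hk).pow_right 6
  exact h2.dvd_of_dvd_mul_left (show k ∣ 64 * 315 by norm_num; exact h)

/-- A group of odd order on sixteen points without common fixed point, containing an element with four
fixed points, is abelian. -/
theorem commute_all {U : Type*} [Group U] [Finite U] (hU : Nat.card U = 16) (hexp : ∀ u : U, u * u = 1)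
    (G : Subgroup (MulAut U)) [Group.IsSolvable G] (hodd : Odd (Nat.card G))
    (hfix : ∀ u : U, (∀ g ∈ G, g u = u) → u = 1) {x : MulAut U} (hx : x ∈ G)
    (hx4 : Nat.card {u : U // x u = u} = 4) : ∀ a ∈ G, ∀ b ∈ G, a * b = b * a := by
  classical
  haveI : Fact (Nat.Prime 2) := ⟨Nat.prime_two⟩
  haveI : Fact (Nat.Prime 3) := ⟨Nat.prime_three⟩
  have hcomm : ∀ a b : U, a * b = b * a := fun a b => by
    calc a * b = (a * b)⁻¹ := (inv_eq_of_mul_eq_one_left (hexp _)).symm
      _ = b * a := by rw [mul_inv_rev, inv_eq_of_mul_eq_one_left (hexp a), inv_eq_of_mul_eq_one_left (hexp b)]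
  have h315 : Nat.card G ∣ 315 := by
    refine dvd_315 hodd ((Subgroup.card_subgroup_dvd_card G).trans ?_)
    have := card_mulAut_dvd (U := U) (p := 2) (n := 4) (by rw [hU]; norm_num) hcomm (fun a => by rw [pow_two]; exact hexp a)
    simpa [Finset.prod_range_succ] using this
  have hN : Cfsg.pPrimeCore 3 G = ⊥ := by
    by_contra hne
    set N := Cfsg.pPrimeCore 3 G with hNdef
    haveI : N.Normal := CfsgLib.Solvable.pPrimeCore_normal 3 G
    haveI : Nontrivial N := (Subgroup.nontrivial_iff_ne_bot N).2 hne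
    obtain ⟨r, A, hr, hAn, hAr, hA⟩ := CfsgLib.Solvable.exists_normal_pgroup_ne_bot (G := N)
    haveI := Fact.mk hr
    haveI := CfsgLib.Solvable.pCore_characteristic r N
    set R := (Cfsg.pCore r N).map N.subtype with hRdef
    haveI hRn : R.Normal := CfsgLib.Solvable.normal_map_subtype_of_characteristic _ _
    have hRp : IsPGroup r R := (CfsgLib.Solvable.pCore_isPGroup r N).map _
    have hR1 : R ≠ ⊥ := fun h => hA (le_bot_iff.1 (by
      rw [hRdef, Subgroup.map_eq_bot_iff_of_injective _ N.subtype_injective] at h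
      exact h ▸ CfsgLib.Solvable.le_pCore hAn hAr))
    obtain ⟨k, hk⟩ := IsPGroup.iff_card.1 hRp
    have hk0 : k ≠ 0 := fun h => hR1 (Subgroup.card_eq_one.1 (by rw [hk, h, pow_zero]))
    have hkdvd : r ^ k ∣ 315 := hk ▸ (Subgroup.card_subgroup_dvd_card R).trans h315
    have hr315 : r ∣ 315 := (dvd_pow_self r hk0).trans hkdvd
    have hr3 : r ≠ 3 := by
      rintro rfl
      have h1 : Nat.card R ∣ Nat.card N := Subgroup.card_dvd_of_le (Subgroup.map_subtype_le _)
      rw [hk] at h1
      exact (Nat.Prime.coprime_iff_not_dvd Nat.prime_three).1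
        (CfsgLib.Solvable.pPrimeCore_card_coprime 3 G).symm ((dvd_pow_self 3 hk0).trans h1)
    have hr57 : r = 5 ∨ r = 7 := by
      have h1 : r ∣ 3 ^ 2 * (5 * 7) := by norm_num; exact hr315
      rcases hr.dvd_mul.1 h1 with h | h
      · exact absurd ((Nat.prime_dvd_prime_iff_eq hr Nat.prime_three).1 (hr.dvd_of_dvd_pow h)) hr3
      · rcases hr.dvd_mul.1 h with h | h
        · exact Or.inl ((Nat.prime_dvd_prime_iff_eq hr (by norm_num)).1 h)
        · exact Or.inr ((Nat.prime_dvd_prime_iff_eq hr (by norm_num)).1 h)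
    have hk1 : k = 1 := by
      by_contra h
      have h2 : r ^ 2 ∣ 315 := (pow_dvd_pow r (show 2 ≤ k by omega)).trans hkdvd
      rcases hr57 with rfl | rfl <;> norm_num at h2
    -- fixed points of `R`
    let Rm : Subgroup (MulAut U) := R.map G.subtype
    have hRm : IsPGroup r Rm := hRp.map _
    let Fx : Subgroup U :=
      { carrier := {u | ∀ g ∈ Rm, g u = u}
        one_mem' := fun g _ => map_one g
        mul_mem' := fun {a b} ha hb g hg => by rw [map_mul, ha g hg, hb g hg]
        inv_mem' := fun {a} ha g hg => by rw [map_inv, ha g hg] }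
    have hmod := hRm.card_modEq_card_fixedPoints U
    have hfx : Nat.card (MulAction.fixedPoints Rm U) = Nat.card Fx :=
      Nat.card_congr (Equiv.setCongr (by ext u; exact ⟨fun h g hg => h ⟨g, hg⟩, fun h g => h g g.2⟩))
    rw [hU, hfx] at hmod
    obtain ⟨j, hj16, hj⟩ := (Nat.dvd_prime_pow Nat.prime_two).1
      (show Nat.card Fx ∣ 2 ^ 4 by rw [show (2 : ℕ) ^ 4 = 16 by norm_num, ← hU]; exact Subgroup.card_subgroup_dvd_card Fx)
    have hFtop : Fx ≠ ⊤ := by
      intro h
      refine hR1 ((Subgroup.eq_bot_iff_forall _).2 fun g hg => Subtype.ext (MulEquiv.ext fun u => ?_))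
      exact (h.symm ▸ Subgroup.mem_top u : u ∈ Fx) g ⟨g, hg, rfl⟩
    have hj4 : j ≠ 4 := fun h => hFtop (Subgroup.eq_top_of_card_eq _ (by rw [hj, h, hU]; norm_num))
    have hginv : ∀ g ∈ G, ∀ u ∈ Fx, g u ∈ Fx := by
      rintro g hg u hu _ ⟨t, ht, rfl⟩
      have h1 := hu _ ⟨_, hRn.conj_mem t ht (⟨g, hg⟩ : G)⁻¹, rfl⟩
      have h2 : g (g⁻¹ ((t : MulAut U) (g u))) = g u := congrArg g (by simpa [mul_assoc] using h1)
      simpa using h2
    have hFbot : Nat.card Fx = 1 := by
      rw [hj] at hmod ⊢
      have hj1 : j ≠ 1 := by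
        rintro rfl
        rw [pow_one] at hj
        haveI : Nontrivial Fx := Finite.one_lt_card_iff_nontrivial.1 (by rw [hj]; norm_num)
        obtain ⟨w, hw⟩ := exists_ne (1 : Fx)
        refine hw (Subtype.ext (hfix w fun g hg => ?_))
        have h2 := (Nat.card_eq_two_iff' (1 : Fx)).1 hj
        have h3 : (⟨g w, hginv g hg w w.2⟩ : Fx) ≠ 1 := fun h => hw (Subtype.ext (g.injective (by
          have := congrArg Subtype.val h
          simpa using this)))
        exact congrArg Subtype.val (h2.unique h3 hw)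
      rcases hr57 with rfl | rfl <;> interval_cases j <;> simp_all [Nat.ModEq]
    -- `x` centralizes `R`
    have hr5 : r = 5 := by
      rcases hr57 with rfl | rfl
      · rfl
      · rw [hFbot] at hmod
        simp [Nat.ModEq] at hmod
    subst hr5
    rw [hk1, pow_one] at hk
    have hRc : ∀ a b : R, a * b = b * a := by
      haveI := isCyclic_of_prime_card (p := 5) hk
      exact fun a b => IsMulCommutative.is_comm.comm a b
    haveI : Fact (Nat.Prime 5) := ⟨hr⟩
    have h4 := card_mulAut_dvd (U := R) (p := 5) (n := 1) (by rw [hk, pow_one]) hRc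
      (fun a => orderOf_dvd_iff_pow_eq_one.1 (hk ▸ orderOf_dvd_natCard a))
    simp at h4
    let φ : G →* MulAut R := MulAut.conjNormal
    have hxR : φ ⟨x, hx⟩ = 1 := orderOf_eq_one_iff.1 (Nat.eq_one_of_dvd_coprimes
      (show Nat.Coprime (Nat.card G) 4 by
        rw [show (4 : ℕ) = 2 ^ 2 by norm_num]; exact (Nat.coprime_two_right.2 hodd).pow_right 2)
      ((orderOf_map_dvd φ _).trans (orderOf_dvd_natCard _)) ((orderOf_dvd_natCard _).trans h4))
    let C : Subgroup U :=
      { carrier := {u | x u = u}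
        one_mem' := map_one x
        mul_mem' := fun {a b} (ha : x a = a) (hb : x b = b) => show x (a * b) = a * b by rw [map_mul, ha, hb]
        inv_mem' := fun {a} (ha : x a = a) => show x a⁻¹ = a⁻¹ by rw [map_inv, ha] }
    have hCinv : ∀ g ∈ Rm, ∀ u ∈ C, g u ∈ C := by
      rintro _ ⟨t, ht, rfl⟩ u (hu : x u = u)
      show x ((t : MulAut U) u) = (t : MulAut U) u
      have h1 := congrArg (fun f : MulAut R => ((f ⟨t, ht⟩ : R) : G)) hxR
      simp only [φ, MulAut.conjNormal_apply, MulAut.one_apply, mul_inv_eq_iff_eq_mul] at h1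
      have h2 : x ((t : MulAut U) u) = (t : MulAut U) (x u) :=
        congrArg (fun f : G => (f : MulAut U) u) h1
      rw [h2, hu]
    letI : MulAction Rm C :=
      { smul := fun g u => ⟨(g : MulAut U) u, hCinv g g.2 u u.2⟩
        one_smul := fun u => Subtype.ext rfl
        mul_smul := fun g h u => Subtype.ext rfl }
    have hmodC := hRm.card_modEq_card_fixedPoints C
    have hC4 : Nat.card C = 4 := hx4
    have hC1 : Nat.card (MulAction.fixedPoints Rm C) = 1 := by
      rw [Nat.card_eq_one_iff_unique]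
      refine ⟨⟨fun a b => ?_⟩, ⟨⟨1, fun g => Subtype.ext (map_one (g : MulAut U))⟩⟩⟩
      have hall : ∀ a : MulAction.fixedPoints Rm C, ((a : C) : U) = 1 := by
        rintro ⟨a, ha⟩
        have : (a : U) ∈ Fx := fun g hg => congrArg Subtype.val (ha ⟨g, hg⟩)
        rwa [Subgroup.card_eq_one.1 hFbot, Subgroup.mem_bot] at this
      exact Subtype.ext (Subtype.ext ((hall a).trans (hall b).symm))
    rw [hC4, hC1] at hmodC
    simp [Nat.ModEq] at hmodC
  -- so `G` is a `3`-group of order at most nine
  have hps : Cfsg.IsPSolvable 3 G := CfsgLib.ThompsonFactor.isPSolvable_of_isSolvable inferInstance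
  have hCT := CfsgLib.PLoc.centralizer_pCore_le_self hps hN
  set T := Cfsg.pCore 3 G with hTdef
  haveI : T.Normal := CfsgLib.Solvable.pCore_normal 3 G
  obtain ⟨i, hi⟩ := IsPGroup.iff_card.1 (CfsgLib.Solvable.pCore_isPGroup 3 G)
  have hi2 : i ≤ 2 := by
    have h := (hi ▸ (Subgroup.card_subgroup_dvd_card T).trans h315 : 3 ^ i ∣ 315)
    by_contra hlt
    have := (pow_dvd_pow 3 (show 3 ≤ i by omega)).trans h
    norm_num at this
  have hG3 : IsPGroup 3 G := by
    rw [IsPGroup.iff_card]
    refine ⟨_, Nat.eq_prime_pow_of_unique_prime_dvd Nat.card_pos.ne' fun {r} hr hrd => ?_⟩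
    by_contra hr3
    haveI := Fact.mk hr
    obtain ⟨a, ha⟩ := exists_prime_orderOf_dvd_card' r hrd
    have hr57 : r = 5 ∨ r = 7 := by
      have h1 : r ∣ 3 ^ 2 * (5 * 7) := by norm_num; exact hrd.trans h315
      rcases hr.dvd_mul.1 h1 with h | h
      · exact absurd ((Nat.prime_dvd_prime_iff_eq hr Nat.prime_three).1 (hr.dvd_of_dvd_pow h)) hr3
      · rcases hr.dvd_mul.1 h with h | h
        · exact Or.inl ((Nat.prime_dvd_prime_iff_eq hr (by norm_num)).1 h)
        · exact Or.inr ((Nat.prime_dvd_prime_iff_eq hr (by norm_num)).1 h)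
    let A := Subgroup.zpowers a
    have hAr : IsPGroup r A := IsPGroup.of_card (n := 1) (by rw [Nat.card_zpowers, ha, pow_one])
    letI : MulAction A T := MulAction.compHom T ((MulAut.conjNormal : G →* MulAut T).comp A.subtype)
    have hmod := hAr.card_modEq_card_fixedPoints T
    let FT := (Subgroup.centralizer ({a} : Set G)).subgroupOf T
    have hfix' : MulAction.fixedPoints A T = (FT : Set T) := by
      ext t
      simp only [MulAction.mem_fixedPoints, SetLike.mem_coe, FT, Subgroup.mem_subgroupOf, Subgroup.mem_centralizer_singleton_iff]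
      constructor
      · intro h
        have h' := congrArg Subtype.val (h ⟨a, Subgroup.mem_zpowers a⟩)
        change ((MulAut.conjNormal a t : T) : G) = t at h'
        rw [MulAut.conjNormal_apply, mul_inv_eq_iff_eq_mul] at h'
        exact h'.symm
      · rintro h ⟨b, n, rfl⟩
        refine Subtype.ext ?_
        show ((MulAut.conjNormal (a ^ n) t : T) : G) = t
        rw [MulAut.conjNormal_apply, mul_inv_eq_iff_eq_mul]
        exact ((show Commute a (t : G) from h.symm).zpow_left n).eq
    have hFT : Nat.card (MulAction.fixedPoints A T) = Nat.card FT := Nat.card_congr (Equiv.setCongr hfix')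
    obtain ⟨l, hl, hlc⟩ := (Nat.dvd_prime_pow Nat.prime_three).1 (hi ▸ Subgroup.card_subgroup_dvd_card FT)
    rw [hi, hFT, hlc] at hmod
    have hli : l = i := by
      rcases hr57 with rfl | rfl <;> interval_cases i <;> interval_cases l <;> simp_all [Nat.ModEq]
    have htop : FT = ⊤ := Subgroup.eq_top_of_card_eq _ (by rw [hlc, hli, hi])
    have haT : a ∈ T := hCT (Subgroup.mem_centralizer_iff.2 fun t ht =>
      Subgroup.mem_centralizer_singleton_iff.1 (Subgroup.mem_subgroupOf.1 (htop.symm ▸ Subgroup.mem_top (⟨t, ht⟩ : T))))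
    have := Subgroup.orderOf_dvd_natCard T haT
    rw [ha, hi] at this
    exact hr3 ((Nat.prime_dvd_prime_iff_eq hr Nat.prime_three).1 (hr.dvd_of_dvd_pow this))
  obtain ⟨m, hm⟩ := IsPGroup.iff_card.1 hG3
  have hm2 : m ≤ 2 := by
    by_contra hlt
    have := ((pow_dvd_pow 3 (show 3 ≤ m by omega)).trans hm.symm.dvd).trans h315
    norm_num at this
  intro a ha b hb
  have hG : IsMulCommutative G := by
    interval_cases m
    · haveI : Subsingleton G := (Nat.card_eq_one_iff_unique.1 (by rw [hm]; rfl)).1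
      exact ⟨⟨fun a b => Subsingleton.elim _ _⟩⟩
    · haveI := isCyclic_of_prime_card (p := 3) (by rw [hm, pow_one] : Nat.card G = 3)
      infer_instance
    · exact IsPGroup.isMulCommutative_of_card_eq_prime_sq hm
  exact congrArg Subtype.val (hG.is_comm.comm ⟨a, ha⟩ ⟨b, hb⟩)

end CfsgLib.FGStruct.Sixteen
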