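import Mathlib
import Cfsg.Agent.Lib.Char.Burnside
import Cfsg.Agent.Lib.Factor.KegelWielandt
import Cfsg.Agent.Lib.Factor.Basic
import Cfsg.Agent.Lib.Supersolvable.Basic

/-!
Groups with a subgroup of prime power index which is cyclic by a cyclic 2-group.
-/

open Subgroup

namespace CfsgLib.FGStruct

/-- A group with a cyclic subgroup of prime power index is solvable. -/
theorem isSolvable_of_cyclic_primePow_index {G : Type*} [Group G] [Finite G] {p s : ℕ} (hp : p.Prime)
    (B : Subgroup G) (hB : IsCyclic B) (hi : B.index = p ^ s) : Group.IsSolvable G := by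
  haveI := Fact.mk hp
  obtain ⟨P⟩ : Nonempty (Sylow p G) := inferInstance
  haveI := hB
  letI : CommGroup B := IsCyclic.commGroup
  have hle : B.relIndex ⊤ ≤ B.relIndex (P : Subgroup G) := by
    rw [relIndex_top_right, hi]
    obtain ⟨t, -, ht⟩ := (Nat.dvd_prime_pow hp).1
      ((relIndex_dvd_card B (P : Subgroup G)).trans P.card_eq_multiplicity.dvd)
    have h1 : Nat.card (B ⊓ (P : Subgroup G) : Subgroup G) * p ^ s ∣ Nat.card G := by
      rw [← B.card_mul_index, hi]
      exact mul_dvd_mul_right (card_dvd_of_le inf_le_left) _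
    obtain ⟨u, hu⟩ := IsPGroup.iff_card.1 (P.2.to_le (inf_le_right : B ⊓ (P : Subgroup G) ≤ _))
    rw [hu, ← pow_add, hp.pow_dvd_iff_le_factorization Nat.card_pos.ne'] at h1
    have h2 := CfsgLib.Solvable.card_inf_mul_relIndex B (P : Subgroup G)
    rw [hu, P.card_eq_multiplicity, ht, ← pow_add] at h2
    have h3 := Nat.pow_right_injective hp.two_le h2
    rw [ht]
    exact Nat.pow_le_pow_right hp.pos (by omega)
  exact CfsgLib.Factor.isSolvable_of_nilpotent_factor (A := (P : Subgroup G)) (B := B)
    P.2.isNilpotent inferInstance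
    fun g => CfsgLib.Factor.exists_mul_of_relIndex_le le_top le_top hle g (mem_top g)

/-- The centre of a subgroup of prime power index in a simple group is trivial. -/
theorem false_of_central_of_primePow_index {G : Type*} [Group G] [Finite G] [IsSimpleGroup G]
    (hns : ¬ Group.IsSolvable G) {p s : ℕ} (hp : p.Prime) {A : Subgroup G} (hA : A.index = p ^ s)
    {z : G} (hz : z ≠ 1) (hAz : A ≤ centralizer {z}) : False := by
  obtain ⟨k, -, hk⟩ := (Nat.dvd_prime_pow hp).1 ((index_dvd_of_le hAz).trans hA.dvd)
  have hprime := CfsgLib.Char.card_prime_of_prime_pow_class p k hp z hz hk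
  haveI := Fact.mk hprime
  haveI := isCyclic_of_prime_card (α := G) rfl
  letI : CommGroup G := IsCyclic.commGroup
  exact hns inferInstance

universe u

theorem isSolvable_of_cyclic_by_two {G : Type u} [Group G] [Finite G] (A : Subgroup G) (p s : ℕ)
    (hp : p.Prime) (hA : A.index = p ^ s) (B : Subgroup A) [B.Normal] (hB : IsCyclic B)
    (hAB : IsCyclic (A ⧸ B)) (r : ℕ) (hr : Nat.card (A ⧸ B) = 2 ^ r) : Group.IsSolvable G := by
  revert A s B r
  refine CfsgLib.Supersolvable.groupInduction (P := fun G [Group G] [Finite G] =>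
    ∀ (A : Subgroup G) (s : ℕ), A.index = p ^ s → ∀ (B : Subgroup A) [B.Normal], IsCyclic B →
      IsCyclic (A ⧸ B) → ∀ r : ℕ, Nat.card (A ⧸ B) = 2 ^ r → Group.IsSolvable G) ?_ G
  intro G _ _ IH A s hA B _ hB hAB r hr
  have hcomp : (B.map A.subtype).index = 2 ^ r * p ^ s := by
    rw [index_map_subtype, B.index_eq_card, hr, hA]
  haveI := hB
  have hBc : IsCyclic (B.map A.subtype) :=
    (B.equivMapOfInjective _ A.subtype_injective).isCyclic.1 hB
  by_cases hp2 : p = 2
  · exact isSolvable_of_cyclic_primePow_index hp _ hBc (s := r + s) (by rw [hcomp, hp2, pow_add])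
  rcases subsingleton_or_nontrivial G with hG | hG
  · exact Group.isSolvable_of_comm fun a b => Subsingleton.elim _ _
  by_contra hns
  by_cases hsim : ∃ N : Subgroup G, N.Normal ∧ N ≠ ⊥ ∧ N ≠ ⊤
  · obtain ⟨N, hN, hbot, htop⟩ := hsim
    -- the subgroup
    have hsubN : Group.IsSolvable N := by
      let i : A.subgroupOf N →* A :=
        { toFun := fun x => ⟨((x : N) : G), x.2⟩, map_one' := rfl, map_mul' := fun _ _ => rfl }
      have hi : Function.Injective i := fun x y h =>
        Subtype.ext (Subtype.ext (congrArg (fun z : A => (z : G)) h))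
      have e1 := CfsgLib.Solvable.card_inf_mul_relIndex A N
      have e2 := CfsgLib.Solvable.card_inf_mul_relIndex N A
      have e3 := CfsgLib.Solvable.card_inf_mul_relIndex N (A ⊔ N)
      have e4 := CfsgLib.Solvable.card_inf_mul_relIndex A (A ⊔ N)
      rw [inf_of_le_left le_sup_right, relIndex_sup_right, ← e1] at e3
      rw [inf_of_le_left le_sup_left, ← e3, ← e2, inf_comm N A] at e4
      have hrel : A.relIndex N ∣ A.index := by
        have e5 : A.relIndex (A ⊔ N) = A.relIndex N := by
          apply Nat.eq_of_mul_eq_mul_left (Nat.mul_pos (Nat.card_pos (α := (A ⊓ N : Subgroup G))) (Nat.pos_of_ne_zero (index_ne_zero_of_finite (H := N.subgroupOf A))))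
          show _ * N.relIndex A * _ = _ * N.relIndex A * _
          rw [e4]; ring
        rw [← e5, ← relIndex_mul_index (le_sup_left : A ≤ A ⊔ N)]
        exact dvd_mul_right _ _
      obtain ⟨s', -, hs'⟩ := (Nat.dvd_prime_pow hp).1 (hrel.trans hA.dvd)
      let g := (QuotientGroup.mk' B).comp i
      haveI : g.ker.Normal := inferInstance
      have hk : IsCyclic g.ker := by
        let j : g.ker →* B :=
          { toFun := fun x => ⟨i x, (QuotientGroup.eq_one_iff _).1 x.2⟩
            map_one' := Subtype.ext (map_one i)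
            map_mul' := fun _ _ => Subtype.ext (map_mul i _ _) }
        exact isCyclic_of_injective j fun x y h =>
          Subtype.ext (hi (congrArg (fun z : B => (z : A)) h))
      have hq : IsCyclic (A.subgroupOf N ⧸ g.ker) :=
        isCyclic_of_injective (QuotientGroup.kerLift g) (QuotientGroup.kerLift_injective g)
      obtain ⟨r', -, hr'⟩ := (Nat.dvd_prime_pow Nat.prime_two).1
        ((Subgroup.card_dvd_of_injective _ (QuotientGroup.kerLift_injective g)).trans hr.dvd)
      exact IH N ((Nat.lt_of_le_of_ne (card_le_card_group N)) fun e => htop (eq_top_of_card_eq N e))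
        (A.subgroupOf N) s' hs' g.ker hk hq r' hr'
    have hquot : Group.IsSolvable (G ⧸ N) := by
      let f := QuotientGroup.mk' N
      have hf : Function.Surjective f := QuotientGroup.mk'_surjective N
      let h : A →* A.map f := f.subgroupMap A
      have hh : Function.Surjective h := f.subgroupMap_surjective A
      haveI : (B.map h).Normal := Subgroup.Normal.map inferInstance h hh
      obtain ⟨s', -, hs'⟩ := (Nat.dvd_prime_pow hp).1 ((index_map_dvd A hf).trans hA.dvd)
      have hk : IsCyclic (B.map h) :=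
        isCyclic_of_surjective (h.subgroupMap B) (h.subgroupMap_surjective B)
      let q : A ⧸ B →* A.map f ⧸ B.map h := QuotientGroup.map B (B.map h) h (le_comap_map h B)
      have hqs : Function.Surjective q := fun y => by
        obtain ⟨y, rfl⟩ := QuotientGroup.mk_surjective y
        obtain ⟨x, rfl⟩ := hh y
        exact ⟨x, rfl⟩
      obtain ⟨r', -, hr'⟩ := (Nat.dvd_prime_pow Nat.prime_two).1
        ((Subgroup.card_dvd_of_surjective q hqs).trans hr.dvd)
      exact IH (G ⧸ N) (CfsgLib.Supersolvable.card_quotient_lt hbot) (A.map f) s' hs' (B.map h) hk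
        (isCyclic_of_surjective q hqs) r' hr'
    exact hns (Group.isSolvable_of_ker_le_range N.subtype (QuotientGroup.mk' N)
      (by rw [QuotientGroup.ker_mk', range_subtype]))
  push Not at hsim
  haveI : IsSimpleGroup G :=
    ⟨fun N hN => (em (N = ⊥)).elim Or.inl fun h => Or.inr (hsim N hN h)⟩
  by_cases h2 : 2 ∣ Nat.card B
  · haveI : Fact (Nat.Prime 2) := ⟨Nat.prime_two⟩
    obtain ⟨z, hz⟩ := exists_prime_orderOf_dvd_card' 2 h2
    have hz2 : orderOf (z : A) = 2 := by rw [Subgroup.orderOf_coe, hz]
    have hz1 : ((z : A) : G) ≠ 1 := fun e => by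
      have : (z : A) = 1 := Subtype.ext e
      rw [this, orderOf_one] at hz2; cases hz2
    refine false_of_central_of_primePow_index hns hp hA hz1 fun a ha => ?_
    have hconj : (⟨a, ha⟩ : A) * z * (⟨a, ha⟩ : A)⁻¹ ∈ B := Subgroup.Normal.conj_mem inferInstance _ z.2 _
    obtain ⟨w, hw⟩ : ∃ w : B, (w : A) = (⟨a, ha⟩ : A) * z * (⟨a, ha⟩ : A)⁻¹ := ⟨⟨_, hconj⟩, rfl⟩
    have hw2 : orderOf w = 2 := by
      rw [← Subgroup.orderOf_coe, hw, ← MulAut.conj_apply, MulEquiv.orderOf_eq, hz2]
    have hwz : w = z := by
      classical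
      have := Fintype.ofFinite B
      have hc := IsCyclic.card_orderOf_eq_totient (α := B) (d := 2) (by rwa [← Nat.card_eq_fintype_card])
      rw [Nat.totient_two] at hc
      exact Finset.card_le_one.1 hc.le w (by simp [hw2]) z (by simp [hz])
    rw [mem_centralizer_singleton_iff]
    have := congrArg (fun t : B => ((t : A) : G)) hwz
    simp only [hw, Subgroup.coe_mul, Subgroup.coe_inv] at this
    exact (mul_inv_eq_iff_eq_mul.1 this)
  · have hBodd : ¬ 2 ∣ Nat.card (B.map A.subtype) := by
      rwa [Nat.card_congr (B.equivMapOfInjective _ A.subtype_injective).toEquiv.symm]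
    haveI : Fact (Nat.Prime 2) := ⟨Nat.prime_two⟩
    rcases Nat.eq_zero_or_pos r with hr0 | hr0
    · exact hns (isSolvable_of_cyclic_primePow_index hp _ hBc (s := s) (by rw [hcomp, hr0, pow_zero, one_mul]))
    obtain ⟨S⟩ : Nonempty (Sylow 2 A) := inferInstance
    have hSB : Function.Injective ((QuotientGroup.mk' B).comp (S : Subgroup A).subtype) := by
      rw [← MonoidHom.ker_eq_bot_iff, eq_bot_iff]
      intro x hx
      obtain ⟨k, hk⟩ := S.2 x
      have hxB : (x : A) ∈ B := (QuotientGroup.eq_one_iff _).1 hx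
      have h1 : orderOf (x : A) ∣ 2 ^ k := by rw [Subgroup.orderOf_coe]; exact orderOf_dvd_of_pow_eq_one hk
      have h3 : orderOf (x : A) ∣ Nat.card B := by
        have := orderOf_dvd_natCard (⟨x, hxB⟩ : B)
        rwa [Subgroup.orderOf_mk] at this
      have : orderOf (x : A) = 1 := Nat.eq_one_of_dvd_coprimes
        ((Nat.prime_two.coprime_iff_not_dvd.2 h2).pow_left k) h1 h3
      rw [orderOf_eq_one_iff] at this
      exact mem_bot.2 (Subtype.ext this)
    haveI := hAB
    have hSc : IsCyclic S := isCyclic_of_injective _ hSB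
    have hSindex : ¬ 2 ∣ ((S : Subgroup A).map A.subtype).index := by
      rw [index_map_subtype, hA]
      intro h
      rcases Nat.prime_two.dvd_mul.1 h with h | h
      · exact S.not_dvd_index h
      · exact hp2 ((Nat.prime_dvd_prime_iff_eq Nat.prime_two hp).1 (Nat.prime_two.dvd_of_dvd_pow h)).symm
    let T : Sylow 2 G := (S.2.map A.subtype).toSylow hSindex
    have hTc : IsCyclic (T : Subgroup G) :=
      ((S : Subgroup A).equivMapOfInjective _ A.subtype_injective).isCyclic.1 hSc
    have hev : 2 ∣ Nat.card G := by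
      rw [← A.card_mul_index, Subgroup.card_eq_card_quotient_mul_card_subgroup B, hr]
      exact ((dvd_pow_self 2 hr0.ne').mul_right _).mul_right _
    have hmin : (Nat.card G).minFac = 2 := (Nat.minFac_eq_two_iff _).2 hev
    have hK := IsCyclic.isComplement' hmin hTc
    rcases (MonoidHom.transferSylow T (IsCyclic.normalizer_le_centralizer hmin hTc)).normal_ker.eq_bot_or_eq_top with h | h
    · rw [h, isComplement'_bot_left] at hK
      haveI := hTc
      haveI : Group.IsSolvable (T : Subgroup G) := Group.isSolvable_of_comm fun a b => IsCyclic.commGroup.mul_comm a b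
      exact hns (Group.isSolvable_of_surjective (f := (T : Subgroup G).subtype) fun g =>
        ⟨⟨g, hK ▸ mem_top g⟩, rfl⟩)
    · rw [h, isComplement'_top_left] at hK
      have := (Nat.dvd_iff_mod_eq_zero.1 hev)
      apply T.not_dvd_index
      rw [hK, index_bot]; exact hev

end CfsgLib.FGStruct
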