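import Mathlib
import Cfsg.Prelude.Def_Solvable
import Cfsg.Prelude.Def_Transfer
import Cfsg.Agent.Lib.PNilpotent.Basic
import Cfsg.Agent.Lib.Transfer.PResidual

/-!
Sections in which the exponent is attained and normal `p`-complements.
-/

open Subgroup
open scoped Pointwise commutatorElement

namespace CfsgLib.FGStruct

/-- In a `p`-group the exponent is attained. -/
theorem exists_orderOf_eq_exponent_of_isPGroup {K : Type*} [Group K] [Finite K] {p : ℕ} [hp : Fact p.Prime]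
    (hK : IsPGroup p K) : ∃ k : K, orderOf k = Monoid.exponent K := by
  have := Fintype.ofFinite K
  obtain ⟨k, hk⟩ := Finite.exists_max (fun x : K => orderOf x)
  refine ⟨k, Nat.dvd_antisymm (Monoid.order_dvd_exponent k) (Monoid.exponent_dvd.2 fun x => ?_)⟩
  obtain ⟨a, ha⟩ := IsPGroup.iff_orderOf.1 hK x
  obtain ⟨b, hb⟩ := IsPGroup.iff_orderOf.1 hK k
  have := hk x
  simp only [ha, hb] at this ⊢
  exact pow_dvd_pow p ((Nat.pow_le_pow_iff_right hp.out.one_lt).1 this)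

theorem conj_pow_eq_of_commute {G : Type*} [Group G] {g u c : G} (hc : g * u * g⁻¹ = c * u)
    (hcg : g * c = c * g) (n : ℕ) : g ^ n * u * (g ^ n)⁻¹ = c ^ n * u := by
  induction n with
  | zero => simp
  | succ n ih =>
    have hcn : g ^ n * c = c * g ^ n := ((show Commute g c from hcg).pow_left n).eq
    calc g ^ (n + 1) * u * (g ^ (n + 1))⁻¹ = g ^ n * (g * u * g⁻¹) * (g ^ n)⁻¹ := by rw [pow_succ]; group
      _ = c * (g ^ n * u * (g ^ n)⁻¹) := by rw [hc, ← mul_assoc (g ^ n), hcn]; group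
      _ = c ^ (n + 1) * u := by rw [ih, pow_succ', mul_assoc]

universe u

/-- If every section with trivial `O_{p'}` attains its exponent, elements of order prime to `p` centralise
the `p`-subgroups they normalise. -/
theorem primeToPCentralizes_of_exponent_sections {G : Type u} [Group G] [Finite G] (p : ℕ) [hp : Fact p.Prime]
    (h : ∀ (H : Subgroup G) (N : Subgroup H) [N.Normal], Cfsg.pPrimeCore p (H ⧸ N) = ⊥ →
        ∃ k : H ⧸ N, orderOf k = Monoid.exponent (H ⧸ N)) :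
    CfsgLib.PNilpotent.PrimeToPCentralizes p G := by
  intro Q₀ hQ₀ g₀ hg₀ hcop₀
  by_contra hnc₀
  classical
  have hex : ∃ n, ∃ (g : G) (U : Subgroup G), orderOf g = n ∧ IsPGroup p U ∧ g ∈ normalizer (U : Set G) ∧
      (orderOf g).Coprime p ∧ g ∉ centralizer (U : Set G) := ⟨_, g₀, Q₀, rfl, hQ₀, hg₀, hcop₀, hnc₀⟩
  obtain ⟨g, U₀, hgn, hU₀, hgU₀, hcop, hnc⟩ := Nat.find_spec hex
  have hexU : ∃ m, ∃ U : Subgroup G, Nat.card U = m ∧ IsPGroup p U ∧ g ∈ normalizer (U : Set G) ∧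
      g ∉ centralizer (U : Set G) := ⟨_, U₀, rfl, hU₀, hgU₀, hnc⟩
  obtain ⟨U, hUm, hU, hgU, hnc⟩ := Nat.find_spec hexU
  have hmin : ∀ V : Subgroup G, V < U → g ∈ normalizer (V : Set G) → g ∈ centralizer (V : Set G) := by
    intro V hV hgV
    by_contra hcV
    refine Nat.find_min hexU (m := Nat.card V) ?_ ⟨V, rfl, hU.to_le hV.le, hgV, hcV⟩
    rw [← hUm]
    exact Set.Finite.card_lt_card (Set.toFinite _) hV
  -- a prime `q` dividing the order of `g`
  have hg1 : orderOf g ≠ 1 := fun e => hnc (by rw [orderOf_eq_one_iff.1 e]; exact one_mem _)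
  obtain ⟨q, hq, hqd⟩ := Nat.exists_prime_and_dvd hg1
  haveI := Fact.mk hq
  have hqp : q ≠ p := fun e => hp.out.ne_one (Nat.eq_one_of_dvd_coprimes hcop (e ▸ hqd) dvd_rfl)
  have hgq : g ^ q ∈ centralizer (U : Set G) := by
    by_contra hc
    have hlt : orderOf (g ^ q) < orderOf g := by
      rw [orderOf_pow_of_dvd hq.ne_zero hqd]
      exact Nat.div_lt_self (orderOf_pos g) hq.one_lt
    exact Nat.find_min hex (hlt.trans_eq hgn) ⟨g ^ q, U, rfl, hU, pow_mem hgU q,
      hcop.coprime_dvd_left (orderOf_pow_dvd q), hc⟩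
  -- the fixed points
  let F : Subgroup G := U ⊓ centralizer {g}
  have hgfix : ∀ y ∈ F, g * y = y * g := fun y hy => (mem_centralizer_singleton_iff.1 hy.2).symm
  have hconjU : ∀ y ∈ U, g * y * g⁻¹ ∈ U := fun y hy => (mem_normalizer_iff.1 hgU y).1 hy
  have hcomm : ∀ a ∈ U, ∀ b ∈ U, a * b * a⁻¹ * b⁻¹ ∈ F := by
    intro a ha b hb
    refine ⟨U.mul_mem (U.mul_mem (U.mul_mem ha hb) (U.inv_mem ha)) (U.inv_mem hb), ?_⟩
    have hDU : ⁅U, U⁆ < U := by
      refine lt_of_le_of_ne (commutator_le.2 fun x hx y hy => by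
        rw [commutatorElement_def]; exact mul_mem (mul_mem (mul_mem hx hy) (inv_mem hx)) (inv_mem hy)) fun e => ?_
      haveI := hU.isNilpotent
      haveI : Group.IsSolvable U := inferInstance
      haveI : Nontrivial U := (Subgroup.nontrivial_iff_ne_bot U).2 fun e' => hnc (mem_centralizer_iff.2 fun y hy => by rw [e', SetLike.mem_coe, mem_bot] at hy; simp [hy])
      exact (Group.IsSolvable.commutator_lt_top_of_nontrivial (G := U)).ne
        (map_injective U.subtype_injective (by rw [map_subtype_commutator, e, ← MonoidHom.range_eq_map, range_subtype]))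
    have hgD : g ∈ normalizer ((⁅U, U⁆ : Subgroup G) : Set G) := by
      refine (le_normalizer_iff.2 fun a ha x hx => ?_ : zpowers g ≤ _) (mem_zpowers g)
      have han := zpowers_le.2 hgU ha
      have : ⁅U, U⁆ ≤ (⁅U, U⁆ : Subgroup G).comap (MulAut.conj a).toMonoidHom := commutator_le.2 fun y hy z hz => by
        rw [mem_comap, map_commutatorElement]
        exact commutator_mem_commutator ((mem_normalizer_iff.1 han y).1 hy) ((mem_normalizer_iff.1 han z).1 hz)
      exact this hx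
    have hm : a * b * a⁻¹ * b⁻¹ ∈ ⁅U, U⁆ := commutatorElement_def a b ▸ commutator_mem_commutator ha hb
    exact mem_centralizer_singleton_iff.2 (mem_centralizer_iff.1 (hmin _ hDU hgD) _ hm)
  have trick : ∀ u ∈ U, g * u * g⁻¹ * u⁻¹ ∈ F → g * u * g⁻¹ * u⁻¹ = 1 := by
    intro u hu hc
    have e := conj_pow_eq_of_commute (g := g) (u := u) (c := g * u * g⁻¹ * u⁻¹) (by group) (hgfix _ hc) (orderOf g)
    rw [pow_orderOf_eq_one] at e
    rw [one_mul, inv_one, mul_one] at e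
    have h1 : (g * u * g⁻¹ * u⁻¹) ^ orderOf g = 1 := mul_eq_right.1 e.symm
    obtain ⟨k, hk⟩ := hU ⟨_, hc.1⟩
    exact orderOf_eq_one_iff.1 (Nat.eq_one_of_dvd_coprimes (hcop.pow_right k)
      (orderOf_dvd_of_pow_eq_one h1) (orderOf_dvd_of_pow_eq_one (congrArg Subtype.val hk)))
  -- the section
  let H : Subgroup G := U ⊔ zpowers g
  have hgH : g ∈ H := mem_sup_right (mem_zpowers g)
  have hUH : U ≤ H := le_sup_left
  have hUn : (U.subgroupOf H).Normal :=
    normal_subgroupOf_iff_le_normalizer hUH |>.2 (sup_le le_normalizer (zpowers_le.2 hgU))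
  let N₀ : Subgroup G := F ⊔ zpowers (g ^ q)
  have hN₀H : N₀ ≤ H := sup_le (inf_le_left.trans hUH) (zpowers_le.2 (pow_mem hgH q))
  have hHF : H ≤ normalizer (F : Set G) := by
    refine sup_le (le_normalizer_iff.2 fun a ha b hb => ?_) (zpowers_le.2 ?_)
    · have h1 := mul_mem (hcomm a ha b hb.1) hb
      rwa [show a * b * a⁻¹ * b⁻¹ * b = a * b * a⁻¹ by group] at h1
    · have hfix : ∀ y : G, g * y * g⁻¹ ∈ F ↔ y ∈ F := fun y => by
        constructor
        · intro hy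
          have h1 : g * y * g⁻¹ = y := by
            have h2 := hgfix _ hy
            calc g * y * g⁻¹ = g⁻¹ * (g * (g * y * g⁻¹)) := by group
              _ = g⁻¹ * ((g * y * g⁻¹) * g) := by rw [h2]
              _ = y := by group
          rwa [h1] at hy
        · intro hy
          rwa [hgfix y hy, mul_inv_cancel_right]
      exact mem_normalizer_iff.2 fun y => (hfix y).symm
  have hz : ∀ z ∈ zpowers (g ^ q), ∀ x ∈ H, x * z = z * x := by
    intro z hz x hx
    have : H ≤ centralizer {z} := sup_le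
      (fun y hy => mem_centralizer_singleton_iff.2
        (mem_centralizer_iff.1 ((zpowers_le.2 hgq) hz) y hy))
      (zpowers_le.2 (mem_centralizer_singleton_iff.2 (by
        obtain ⟨i, rfl⟩ := mem_zpowers_iff.1 hz
        exact (((Commute.refl g).pow_right q).zpow_right i).eq)))
    exact mem_centralizer_singleton_iff.1 (this hx)
  have hHN : H ≤ normalizer (N₀ : Set G) := by
    refine le_normalizer_iff.2 fun x hx y hy => ?_
    have : N₀ ≤ N₀.comap (MulAut.conj x).toMonoidHom := sup_le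
      (fun f hf => mem_sup_left ((mem_normalizer_iff.1 (hHF hx) f).1 hf))
      (fun z hzz => by
        show x * z * x⁻¹ ∈ N₀
        rw [hz z hzz x hx, mul_inv_cancel_right]; exact mem_sup_right hzz)
    exact this hy
  let N := N₀.subgroupOf H
  haveI hNn : N.Normal := (normal_subgroupOf_iff_le_normalizer hN₀H).2 hHN
  let π := QuotientGroup.mk' N
  have hπ1 : ∀ {x : G} (hx : x ∈ H), π ⟨x, hx⟩ = 1 ↔ x ∈ N₀ := fun hx => QuotientGroup.eq_one_iff _
  have hUN : ∀ x ∈ U, x ∈ N₀ → x ∈ F := by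
    intro x hx hxN
    have hle : zpowers (g ^ q) ≤ normalizer (F : Set G) := zpowers_le.2 (hHF (pow_mem hgH q))
    rw [← SetLike.mem_coe, show (N₀ : Set G) = (F : Set G) * zpowers (g ^ q) from coe_mul_of_right_le_normalizer_left _ _ hle] at hxN
    obtain ⟨f, hf, z, hz', rfl⟩ := Set.mem_mul.1 hxN
    have hzU : z ∈ U := by simpa using U.mul_mem (U.inv_mem hf.1) hx
    obtain ⟨i, rfl⟩ := mem_zpowers_iff.1 hz'
    obtain ⟨k, hk⟩ := hU ⟨_, hzU⟩
    have : orderOf ((g ^ q) ^ i) = 1 := Nat.eq_one_of_dvd_coprimes (hcop.pow_right k)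
      ((orderOf_dvd_of_mem_zpowers ⟨i, rfl⟩).trans (orderOf_pow_dvd q)) (orderOf_dvd_of_pow_eq_one (congrArg Subtype.val hk))
    rw [orderOf_eq_one_iff.1 this, mul_one]; exact hf
  let W : Subgroup (H ⧸ N) := (U.subgroupOf H).map π
  haveI : W.Normal := hUn.map π (QuotientGroup.mk'_surjective N)
  have hW : IsPGroup p W := (hU.of_equiv (subgroupOfEquivOfLe hUH).symm).map π
  have hgW : ∀ w ∈ W, π ⟨g, hgH⟩ * w = w * π ⟨g, hgH⟩ → w = 1 := by
    rintro _ ⟨⟨u, huH⟩, hu, rfl⟩ e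
    have e1 : π (⟨g, hgH⟩ * ⟨u, huH⟩ * ⟨g, hgH⟩⁻¹ * ⟨u, huH⟩⁻¹) = 1 := by
      simp only [map_mul, map_inv]; rw [e]; group
    have h1 := trick u hu (hUN _ (mul_mem (mul_mem (mul_mem (hconjU u hu) (one_mem _)) (one_mem _)) (inv_mem hu) |> fun h => by simpa using h)
      ((hπ1 _).1 e1))
    refine (hπ1 huH).2 (mem_sup_left ⟨hu, mem_centralizer_singleton_iff.2 ?_⟩)
    exact (mul_inv_eq_iff_eq_mul.1 (mul_inv_eq_one.1 h1)).symm
  have hW1 : ∃ w ∈ W, w ≠ 1 := by
    by_contra hall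
    push Not at hall
    refine hnc (mem_centralizer_iff.2 fun u hu => ?_)
    exact (hgfix u (hUN u hu ((hπ1 (hUH hu)).1 (hall _ ⟨_, hu, rfl⟩)))).symm
  have hgq1 : π ⟨g, hgH⟩ ^ q = 1 := by
    rw [← map_pow]; exact (hπ1 (pow_mem hgH q)).2 (mem_sup_right (mem_zpowers _))
  have hdec : ∀ k : H ⧸ N, ∃ w ∈ W, ∃ i : ℤ, k = w * π ⟨g, hgH⟩ ^ i := by
    intro k
    obtain ⟨⟨x, hx⟩, rfl⟩ := QuotientGroup.mk'_surjective N k
    have hx' : x ∈ (U : Set G) * zpowers g :=
      (coe_mul_of_right_le_normalizer_left U (zpowers g) (zpowers_le.2 hgU)).subset hx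
    obtain ⟨u, hu, z, hz', rfl⟩ := Set.mem_mul.1 hx'
    obtain ⟨i, rfl⟩ := mem_zpowers_iff.1 hz'
    exact ⟨π ⟨u, hUH hu⟩, ⟨_, hu, rfl⟩, i, by rw [← map_zpow, ← map_mul]; rfl⟩
  have hWab : ∀ a ∈ W, ∀ b ∈ W, a * b = b * a := by
    rintro _ ⟨a, ha, rfl⟩ _ ⟨b, hb, rfl⟩
    rw [← commutatorElement_eq_one_iff_mul_comm, ← map_commutatorElement]
    exact (hπ1 _).2 (mem_sup_left (hcomm _ ha _ hb))
  have hg_ne : π ⟨g, hgH⟩ ≠ 1 := fun e => by
    obtain ⟨w, hw, hw1⟩ := hW1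
    exact hw1 (hgW w hw (by rw [e, one_mul, mul_one]))
  have hcore : Cfsg.pPrimeCore p (H ⧸ N) = ⊥ := by
    refine le_bot_iff.1 (sSup_le fun M ⟨hMn, hMc⟩ m hm => ?_)
    obtain ⟨w, hw, i, rfl⟩ := hdec m
    haveI := hMn
    have hdis : W ⊓ M = ⊥ := by
      obtain ⟨k, hk⟩ := IsPGroup.iff_card.1 hW
      exact inf_eq_bot_of_coprime (by rw [hk]; exact (hMc.symm.pow_left k))
    have hcw : ∀ v ∈ W, Commute (w * π ⟨g, hgH⟩ ^ i) v := fun v hv =>
      commute_of_normal_of_disjoint M W hMn inferInstance (disjoint_iff.2 (inf_comm W M ▸ hdis)) _ _ hm hv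
    have hci : ∀ v ∈ W, Commute (π ⟨g, hgH⟩ ^ i) v := fun v hv => by
      have h1 : Commute w⁻¹ v := (show Commute w v from hWab w hw v hv).inv_left
      have h2 := h1.mul_left (hcw v hv)
      rwa [inv_mul_cancel_left] at h2
    by_cases hi : (q : ℤ) ∣ i
    · obtain ⟨t, rfl⟩ := hi
      rw [zpow_mul, zpow_natCast, hgq1, one_zpow, mul_one] at hm ⊢
      have : w ∈ W ⊓ M := ⟨hw, hm⟩
      rw [hdis, mem_bot] at this
      rw [this]; exact one_mem _
    · obtain ⟨v, hv, hv1⟩ := hW1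
      exact absurd (hgW v hv (commute_of_zpow hgq1 hq hi (hci v hv)).eq) hv1
  obtain ⟨k, hk⟩ := h H N hcore
  have hpK : p ∣ Monoid.exponent (H ⧸ N) := by
    obtain ⟨w, hw, hw1⟩ := hW1
    obtain ⟨j, hj⟩ := IsPGroup.iff_orderOf.1 hW ⟨w, hw⟩
    rw [Subgroup.orderOf_mk] at hj
    have hj0 : j ≠ 0 := fun e => hw1 (orderOf_eq_one_iff.1 (by rw [hj, e, pow_zero]))
    exact ((dvd_pow_self p hj0).trans hj.symm.dvd).trans (Monoid.order_dvd_exponent w)
  have hqK : q ∣ Monoid.exponent (H ⧸ N) :=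
    (orderOf_eq_prime hgq1 hg_ne).symm.dvd.trans (Monoid.order_dvd_exponent _)
  rw [← hk] at hpK hqK
  set x := k ^ (orderOf k / p) with hxdef
  set y := k ^ (orderOf k / q) with hydef
  have hox : orderOf x = p := orderOf_pow_orderOf_div (orderOf_pos k).ne' hpK
  have hoy : orderOf y = q := orderOf_pow_orderOf_div (orderOf_pos k).ne' hqK
  have hxy : Commute x y := (Commute.refl k).pow_pow _ _
  have hpw : ∀ w ∈ W, ∀ i : ℤ, ∀ {r : ℕ}, r.Prime → orderOf (w * π ⟨g, hgH⟩ ^ i) = r → r ≠ q → (q : ℤ) ∣ i := by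
    intro w hw i r hr ho hne
    by_contra hi
    have e : QuotientGroup.mk' W (w * π ⟨g, hgH⟩ ^ i) = QuotientGroup.mk' W (π ⟨g, hgH⟩) ^ i := by
      rw [map_mul, show QuotientGroup.mk' W w = 1 from (QuotientGroup.eq_one_iff w).2 hw, one_mul, map_zpow]
    have h1 : orderOf (QuotientGroup.mk' W (π ⟨g, hgH⟩) ^ i) ∣ r := e ▸ ho ▸ orderOf_map_dvd _ _
    have h2 : orderOf (QuotientGroup.mk' W (π ⟨g, hgH⟩) ^ i) ∣ q := (orderOf_dvd_of_mem_zpowers ⟨i, rfl⟩).trans
      (orderOf_dvd_of_pow_eq_one (by rw [← map_pow, hgq1, map_one]))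
    have h3 := orderOf_eq_one_iff.1 (Nat.eq_one_of_dvd_coprimes ((Nat.coprime_primes hr hq).2 hne) h1 h2)
    have h4 : π ⟨g, hgH⟩ ∈ W := (QuotientGroup.eq_one_iff _).1
      (commute_one_of_zpow (a := QuotientGroup.mk' W (π ⟨g, hgH⟩)) (by rw [← map_pow, hgq1, map_one]) hq hi h3)
    obtain ⟨v, hv, hv1⟩ := hW1
    exact hv1 (hgW v hv (hWab _ h4 v hv))
  obtain ⟨w, hw, i, hxi⟩ := hdec x
  have hxW : x ∈ W := by
    obtain ⟨t, ht⟩ := hpw w hw i hp.out (hxi ▸ hox) hqp.symm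
    rw [hxi, ht, zpow_mul, zpow_natCast, hgq1, one_zpow, mul_one]; exact hw
  obtain ⟨w', hw', i', hyi⟩ := hdec y
  have hi' : ¬ (q : ℤ) ∣ i' := fun ⟨t, ht⟩ => by
    rw [ht, zpow_mul, zpow_natCast, hgq1, one_zpow, mul_one] at hyi
    obtain ⟨j, hj⟩ := IsPGroup.iff_orderOf.1 hW ⟨w', hw'⟩
    rw [Subgroup.orderOf_mk, ← hyi, hoy] at hj
    exact hqp ((Nat.prime_dvd_prime_iff_eq hq hp.out).1 (hq.dvd_of_dvd_pow hj.dvd))
  have hxg : Commute (π ⟨g, hgH⟩ ^ i') x := by
    have h1 : Commute w'⁻¹ x := (show Commute w' x from hWab _ hw' x hxW).inv_left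
    have h2 := h1.mul_left (hyi ▸ hxy.symm)
    rwa [inv_mul_cancel_left] at h2
  rw [hgW x hxW (commute_of_zpow hgq1 hq hi' hxg).eq, orderOf_one] at hox
  exact hp.out.ne_one hox.symm
where
  commute_of_zpow {K : Type u} [Group K] {a b : K} {q : ℕ} (ha : a ^ q = 1) (hq : q.Prime) {i : ℤ}
      (hi : ¬ (q : ℤ) ∣ i) (h : Commute (a ^ i) b) : Commute a b := by
    obtain ⟨s, t, e⟩ : IsCoprime (q : ℤ) i := (Nat.prime_iff_prime_int.1 hq).coprime_iff_not_dvd.2 hi
    have : a = (a ^ i) ^ t := by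
      rw [← zpow_mul, show i * t = 1 - (q : ℤ) * s by linarith, zpow_sub, zpow_one, zpow_mul, zpow_natCast, ha]; simp
    rw [this]; exact h.zpow_left t
  commute_one_of_zpow {K : Type u} [Group K] {a : K} {q : ℕ} (ha : a ^ q = 1) (hq : q.Prime) {i : ℤ}
      (hi : ¬ (q : ℤ) ∣ i) (h : a ^ i = 1) : a = 1 := by
    obtain ⟨s, t, e⟩ : IsCoprime (q : ℤ) i := (Nat.prime_iff_prime_int.1 hq).coprime_iff_not_dvd.2 hi
    have : a = (a ^ i) ^ t := by
      rw [← zpow_mul, show i * t = 1 - (q : ℤ) * s by linarith, zpow_sub, zpow_one, zpow_mul, zpow_natCast, ha]; simp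
    rw [this, h, one_zpow]

/-- Normal `p`-complements are detected by exponents of sections. -/
theorem hasNormalPComplement_iff_exponent_sections {G : Type u} [Group G] [Finite G] (p : ℕ) [hp : Fact p.Prime] :
    Cfsg.HasNormalPComplement p G ↔
      ∀ (H : Subgroup G) (N : Subgroup H) [N.Normal], Cfsg.pPrimeCore p (H ⧸ N) = ⊥ →
        ∃ k : H ⧸ N, orderOf k = Monoid.exponent (H ⧸ N) := by
  constructor
  · intro h H N _ hcore
    obtain ⟨P, C, hC, hCP⟩ := CfsgLib.Transfer.hasNormalPComplement_quotient N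
      (CfsgLib.Transfer.hasNormalPComplement_subgroup h H)
    have hC1 : C = ⊥ := le_bot_iff.1 (hcore ▸ le_sSup ⟨hC, by
      have := hCP.index_eq_card
      have hi := P.not_dvd_index
      rw [this] at hi
      exact ((hp.out.coprime_iff_not_dvd).2 hi).symm⟩)
    rw [hC1, isComplement'_bot_left] at hCP
    exact exists_orderOf_eq_exponent_of_isPGroup
      ((hCP ▸ P.2 : IsPGroup p (⊤ : Subgroup (H ⧸ N))).of_equiv topEquiv)
  · intro h
    obtain ⟨P⟩ : Nonempty (Sylow p G) := inferInstance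
    obtain ⟨N, hN, hNP⟩ := CfsgLib.PNilpotent.exists_normal_complement
      (primeToPCentralizes_of_exponent_sections p h) P
    exact ⟨P, N, hN, hNP⟩

end CfsgLib.FGStruct
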