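import Mathlib
import Cfsg.Prelude
import Cfsg.Agent.Lib.Transfer.Extraspecial

/-!
The extraspecial group of order 32 without an elementary abelian subgroup of order 8: normal
forms on four pairwise non-commuting involutions and the resulting automorphism group.
-/

set_option autoImplicit false

namespace CfsgLib.FGStruct.ExtraspecialMinus

open scoped commutatorElement

/-- Coordinates. -/
abbrev Crd := (Bool × Bool × Bool × Bool) × Bool

def st0 : Crd → Crd
  | ((a, b, c, d), e) => ((!a, b, c, d), xor e (xor b (xor c d)))
def st1 : Crd → Crd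
  | ((a, b, c, d), e) => ((a, !b, c, d), xor e (xor c d))
def st2 : Crd → Crd
  | ((a, b, c, d), e) => ((a, b, !c, d), xor e d)
def st3 : Crd → Crd
  | ((a, b, c, d), e) => ((a, b, c, !d), e)
def st4 : Crd → Crd
  | (v, e) => (v, !e)

/-- The product of two normal forms. -/
def cmul (m : Crd) : Crd → Crd
  | ((a, b, c, d), e) =>
    let m := if a then st0 m else m
    let m := if b then st1 m else m
    let m := if c then st2 m else m
    let m := if d then st3 m else m
    if e then st4 m else m

/-- The five singular vectors. -/
def sv (k : Fin 5) : Bool × Bool × Bool × Bool :=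
  ![(true, false, false, false), (false, true, false, false), (false, false, true, false),
    (false, false, false, true), (true, true, true, true)] k

def czero : Crd := ((false, false, false, false), false)

theorem sv_injective : Function.Injective sv := by unfold Function.Injective; decide

theorem invol_cases : ∀ m : Crd, cmul m m = czero →
    m.1 = (false, false, false, false) ∨ ∃ k, m.1 = sv k := by decide

theorem sv_invol : ∀ k e, cmul (sv k, e) (sv k, e) = czero := by decide

theorem sv_noncomm : ∀ k l, k ≠ l → ∀ e e', cmul (sv k, e) (sv l, e') ≠ cmul (sv l, e') (sv k, e) := by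
  decide

variable {P : Type*} [Group P]

def pw (x : P) (a : Bool) : P := if a then x else 1

/-- Four pairwise non-commuting involutions; `z` is the central involution. -/
structure Frame (z : P) (w : Fin 4 → P) : Prop where
  sq : ∀ i, w i * w i = 1
  swap : ∀ i j, i ≠ j → w j * w i = w i * (w j * z)

def nf (z : P) (w : Fin 4 → P) : Crd → P
  | ((a, b, c, d), e) => pw (w 0) a * (pw (w 1) b * (pw (w 2) c * (pw (w 3) d * pw z e)))

section
variable {z : P} (hz : ∀ g : P, g * z = z * g) (hz2 : z * z = 1) {w : Fin 4 → P} (F : Frame z w)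

theorem pw_z_mul (hz2 : z * z = 1) (a b : Bool) : pw z a * pw z b = pw z (xor a b) := by
  cases a <;> cases b <;> simp [pw, hz2]

theorem nf_st0 (hz : ∀ g : P, g * z = z * g) (hz2 : z * z = 1) (F : Frame z w) (m : Crd) :
    nf z w m * w 0 = nf z w (st0 m) ∧ nf z w m * w 1 = nf z w (st1 m) ∧
      nf z w m * w 2 = nf z w (st2 m) ∧ nf z w m * w 3 = nf z w (st3 m) ∧
      nf z w m * z = nf z w (st4 m) := by
  obtain ⟨⟨a, b, c, d⟩, e⟩ := m
  have sw : ∀ i j, i ≠ j → ∀ (t : Bool) (r : P),
      pw (w j) t * (w i * r) = w i * (pw (w j) t * (pw z t * r)) := by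
    intro i j hij t r
    cases t
    · simp [pw]
    · simp only [pw, if_true]
      rw [← mul_assoc, F.swap i j hij, mul_assoc, mul_assoc]
  have cx : ∀ i (t : Bool) (r : P), pw (w i) t * (w i * r) = pw (w i) (!t) * r := by
    intro i t r
    cases t
    · simp [pw]
    · simp [pw, ← mul_assoc, F.sq i]
  have zc : ∀ (g : P) (t : Bool), pw z t * g = g * pw z t := fun g t => by
    cases t <;> simp [pw, hz g]
  have zc' : ∀ (j : Fin 4) (t s : Bool) (r : P), pw z t * (pw (w j) s * r) = pw (w j) s * (pw z t * r) := by
    intro j t s r; rw [← mul_assoc, zc, mul_assoc]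
  have zz : ∀ t s : Bool, pw z t * pw z s = pw z (xor t s) := pw_z_mul hz2
  refine ⟨?_, ?_, ?_, ?_, ?_⟩
  · simp only [nf, st0, mul_assoc]
    rw [zc (w 0) e, sw 0 3 (by decide), sw 0 2 (by decide), sw 0 1 (by decide), cx, zc' 2, zc' 3,
      zc' 3, zz d e, zz c (xor d e), zz b (xor c (xor d e))]
    congr 4
    cases b <;> cases c <;> cases d <;> cases e <;> rfl
  · simp only [nf, st1, mul_assoc]
    rw [zc (w 1) e, sw 1 3 (by decide), sw 1 2 (by decide), cx, zc' 3, zz d e, zz c (xor d e)]
    congr 4
    cases c <;> cases d <;> cases e <;> rfl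
  · simp only [nf, st2, mul_assoc]
    rw [zc (w 2) e, sw 2 3 (by decide), cx, zz d e]
    congr 4
    cases d <;> cases e <;> rfl
  · simp only [nf, st3, mul_assoc]
    rw [zc (w 3) e, cx]
  · simp only [nf, st4, mul_assoc]
    congr 4
    cases e <;> simp [pw, hz2]

theorem nf_mul (hz : ∀ g : P, g * z = z * g) (hz2 : z * z = 1) (F : Frame z w) (m n : Crd) :
    nf z w m * nf z w n = nf z w (cmul m n) := by
  obtain ⟨⟨a, b, c, d⟩, e⟩ := n
  have h := nf_st0 hz hz2 F
  show _ * (pw (w 0) a * (pw (w 1) b * (pw (w 2) c * (pw (w 3) d * pw z e)))) = _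
  simp only [← mul_assoc]
  cases a <;> cases b <;> cases c <;> cases d <;> cases e <;>
    simp [pw, cmul, (h _).1, (h _).2.1, (h _).2.2.1, (h _).2.2.2.1, (h _).2.2.2.2]

theorem nf_czero : nf z w czero = 1 := by simp [nf, czero, pw]

theorem nf_injective (hz : ∀ g : P, g * z = z * g) (hz2 : z * z = 1) (hz1 : z ≠ 1) (F : Frame z w) :
    Function.Injective (nf z w) := by
  have h := nf_st0 hz hz2 F
  -- left multiplication by a generator agrees with right multiplication up to a known sign
  have hker : ∀ m : Crd, nf z w m = 1 → m = czero := by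
    intro m hm
    have key : ∀ (i : Fin 4) (e : Crd), nf z w e = w i → nf z w (cmul m e) = nf z w (cmul e m) :=
      fun i e he => by
        rw [← nf_mul hz hz2 F, ← nf_mul hz hz2 F, hm, one_mul, mul_one]
    have flip : ∀ (u : Bool × Bool × Bool × Bool) (e e' : Bool), nf z w (u, e) = nf z w (u, e') → e = e' := by
      rintro ⟨a, b, c, d⟩ e e' he
      have he' : pw z e = pw z e' := by
        simpa [nf, mul_left_cancel_iff] using he
      cases e <;> cases e' <;> simp_all [pw]
    have k0 := key 0 ((true, false, false, false), false) (by simp [nf, pw])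
    have k1 := key 1 ((false, true, false, false), false) (by simp [nf, pw])
    have k2 := key 2 ((false, false, true, false), false) (by simp [nf, pw])
    have k3 := key 3 ((false, false, false, true), false) (by simp [nf, pw])
    obtain ⟨⟨a, b, c, d⟩, e⟩ := m
    have aux : ∀ (x y : Crd), x.1 = y.1 → nf z w x = nf z w y → x.2 = y.2 := by
      rintro ⟨u, e⟩ ⟨u', e'⟩ rfl hh
      exact flip u e e' hh
    have dec : ∀ (n : Crd) (i : Fin 4), (cmul n (sv i.castSucc, false)).1 = (cmul (sv i.castSucc, false) n).1 := by
      decide
    have l0 := aux _ _ (dec ((a, b, c, d), e) 0) k0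
    have l1 := aux _ _ (dec ((a, b, c, d), e) 1) k1
    have l2 := aux _ _ (dec ((a, b, c, d), e) 2) k2
    have l3 := aux _ _ (dec ((a, b, c, d), e) 3) k3
    have dec2 : ∀ n : Crd,
        (cmul n ((true, false, false, false), false)).2 = (cmul ((true, false, false, false), false) n).2 →
        (cmul n ((false, true, false, false), false)).2 = (cmul ((false, true, false, false), false) n).2 →
        (cmul n ((false, false, true, false), false)).2 = (cmul ((false, false, true, false), false) n).2 →
        (cmul n ((false, false, false, true), false)).2 = (cmul ((false, false, false, true), false) n).2 →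
        n.1 = (false, false, false, false) := by decide
    have hv := dec2 _ l0 l1 l2 l3
    simp only [Prod.mk.injEq] at hv
    obtain ⟨rfl, rfl, rfl, rfl⟩ := hv
    cases e
    · rfl
    · simp [nf, pw] at hm; exact absurd hm hz1
  intro m m' hmm
  -- right multiply both by an inverse normal form
  have dec : ∀ m m' : Crd, ∃ n, cmul m' n = czero ∧ (cmul m n = czero → m = m') := by
    have h1 : ∀ m' : Crd, cmul m' (cmul m' (cmul m' m')) = czero := by decide
    have h2 : ∀ m' m : Crd, cmul m (cmul m' (cmul m' m')) = czero → m = m' := by decide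
    exact fun m m' => ⟨_, h1 m', h2 m' m⟩
  obtain ⟨n, hn, hn'⟩ := dec m m'
  refine hn' (hker _ ?_)
  rw [← nf_mul hz hz2 F, hmm, nf_mul hz hz2 F, hn, nf_czero]

end

/-- A frame exists. -/
theorem exists_frame [Finite P] (hex : Cfsg.IsExtraspecial 2 P) (h32 : Nat.card P = 32)
    (hminus : ∀ A : Subgroup P, Cfsg.IsElementaryAbelian 2 A → Nat.card ↥A ≤ 4) :
    ∃ (z : P) (w : Fin 4 → P), z ≠ 1 ∧ z * z = 1 ∧ (∀ g, g * z = z * g) ∧
      (∀ g ∈ Subgroup.center P, g = 1 ∨ g = z) ∧ Frame z w := by
  classical
  haveI := Fact.mk Nat.prime_two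
  have h := CfsgLib.Transfer.centreOrderP_of_isExtraspecial hex
  obtain ⟨z, hz, hz1⟩ := h.exists_center_ne_one
  have hzc : ∀ g, g * z = z * g := fun g => Subgroup.mem_center_iff.1 hz g
  have hz2 : z * z = 1 := by rw [← pow_two]; exact h.pow_eq_one hz
  have hcen : ∀ g ∈ Subgroup.center P, g = 1 ∨ g = z := by
    intro g hg
    obtain ⟨q, hq, hu⟩ := (Nat.card_eq_two_iff' (1 : Subgroup.center P)).1 h.card_center
    have e := hu ⟨z, hz⟩ fun e => hz1 (congrArg Subtype.val e)
    by_cases hg1 : g = 1
    · exact Or.inl hg1
    · exact Or.inr (congrArg Subtype.val ((hu ⟨g, hg⟩ fun e => hg1 (congrArg Subtype.val e)).trans e.symm))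
  rcases h.exists_normalized_pair hz hz1 (by omega) with ⟨x, y, hxy, hx, hy⟩ | ⟨h8, -⟩
  swap
  · omega
  rw [zpow_zero, pow_two] at hx hy
  obtain ⟨hC, -, hcard⟩ := h.centralizer_pair hxy hz1
  have hz' : (⟨z, Subgroup.center_le_centralizer _ hz⟩ : Subgroup.centralizer ({x, y} : Set P)) ∈
      Subgroup.center _ := CfsgLib.Transfer.CentreOrderP.mem_center_centralizer_pair hz
  have hne : (⟨z, Subgroup.center_le_centralizer _ hz⟩ : Subgroup.centralizer ({x, y} : Set P)) ≠ 1 :=
    fun e => hz1 (congrArg Subtype.val e)
  have h8 : Nat.card (Subgroup.centralizer ({x, y} : Set P)) = 8 := by omega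
  rcases hC.exists_normalized_pair hz' hne (by omega) with ⟨a, b, hab, ha, -⟩ | ⟨-, a, b, hab, ha, hb⟩
  · -- then `⟨z, x, a⟩` is elementary abelian of order eight
    exfalso
    have hax : (a : P) * x = x * a := (CfsgLib.Transfer.CentreOrderP.comm_left a.2).symm
    have hay : (a : P) * y = y * a := (CfsgLib.Transfer.CentreOrderP.comm_right a.2).symm
    have ha2 : (a : P) * a = 1 := by
      have := congrArg Subtype.val ha
      simpa [pow_two] using this
    let A : Subgroup P :=
      Subgroup.closure ({z, x, (a : P)} : Set P)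
    have hgen : ∀ u ∈ ({z, x, (a : P)} : Set P), ∀ v ∈ ({z, x, (a : P)} : Set P), u * v = v * u := by
      rintro u (rfl | rfl | rfl) v (rfl | rfl | rfl)
      all_goals first | rfl | exact hzc _ | exact (hzc _).symm | exact hax | exact hax.symm
    have hA : IsMulCommutative A := Subgroup.le_centralizer_iff_isMulCommutative.1 (by
      rw [Subgroup.centralizer_closure, Subgroup.closure_le]
      exact fun u hu v hv => hgen v hv u hu)
    have hAe : Cfsg.IsElementaryAbelian 2 A := by
      refine ⟨hA, fun u hu => ?_⟩
      induction hu using Subgroup.closure_induction with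
      | mem u hu =>
        rw [pow_two]
        rcases hu with rfl | rfl | rfl
        exacts [hz2, hx, ha2]
      | one => exact one_pow 2
      | mul u v hu hv ihu ihv =>
        rw [(show Commute u v from congrArg Subtype.val (hA.is_comm.comm ⟨u, hu⟩ ⟨v, hv⟩)).mul_pow, ihu, ihv,
          mul_one]
      | inv u _ ih => rw [inv_pow, ih, inv_one]
    have hle := hminus A hAe
    let s : Bool × Bool × Bool → A := fun t =>
      ⟨pw z t.1 * (pw x t.2.1 * pw (a : P) t.2.2), by
        have hm : ∀ (u : P), u ∈ ({z, x, (a : P)} : Set P) → ∀ t, pw u t ∈ A := fun u hu t => by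
          cases t
          · exact one_mem _
          · exact Subgroup.subset_closure hu
        exact mul_mem (hm _ (by simp) _) (mul_mem (hm _ (by simp) _) (hm _ (by simp) _))⟩
    have hxy' : x * y ≠ y * x := fun e => hz1 (hxy ▸ commutatorElement_eq_one_iff_mul_comm.2 e)
    have hba : (a : P) * b ≠ b * a := fun e => hne (hab ▸ commutatorElement_eq_one_iff_mul_comm.2 (Subtype.ext e))
    have hbx : (b : P) * x = x * b := (CfsgLib.Transfer.CentreOrderP.comm_left b.2).symm
    have hs : Function.Injective s := by
      rintro ⟨p1, p2, p3⟩ ⟨q1, q2, q3⟩ e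
      have e' : pw z p1 * (pw x p2 * pw (a : P) p3) = pw z q1 * (pw x q2 * pw (a : P) q3) :=
        congrArg Subtype.val e
      have hzmem : ∀ t, pw z t ∈ Subgroup.center P := fun t => by
        cases t
        · exact one_mem _
        · exact hz
      have cy : ∀ t, Commute (pw z t) y := fun t => ((Subgroup.mem_center_iff.1 (hzmem t)) y).symm
      have cb : ∀ t, Commute (pw z t) (b : P) := fun t => ((Subgroup.mem_center_iff.1 (hzmem t)) _).symm
      have ay : ∀ t, Commute (pw (a : P) t) y := fun t => by
        cases t
        · exact Commute.one_left _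
        · exact hay
      have xb : ∀ t, Commute (pw x t) (b : P) := fun t => by
        cases t
        · exact Commute.one_left _
        · exact hbx.symm
      have h2 : p2 = q2 := by
        have hyy : ∀ t1 t2 t3, (pw z t1 * (pw x t2 * pw (a : P) t3) * y =
            y * (pw z t1 * (pw x t2 * pw (a : P) t3)) ↔ t2 = false) := by
          intro t1 t2 t3
          cases t2
          · exact iff_of_true ((cy t1).mul_left ((Commute.one_left y).mul_left (ay t3))).eq rfl
          · refine iff_of_false (fun e1 => ?_) Bool.true_eq_false.mp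
            change pw z t1 * (x * pw (a : P) t3) * y = y * (pw z t1 * (x * pw (a : P) t3)) at e1
            have e2 : pw z t1 * (x * y) * pw (a : P) t3 = pw z t1 * (y * x) * pw (a : P) t3 := by
              have l : pw z t1 * (x * pw (a : P) t3) * y = pw z t1 * (x * y) * pw (a : P) t3 := by
                simp only [mul_assoc, (ay t3).eq]
              have r : y * (pw z t1 * (x * pw (a : P) t3)) = pw z t1 * (y * x) * pw (a : P) t3 := by
                simp only [← mul_assoc, ← (cy t1).eq]
              exact l.symm.trans (e1.trans r)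
            exact hxy' (mul_left_cancel (mul_right_cancel e2))
        have i1 := hyy p1 p2 p3
        have i2 := hyy q1 q2 q3
        rw [e'] at i1
        have := i1.symm.trans i2
        cases p2 <;> cases q2 <;> simp_all
      subst h2
      have h3 : p3 = q3 := by
        have hbb : ∀ t1 t2 t3, (pw z t1 * (pw x t2 * pw (a : P) t3) * b =
            b * (pw z t1 * (pw x t2 * pw (a : P) t3)) ↔ t3 = false) := by
          intro t1 t2 t3
          cases t3
          · exact iff_of_true ((cb t1).mul_left ((xb t2).mul_left (Commute.one_left (b : P)))).eq rfl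
          · refine iff_of_false (fun e1 => ?_) Bool.true_eq_false.mp
            change pw z t1 * (pw x t2 * (a : P)) * b = b * (pw z t1 * (pw x t2 * (a : P))) at e1
            have l : pw z t1 * (pw x t2 * (a : P)) * b = pw z t1 * (pw x t2 * ((a : P) * b)) := by
              simp only [mul_assoc]
            have r : (b : P) * (pw z t1 * (pw x t2 * (a : P))) = pw z t1 * (pw x t2 * ((b : P) * a)) := by
              rw [← mul_assoc, ← (cb t1).eq, mul_assoc, ← mul_assoc (b : P), ← (xb t2).eq, mul_assoc]
            exact hba (mul_left_cancel (mul_left_cancel (l.symm.trans (e1.trans r))))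
        have i1 := hbb p1 p2 p3
        have i2 := hbb q1 p2 q3
        rw [e'] at i1
        have := i1.symm.trans i2
        cases p3 <;> cases q3 <;> simp_all
      subst h3
      rw [mul_left_inj] at e'
      cases p1 <;> cases q1 <;> simp_all [pw]
    have := Nat.card_le_card_of_injective s hs
    simp at this
    omega
  · have ha' : (a : P) * a = z := by
      have := congrArg Subtype.val ha
      simpa [pow_two] using this
    have hb' : (b : P) * b = z := by
      have := congrArg Subtype.val hb
      simpa [pow_two] using this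
    have hzv : ⁅(a : P), (b : P)⁆ = z := congrArg Subtype.val hab
    have hba : (b : P) * a = a * b * z := by
      have e : (a : P) * b = z * (b * a) := by rw [← hzv, commutatorElement_def]; group
      rw [e, ← hzc, mul_assoc, hz2, mul_one]
    have hyx : y * x = x * y * z := by
      have e : x * y = z * (y * x) := by rw [← hxy, commutatorElement_def]; group
      rw [e, ← hzc, mul_assoc, hz2, mul_one]
    have cax : (a : P) * x = x * a := (CfsgLib.Transfer.CentreOrderP.comm_left a.2).symm
    have cay : (a : P) * y = y * a := (CfsgLib.Transfer.CentreOrderP.comm_right a.2).symm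
    have cbx : (b : P) * x = x * b := (CfsgLib.Transfer.CentreOrderP.comm_left b.2).symm
    have cby : (b : P) * y = y * b := (CfsgLib.Transfer.CentreOrderP.comm_right b.2).symm
    have L : ∀ {g k r : P}, g * k = r → ∀ v, g * (k * v) = r * v := fun h v => by rw [← mul_assoc, h]
    have zl : ∀ g v : P, z * (g * v) = g * (z * v) := fun g v => by
      rw [← mul_assoc, ← hzc, mul_assoc]
    refine ⟨z, ![x, y, x * y * a, x * y * b], hz1, hz2, hzc, hcen, ⟨?_, ?_⟩⟩
    · intro i
      fin_cases i
      all_goals simp [mul_assoc, hx, hy, L hx, L hy, hyx, L hyx, cax, cay, cbx, cby, L cax, L cay, L cbx,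
        L cby, ha', hb', hz2, L hz2, ← hzc x, ← hzc y, zl x, zl y]
    · intro i j hij
      fin_cases i <;> fin_cases j
      all_goals first
        | exact absurd rfl hij
        | simp [mul_assoc, hx, hy, L hx, L hy, hyx, L hyx, hba, L hba, cax, cay, cbx, cby, L cax, L cay,
            L cbx, L cby, ha', hb', L ha', L hb', hz2, L hz2, ← hzc x, ← hzc y, ← hzc (a : P), ← hzc (b : P),
            zl x, zl y, zl (a : P), zl (b : P)]

/-- The automorphism group. -/
theorem aut_structure [Finite P] (hex : Cfsg.IsExtraspecial 2 P) (h32 : Nat.card P = 32)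
    (hminus : ∀ A : Subgroup P, Cfsg.IsElementaryAbelian 2 A → Nat.card ↥A ≤ 4) :
    ∃ ψ : MulAut P →* Equiv.Perm (Fin 5), Function.Surjective ψ ∧
      ψ.ker = (MulAut.conj : P →* MulAut P).range ∧
      Nat.card (MulAut.conj : P →* MulAut P).range = 16 := by
  classical
  obtain ⟨z, w, hz1, hz2, hzc, hcen, F⟩ := exists_frame hex h32 hminus
  have hbij : ∀ w', Frame z w' → Function.Bijective (nf z w') := fun w' F' => by
    haveI := Fintype.ofFinite P
    refine (Fintype.bijective_iff_injective_and_card _).2 ⟨nf_injective hzc hz2 hz1 F', ?_⟩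
    rw [← Nat.card_eq_fintype_card (α := P), h32]
    rfl
  have hzmem : z ∈ Subgroup.center P := Subgroup.mem_center_iff.2 hzc
  have hfix : ∀ σ : MulAut P, σ z = z := fun σ => by
    rcases hcen _ ((Subgroup.characteristic_iff_le_comap.1 Subgroup.centerCharacteristic σ) hzmem) with h | h
    · exact absurd ((map_eq_one_iff σ σ.injective).1 h) hz1
    · exact h
  let q : Fin 5 → P := fun k => nf z w (sv k, false)
  have hnfz : ∀ k, nf z w (sv k, true) = q k * z := fun k => by
    rw [(nf_st0 hzc hz2 F _).2.2.2.2]; rfl
  have hqw : ∀ i : Fin 4, q i.castSucc = w i := by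
    intro i; fin_cases i <;> simp [q, sv, nf, pw]
  let cls : P → Fin 5 → Prop := fun g k => g = q k ∨ g = q k * z
  have hcls_uniq : ∀ g k l, cls g k → cls g l → k = l := by
    intro g k l hk hl
    have aux : ∀ e e' : Bool, nf z w (sv k, e) = nf z w (sv l, e') → k = l := fun e e' h =>
      sv_injective (congrArg Prod.fst ((hbij w F).1 h))
    rcases hk with rfl | rfl <;> rcases hl with h | h
    · exact aux false false h
    · exact aux false true (by rw [hnfz]; exact h)
    · exact aux true false (by rw [hnfz]; exact h)
    · exact aux true true (by rw [hnfz, hnfz]; exact h)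
  have hcls_z : ∀ g k, cls g k → cls (g * z) k := by
    rintro g k (rfl | rfl)
    · exact Or.inr rfl
    · exact Or.inl (by rw [mul_assoc, hz2, mul_one])
  have hex' : ∀ (σ : MulAut P) (k : Fin 5), ∃ l, cls (σ (q k)) l := by
    intro σ k
    obtain ⟨m, hm⟩ := (hbij w F).2 (σ (q k))
    have h1 : cmul m m = czero := (hbij w F).1 (by
      rw [← nf_mul hzc hz2 F, hm, ← map_mul, nf_mul hzc hz2 F, sv_invol, nf_czero, map_one])
    rcases invol_cases m h1 with h0 | ⟨l, hl⟩
    · exfalso
      obtain ⟨v, e⟩ := m
      simp only at h0
      subst h0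
      have hc : σ (q k) = 1 ∨ σ (q k) = z := by
        rw [← hm]; cases e <;> simp [nf, pw]
      have aux : ∀ e, ((false, false, false, false), e) ≠ (sv k, false) := fun e =>
        (by decide : ∀ k e, ((false, false, false, false), e) ≠ (sv k, false)) k e
      rcases hc with h | h
      · exact aux false ((hbij w F).1 (((map_eq_one_iff σ σ.injective).1 h).trans nf_czero.symm)).symm
      · refine aux true ((hbij w F).1 ?_).symm
        have h3 : q k = z := σ.injective (h.trans (hfix σ).symm)
        exact h3.trans (by simp [nf, pw])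
    · refine ⟨l, ?_⟩
      obtain ⟨v, e⟩ := m
      simp only at hl
      subst hl
      cases e
      · exact Or.inl hm.symm
      · exact Or.inr (hm.symm.trans (hnfz l))
  choose π hπ using hex'
  have hmapz : ∀ (σ : MulAut P) g k, cls g k → cls (σ g) (π σ k) := by
    rintro σ g k (rfl | rfl)
    · exact hπ σ k
    · rw [map_mul, hfix]; exact hcls_z _ _ (hπ σ k)
  have hπ1 : ∀ k, π 1 k = k := fun k => hcls_uniq _ _ _ (hπ 1 k) (Or.inl rfl)
  have hπmul : ∀ σ τ k, π (σ * τ) k = π σ (π τ k) := fun σ τ k =>
    hcls_uniq _ _ _ (hπ (σ * τ) k) (hmapz σ _ _ (hπ τ k))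
  let ψ : MulAut P →* Equiv.Perm (Fin 5) :=
    { toFun := fun σ =>
        { toFun := π σ
          invFun := π σ⁻¹
          left_inv := fun k => by rw [← hπmul, inv_mul_cancel, hπ1]
          right_inv := fun k => by rw [← hπmul, mul_inv_cancel, hπ1] }
      map_one' := Equiv.ext hπ1
      map_mul' := fun σ τ => Equiv.ext (hπmul σ τ) }
  have hψ : ∀ σ k, ψ σ k = π σ k := fun _ _ => rfl
  -- inner automorphisms
  have hinn : Nat.card (MulAut.conj : P →* MulAut P).range = 16 := by
    rw [← Subgroup.index_ker]
    have hk : (MulAut.conj : P →* MulAut P).ker = Subgroup.center P := by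
      ext g
      rw [MonoidHom.mem_ker, Subgroup.mem_center_iff]
      constructor
      · intro h u
        have := DFunLike.congr_fun h u
        rw [MulAut.conj_apply, MulAut.one_apply, mul_inv_eq_iff_eq_mul] at this
        exact this.symm
      · intro h
        ext u
        rw [MulAut.conj_apply, MulAut.one_apply, ← h, mul_inv_cancel_right]
    rw [hk]
    have h1 := (Subgroup.center P).card_mul_index
    rw [hex.2, h32] at h1
    omega
  refine ⟨ψ, ?_, ?_, hinn⟩
  · intro p
    let w' : Fin 4 → P := fun i => q (p i.castSucc)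
    have F' : Frame z w' := by
      refine ⟨fun i => ?_, fun i j hij => ?_⟩
      · show q _ * q _ = 1
        rw [nf_mul hzc hz2 F, sv_invol, nf_czero]
      · have hne := sv_noncomm (p i.castSucc) (p j.castSucc)
          (fun e => hij (Fin.castSucc_injective _ (p.injective e))) false false
        have hne' : q (p i.castSucc) * q (p j.castSucc) ≠ q (p j.castSucc) * q (p i.castSucc) := fun e =>
          hne ((hbij w F).1 (by rw [← nf_mul hzc hz2 F, ← nf_mul hzc hz2 F]; exact e))
        have hcl : ⁅q (p j.castSucc), q (p i.castSucc)⁆ ∈ Subgroup.center P := by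
          rw [← hex.1.2.2, commutator_def]
          exact Subgroup.commutator_mem_commutator (Subgroup.mem_top _) (Subgroup.mem_top _)
        rcases hcen _ hcl with h | h
        · exact absurd (commutatorElement_eq_one_iff_mul_comm.1 h).symm hne'
        · show q (p j.castSucc) * q (p i.castSucc) = q (p i.castSucc) * (q (p j.castSucc) * z)
          rw [hzc, ← h, commutatorElement_def]
          have hi : q (p i.castSucc) * (q (p j.castSucc) * z) = z * (q (p i.castSucc) * q (p j.castSucc)) := by
            rw [← mul_assoc, hzc]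
          rw [← commutatorElement_def, h, ← hzc (q (p j.castSucc)), hi]
          conv_lhs => rw [show q (p j.castSucc) * q (p i.castSucc) =
            ⁅q (p j.castSucc), q (p i.castSucc)⁆ * (q (p i.castSucc) * q (p j.castSucc)) by
            rw [commutatorElement_def]; group, h]
    let e := Equiv.ofBijective _ (hbij w F)
    let e' := Equiv.ofBijective _ (hbij w' F')
    let σ : MulAut P := MulEquiv.mk' (e.symm.trans e') fun g g' => by
      obtain ⟨m, rfl⟩ := e.surjective g
      obtain ⟨m', rfl⟩ := e.surjective g'
      show e' (e.symm (nf z w m * nf z w m')) = e' (e.symm (e m)) * e' (e.symm (e m'))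
      rw [nf_mul hzc hz2 F, Equiv.symm_apply_apply, Equiv.symm_apply_apply]
      show e' (e.symm (e _)) = _
      rw [Equiv.symm_apply_apply]
      exact (nf_mul hzc hz2 F' m m').symm
    refine ⟨σ, ?_⟩
    have h4 : ∀ i : Fin 4, π σ i.castSucc = p i.castSucc := by
      intro i
      refine hcls_uniq _ _ _ (hπ σ _) (Or.inl ?_)
      show e' (e.symm (e (sv i.castSucc, false))) = _
      rw [Equiv.symm_apply_apply]
      have h5 : nf z w' (sv i.castSucc, false) = w' i := by fin_cases i <;> simp [sv, nf, pw]
      exact h5
    refine Equiv.ext fun k => ?_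
    induction k using Fin.lastCases with
    | cast i => rw [hψ, h4]
    | last =>
      obtain ⟨k, hk⟩ := p.surjective (ψ σ (Fin.last 4))
      induction k using Fin.lastCases with
      | cast i =>
        rw [← h4, ← hψ] at hk
        exact absurd ((ψ σ).injective hk) (Fin.castSucc_lt_last i).ne
      | last => exact hk.symm
  · have hle : (MulAut.conj : P →* MulAut P).range ≤ ψ.ker := by
      rintro _ ⟨g, rfl⟩
      refine Equiv.ext fun k => hcls_uniq _ _ _ (hπ _ k) ?_
      have hcl : ⁅g, q k⁆ ∈ Subgroup.center P := by
        rw [← hex.1.2.2, commutator_def]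
        exact Subgroup.commutator_mem_commutator (Subgroup.mem_top _) (Subgroup.mem_top _)
      have e : MulAut.conj g (q k) = ⁅g, q k⁆ * q k := by
        rw [MulAut.conj_apply, commutatorElement_def]; group
      rcases hcen _ hcl with h | h
      · exact Or.inl (by rw [e, h, one_mul]; rfl)
      · exact Or.inr (by rw [e, h, ← hzc]; rfl)
    refine (Subgroup.eq_of_le_of_card_ge hle ?_).symm
    rw [hinn]
    let sg : ψ.ker → (Fin 4 → Bool) := fun σ i => decide ((σ : MulAut P) (w i) = w i)
    have hsg : Function.Injective sg := by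
      intro σ τ h
      refine Subtype.ext (MulEquiv.ext fun g => ?_)
      obtain ⟨m, rfl⟩ := (hbij w F).2 g
      have hwi : ∀ i, (σ : MulAut P) (w i) = (τ : MulAut P) (w i) := by
        intro i
        have hc : ∀ ρ : ψ.ker, (ρ : MulAut P) (w i) = w i ∨ (ρ : MulAut P) (w i) = w i * z := by
          intro ρ
          have := hπ (ρ : MulAut P) i.castSucc
          rw [← hψ, MonoidHom.mem_ker.1 ρ.2, Equiv.Perm.one_apply] at this
          simpa only [cls, hqw] using this
        have h' := congrFun h i
        simp only [sg, decide_eq_decide] at h'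
        rcases hc σ with a | a
        · rw [a, h'.1 a]
        · rcases hc τ with b | b
          · rw [b, h'.2 b]
          · rw [a, b]
      have hp : ∀ i t, (σ : MulAut P) (pw (w i) t) = (τ : MulAut P) (pw (w i) t) := fun i t => by
        cases t
        · simp [pw]
        · exact hwi i
      have hpz : ∀ t, (σ : MulAut P) (pw z t) = (τ : MulAut P) (pw z t) := fun t => by
        cases t
        · simp [pw]
        · exact (hfix _).trans (hfix _).symm
      obtain ⟨⟨a, b, c, d⟩, e⟩ := m
      simp only [nf, map_mul, hp, hpz]
    refine le_trans (Nat.card_le_card_of_injective sg hsg) (le_of_eq ?_)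
    simp

end CfsgLib.FGStruct.ExtraspecialMinus
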