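import Mathlib
import Cfsg.Agent.Lib.PLocal.HallHigman
import Cfsg.Agent.Lib.PLocal.PSolvable
import Cfsg.Agent.Lib.PLocal.UpperSeries
import Cfsg.Agent.Lib.Transfer.ThompsonFactor
import Cfsg.Agent.Lib.Char.Burnside
import Cfsg.Agent.Lib.FGStruct.BurnsideBasis

/-!
`G/O_{p',p}` acts faithfully on the Frattini quotient of `O_{p',p}/O_{p'}`; groups of exponent six.
-/

open Cfsg Subgroup
open scoped commutatorElement

namespace CfsgLib.FGStruct

variable {X : Type*} [Group X] [Finite X] {p : ℕ} [Fact p.Prime]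

/-- The Frattini subgroup of `O_p(X)`, as a subgroup of `X`. -/
def frattiniCore (p : ℕ) (X : Type*) [Group X] : Subgroup X :=
  (frattini ↥(pCore p X)).map (pCore p X).subtype

theorem conj_mem_frattiniCore {y : X} (hy : y ∈ frattiniCore p X) (g : X) : g * y * g⁻¹ ∈ frattiniCore p X := by
  have hn : (pCore p X).Normal := CfsgLib.Solvable.pCore_normal p X
  have : (frattiniCore p X).Normal := CfsgLib.Solvable.normal_map_subtype_of_characteristic _ _
  exact this.conj_mem y hy g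

theorem commutator_mem_frattiniCore {u v : X} (hu : u ∈ pCore p X) (hv : v ∈ pCore p X) :
    u * v * u⁻¹ * v⁻¹ ∈ frattiniCore p X := by
  refine ⟨⁅(⟨u, hu⟩ : ↥(pCore p X)), ⟨v, hv⟩⁆, ?_, rfl⟩
  exact CfsgLib.PGroup.commutator_le_frattini (CfsgLib.Solvable.pCore_isPGroup p X)
    (commutator_mem_commutator (mem_top _) (mem_top _))

/-- Elements trivial on `O_p/Φ(O_p)` lie in `O_p` when `C(O_p) ≤ O_p`. -/
theorem mem_pCore_of_trivial_on_frattini (hC : centralizer (pCore p X : Set X) ≤ pCore p X) {g : X}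
    (hg : ∀ x ∈ pCore p X, g * x * g⁻¹ * x⁻¹ ∈ frattiniCore p X) : g ∈ pCore p X := by
  haveI hn : (pCore p X).Normal := CfsgLib.Solvable.pCore_normal p X
  let K : Subgroup X :=
    { carrier := {g | ∀ x ∈ pCore p X, g * x * g⁻¹ * x⁻¹ ∈ frattiniCore p X}
      one_mem' := fun x _ => by simp [one_mem]
      mul_mem' := fun {a b} ha hb x hx => by
        have e : a * b * x * (a * b)⁻¹ * x⁻¹ = a * (b * x * b⁻¹ * x⁻¹) * a⁻¹ * (a * x * a⁻¹ * x⁻¹) := by group
        rw [e]
        exact mul_mem (conj_mem_frattiniCore (hb x hx) a) (ha x hx)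
      inv_mem' := fun {a} ha x hx => by
        have e : a⁻¹ * x * (a⁻¹)⁻¹ * x⁻¹ = a⁻¹ * (a * x * a⁻¹ * x⁻¹)⁻¹ * (a⁻¹)⁻¹ := by group
        rw [e]
        exact conj_mem_frattiniCore (inv_mem (ha x hx)) a⁻¹ }
  have hKn : K.Normal := ⟨fun a ha t x hx => by
    have hy : t⁻¹ * x * t ∈ pCore p X := by simpa using hn.conj_mem x hx t⁻¹
    have e : t * a * t⁻¹ * x * (t * a * t⁻¹)⁻¹ * x⁻¹ =
        t * (a * (t⁻¹ * x * t) * a⁻¹ * (t⁻¹ * x * t)⁻¹) * t⁻¹ := by group
    rw [e]; exact conj_mem_frattiniCore (ha _ hy) t⟩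
  obtain ⟨n, hP⟩ := IsPGroup.iff_card.1 (CfsgLib.Solvable.pCore_isPGroup p X)
  obtain ⟨r, hr⟩ : ∃ r, (frattini ↥(pCore p X)).index = p ^ r := by
    obtain ⟨r, -, hr⟩ := (Nat.dvd_prime_pow Fact.out).1 (hP ▸ (frattini ↥(pCore p X)).index_dvd_card)
    exact ⟨r, hr⟩
  let c : X →* MulAut ↥(pCore p X) := MulAut.conjNormal
  have hA : ∀ α ∈ K.map c, ∀ x : ↥(pCore p X), α x * x⁻¹ ∈ frattini ↥(pCore p X) := by
    rintro _ ⟨a, ha, rfl⟩ x
    obtain ⟨y, hy, e⟩ := ha x.1 x.2
    have : c a x * x⁻¹ = y := Subtype.ext (by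
      change a * (x : X) * a⁻¹ * (x : X)⁻¹ = y
      exact e.symm)
    rwa [this]
  have hdvd := card_dvd_trivial_on_frattini_quotient hP hr (K.map c) hA
  have hKp : IsPGroup p K := by
    refine CfsgLib.PLoc.isPGroup_of_coprime_order_trivial fun a ha hord => ?_
    have h1 : orderOf (c a) ∣ p ^ (r * (n - r)) := by
      have := orderOf_dvd_natCard (⟨c a, ⟨a, ha, rfl⟩⟩ : K.map c)
      rw [← Subgroup.orderOf_coe] at this
      exact this.trans hdvd
    have h3 : c a = 1 := orderOf_eq_one_iff.1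
      (Nat.eq_one_of_dvd_coprimes (hord.pow_right _) (orderOf_map_dvd c a) h1)
    have h4 : a ∈ pCore p X := hC (mem_centralizer_iff.2 fun x hx => by
      have := congrArg (fun f : MulAut ↥(pCore p X) => ((f ⟨x, hx⟩ : ↥(pCore p X)) : X)) h3
      change a * x * a⁻¹ = x at this
      exact (mul_inv_eq_iff_eq_mul.1 this).symm)
    obtain ⟨k, hk⟩ := IsPGroup.iff_orderOf.1 (CfsgLib.Solvable.pCore_isPGroup p X) ⟨a, h4⟩
    rw [Subgroup.orderOf_mk] at hk
    rw [hk] at hord
    rcases Nat.eq_zero_or_pos k with h0 | h0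
    · exact orderOf_eq_one_iff.1 (by rw [hk, h0, pow_zero])
    · rw [Nat.coprime_pow_left_iff h0, Nat.coprime_self] at hord
      exact absurd hord (Fact.out : p.Prime).ne_one
  exact CfsgLib.Solvable.le_pCore hKn hKp hg

/-- In a group of exponent six in which `C(O_p) ≤ O_p`, the `p`-elements lie in `O_p`. -/
theorem pow_mem_pCore_of_exponent_six (hexp : ∀ x : X, x ^ 6 = 1)
    (hp : p = 2 ∨ p = 3) (hC : centralizer (pCore p X : Set X) ≤ pCore p X) (hsol : IsPSolvable p X) :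
    ∀ x : X, x ^ p = 1 → x ∈ pCore p X := by
  haveI hn : (pCore p X).Normal := CfsgLib.Solvable.pCore_normal p X
  -- an element with `p`-th power in `O_p` has trivial `p`-th power
  have lift : ∀ y : X, y ^ p ∈ pCore p X → y ^ p = 1 := by
    intro y hy
    obtain ⟨k, hk⟩ := CfsgLib.Solvable.pCore_isPGroup p X ⟨y ^ p, hy⟩
    have hk' : (y ^ p) ^ p ^ k = 1 := congrArg Subtype.val hk
    have h1 : orderOf (y ^ p) ∣ p ^ k := orderOf_dvd_of_pow_eq_one hk'
    have h2 : ∀ e : ℕ, p * e = 6 → orderOf (y ^ p) ∣ e := fun e he =>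
      orderOf_dvd_of_pow_eq_one (by rw [← pow_mul, he, hexp])
    apply orderOf_eq_one_iff.1
    rcases hp with rfl | rfl
    · exact Nat.eq_one_of_dvd_coprimes (Nat.Coprime.pow_left _ (by norm_num)) h1 (h2 3 rfl)
    · exact Nat.eq_one_of_dvd_coprimes (Nat.Coprime.pow_left _ (by norm_num)) h1 (h2 2 rfl)
  have coset : ∀ (y v : X), y ^ p = 1 → v ∈ pCore p X → (y * v) ^ p = 1 := by
    intro y v hy hv
    refine lift _ ((QuotientGroup.eq_one_iff _).1 ?_)
    rw [QuotientGroup.mk_pow, QuotientGroup.mk_mul, (QuotientGroup.eq_one_iff v).2 hv, mul_one,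
      ← QuotientGroup.mk_pow, hy, QuotientGroup.mk_one]
  intro x hx
  rcases hp with rfl | rfl
  · -- `p = 2`
    refine hC (mem_centralizer_iff.2 fun v hv => ?_)
    have h1 := coset x v hx hv
    have h2 : v ^ 2 = 1 := by simpa using coset 1 v (one_pow 2) hv
    rw [sq] at h1 h2 hx
    calc v * x = (x * v)⁻¹ := by
          apply eq_inv_of_mul_eq_one_left
          calc v * x * (x * v) = v * (x * x) * v := by group
            _ = 1 := by rw [hx, mul_one, h2]
      _ = x * v := inv_eq_of_mul_eq_one_left h1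
  · -- `p = 3`
    by_contra hxP
    set π := QuotientGroup.mk' (pCore 3 X) with hπ
    have hQC : centralizer (pPrimeCore 3 (X ⧸ pCore 3 X) : Set (X ⧸ pCore 3 X)) ≤ pPrimeCore 3 (X ⧸ pCore 3 X) :=
      CfsgLib.PLocal.centralizer_pPrimeCore_le_self
        (CfsgLib.PLoc.isPSolvable_of_surjective (QuotientGroup.mk'_surjective _) hsol)
        (CfsgLib.Solvable.pCore_quotient_eq_bot _ rfl)
    set Q := pPrimeCore 3 (X ⧸ pCore 3 X) with hQ
    haveI hQn : Q.Normal := CfsgLib.Solvable.pPrimeCore_normal 3 _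
    have hQcard : (Nat.card Q).Coprime 3 := CfsgLib.Solvable.pPrimeCore_card_coprime 3 _
    -- `Q` is elementary abelian of exponent two
    have hQ2 : ∀ q ∈ Q, q * q = 1 := by
      intro q hq
      obtain ⟨g, rfl⟩ := QuotientGroup.mk'_surjective _ q
      have h6 : orderOf (π g) ∣ 2 * 3 := orderOf_dvd_of_pow_eq_one (by rw [← map_pow, hexp, map_one])
      have hc : (orderOf (π g)).Coprime 3 := by
        refine Nat.Coprime.coprime_dvd_left ?_ hQcard
        have := orderOf_dvd_natCard (⟨π g, hq⟩ : Q)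
        rwa [Subgroup.orderOf_mk] at this
      have := orderOf_dvd_iff_pow_eq_one.1 (hc.dvd_of_dvd_mul_right h6)
      rwa [sq] at this
    have hQcomm : ∀ u ∈ Q, ∀ v ∈ Q, u * v = v * u := fun u hu v hv => by
      have h1 := hQ2 _ (mul_mem hu hv)
      calc u * v = (u * v)⁻¹ := (inv_eq_of_mul_eq_one_left h1).symm
        _ = v⁻¹ * u⁻¹ := mul_inv_rev _ _
        _ = v * u := by rw [inv_eq_of_mul_eq_one_left (hQ2 v hv), inv_eq_of_mul_eq_one_left (hQ2 u hu)]
    have hx3 : π x * π x * π x = 1 := by rw [← map_mul, ← map_mul, ← pow_three', hx, map_one]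
    obtain ⟨q0, hq0, hq0x⟩ : ∃ q0 ∈ Q, π x * q0 ≠ q0 * π x := by
      by_contra hall
      push Not at hall
      have h1 : π x ∈ Q := hQC (mem_centralizer_iff.2 fun q hq => (hall q hq).symm)
      have h2 : orderOf (π x) ∣ Nat.card Q := by
        have := orderOf_dvd_natCard (⟨π x, h1⟩ : Q); rwa [Subgroup.orderOf_mk] at this
      have h3 : orderOf (π x) ∣ 3 := orderOf_dvd_of_pow_eq_one (by rw [← map_pow, hx, map_one])
      exact hxP ((QuotientGroup.eq_one_iff x).1 (orderOf_eq_one_iff.1 (Nat.eq_one_of_dvd_coprimes hQcard h2 h3)))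
    -- the orbit `a, b, ab` of a commutator
    let σ : X ⧸ pCore 3 X → X ⧸ pCore 3 X := fun q => π x * q * (π x)⁻¹
    have hσQ : ∀ q ∈ Q, σ q ∈ Q := fun q hq => hQn.conj_mem q hq _
    have hσm : ∀ u v, σ (u * v) = σ u * σ v := fun u v => by simp only [σ]; group
    have hσ3 : ∀ q, σ (σ (σ q)) = q := fun q => by
      calc σ (σ (σ q)) = (π x * π x * π x) * q * (π x * π x * π x)⁻¹ := by simp only [σ]; group
        _ = q := by rw [hx3]; simp
    set a := σ q0 * q0 with ha
    set b := σ a with hb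
    have haQ : a ∈ Q := mul_mem (hσQ _ hq0) hq0
    have hbQ : b ∈ Q := hσQ _ haQ
    have ha1 : a ≠ 1 := fun h => hq0x (by
      have h1 : σ q0 = q0 := by
        have := eq_inv_of_mul_eq_one_left h
        rwa [inv_eq_of_mul_eq_one_left (hQ2 q0 hq0)] at this
      exact mul_inv_eq_iff_eq_mul.1 h1)
    have hσb : σ b = a * b := by
      have aux : ∀ u ∈ Q, ∀ v ∈ Q, ∀ w ∈ Q, u * w * (v * u) = w * v := fun u hu v hv w hw => by
        rw [show u * w * (v * u) = u * ((w * v) * u) by group, hQcomm _ (mul_mem hw hv) u hu, ← mul_assoc u,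
          hQ2 u hu, one_mul]
      have e2 : b = σ (σ q0) * σ q0 := hσm _ _
      have e1 : σ b = q0 * σ (σ q0) := by rw [e2, hσm (σ (σ q0)) (σ q0), hσ3]
      rw [e1, e2, ha, aux _ (hσQ _ hq0) _ (hσQ _ (hσQ _ hq0)) _ hq0]
    have hσab : σ (a * b) = a := by
      rw [hσm, ← hb, hσb, hQcomm a haQ b hbQ, ← mul_assoc, hQ2 b hbQ, one_mul]
    -- pass to the module `O_p / Φ(O_p)`
    obtain ⟨A, hA⟩ := QuotientGroup.mk'_surjective (pCore 3 X) a
    set Φ := frattiniCore 3 X with hΦ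
    haveI hΦn : Φ.Normal := ⟨fun y hy g => conj_mem_frattiniCore hy g⟩
    let μ := QuotientGroup.mk' Φ
    have hμ : ∀ u ∈ pCore 3 X, ∀ v ∈ pCore 3 X, μ u * μ v = μ v * μ u := by
      intro u hu v hv
      rw [← commutatorElement_eq_one_iff_mul_comm, ← map_commutatorElement]
      exact (QuotientGroup.eq_one_iff _).2 (commutator_mem_frattiniCore hu hv)
    -- conjugation on the module depends only on the class modulo `O_p`
    have hdep : ∀ s t : X, π s = π t → ∀ w ∈ pCore 3 X, μ (s * w * s⁻¹) = μ (t * w * t⁻¹) := by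
      intro s t hst w hw
      have hu : t⁻¹ * s ∈ pCore 3 X := QuotientGroup.eq.1 hst.symm
      have e : s * w * s⁻¹ = t * ((t⁻¹ * s) * w * (t⁻¹ * s)⁻¹ * w⁻¹) * t⁻¹ * (t * w * t⁻¹) := by group
      have h1 : μ (t * ((t⁻¹ * s) * w * (t⁻¹ * s)⁻¹ * w⁻¹) * t⁻¹) = 1 :=
        (QuotientGroup.eq_one_iff (N := Φ) _).2 (conj_mem_frattiniCore (commutator_mem_frattiniCore hu hw) t)
      rw [e, map_mul, h1, one_mul]
    refine ha1 ?_
    rw [← hA]
    refine (QuotientGroup.eq_one_iff A).2 (mem_pCore_of_trivial_on_frattini hC fun u hu => ?_)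
    obtain ⟨B, hB⟩ := QuotientGroup.mk'_surjective (pCore 3 X) b
    set w := A * u * A⁻¹ * u⁻¹ with hw
    have hcP : ∀ (g : X) {v : X}, v ∈ pCore 3 X → g * v * g⁻¹ ∈ pCore 3 X := fun g _ hv => hn.conj_mem _ hv g
    have hwP : w ∈ pCore 3 X := mul_mem (hcP A hu) (inv_mem hu)
    let W := X ⧸ Φ
    letI instW : CommGroup ((pCore 3 X).map μ) :=
      { (inferInstance : Group ((pCore 3 X).map μ)) with
        mul_comm := fun s t => Subtype.ext (by
          obtain ⟨s', hs, e⟩ := s.2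
          obtain ⟨t', ht, e'⟩ := t.2
          simp only [Subgroup.coe_mul, ← e, ← e']
          exact hμ s' hs t' ht) }
    let ν : ∀ v : X, v ∈ pCore 3 X → (pCore 3 X).map μ := fun v hv => ⟨μ v, v, hv, rfl⟩
    let M : X → W := fun v => μ v * μ (A * v * A⁻¹) * μ (B * v * B⁻¹) * μ (A * B * v * (A * B)⁻¹)
    have hMw : M w = 1 := by
      have hAu := hcP A hu
      have h1 : M (A * u * A⁻¹) = M u := by
        have eAA : μ (A * (A * u * A⁻¹) * A⁻¹) = μ u := by
          rw [show A * (A * u * A⁻¹) * A⁻¹ = A * A * u * (A * A)⁻¹ by group]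
          have := hdep (A * A) 1 (by rw [map_mul, map_one, hA, hQ2 a haQ]) u hu
          simpa using this
        have eBA : μ (B * (A * u * A⁻¹) * B⁻¹) = μ (A * B * u * (A * B)⁻¹) := by
          rw [show B * (A * u * A⁻¹) * B⁻¹ = B * A * u * (B * A)⁻¹ by group]
          exact hdep _ _ (by rw [map_mul, map_mul, hA, hB, hQcomm a haQ b hbQ]) u hu
        have eABA : μ (A * B * (A * u * A⁻¹) * (A * B)⁻¹) = μ (B * u * B⁻¹) := by
          rw [show A * B * (A * u * A⁻¹) * (A * B)⁻¹ = A * B * A * u * (A * B * A)⁻¹ by group]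
          refine hdep _ _ ?_ u hu
          rw [map_mul, map_mul, hA, hB, hQcomm a haQ b hbQ, mul_assoc, hQ2 a haQ, mul_one]
        show μ _ * μ _ * μ _ * μ _ = _
        rw [eAA, eBA, eABA, hμ _ hAu u hu, mul_assoc (μ u * μ _), hμ _ (hcP (A * B) hu) _ (hcP B hu), ← mul_assoc]
      have hMmul : ∀ v1 ∈ pCore 3 X, ∀ v2 ∈ pCore 3 X, M (v1 * v2) = M v1 * M v2 := by
        intro v1 h1' v2 h2'
        have key : ∀ g : X, μ (g * (v1 * v2) * g⁻¹) = μ (g * v1 * g⁻¹) * μ (g * v2 * g⁻¹) := fun g => by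
          rw [← map_mul]; congr 1; group
        show μ _ * μ _ * μ _ * μ _ = _
        rw [map_mul μ v1 v2, key A, key B, key (A * B)]
        refine congrArg Subtype.val
          (?_ : ν v1 h1' * ν v2 h2' * (ν _ (hcP A h1') * ν _ (hcP A h2')) * (ν _ (hcP B h1') * ν _ (hcP B h2')) *
              (ν _ (hcP (A * B) h1') * ν _ (hcP (A * B) h2')) =
            (ν v1 h1' * ν _ (hcP A h1') * ν _ (hcP B h1') * ν _ (hcP (A * B) h1')) *
              (ν v2 h2' * ν _ (hcP A h2') * ν _ (hcP B h2') * ν _ (hcP (A * B) h2')))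
        ac_rfl
      rw [hw, hMmul _ hAu _ (inv_mem hu), h1, ← hMmul _ hu _ (inv_mem hu), mul_inv_cancel]
      simp [M]
    -- the relation coming from `(y v) ^ 3 = 1`
    have rel : ∀ y : X, π (y * y * y) = 1 → μ w * μ (y * w * y⁻¹) * μ (y * y * w * (y * y)⁻¹) = 1 := by
      intro y hy
      have hy3 : y ^ 3 = 1 := lift y (by rw [pow_three']; exact (QuotientGroup.eq_one_iff _).1 hy)
      have h1 := coset y w hy3 hwP
      have hw' : (w * y) ^ 3 = 1 := by
        have := coset y (y⁻¹ * w * y) hy3 (by simpa using hcP y⁻¹ hwP)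
        simpa [mul_assoc] using this
      have e : w * (y * w * y⁻¹) * (y * y * w * (y * y)⁻¹) = (w * y) ^ 3 * (y ^ 3)⁻¹ := by
        simp only [pow_three']; group
      rw [← map_mul, ← map_mul, e, hw', hy3]; simp
    let C : X → (pCore 3 X).map μ := fun g => ν (g * w * g⁻¹) (hcP g hwP)
    have hcyc : ∀ g h : X, π g = π h → C g = C h := fun g h e => Subtype.ext (hdep g h e w hwP)
    have hrel : ∀ s : X, π s ∈ Q → π ((x * s) * (x * s) * (x * s)) = 1 →
        C 1 * C (x * s) * C (x * s * (x * s)) = 1 := fun s _ hs => Subtype.ext (by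
      show μ (1 * w * 1⁻¹) * μ _ * μ _ = 1
      rw [show (1 : X) * w * 1⁻¹ = w by group]
      exact rel (x * s) hs)
    -- the four cubes
    have hσi : ∀ q, (π x)⁻¹ * q * π x = σ (σ q) := fun q => by
      calc (π x)⁻¹ * q * π x = (π x)⁻¹ * σ (σ (σ q)) * π x := by rw [hσ3]
        _ = σ (σ q) := by simp only [σ]; group
    have sq : ∀ s t : X, π s ∈ Q → σ (σ (π s)) * π s = π t → π (x * s * (x * s)) = π (x * x * t) := by
      intro s t _ e
      rw [map_mul π (x * x) t, ← e, ← hσi]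
      simp only [map_mul]
      group
    have cube : ∀ s : X, π s ∈ Q → σ (π s) * σ (σ (π s)) * π s = 1 → π ((x * s) * (x * s) * (x * s)) = 1 := by
      intro s _ e
      simp only [map_mul]
      calc π x * π s * (π x * π s) * (π x * π s)
          = σ (π s) * σ (σ (π s)) * ((π x * π x * π x) * π s) := by simp only [σ]; group
        _ = 1 := by rw [hx3, one_mul, e]
    have sab : σ (σ a) = a * b := by rw [← hb, hσb]
    have sbb : σ (σ b) = a := by rw [hσb, hσab]
    have sabab : σ (σ (a * b)) = b := by rw [hσab, hb]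
    have hπAB : π (A * B) = a * b := by rw [map_mul, hA, hB]
    have hσ1 : σ 1 = 1 := by simp [σ]
    have r1 := hrel 1 (by rw [map_one]; exact one_mem Q) (cube 1 (by rw [map_one]; exact one_mem Q) (by rw [map_one, hσ1, hσ1]; simp))
    have rA := hrel A (hA ▸ haQ) (cube A (hA ▸ haQ) (by
      rw [hA, sab, ← hb]
      rw [hQcomm b hbQ _ (mul_mem haQ hbQ), mul_assoc a, hQ2 b hbQ, mul_one, hQ2 a haQ]))
    have rB := hrel B (hB ▸ hbQ) (cube B (hB ▸ hbQ) (by
      rw [hB, hσb, hσab, mul_assoc, hQ2 _ (mul_mem haQ hbQ)]))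
    have rAB := hrel (A * B) (hπAB ▸ mul_mem haQ hbQ) (cube (A * B) (hπAB ▸ mul_mem haQ hbQ) (by
      rw [hπAB, sabab, hσab, hQ2 _ (mul_mem haQ hbQ)]))
    -- identify the squares
    have s1 : C (x * 1 * (x * 1)) = C (x * x) := hcyc _ _ (by simp)
    have sA : C (x * A * (x * A)) = C (x * x * B) := hcyc _ _ (sq A B (hA ▸ haQ) (by
      rw [hA, hB, sab, hQcomm a haQ b hbQ, mul_assoc, hQ2 a haQ, mul_one]))
    have sB : C (x * B * (x * B)) = C (x * x * (A * B)) := hcyc _ _ (sq B (A * B) (hB ▸ hbQ) (by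
      rw [hB, hπAB, sbb]))
    have sAB : C (x * (A * B) * (x * (A * B))) = C (x * x * A) := hcyc _ _ (sq (A * B) A (hπAB ▸ mul_mem haQ hbQ) (by
      rw [hπAB, hA, sabab, hQcomm a haQ b hbQ, ← mul_assoc, hQ2 b hbQ, one_mul]))
    have hsum : ∀ g : X, C g * C (g * A) * C (g * B) * C (g * (A * B)) = 1 := by
      intro g
      refine Subtype.ext ?_
      show μ _ * μ _ * μ _ * μ _ = 1
      have e : ∀ s : X, g * s * w * (g * s)⁻¹ = g * (s * w * s⁻¹) * g⁻¹ := fun s => by group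
      rw [e, e, e, ← map_mul, ← map_mul, ← map_mul,
        show g * w * g⁻¹ * (g * (A * w * A⁻¹) * g⁻¹) * (g * (B * w * B⁻¹) * g⁻¹) * (g * (A * B * w * (A * B)⁻¹) * g⁻¹)
          = g * (w * (A * w * A⁻¹) * (B * w * B⁻¹) * (A * B * w * (A * B)⁻¹)) * g⁻¹ by group,
        map_mul μ (g * _), map_mul μ g]
      have := hMw
      simp only [M, ← map_mul] at this
      rw [this, mul_one, ← map_mul, mul_inv_cancel, map_one]
    rw [s1, mul_one x] at r1
    rw [sA] at rA
    rw [sB] at rB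
    rw [sAB] at rAB
    have h4 : C 1 * C 1 * C 1 * C 1 = 1 := by
      calc C 1 * C 1 * C 1 * C 1
          = C 1 * C 1 * C 1 * C 1 * ((C x * C (x * A) * C (x * B) * C (x * (A * B))) *
              (C (x * x) * C (x * x * A) * C (x * x * B) * C (x * x * (A * B)))) := by rw [hsum, hsum, one_mul, mul_one]
        _ = (C 1 * C x * C (x * x)) * (C 1 * C (x * A) * C (x * x * B)) * (C 1 * C (x * B) * C (x * x * (A * B))) *
              (C 1 * C (x * (A * B)) * C (x * x * A)) := by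
            apply Subtype.ext
            exact congrArg Subtype.val (by ac_rfl)
        _ = 1 := by rw [r1, rA, rB, rAB]; simp
    have h3 : C 1 * C 1 * C 1 = 1 := Subtype.ext (by
      show μ _ * μ _ * μ _ = 1
      rw [← map_mul, ← map_mul, ← pow_three']
      have := coset 1 (1 * w * 1⁻¹) (one_pow 3) (hcP 1 hwP)
      rw [one_mul] at this
      rw [this, map_one])
    rw [h3, one_mul] at h4
    have := congrArg Subtype.val h4
    simp only [C, ν, OneMemClass.coe_one] at this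
    exact (QuotientGroup.eq_one_iff _).1 (by simpa [μ] using this)

/-- A finite group of exponent dividing six has `p`-length at most one for `p = 2, 3`. -/
theorem pLengthLE_one_of_exponent_six {G : Type*} [Group G] [Finite G] (h : ∀ x : G, x ^ 6 = 1)
    {p : ℕ} [Fact p.Prime] (hp : p = 2 ∨ p = 3) : PLengthLE p 1 G := by
  have hsolG : Group.IsSolvable G :=
    CfsgLib.Char.isSolvable_of_two_primes 2 3 Nat.prime_two Nat.prime_three _ G rfl fun r hr hrd => by
      haveI := Fact.mk hr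
      obtain ⟨y, hy⟩ := exists_prime_orderOf_dvd_card' r hrd
      have h6 : r ∣ 2 * 3 := hy ▸ orderOf_dvd_of_pow_eq_one (h y)
      rcases hr.dvd_mul.1 h6 with h' | h'
      · exact Or.inl ((Nat.prime_dvd_prime_iff_eq hr Nat.prime_two).1 h')
      · exact Or.inr ((Nat.prime_dvd_prime_iff_eq hr Nat.prime_three).1 h')
  have hsol : IsPSolvable p G := CfsgLib.ThompsonFactor.isPSolvable_of_isSolvable hsolG
  let U1 := (upperPSeries p G (2 * 0 + 1)).1
  let f : G →* G ⧸ U1 := QuotientGroup.mk' U1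
  have hexp : ∀ x : G ⧸ U1, x ^ 6 = 1 := fun x => by
    obtain ⟨g, rfl⟩ := QuotientGroup.mk'_surjective U1 x
    rw [← map_pow, h, map_one]
  have key := pow_mem_pCore_of_exponent_six (X := G ⧸ U1) (p := p) hexp hp
    (CfsgLib.PLoc.centralizer_pCore_quotient_upper_odd hsol 0)
    (CfsgLib.PLoc.isPSolvable_of_surjective (QuotientGroup.mk'_surjective _) hsol)
  have hindex : ¬ p ∣ (pCore p (G ⧸ U1)).index := by
    haveI := CfsgLib.Solvable.pCore_normal (p := p) (G ⧸ U1)
    intro hd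
    rw [Subgroup.index_eq_card] at hd
    obtain ⟨y, hy⟩ := exists_prime_orderOf_dvd_card' p hd
    obtain ⟨g, rfl⟩ := QuotientGroup.mk_surjective y
    have hyp : (g : (G ⧸ U1) ⧸ pCore p (G ⧸ U1)) ^ p = 1 := orderOf_dvd_iff_pow_eq_one.1 hy.dvd
    have hgP : g ^ p ∈ pCore p (G ⧸ U1) := (QuotientGroup.eq_one_iff _).1 (by rw [QuotientGroup.mk_pow]; exact hyp)
    obtain ⟨k, hk⟩ := CfsgLib.Solvable.pCore_isPGroup p (G ⧸ U1) ⟨g ^ p, hgP⟩
    have hk' : (g ^ p) ^ p ^ k = 1 := congrArg Subtype.val hk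
    have h1 : orderOf g ∣ p ^ (k + 1) := orderOf_dvd_of_pow_eq_one (by rw [pow_succ', pow_mul, hk'])
    obtain ⟨j, -, hj⟩ := (Nat.dvd_prime_pow Fact.out).1 h1
    have hj1 : j ≤ 1 := by
      by_contra hlt
      have h2 : p ^ 2 ∣ 6 := ((pow_dvd_pow p (show 2 ≤ j by omega)).trans hj.symm.dvd).trans
        (orderOf_dvd_of_pow_eq_one (hexp g))
      rcases hp with rfl | rfl <;> norm_num at h2
    have hgp : g ^ p = 1 := by
      rw [← orderOf_dvd_iff_pow_eq_one, hj]
      exact (pow_dvd_pow p hj1).trans (pow_one p).dvd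
    rw [(QuotientGroup.eq_one_iff g).2 (key g hgp), orderOf_one] at hy
    exact (Fact.out : p.Prime).ne_one hy.symm
  show (upperPSeries p G (2 * 1 + 1)).1 = ⊤
  rw [CfsgLib.PLoc.upperPSeries_odd 1]
  rw [eq_top_iff]
  intro g _
  refine (le_sSup ⟨inferInstance, ?_⟩ : (⊤ : Subgroup (G ⧸ (upperPSeries p G (2 * 1)).1)) ≤ pPrimeCore p _) (mem_top _)
  rw [Subgroup.card_top, ← Subgroup.index_eq_card, show (upperPSeries p G (2 * 1)).1 = (pCore p (G ⧸ U1)).comap f from
    CfsgLib.PLoc.upperPSeries_even 0, Subgroup.index_comap_of_surjective _ (QuotientGroup.mk'_surjective U1)]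
  exact (((Fact.out : p.Prime).coprime_iff_not_dvd).2 hindex).symm

/-- `G/O_{p',p}(G)` is faithful on the Frattini quotient of `O_{p',p}(G)/O_{p'}(G)`. -/
theorem faithful_on_frattini {G : Type*} [Group G] [Finite G] {p : ℕ} [Fact p.Prime] (hG : IsPSolvable p G) (g : G) :
    (∀ x ∈ pPrimePCore p G, g * x * g⁻¹ * x⁻¹ ∈ ((frattini (↥(pPrimePCore p G) ⧸ (pPrimeCore p G).subgroupOf (pPrimePCore p G))).comap (QuotientGroup.mk' ((pPrimeCore p G).subgroupOf (pPrimePCore p G)))).map (pPrimePCore p G).subtype) ↔ g ∈ pPrimePCore p G := by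
  haveI := CfsgLib.Solvable.pPrimeCore_normal p G
  let f := QuotientGroup.mk' (pPrimeCore p G)
  have hf : Function.Surjective f := QuotientGroup.mk'_surjective _
  have hX := CfsgLib.Solvable.pPrimeCore_quotient_eq_bot (p := p) (pPrimeCore p G) rfl
  have hC : centralizer (pCore p (G ⧸ pPrimeCore p G) : Set (G ⧸ pPrimeCore p G)) ≤ pCore p (G ⧸ pPrimeCore p G) :=
    CfsgLib.PLoc.centralizer_pCore_le_self (CfsgLib.PLoc.isPSolvable_of_surjective hf hG) hX
  let ψ : ↥(pPrimePCore p G) →* ↥(pCore p (G ⧸ pPrimeCore p G)) :=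
    (f.comp (pPrimePCore p G).subtype).codRestrict _ fun x => x.2
  have hψ : Function.Surjective ψ := fun y => by
    obtain ⟨z, hz⟩ := hf y.1
    exact ⟨⟨z, by show f z ∈ pCore p _; rw [hz]; exact y.2⟩, Subtype.ext hz⟩
  have hker : ψ.ker = (pPrimeCore p G).subgroupOf (pPrimePCore p G) := by
    ext z
    rw [MonoidHom.mem_ker, Subgroup.mem_subgroupOf]
    exact ⟨fun e => (QuotientGroup.eq_one_iff _).1 (congrArg Subtype.val e), fun e => Subtype.ext ((QuotientGroup.eq_one_iff _).2 e)⟩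
  let e := (QuotientGroup.quotientMulEquivOfEq hker.symm).trans (QuotientGroup.quotientKerEquivOfSurjective ψ hψ)
  have hmem : ∀ z : ↥(pPrimePCore p G),
      (QuotientGroup.mk' ((pPrimeCore p G).subgroupOf (pPrimePCore p G)) z ∈ frattini _ ↔ ψ z ∈ frattini _) := by
    intro z
    have hez : e (QuotientGroup.mk' _ z) = ψ z := rfl
    constructor
    · intro hz
      rw [← hez]
      exact frattini_le_comap_frattini_of_surjective (φ := e.toMonoidHom) e.surjective hz
    · intro hz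
      rw [← hez] at hz
      have := frattini_le_comap_frattini_of_surjective (φ := e.symm.toMonoidHom) e.symm.surjective hz
      rw [Subgroup.mem_comap] at this
      simpa using this
  constructor
  · intro h
    refine mem_pCore_of_trivial_on_frattini hC fun y hy => ?_
    obtain ⟨x, rfl⟩ := hf y
    obtain ⟨z, hz, hz'⟩ := h x hy
    refine ⟨ψ z, (hmem z).1 hz, ?_⟩
    show f z = _
    rw [show (z : G) = g * x * g⁻¹ * x⁻¹ from hz', map_mul, map_mul, map_mul, map_inv, map_inv]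
  · intro hg x hx
    refine ⟨⟨g, hg⟩ * ⟨x, hx⟩ * ⟨g, hg⟩⁻¹ * ⟨x, hx⟩⁻¹, (hmem _).2 ?_, rfl⟩
    have : ψ (⟨g, hg⟩ * ⟨x, hx⟩ * ⟨g, hg⟩⁻¹ * ⟨x, hx⟩⁻¹) = ⁅ψ ⟨g, hg⟩, ψ ⟨x, hx⟩⁆ := by
      rw [commutatorElement_def]; simp only [map_mul, map_inv]
    rw [this]
    exact CfsgLib.PGroup.commutator_le_frattini (CfsgLib.Solvable.pCore_isPGroup p _)
      (commutator_mem_commutator (mem_top _) (mem_top _))

end CfsgLib.FGStruct
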