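import Mathlib
import Cfsg.Prelude
import Cfsg.Agent.Lib.PGroup.Basic
import Cfsg.Agent.Lib.Solvable.CoprimeAction
import Cfsg.Agent.Lib.Transfer.ThompsonFactor
import Cfsg.Agent.Lib.Extraspecial.Card

/-!
2-groups with a nontrivial group of automorphisms of odd order in which no proper invariant subgroup
contains a non-cyclic abelian subgroup of order eight.
-/

set_option autoImplicit false

open scoped commutatorElement

namespace CfsgLib.FGStruct.NoAbelianEight

variable {G : Type*} [Group G]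

/-- No non-cyclic abelian subgroup of order eight. -/
def NoA (Y : Subgroup G) : Prop := ∀ A ≤ Y, IsMulCommutative A → Nat.card A = 8 → IsCyclic A

/-- A four-group. -/
def IsV (W : Subgroup G) : Prop := Nat.card W = 4 ∧ ∀ w ∈ W, w * w = 1

/-- A quaternion group of order eight with central involution `z`. -/
def IsQAt (W : Subgroup G) (z : G) : Prop :=
  Nat.card W = 8 ∧ z ∈ W ∧ z ≠ 1 ∧ z * z = 1 ∧ (∀ w ∈ W, w * z = z * w) ∧
    ∀ w ∈ W, w ≠ 1 → w ≠ z → w * w = z

theorem le_normalizer_of_conj [Finite G] {K Y : Subgroup G} (h : ∀ k ∈ K, ∀ y ∈ Y, k * y * k⁻¹ ∈ Y) :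
    K ≤ Subgroup.normalizer (Y : Set G) := by
  intro k hk
  rw [Subgroup.mem_normalizer_iff]
  refine fun y => ⟨h k hk y, fun hy => ?_⟩
  simpa [mul_assoc] using h k⁻¹ (inv_mem hk) _ hy

theorem conj_mem {K Y : Subgroup G} (h : K ≤ Subgroup.normalizer (Y : Set G)) {k y : G} (hk : k ∈ K)
    (hy : y ∈ Y) : k * y * k⁻¹ ∈ Y :=
  (Subgroup.mem_normalizer_iff.1 (h hk) y).1 hy

theorem comm_closure {s : Set G} (h : ∀ a ∈ s, ∀ b ∈ s, a * b = b * a) :
    IsMulCommutative (Subgroup.closure s) :=
  Subgroup.le_centralizer_iff_isMulCommutative.1 (by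
    rw [Subgroup.centralizer_closure, Subgroup.closure_le]
    exact fun a ha b hb => h b hb a ha)

theorem pow_four_closure {s : Set G} (h : ∀ a ∈ s, ∀ b ∈ s, a * b = b * a) (h4 : ∀ a ∈ s, a ^ 4 = 1) :
    ∀ a ∈ Subgroup.closure s, a ^ 4 = 1 := by
  have hA := comm_closure h
  intro a ha
  induction ha using Subgroup.closure_induction with
  | mem x hx => exact h4 x hx
  | one => exact one_pow 4
  | mul x y hx hy ihx ihy =>
    rw [(show Commute x y from congrArg Subtype.val (hA.is_comm.comm ⟨x, hx⟩ ⟨y, hy⟩)).mul_pow, ihx,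
      ihy, mul_one]
  | inv x _ ih => rw [inv_pow, ih, inv_one]

theorem two_mul_card_le [Finite G] {H H' : Subgroup G} (h : H < H') : 2 * Nat.card H ≤ Nat.card H' := by
  obtain ⟨t, ht⟩ := Subgroup.card_dvd_of_le h.le
  have h0 : 0 < Nat.card H' := Nat.card_pos
  have ht2 : 2 ≤ t := by
    rcases Nat.lt_or_ge t 2 with h1 | h1
    · interval_cases t
      · rw [mul_zero] at ht; omega
      · exact absurd (Subgroup.eq_of_le_of_card_ge h.le (by rw [ht, mul_one])) h.ne
    · exact h1
  rw [ht, mul_comm 2]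
  exact Nat.mul_le_mul le_rfl ht2

theorem exists_square_mem {Y H : Subgroup G} (hY : IsPGroup 2 Y) (h : ¬ Y ≤ H) :
    ∃ d ∈ Y, d ∉ H ∧ d * d ∈ H := by
  obtain ⟨c, hcY, hcH⟩ := SetLike.not_le_iff_exists.1 h
  obtain ⟨n, hn⟩ := hY ⟨c, hcY⟩
  have hn' : c ^ (2 ^ n) = 1 := congrArg Subtype.val hn
  clear hn
  induction n generalizing c with
  | zero =>
    rw [pow_zero, pow_one] at hn'
    exact absurd (hn' ▸ H.one_mem) hcH
  | succ n ih =>
    by_cases h1 : c * c ∈ H
    · exact ⟨c, hcY, hcH, h1⟩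
    · exact ih (c * c) (Y.mul_mem hcY hcY) h1 (by rw [← pow_two, ← pow_mul, ← pow_succ']; exact hn')

theorem not_noA [Finite G] {Y B : Subgroup G} (hY : IsPGroup 2 Y) (hB : B ≤ Y) (hc : IsMulCommutative B)
    (h4 : ∀ b ∈ B, b ^ 4 = 1) (h8 : 8 ≤ Nat.card B) : ¬ NoA Y := by
  intro h
  haveI := Fact.mk Nat.prime_two
  obtain ⟨n, hn⟩ := IsPGroup.iff_card.1 (hY.to_le hB)
  have hn3 : 3 ≤ n := by
    by_contra hlt
    rw [hn] at h8
    have : 2 ^ n ≤ 2 ^ 2 := Nat.pow_le_pow_right (by norm_num) (by omega)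
    omega
  obtain ⟨A, hA⟩ := Sylow.exists_subgroup_card_pow_prime (G := B) 2 (n := 3) (by
    rw [hn]; exact pow_dvd_pow 2 hn3)
  have hAc : Nat.card (A.map B.subtype) = 8 := by
    rw [Subgroup.card_map_of_injective B.subtype_injective, hA]; norm_num
  have hle : A.map B.subtype ≤ B := Subgroup.map_subtype_le A
  have hcomm : IsMulCommutative (A.map B.subtype) := ⟨⟨fun a b => Subtype.ext
    (show a.1 * b.1 = b.1 * a.1 from
      congrArg Subtype.val (hc.is_comm.comm ⟨a.1, hle a.2⟩ ⟨b.1, hle b.2⟩))⟩⟩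
  obtain ⟨g, hg⟩ := isCyclic_iff_exists_zpowers_eq_top.1 (h _ (hle.trans hB) hcomm hAc)
  have h1 : orderOf g = 8 := by rw [← Nat.card_zpowers, hg, Subgroup.card_top, hAc]
  have h2 : orderOf g ∣ 4 := by
    rw [← Subgroup.orderOf_coe]
    exact orderOf_dvd_of_pow_eq_one (h4 _ (hle g.2))
  rw [h1] at h2
  norm_num at h2

theorem odd_orderOf [Finite G] {K : Subgroup G} (hK : Odd (Nat.card K)) {k : G} (hk : k ∈ K) :
    Odd (orderOf k) := by
  refine hK.of_dvd_nat ?_
  rw [← Subgroup.orderOf_mk k hk]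
  exact orderOf_dvd_natCard _

/-- An odd element moving `y` by a 2-element that it fixes does not move `y`. -/
theorem eq_one_of_step {k y : G} (hk : Odd (orderOf k)) (hc : Commute k ⁅k, y⁆)
    (h2 : ∃ n : ℕ, ⁅k, y⁆ ^ (2 ^ n) = 1) : k * y = y * k := by
  set u := ⁅k, y⁆ with hu
  have key : ∀ n : ℕ, k ^ n * y * (k ^ n)⁻¹ = u ^ n * y := by
    intro n
    induction n with
    | zero => simp
    | succ n ih =>
      calc k ^ (n + 1) * y * (k ^ (n + 1))⁻¹ = k * (k ^ n * y * (k ^ n)⁻¹) * k⁻¹ := by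
            rw [pow_succ']; group
        _ = (k * u ^ n) * y * k⁻¹ := by rw [ih]; group
        _ = u ^ n * (k * y * k⁻¹) := by rw [(hc.pow_right n).eq]; group
        _ = u ^ n * (u * y) := by rw [hu, commutatorElement_def]; group
        _ = _ := by rw [pow_succ, mul_assoc]
  have h1 := key (orderOf k)
  rw [pow_orderOf_eq_one, one_mul, inv_one, mul_one, right_eq_mul] at h1
  obtain ⟨m, hm⟩ := h2
  have hu1 : orderOf u = 1 := Nat.eq_one_of_dvd_coprimes
    ((Nat.coprime_two_right.2 hk).pow_right m) (orderOf_dvd_of_pow_eq_one h1) (orderOf_dvd_of_pow_eq_one hm)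
  exact commutatorElement_eq_one_iff_mul_comm.1 (orderOf_eq_one_iff.1 hu1)

/-- Fixing a subgroup of index two pointwise means fixing everything. -/
theorem le_centralizer_of_index_two [Finite G] {W U K : Subgroup G} (hW : IsPGroup 2 W) (hUW : U ≤ W)
    (hKW : K ≤ Subgroup.normalizer (W : Set G)) (hK : Odd (Nat.card K))
    (hKU : K ≤ Subgroup.centralizer (U : Set G)) (hidx : Nat.card W = 2 * Nat.card U) :
    K ≤ Subgroup.centralizer (W : Set G) := by
  intro k hk
  rw [Subgroup.mem_centralizer_iff]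
  intro y hy
  by_cases hyU : y ∈ U
  · exact Subgroup.mem_centralizer_iff.1 (hKU hk) y hyU
  have hrel : (U.subgroupOf W).index = 2 := by
    have h := (U.subgroupOf W).card_mul_index
    rw [Nat.card_congr (Subgroup.subgroupOfEquivOfLe hUW).toEquiv, hidx, mul_comm 2] at h
    exact Nat.eq_of_mul_eq_mul_left Nat.card_pos h
  have hky : k * y * k⁻¹ ∈ W := conj_mem hKW hk hy
  have hkyU : k * y * k⁻¹ ∉ U := by
    intro h
    refine hyU ?_
    have h1 : k * (k * y * k⁻¹) = (k * y * k⁻¹) * k := (Subgroup.mem_centralizer_iff.1 (hKU hk) _ h).symm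
    have h2 : k * y * k⁻¹ = y := by
      have h3 : k * y = y * k := by
        have := mul_right_cancel (b := k⁻¹) (a := k * (k * y * k⁻¹) ) (c := (k * y * k⁻¹) * k)
        have h4 : k * (k * y * k⁻¹) = k * y := by rw [h1]; group
        exact (mul_left_cancel h4) ▸ (by rw [h1])
      rw [h3]; group
    exact h2 ▸ h
  have hu : ⁅k, y⁆ ∈ U := by
    have h1 := Subgroup.mul_mem_iff_of_index_two hrel (a := ⟨k * y * k⁻¹, hky⟩) (b := ⟨y, hy⟩⁻¹)
    rw [Subgroup.mem_subgroupOf, Subgroup.mem_subgroupOf, Subgroup.mem_subgroupOf] at h1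
    rw [commutatorElement_def]
    exact h1.2 ⟨fun h => absurd h hkyU, fun h => absurd (by simpa using h) hyU⟩
  exact (eq_one_of_step (odd_orderOf hK hk) (Subgroup.mem_centralizer_iff.1 (hKU hk) _ hu).symm (by
    obtain ⟨n, hn⟩ := hW ⟨_, hUW hu⟩
    exact ⟨n, congrArg Subtype.val hn⟩)).symm

theorem commutator_lt [Finite G] {W Y : Subgroup G} (hW : IsPGroup 2 W) (hY : IsPGroup 2 Y)
    (h : Y ≤ Subgroup.normalizer (W : Set G)) (hne : W ≠ ⊥) : ⁅W, Y⁆ < W := by
  refine lt_of_le_of_ne ?_ fun he => hne ?_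
  · rw [Subgroup.commutator_le]
    intro w hw y hy
    rw [commutatorElement_def, show w * y * w⁻¹ * y⁻¹ = w * (y * w⁻¹ * y⁻¹) by group]
    exact mul_mem hw (conj_mem h hy (inv_mem hw))
  · exact CfsgLib.ThompsonFactor.eq_bot_of_le_commutator
      (hW.to_sup_of_normal_left' hY h).isNilpotent le_sup_left le_sup_right he.ge

theorem commutator_inv [Finite G] {W Y K : Subgroup G} (hW : K ≤ Subgroup.normalizer (W : Set G))
    (hY : K ≤ Subgroup.normalizer (Y : Set G)) : K ≤ Subgroup.normalizer ((⁅W, Y⁆ : Subgroup G) : Set G) := by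
  refine le_normalizer_of_conj fun k hk c hc => ?_
  have hle : ⁅W, Y⁆.map (MulAut.conj k).toMonoidHom ≤ ⁅W, Y⁆ := by
    rw [Subgroup.map_commutator]
    refine Subgroup.commutator_mono ?_ ?_
    · rintro _ ⟨w, hw, rfl⟩; exact conj_mem hW hk hw
    · rintro _ ⟨w, hw, rfl⟩; exact conj_mem hY hk hw
  exact hle (Subgroup.mem_map_of_mem _ hc)

section V

variable [Finite G] {W K : Subgroup G}

theorem IsV.isPGroup (hV : IsV W) : IsPGroup 2 W := IsPGroup.of_card (n := 2) (by rw [hV.1]; norm_num)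

omit [Finite G] in
theorem IsV.comm (hV : IsV W) : IsMulCommutative W := by
  refine ⟨⟨fun a b => Subtype.ext ?_⟩⟩
  show a.1 * b.1 = b.1 * a.1
  have h := hV.2 _ (W.mul_mem a.2 b.2)
  rw [← inv_eq_iff_mul_eq_one, mul_inv_rev, inv_eq_of_mul_eq_one_right (hV.2 _ a.2),
    inv_eq_of_mul_eq_one_right (hV.2 _ b.2)] at h
  exact h.symm

theorem IsV.irreducible (hV : IsV W) (hKW : K ≤ Subgroup.normalizer (W : Set G)) (hK : Odd (Nat.card K))
    (hKnt : ¬ K ≤ Subgroup.centralizer (W : Set G)) {U : Subgroup G} (hUW : U < W)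
    (hKU : K ≤ Subgroup.normalizer (U : Set G)) : U = ⊥ := by
  by_contra hne
  refine hKnt ?_
  have h2 : Nat.card U = 2 := by
    have h1 := two_mul_card_le hUW
    have h3 := (Subgroup.one_lt_card_iff_ne_bot U).2 hne
    rw [hV.1] at h1
    omega
  refine le_centralizer_of_index_two hV.isPGroup hUW.le hKW hK (fun k hk => ?_) (by rw [hV.1, h2])
  rw [Subgroup.mem_centralizer_iff]
  intro u hu
  obtain ⟨v, hv, hv'⟩ := (Nat.card_eq_two_iff' (1 : U)).1 h2
  by_cases hu1 : u = 1
  · simp [hu1]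
  have e1 := hv' ⟨u, hu⟩ fun e => hu1 (congrArg Subtype.val e)
  have e2 := hv' ⟨_, conj_mem hKU hk hu⟩ fun e => hu1 (by simpa using congrArg Subtype.val e)
  exact (mul_inv_eq_iff_eq_mul.1 (congrArg Subtype.val (e2.trans e1.symm))).symm

theorem IsV.centralized (hV : IsV W) (hKW : K ≤ Subgroup.normalizer (W : Set G)) (hK : Odd (Nat.card K))
    (hKnt : ¬ K ≤ Subgroup.centralizer (W : Set G)) {Y : Subgroup G} (hY : IsPGroup 2 Y)
    (hYW : Y ≤ Subgroup.normalizer (W : Set G)) (hKY : K ≤ Subgroup.normalizer (Y : Set G)) :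
    Y ≤ Subgroup.centralizer (W : Set G) := by
  have hne : W ≠ ⊥ := fun h => by
    have := hV.1
    rw [h, Subgroup.card_bot] at this
    omega
  exact Subgroup.le_centralizer_iff.1 (Subgroup.commutator_eq_bot_iff_le_centralizer.1
    (hV.irreducible hKW hK hKnt (commutator_lt hV.isPGroup hY hYW hne) (commutator_inv hKW hKY)))

end V

section Q

variable [Finite G] {W K : Subgroup G} {z : G}

theorem IsQAt.isPGroup (hQ : IsQAt W z) : IsPGroup 2 W := IsPGroup.of_card (n := 3) (by rw [hQ.1]; norm_num)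

omit [Finite G] in
theorem IsQAt.pow_four (hQ : IsQAt W z) {w : G} (hw : w ∈ W) : w ^ 4 = 1 := by
  obtain ⟨-, -, -, hzz, -, hsq⟩ := hQ
  rw [show (4 : ℕ) = 2 * 2 from rfl, pow_mul]
  simp only [pow_two]
  by_cases h1 : w = 1
  · simp [h1]
  by_cases h2 : w = z
  · rw [h2, hzz, one_mul]
  · rw [hsq w hw h1 h2, hzz]

omit [Finite G] in
theorem IsQAt.exists_ne (hQ : IsQAt W z) : ∃ i ∈ W, i ≠ 1 ∧ i ≠ z := by
  classical
  by_contra h
  push Not at h
  have hle : Nat.card W ≤ Nat.card ({1, z} : Finset G) := by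
    refine Nat.card_le_card_of_injective
      (fun w : W => (⟨w.1, by
        by_cases h1 : w.1 = 1
        · simp [h1]
        · simp [h w.1 w.2 h1]⟩ : ({1, z} : Finset G))) ?_
    intro a b hab
    exact Subtype.ext (congrArg (fun t : ({1, z} : Finset G) => t.1) hab)
  rw [hQ.1, Nat.card_eq_finsetCard] at hle
  have := Finset.card_le_two (a := (1 : G)) (b := z)
  omega

omit [Finite G] in
theorem IsQAt.not_comm (hQ : IsQAt W z) {i j : G} (hi : i ∈ W) (hj : j ∈ W)
    (hi1 : i ≠ 1) (hiz : i ≠ z) (hjn : j ∉ Subgroup.zpowers i) : i * j ≠ j * i := by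
  intro hc
  obtain ⟨-, -, hz1, hzz, -, hsq⟩ := hQ
  have hj1 : j ≠ 1 := fun h => hjn (h ▸ one_mem _)
  have hii : i * i ∈ Subgroup.zpowers i := mul_mem (Subgroup.mem_zpowers i) (Subgroup.mem_zpowers i)
  have hjz : j ≠ z := fun h => hjn (by rw [h, ← hsq i hi hi1 hiz]; exact hii)
  have h1 : i * j * (i * j) = 1 := by
    rw [show i * j * (i * j) = i * (j * i) * j by group, ← hc,
      show i * (i * j) * j = (i * i) * (j * j) by group, hsq i hi hi1 hiz, hsq j hj hj1 hjz, hzz]
  have h2 : i * j = 1 ∨ i * j = z := by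
    by_contra h
    rw [not_or] at h
    rw [hsq _ (mul_mem hi hj) h.1 h.2] at h1
    exact hz1 h1
  refine hjn ?_
  have hj' : j = i⁻¹ * (i * j) := by group
  rw [hj']
  rcases h2 with h | h
  · rw [h, mul_one]; exact inv_mem (Subgroup.mem_zpowers i)
  · rw [h, ← hsq i hi hi1 hiz]; exact mul_mem (inv_mem (Subgroup.mem_zpowers i)) hii

omit [Finite G] in
theorem IsQAt.card_zpowers (hQ : IsQAt W z) {i : G} (hi : i ∈ W) (hi1 : i ≠ 1) (hiz : i ≠ z) :
    Nat.card (Subgroup.zpowers i) = 4 := by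
  haveI := Fact.mk Nat.prime_two
  rw [Nat.card_zpowers]
  refine orderOf_eq_prime_pow (p := 2) (n := 1) ?_ (hQ.pow_four hi)
  rw [pow_one, pow_two, hQ.2.2.2.2.2 i hi hi1 hiz]
  exact hQ.2.2.1

theorem IsQAt.exists_pair (hQ : IsQAt W z) :
    ∃ i ∈ W, ∃ j ∈ W, i ≠ 1 ∧ i ≠ z ∧ j ∉ Subgroup.zpowers i ∧ Subgroup.closure {i, j} = W := by
  obtain ⟨i, hi, hi1, hiz⟩ := hQ.exists_ne
  have hle : Subgroup.zpowers i ≤ W := Subgroup.zpowers_le.2 hi
  have hlt : Subgroup.zpowers i < W := lt_of_le_of_ne hle fun h => by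
    have h1 := hQ.card_zpowers hi hi1 hiz
    rw [h, hQ.1] at h1
    omega
  obtain ⟨j, hj, hjn⟩ := SetLike.exists_of_lt hlt
  refine ⟨i, hi, j, hj, hi1, hiz, hjn, ?_⟩
  have hcl : Subgroup.closure {i, j} ≤ W := (Subgroup.closure_le _).2 (by
    rintro x (rfl | rfl)
    exacts [hi, hj])
  have hlt2 : Subgroup.zpowers i < Subgroup.closure {i, j} := by
    refine lt_of_le_of_ne (Subgroup.zpowers_le.2 (Subgroup.subset_closure (Or.inl rfl))) fun h => hjn ?_
    rw [h]; exact Subgroup.subset_closure (Or.inr rfl)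
  have h2 := two_mul_card_le hlt2
  rw [hQ.card_zpowers hi hi1 hiz] at h2
  exact Subgroup.eq_of_le_of_card_ge hcl (by rw [hQ.1]; omega)

theorem IsQAt.not_isMulCommutative (hQ : IsQAt W z) : ¬ IsMulCommutative W := by
  intro h
  obtain ⟨i, hi, j, hj, hi1, hiz, hjn, -⟩ := hQ.exists_pair
  exact hQ.not_comm hi hj hi1 hiz hjn (congrArg Subtype.val (h.is_comm.comm ⟨i, hi⟩ ⟨j, hj⟩))

omit [Finite G] in
theorem IsQAt.fix_z (hQ : IsQAt W z) {k : G} (hk : k ∈ Subgroup.normalizer (W : Set G)) :
    k * z * k⁻¹ = z := by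
  obtain ⟨-, hzW, hz1, hzz, -, hsq⟩ := hQ
  by_contra h
  have h1 : k * z * k⁻¹ ≠ 1 := fun e => hz1 (by simpa using e)
  have h2 := hsq _ ((Subgroup.mem_normalizer_iff.1 hk z).1 hzW) h1 h
  rw [show k * z * k⁻¹ * (k * z * k⁻¹) = k * (z * z) * k⁻¹ by group, hzz] at h2
  exact hz1 (by rw [← h2]; group)

theorem IsQAt.irreducible (hQ : IsQAt W z) (hKW : K ≤ Subgroup.normalizer (W : Set G))
    (hK : Odd (Nat.card K)) (hKnt : ¬ K ≤ Subgroup.centralizer (W : Set G)) {U : Subgroup G}
    (hzU : z ∈ U) (hUW : U < W) (hKU : K ≤ Subgroup.normalizer (U : Set G)) :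
    U = Subgroup.zpowers z := by
  have hZc : Nat.card (Subgroup.zpowers z) = 2 := by
    rw [Nat.card_zpowers]
    exact orderOf_eq_prime (by rw [pow_two]; exact hQ.2.2.2.1) hQ.2.2.1
  by_contra hne
  have h2 := two_mul_card_le (lt_of_le_of_ne (Subgroup.zpowers_le.2 hzU) (Ne.symm hne))
  have h3 := two_mul_card_le hUW
  rw [hQ.1] at h3
  rw [hZc] at h2
  refine hKnt (le_centralizer_of_index_two hQ.isPGroup hUW.le hKW hK ?_ (by rw [hQ.1]; omega))
  refine le_centralizer_of_index_two (hQ.isPGroup.to_le hUW.le) (Subgroup.zpowers_le.2 hzU) hKU hK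
    (fun k hk => ?_) (by rw [hZc]; omega)
  rw [Subgroup.zpowers_eq_closure, Subgroup.centralizer_closure, Subgroup.mem_centralizer_singleton_iff]
  exact mul_inv_eq_iff_eq_mul.1 (hQ.fix_z (hKW hk))

/-- An element moving the generators only by `z` is inner. -/
theorem IsQAt.mem_mul_centralizer (hQ : IsQAt W z) {d : G}
    (hd : ∀ w ∈ W, ⁅d, w⁆ = 1 ∨ ⁅d, w⁆ = z) :
    ∃ w ∈ W, w⁻¹ * d ∈ Subgroup.centralizer (W : Set G) := by
  obtain ⟨i, hi, j, hj, hi1, hiz, hjn, hgen⟩ := hQ.exists_pair
  have hji := hQ.not_comm hi hj hi1 hiz hjn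
  obtain ⟨-, hzW, hz1, hzz, hzc, hsq⟩ := hQ
  have hcz : ∀ a ∈ W, ∀ b ∈ W, ⁅a, b⁆ = 1 ∨ ⁅a, b⁆ = z := by
    intro a ha b hb
    have hsqm : ∀ c ∈ W, c * c = 1 ∨ c * c = z := fun c hc => by
      by_cases h1 : c = 1
      · simp [h1]
      by_cases h2 : c = z
      · exact Or.inl (h2 ▸ hzz)
      · exact Or.inr (hsq c hc h1 h2)
    have hcen : ∀ c ∈ W, ∀ e ∈ W, c * c * e = e * (c * c) := fun c hc e he => by
      rcases hsqm c hc with h | h <;> rw [h]
      · simp
      · exact (hzc e he).symm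
    have e : ⁅a, b⁆ = a * a * ((a⁻¹ * b) * (a⁻¹ * b)) * (b * b)⁻¹ := by
      rw [commutatorElement_def]; group
    rw [e]
    rcases hsqm a ha with h | h <;> rcases hsqm b hb with h' | h' <;>
      rcases hsqm _ (mul_mem (inv_mem ha) hb) with h'' | h'' <;>
        rw [h, h', h''] <;>
        simp [hzz, inv_eq_of_mul_eq_one_right hzz, mul_assoc]
  have hcomm : ∀ {a b : G}, ⁅a, b⁆ = 1 ↔ a * b = b * a := fun {a b} => commutatorElement_eq_one_iff_mul_comm
  -- conjugation by an element, on the generators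
  have hflip : ∀ a ∈ W, ∀ g, ⁅g, a⁆ = z → g * a * g⁻¹ = z * a := fun a _ g h => by
    rw [← h, commutatorElement_def]; group
  have hfix : ∀ a g, ⁅g, a⁆ = (1 : G) → g * a * g⁻¹ = a := fun a g h => by
    rw [hcomm.1 h]; group
  have hij : ⁅i, j⁆ = z := (hcz i hi j hj).resolve_left fun h => hji (hcomm.1 h)
  have hji' : ⁅j, i⁆ = z := (hcz j hj i hi).resolve_left fun h => hji (hcomm.1 h).symm
  obtain ⟨w, hw, hwi, hwj⟩ : ∃ w ∈ W, w * i * w⁻¹ = d * i * d⁻¹ ∧ w * j * w⁻¹ = d * j * d⁻¹ := by
    rcases hd i hi with h | h <;> rcases hd j hj with h' | h'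
    · exact ⟨1, one_mem W, by rw [hfix i d h]; group, by rw [hfix j d h']; group⟩
    · exact ⟨i, hi, by rw [hfix i d h]; group, by rw [hflip j hj d h', hflip j hj i hij]⟩
    · exact ⟨j, hj, by rw [hflip i hi d h, hflip i hi j hji'], by rw [hfix j d h']; group⟩
    · refine ⟨i * j, mul_mem hi hj, ?_, ?_⟩
      · rw [hflip i hi d h, show i * j * i * (i * j)⁻¹ = i * (j * i * j⁻¹) * i⁻¹ by group,
          hflip i hi j hji', ← mul_assoc i z, hzc i hi]
        group
      · rw [hflip j hj d h', show i * j * j * (i * j)⁻¹ = i * j * i⁻¹ by group, hflip j hj i hij]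
  refine ⟨w, hw, ?_⟩
  rw [← hgen, Subgroup.centralizer_closure, Subgroup.mem_centralizer_iff]
  rintro x (rfl | rfl)
  · calc x * (w⁻¹ * d) = w⁻¹ * (w * x * w⁻¹) * d := by group
      _ = _ := by rw [hwi]; group
  · calc x * (w⁻¹ * d) = w⁻¹ * (w * x * w⁻¹) * d := by group
      _ = _ := by rw [hwj]; group

theorem IsQAt.commutator_sup_lt (hQ : IsQAt W z) {Y : Subgroup G} (hY : IsPGroup 2 Y)
    (hYW : Y ≤ Subgroup.normalizer (W : Set G)) : ⁅W, Y⁆ ⊔ Subgroup.zpowers z < W := by
  have hne : W ≠ ⊥ := fun h => by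
    have := hQ.1
    rw [h, Subgroup.card_bot] at this
    omega
  have hc := commutator_lt hQ.isPGroup hY hYW hne
  have hzs : z * z = 1 := hQ.2.2.2.1
  have hsq := hQ.2.2.2.2.2
  refine lt_of_le_of_ne (sup_le hc.le (Subgroup.zpowers_le.2 hQ.2.1)) fun he => ?_
  by_cases hz : z ∈ ⁅W, Y⁆
  · exact hc.ne ((sup_eq_left.2 (Subgroup.zpowers_le.2 hz)).symm.trans he)
  · have hall : ∀ c ∈ ⁅W, Y⁆, c = 1 := fun c hcm => by
      by_contra h1
      by_cases h2 : c = z
      · exact hz (h2 ▸ hcm)
      · exact hz (hsq c (hc.le hcm) h1 h2 ▸ mul_mem hcm hcm)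
    have hb : ⁅W, Y⁆ = ⊥ := (Subgroup.eq_bot_iff_forall _).2 hall
    rw [hb, bot_sup_eq] at he
    have h8 := hQ.1
    rw [← he, Nat.card_zpowers, orderOf_eq_prime (p := 2) (by rw [pow_two]; exact hzs) hQ.2.2.1] at h8
    omega

theorem IsQAt.moves_mod_center (hQ : IsQAt W z) (hKW : K ≤ Subgroup.normalizer (W : Set G))
    (hK : Odd (Nat.card K)) (hKnt : ¬ K ≤ Subgroup.centralizer (W : Set G)) {Y : Subgroup G}
    (hY : IsPGroup 2 Y) (hYW : Y ≤ Subgroup.normalizer (W : Set G))
    (hKY : K ≤ Subgroup.normalizer (Y : Set G)) : ∀ d ∈ Y, ∀ w ∈ W, ⁅d, w⁆ = 1 ∨ ⁅d, w⁆ = z := by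
  have hne : W ≠ ⊥ := fun h => by
    have := hQ.1
    rw [h, Subgroup.card_bot] at this
    omega
  have hc := commutator_lt hQ.isPGroup hY hYW hne
  have hzc : ∀ c ∈ W, c * z = z * c := hQ.2.2.2.2.1
  have hzs : z * z = 1 := hQ.2.2.2.1
  have hsq := hQ.2.2.2.2.2
  have hcl : ∀ a : G, a ∈ Subgroup.zpowers z → a = 1 ∨ a = z := by
    rintro a ⟨n, rfl⟩
    rcases Int.even_or_odd' n with ⟨m, rfl | rfl⟩
    · left; show z ^ (2 * m) = 1; rw [zpow_mul, zpow_two, hzs, one_zpow]
    · right; show z ^ (2 * m + 1) = z; rw [zpow_add_one, zpow_mul, zpow_two, hzs, one_zpow, one_mul]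
  set U := ⁅W, Y⁆ ⊔ Subgroup.zpowers z with hU
  have hUlt : U < W := hQ.commutator_sup_lt hY hYW
  have hKU : K ≤ Subgroup.normalizer (U : Set G) := by
    refine (le_inf (commutator_inv hKW hKY) ?_).trans (Subgroup.normalizer_inf_normalizer_le_normalizer_sup _ _)
    intro k hk
    refine Subgroup.centralizer_le_normalizer _ ?_
    rw [Subgroup.zpowers_eq_closure, Subgroup.centralizer_closure, Subgroup.mem_centralizer_singleton_iff]
    exact mul_inv_eq_iff_eq_mul.1 (hQ.fix_z (hKW hk))
  have hUz := hQ.irreducible hKW hK hKnt (Subgroup.mem_sup_right (Subgroup.mem_zpowers z)) hUlt hKU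
  intro d hd w hw
  have h1 : ⁅d, w⁆ ∈ U := by
    rw [← commutatorElement_inv]
    exact inv_mem (Subgroup.mem_sup_left (Subgroup.commutator_mem_commutator hw hd))
  exact hcl _ (hUz.le h1)

/-- An element commuting with `K` and moving `W` only by `z` centralizes `W`. -/
theorem IsQAt.centralized_of_fixed (hQ : IsQAt W z) (hKW : K ≤ Subgroup.normalizer (W : Set G))
    (hK : Odd (Nat.card K)) (hKnt : ¬ K ≤ Subgroup.centralizer (W : Set G)) {d : G}
    (hd : ∀ w ∈ W, ⁅d, w⁆ = 1 ∨ ⁅d, w⁆ = z) (hdz : d * z = z * d)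
    (hdK : d ∈ Subgroup.centralizer (K : Set G)) : d ∈ Subgroup.centralizer (W : Set G) := by
  set F := W ⊓ Subgroup.centralizer ({d} : Set G) with hF
  by_cases hFW : F = W
  · rw [Subgroup.mem_centralizer_iff]
    intro w hw
    rw [← hFW] at hw
    exact Subgroup.mem_centralizer_singleton_iff.1 hw.2
  exfalso
  have hKF : K ≤ Subgroup.normalizer (F : Set G) := by
    refine le_normalizer_of_conj fun k hk w hw => ⟨conj_mem hKW hk hw.1, ?_⟩
    refine Subgroup.mem_centralizer_singleton_iff.2 ?_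
    have h1 : Commute (d : G) k := (Subgroup.mem_centralizer_iff.1 hdK k hk).symm
    have h2 : Commute d w := (Subgroup.mem_centralizer_singleton_iff.1 hw.2).symm
    exact ((h1.mul_right h2).mul_right h1.inv_right).eq.symm
  have hzF : z ∈ F := ⟨hQ.2.1, Subgroup.mem_centralizer_singleton_iff.2 hdz.symm⟩
  have hFz := hQ.irreducible hKW hK hKnt hzF (lt_of_le_of_ne inf_le_left hFW) hKF
  obtain ⟨i, hi, j, hj, hi1, hiz, hjn, -⟩ := hQ.exists_pair
  have hzpow : ∀ a ∈ W, a ∈ F → a = 1 ∨ a = z := by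
    intro a haW ha
    by_contra h
    rw [not_or] at h
    have h4 := hQ.card_zpowers haW h.1 h.2
    have h5 := Subgroup.card_le_of_le (Subgroup.zpowers_le.2 ha : Subgroup.zpowers a ≤ F)
    rw [hFz, h4, Nat.card_zpowers, orderOf_eq_prime (p := 2) (by rw [pow_two]; exact hQ.2.2.2.1) hQ.2.2.1] at h5
    omega
  have hmv : ∀ a ∈ W, a ≠ 1 → a ≠ z → d * a * d⁻¹ = z * a := by
    intro a ha h1 h2
    rcases hd a ha with h | h
    · exact absurd (hzpow a ha ⟨ha, Subgroup.mem_centralizer_singleton_iff.2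
        (commutatorElement_eq_one_iff_mul_comm.1 h).symm⟩) (by rw [not_or]; exact ⟨h1, h2⟩)
    · rw [← h, commutatorElement_def]; group
  have hj1 : j ≠ 1 := fun h => hjn (h ▸ one_mem _)
  have hjz : j ≠ z := fun h => hjn (by
    rw [h, ← hQ.2.2.2.2.2 i hi hi1 hiz]
    exact mul_mem (Subgroup.mem_zpowers i) (Subgroup.mem_zpowers i))
  have hij : i * j ∈ F := by
    refine ⟨mul_mem hi hj, Subgroup.mem_centralizer_singleton_iff.2 ?_⟩
    refine (mul_inv_eq_iff_eq_mul.1 ?_).symm
    calc d * (i * j) * d⁻¹ = (d * i * d⁻¹) * (d * j * d⁻¹) := by group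
      _ = (z * i) * (z * j) := by rw [hmv i hi hi1 hiz, hmv j hj hj1 hjz]
      _ = (z * z) * (i * j) := by
        rw [show z * i * (z * j) = z * (i * z) * j by group, hQ.2.2.2.2.1 i hi]; group
      _ = i * j := by rw [hQ.2.2.2.1, one_mul]
  refine hjn ?_
  rw [show j = i⁻¹ * (i * j) by group]
  rcases hzpow _ (mul_mem hi hj) hij with h | h
  · rw [h, mul_one]; exact inv_mem (Subgroup.mem_zpowers i)
  · rw [h, ← hQ.2.2.2.2.2 i hi hi1 hiz]
    exact mul_mem (inv_mem (Subgroup.mem_zpowers i)) (mul_mem (Subgroup.mem_zpowers i) (Subgroup.mem_zpowers i))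

end Q

/-- The possible structures. -/
def Outcome (X : Subgroup G) : Prop :=
  IsMulCommutative X ∨ (∃ z, IsQAt X z) ∨ (Cfsg.IsExtraspecial 2 X ∧ 32 ≤ Nat.card X) ∨
    (∃ (X₀ : Subgroup G) (z : G), X₀ ≤ X ∧ IsQAt X₀ z ∧ X₀.relIndex X = 2 ∧
      X₀ ⊔ (X ⊓ Subgroup.centralizer (X₀ : Set G)) = X) ∨
    (Cfsg.IsSpecial 2 X ∧ Nat.card (Subgroup.center X) = 4)

theorem char_inv [Finite G] {X K : Subgroup G} (hKX : K ≤ Subgroup.normalizer (X : Set G))
    (C : Subgroup X) [C.Characteristic] : K ≤ Subgroup.normalizer ((C.map X.subtype : Subgroup G) : Set G) := by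
  refine le_normalizer_of_conj fun k hk y hy => ?_
  obtain ⟨c, hc, rfl⟩ := hy
  have hmap : X.map (MulAut.conj k).toMonoidHom = X :=
    Subgroup.mem_normalizer_iff_map_conj_eq.1 (hKX hk)
  let e : X ≃* X := ((MulAut.conj k).subgroupMap X).trans (MulEquiv.subgroupCongr hmap)
  refine ⟨e c, ?_, rfl⟩
  exact (SetLike.ext_iff.1 (Subgroup.Characteristic.fixed inferInstance e) c).2 hc

theorem centralizer_map_le [Finite G] {X : Subgroup G} (C : Subgroup X)
    (h : X ≤ Subgroup.centralizer ((C.map X.subtype : Subgroup G) : Set G)) : C ≤ Subgroup.center X :=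
  fun c hc => Subgroup.mem_center_iff.2 fun x => Subtype.ext
    (Subgroup.mem_centralizer_iff.1 (h x.2) c.1 (Subgroup.mem_map_of_mem _ hc)).symm

theorem map_subtype_eq_self {X : Subgroup G} (C : Subgroup X) (h : C.map X.subtype = X) : C = ⊤ := by
  rw [eq_top_iff]
  intro x _
  have : (x : G) ∈ C.map X.subtype := h.symm ▸ x.2
  obtain ⟨c, hc, he⟩ := this
  rwa [← Subtype.ext he]

/-- `C_X(K)` lies in the derived subgroup when `X = [X, K]`. -/
theorem fixed_le_commutator [Finite G] {X K : Subgroup G} (hX : IsPGroup 2 X)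
    (hKX : K ≤ Subgroup.normalizer (X : Set G)) (hK : Odd (Nat.card K)) (hcom : ⁅X, K⁆ = X) (c : X)
    (hc : (c : G) ∈ Subgroup.centralizer (K : Set G)) : c ∈ commutator X := by
  classical
  haveI := Fintype.ofFinite K
  let cj : K → (X →* X) := fun k =>
    ((MulAut.conj (k : G)).toMonoidHom.comp X.subtype).codRestrict X fun x => conj_mem hKX k.2 x.2
  let f : X →* Abelianization X := ∏ k : K, Abelianization.of.comp (cj k)
  have happ : ∀ x, f x = ∏ k : K, Abelianization.of (cj k x) := fun x => by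
    simp [f, MonoidHom.finsetProd_apply]
  have hinv : ∀ (m : K) x, f (cj m x) = f x := by
    intro m x
    rw [happ, happ]
    refine Fintype.prod_equiv (Equiv.mulRight m) _ _ fun k => ?_
    congr 1
    refine Subtype.ext ?_
    show (k : G) * ((m : G) * (x : G) * (m : G)⁻¹) * (k : G)⁻¹ = ((k * m : K) : G) * x * ((k * m : K) : G)⁻¹
    rw [Subgroup.coe_mul]; group
  have hker : ∀ (w : G), w ∈ ⁅X, K⁆ → ∀ h : w ∈ X, f ⟨w, h⟩ = 1 := by
    intro w hw
    rw [Subgroup.commutator_def] at hw
    induction hw using Subgroup.closure_induction with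
    | mem w hw =>
      obtain ⟨x, hx, m, hm, rfl⟩ := hw
      intro h
      have e : (⟨⁅x, m⁆, h⟩ : X) = ⟨x, hx⟩ * cj ⟨m, hm⟩ ⟨x, hx⟩⁻¹ := Subtype.ext (by
        show ⁅x, m⁆ = x * (m * x⁻¹ * m⁻¹)
        rw [commutatorElement_def]; group)
      rw [e, map_mul, hinv, map_inv, mul_inv_cancel]
    | one => intro h; exact map_one f
    | mul a b ha hb iha ihb =>
      intro h
      rw [← Subgroup.commutator_def, hcom] at ha hb
      have e : (⟨a * b, h⟩ : X) = ⟨a, ha⟩ * ⟨b, hb⟩ := rfl
      rw [e, map_mul, iha, ihb, one_mul]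
    | inv a ha iha =>
      intro h
      rw [← Subgroup.commutator_def, hcom] at ha
      have e : (⟨a⁻¹, h⟩ : X) = (⟨a, ha⟩)⁻¹ := rfl
      rw [e, map_inv, iha, inv_one]
  have h1 := hker c.1 (hcom.symm ▸ c.2) c.2
  rw [happ] at h1
  have hfix : ∀ k : K, cj k c = c := fun k => Subtype.ext (by
    show (k : G) * c * (k : G)⁻¹ = c
    rw [Subgroup.mem_centralizer_iff.1 hc k k.2, mul_inv_cancel_right])
  simp only [hfix, Finset.prod_const, Finset.card_univ] at h1
  rw [← Nat.card_eq_fintype_card] at h1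
  obtain ⟨n, hn⟩ := hX c
  have h2 : orderOf (Abelianization.of c) = 1 := Nat.eq_one_of_dvd_coprimes
    ((Nat.coprime_two_right.2 hK).pow_right n) (orderOf_dvd_of_pow_eq_one h1)
    (orderOf_dvd_of_pow_eq_one (by rw [← map_pow, hn, map_one]))
  rw [orderOf_eq_one_iff] at h2
  rw [← Abelianization.ker_of]
  exact h2

/-- The abelian case. -/
theorem abelian_case [Finite G] {X K : Subgroup G} (hX : IsPGroup 2 X)
    (hKX : K ≤ Subgroup.normalizer (X : Set G)) (hK : Odd (Nat.card K))
    (hKnt : ¬ K ≤ Subgroup.centralizer (X : Set G)) (hc : IsMulCommutative X) (hN : NoA X) : IsV X := by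
  classical
  have hcm : ∀ a ∈ X, ∀ b ∈ X, Commute a b := fun a ha b hb =>
    congrArg Subtype.val (hc.is_comm.comm ⟨a, ha⟩ ⟨b, hb⟩)
  let E : Subgroup G :=
    { carrier := {x | x ∈ X ∧ x * x = 1}
      one_mem' := ⟨one_mem X, one_mul 1⟩
      mul_mem' := fun {a b} ha hb => ⟨mul_mem ha.1 hb.1, by
        rw [(hcm b hb.1 a ha.1).mul_mul_mul_comm, ha.2, hb.2, one_mul]⟩
      inv_mem' := fun {a} ha => ⟨inv_mem ha.1, by rw [← mul_inv_rev, ha.2, inv_one]⟩ }
  have hEX : E ≤ X := fun x hx => hx.1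
  have h4 : ∀ x ∈ E, x ^ 4 = 1 := fun x hx => by
    rw [show (4 : ℕ) = 2 * 2 from rfl, pow_mul]
    simp only [pow_two]
    rw [hx.2, one_mul]
  have hEc : ∀ a ∈ E, ∀ b ∈ E, a * b = b * a := fun a ha b hb => hcm a ha.1 b hb.1
  have hE4 : Nat.card E ≤ 4 := by
    by_contra h
    have h8 : 8 ≤ Nat.card E := by
      obtain ⟨n, hn⟩ := IsPGroup.iff_card.1 (hX.to_le hEX)
      rw [hn] at h ⊢
      have : 3 ≤ n := by
        by_contra hn'
        have : 2 ^ n ≤ 2 ^ 2 := Nat.pow_le_pow_right (by norm_num) (by omega)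
        omega
      calc 8 = 2 ^ 3 := by norm_num
        _ ≤ 2 ^ n := Nat.pow_le_pow_right (by norm_num) this
    exact not_noA hX hEX ⟨⟨fun a b => Subtype.ext (hEc a.1 a.2 b.1 b.2)⟩⟩ h4 h8 hN
  by_cases hsmall : Nat.card E ≤ 2
  · -- then `K` centralizes `X`
    refine absurd ?_ hKnt
    intro k hk
    rw [Subgroup.mem_centralizer_iff]
    have hfixE : ∀ e ∈ E, k * e = e * k := by
      intro e he
      by_cases he1 : e = 1
      · simp [he1]
      have h2 : Nat.card E = 2 := by
        have := (Subgroup.one_lt_card_iff_ne_bot E).2 fun h => he1 (by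
          rw [h, Subgroup.mem_bot] at he; exact he)
        omega
      obtain ⟨v, -, hv⟩ := (Nat.card_eq_two_iff' (1 : E)).1 h2
      have hk' : k * e * k⁻¹ ∈ E := ⟨conj_mem hKX hk he.1, by
        rw [show k * e * k⁻¹ * (k * e * k⁻¹) = k * (e * e) * k⁻¹ by group, he.2]; group⟩
      have e1 := hv ⟨e, he⟩ fun h => he1 (congrArg Subtype.val h)
      have e2 := hv ⟨_, hk'⟩ fun h => he1 (by simpa using congrArg Subtype.val h)
      exact mul_inv_eq_iff_eq_mul.1 (congrArg Subtype.val (e2.trans e1.symm))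
    suffices h : ∀ n : ℕ, ∀ x ∈ X, x ^ (2 ^ n) = 1 → k * x = x * k by
      intro x hx
      obtain ⟨n, hn⟩ := hX ⟨x, hx⟩
      exact (h n x hx (congrArg Subtype.val hn)).symm
    intro n
    induction n with
    | zero => intro x _ h; rw [pow_zero, pow_one] at h; simp [h]
    | succ n ih =>
      intro x hx h
      have h2 := ih (x * x) (mul_mem hx hx) (by rw [← pow_two, ← pow_mul, ← pow_succ']; exact h)
      have hu : ⁅k, x⁆ ∈ E := by
        have hkx := conj_mem hKX hk hx
        rw [commutatorElement_def]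
        refine ⟨mul_mem hkx (inv_mem hx), ?_⟩
        rw [(hcm x⁻¹ (inv_mem hx) _ hkx).mul_mul_mul_comm,
          show k * x * k⁻¹ * (k * x * k⁻¹) = k * (x * x) * k⁻¹ by group, h2]
        group
      exact eq_one_of_step (odd_orderOf hK hk) (hfixE _ hu) ⟨1, by rw [pow_one, pow_two]; exact hu.2⟩
  have hEq : Nat.card E = 4 := by
    obtain ⟨n, hn⟩ := IsPGroup.iff_card.1 (hX.to_le hEX)
    rw [hn] at hE4 hsmall ⊢
    rcases Nat.lt_or_ge n 2 with h | h
    · interval_cases n <;> simp at hsmall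
    · have : n ≤ 2 := (Nat.pow_le_pow_iff_right (by norm_num : 1 < 2)).1 hE4
      rw [show n = 2 by omega]
      norm_num
  by_cases hEX' : E = X
  · exact ⟨hEX' ▸ hEq, fun w hw => (hEX'.symm ▸ hw : w ∈ E).2⟩
  exfalso
  obtain ⟨x, hx, hxE, hx2⟩ := exists_square_mem hX (fun h => hEX' (le_antisymm hEX h))
  set B := Subgroup.closure ((E : Set G) ∪ {x}) with hB
  have hs : ∀ a ∈ (E : Set G) ∪ {x}, a ∈ X := by
    rintro a (ha | ha)
    · exact hEX ha
    · cases ha; exact hx
  have hgc : ∀ a ∈ (E : Set G) ∪ {x}, ∀ b ∈ (E : Set G) ∪ {x}, a * b = b * a :=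
    fun a ha b hb => hcm a (hs a ha) b (hs b hb)
  have hg4 : ∀ a ∈ (E : Set G) ∪ {x}, a ^ 4 = 1 := by
    rintro a (ha | ha)
    · exact h4 a ha
    · cases ha
      rw [show (4 : ℕ) = 2 * 2 from rfl, pow_mul]
      simp only [pow_two]
      exact hx2.2
  have hlt : E < B := lt_of_le_of_ne (fun a ha => Subgroup.subset_closure (Or.inl ha)) fun h =>
    hxE (h.symm ▸ Subgroup.subset_closure (Or.inr rfl))
  have h8 : 2 * Nat.card E ≤ Nat.card (Subgroup.closure ((E : Set G) ∪ {x})) := two_mul_card_le hlt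
  exact not_noA hX ((Subgroup.closure_le _).2 hs) (comm_closure hgc) (pow_four_closure hgc hg4)
    (by omega) hN

/-- **The classification.** -/
theorem classify [Finite G] {K : Subgroup G} (hK : Odd (Nat.card K)) :
    ∀ (n : ℕ) (X : Subgroup G), Nat.card X = n → IsPGroup 2 X → K ≤ Subgroup.normalizer (X : Set G) →
      ¬ K ≤ Subgroup.centralizer (X : Set G) →
      (∀ Y ≤ X, Y ≠ X → K ≤ Subgroup.normalizer (Y : Set G) → NoA Y) →
      Outcome X ∧ (NoA X → IsV X ∨ ∃ z, IsQAt X z) := by
  intro n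
  induction n using Nat.strong_induction_on with
  | _ n ih =>
  intro X hn hX hKX hKnt hmin
  haveI := Fact.mk Nat.prime_two
  have hsub : ∀ Y ≤ X, Y ≠ X → K ≤ Subgroup.normalizer (Y : Set G) →
      ¬ K ≤ Subgroup.centralizer (Y : Set G) → IsV Y ∨ ∃ z, IsQAt Y z := by
    intro Y hY hne hKY hnt
    have hlt : Nat.card Y < n := by
      rw [← hn]
      exact lt_of_le_of_ne (Subgroup.card_le_of_le hY) fun h => hne (Subgroup.eq_of_le_of_card_ge hY h.ge)
    refine ((ih _ hlt Y rfl (hX.to_le hY) hKY hnt fun Y' hY' _ _ => ?_).2) (hmin Y hY hne hKY)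
    exact fun A hA => hmin Y hY hne hKY A (hA.trans hY')
  have hcop : (Nat.card K).Coprime (Nat.card X) := by
    obtain ⟨m, hm⟩ := IsPGroup.iff_card.1 hX
    rw [hm]
    exact (Nat.coprime_two_right.2 hK).pow_right m
  have hsolv : Group.IsSolvable X := by
    haveI : Group.IsNilpotent X := hX.isNilpotent
    infer_instance
  have hsup := CfsgLib.Solvable.commutator_sup_centralizer hKX hcop (Or.inr hsolv)
  have hidem := CfsgLib.Solvable.commutator_commutator_eq hKX hcop (Or.inr hsolv)
  set W := ⁅X, K⁆ with hWdef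
  have hKW : K ≤ Subgroup.normalizer (W : Set G) := CfsgLib.Solvable.le_normalizer_commutator_right X K
  have hWX : W ≤ X := le_sup_left.trans hsup.le
  by_cases hWeq : W = X
  swap
  · -- `X` is `W` extended by a centralizer
    have hWnt : ¬ K ≤ Subgroup.centralizer (W : Set G) := fun h => hKnt (by
      have h1 : ⁅W, K⁆ = ⊥ := Subgroup.commutator_eq_bot_iff_le_centralizer.2 (Subgroup.le_centralizer_iff.1 h)
      rw [hidem] at h1
      rw [h1, bot_sup_eq] at hsup
      rw [Subgroup.le_centralizer_iff]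
      exact hsup.ge.trans inf_le_right)
    set D := X ⊓ Subgroup.centralizer (K : Set G) with hD
    have hXW : X ≤ Subgroup.normalizer (W : Set G) := CfsgLib.Solvable.le_normalizer_commutator_left X K
    have hKD : K ≤ Subgroup.normalizer (D : Set G) := le_normalizer_of_conj fun k hk d hd => by
      rw [Subgroup.mem_centralizer_iff.1 hd.2 k hk, mul_inv_cancel_right]
      exact hd
    have hDW : ¬ D ≤ W := fun h => hWeq (le_antisymm hWX (hsup.ge.trans (sup_le le_rfl h)))
    obtain ⟨d, hdD, hdW, hd2⟩ := exists_square_mem (hX.to_le inf_le_left) hDW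
    have hWd : W ⊔ Subgroup.zpowers d ≤ X := sup_le hWX (Subgroup.zpowers_le.2 hdD.1)
    have hKWd : K ≤ Subgroup.normalizer ((W ⊔ Subgroup.zpowers d : Subgroup G) : Set G) := by
      refine (le_inf hKW ?_).trans (Subgroup.normalizer_inf_normalizer_le_normalizer_sup _ _)
      refine le_trans ?_ (Subgroup.centralizer_le_normalizer _)
      rw [Subgroup.le_centralizer_iff, Subgroup.zpowers_le]
      exact hdD.2
    have hlt : W < W ⊔ Subgroup.zpowers d := lt_of_le_of_ne le_sup_left fun h =>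
      hdW (h.symm ▸ Subgroup.mem_sup_right (Subgroup.mem_zpowers d))
    rcases hsub W hWX hWeq hKW hWnt with hV | ⟨z, hQ⟩
    · have hDc : D ≤ Subgroup.centralizer (W : Set G) :=
        hV.centralized hKW hK hWnt (hX.to_le inf_le_left) (inf_le_left.trans hXW) hKD
      have hdd : d * d = 1 := by
        by_contra hne
        have hU : W ⊓ Subgroup.centralizer (K : Set G) = ⊥ := hV.irreducible hKW hK hWnt
          (lt_of_le_of_ne inf_le_left fun h => hWnt (Subgroup.le_centralizer_iff.1 (h.ge.trans inf_le_right)))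
          (le_normalizer_of_conj fun k hk w hw => by
            rw [Subgroup.mem_centralizer_iff.1 hw.2 k hk, mul_inv_cancel_right]
            exact hw)
        have : d * d ∈ W ⊓ Subgroup.centralizer (K : Set G) := ⟨hd2, mul_mem hdD.2 hdD.2⟩
        rw [hU, Subgroup.mem_bot] at this
        exact hne this
      set B := Subgroup.closure ((W : Set G) ∪ {d}) with hB
      have hBe : B = W ⊔ Subgroup.zpowers d := by
        rw [hB, Subgroup.closure_union, Subgroup.closure_eq, Subgroup.zpowers_eq_closure]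
      have hgc : ∀ a ∈ (W : Set G) ∪ {d}, ∀ b ∈ (W : Set G) ∪ {d}, a * b = b * a := by
        have hWc : ∀ a ∈ W, a * d = d * a := fun a ha => Subgroup.mem_centralizer_iff.1 (hDc hdD) a ha
        rintro a (ha | ha) b (hb | hb)
        · exact congrArg Subtype.val (hV.comm.is_comm.comm ⟨a, ha⟩ ⟨b, hb⟩)
        · cases hb; exact hWc a ha
        · cases ha; exact (hWc b hb).symm
        · cases ha; cases hb; rfl
      have hg4 : ∀ a ∈ (W : Set G) ∪ {d}, a ^ 4 = 1 := by
        have aux : ∀ a : G, a * a = 1 → a ^ 4 = 1 := fun a h => by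
          rw [show (4 : ℕ) = 2 * 2 from rfl, pow_mul]
          simp only [pow_two]
          rw [h, one_mul]
        rintro a (ha | ha)
        · exact aux a (hV.2 a ha)
        · cases ha; exact aux _ hdd
      have h8 : 8 ≤ Nat.card B := by
        rw [hBe]
        have := two_mul_card_le hlt
        rw [hV.1] at this
        omega
      have hBX' : B ≤ X := by rw [hBe]; exact hWd
      have hKB : K ≤ Subgroup.normalizer (B : Set G) := by rw [hBe]; exact hKWd
      have hnot : ¬ NoA X := not_noA hX hBX' (comm_closure hgc) (pow_four_closure hgc hg4) h8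
      refine ⟨Or.inl ?_, fun h => absurd h hnot⟩
      have hBX : B = X := by
        by_contra hne
        exact not_noA (hX.to_le hBX') le_rfl (comm_closure hgc) (pow_four_closure hgc hg4) h8
          (hmin B hBX' hne hKB)
      exact hBX ▸ comm_closure hgc
    · have hmove := hQ.moves_mod_center hKW hK hWnt (hX.to_le inf_le_left) (inf_le_left.trans hXW) hKD
      have hdc : d ∈ Subgroup.centralizer (W : Set G) :=
        hQ.centralized_of_fixed hKW hK hWnt (hmove d hdD)
          (mul_inv_eq_iff_eq_mul.1 (hQ.fix_z (hXW hdD.1))) hdD.2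
      have hd2' : d * d = 1 ∨ d * d = z := by
        by_contra h
        rw [not_or] at h
        obtain ⟨i, hi, j, hj, hi1, hiz, hjn, hgen⟩ := hQ.exists_pair
        by_cases hm : d * d ∈ Subgroup.zpowers i
        · -- the square commutes with `j`
          obtain ⟨m, hm⟩ := hm
          have hjd : j ∉ Subgroup.zpowers (d * d) := fun hj' => hjn
            (Subgroup.zpowers_le.2 (show d * d ∈ Subgroup.zpowers i from ⟨m, hm⟩) hj')
          exact hQ.not_comm hd2 hj h.1 h.2 hjd
            (Subgroup.mem_centralizer_iff.1 (mul_mem hdc hdc) j hj).symm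
        · exact hQ.not_comm hi hd2 hi1 hiz hm (Subgroup.mem_centralizer_iff.1 (mul_mem hdc hdc) i hi)
      have hnot : ∀ Y, Subgroup.zpowers d ≤ Y → W ≤ Y → IsPGroup 2 Y → ¬ NoA Y := by
        intro Y hdY hWY hY
        obtain ⟨i, hi, hi1, hiz⟩ := hQ.exists_ne
        have hic : i * d = d * i := Subgroup.mem_centralizer_iff.1 hdc i hi
        have hg : ∀ a ∈ ({i, d} : Set G), ∀ b ∈ ({i, d} : Set G), a * b = b * a := by
          rintro a (rfl | rfl) b (rfl | rfl)
          exacts [rfl, hic, hic.symm, rfl]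
        have hg4 : ∀ a ∈ ({i, d} : Set G), a ^ 4 = 1 := by
          rintro a (rfl | rfl)
          · exact hQ.pow_four hi
          · rw [show (4 : ℕ) = 2 * 2 from rfl, pow_mul]
            simp only [pow_two]
            rcases hd2' with h | h <;> rw [h]
            · rw [one_mul]
            · exact hQ.2.2.2.1
        refine not_noA hY ((Subgroup.closure_le _).2 ?_) (comm_closure hg) (pow_four_closure hg hg4) ?_
        · rintro a (rfl | rfl)
          exacts [hWY hi, hdY (Subgroup.mem_zpowers _)]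
        · have hlt' : Subgroup.zpowers i < Subgroup.closure ({i, d} : Set G) := by
            refine lt_of_le_of_ne (Subgroup.zpowers_le.2 (Subgroup.subset_closure (Or.inl rfl))) fun h => hdW ?_
            refine Subgroup.zpowers_le.2 hi ?_
            rw [h]; exact Subgroup.subset_closure (Or.inr rfl)
          have := two_mul_card_le hlt'
          rw [hQ.card_zpowers hi hi1 hiz] at this
          omega
      refine ⟨?_, fun h => absurd h (hnot X (Subgroup.zpowers_le.2 hdD.1) hWX hX)⟩
      have hXe : W ⊔ Subgroup.zpowers d = X := by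
        by_contra hne
        exact hnot _ le_sup_right le_sup_left (hX.to_le hWd) (hmin _ hWd hne hKWd)
      refine Or.inr (Or.inr (Or.inr (Or.inl ⟨W, z, hWX, hQ, ?_, ?_⟩)))
      · refine Subgroup.index_eq_two_iff.2 ⟨⟨d, hdD.1⟩, fun b => ?_⟩
        show Xor' ((b : G) * d ∈ W) ((b : G) ∈ W)
        have hb : (b : G) ∈ W ⊔ Subgroup.zpowers d := hXe.symm ▸ b.2
        have hdn : Subgroup.zpowers d ≤ Subgroup.normalizer (W : Set G) :=
          Subgroup.zpowers_le.2 (hXW hdD.1)
        rw [← SetLike.mem_coe, Subgroup.coe_mul_of_right_le_normalizer_left W _ hdn] at hb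
        obtain ⟨w, hw, e, ⟨m, rfl⟩, hbe⟩ := hb
        replace hbe : w * d ^ m = (b : G) := hbe
        have hsq : ∀ k : ℤ, d ^ (2 * k) ∈ W := fun k => by
          rw [zpow_mul, zpow_two]; exact zpow_mem hd2 k
        rcases Int.even_or_odd' m with ⟨k, rfl | rfl⟩
        · refine Or.inr ⟨hbe ▸ mul_mem hw (hsq k), fun h => hdW ?_⟩
          have hb' : (b : G) ∈ W := hbe ▸ mul_mem hw (hsq k)
          exact (W.mul_mem_cancel_left hb').1 h
        · refine Or.inl ⟨?_, fun h => hdW ?_⟩
          · rw [← hbe, mul_assoc, ← zpow_add_one]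
            exact mul_mem hw (by rw [show 2 * k + 1 + 1 = 2 * (k + 1) by ring]; exact hsq _)
          · rw [← hbe, zpow_add_one, ← mul_assoc] at h
            exact (W.mul_mem_cancel_left (mul_mem hw (hsq k))).1 h
      · refine le_antisymm (sup_le hWX inf_le_left) (hXe.ge.trans ?_)
        exact sup_le le_sup_left
          ((Subgroup.zpowers_le.2 (show d ∈ X ⊓ Subgroup.centralizer (W : Set G) from ⟨hdD.1, hdc⟩)).trans
            le_sup_right)
  -- now `X = [X, K]`
  by_cases hab : IsMulCommutative X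
  · exact ⟨Or.inl hab, fun h => Or.inl (abelian_case hX hKX hK hKnt hab h)⟩
  haveI : Nontrivial X := by
    by_contra h
    rw [not_nontrivial_iff_subsingleton] at h
    exact hab ⟨⟨fun a b => Subsingleton.elim _ _⟩⟩
  -- the Frattini subgroup is central
  have hFne : (frattini X).map X.subtype ≠ X := fun h =>
    CfsgLib.PGroup.frattini_ne_top (map_subtype_eq_self _ h)
  have hFle : (frattini X).map X.subtype ≤ X := Subgroup.map_subtype_le _
  have hKF := char_inv hKX (frattini X)
  have hXF : X ≤ Subgroup.normalizer (((frattini X).map X.subtype : Subgroup G) : Set G) :=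
    char_inv Subgroup.le_normalizer _
  have hFc : frattini X ≤ Subgroup.center X := by
    set F := (frattini X).map X.subtype with hF
    refine centralizer_map_le _ ?_
    by_cases hKFc : K ≤ Subgroup.centralizer (F : Set G)
    · have h1 : ⁅⁅K, F⁆, X⁆ = ⊥ := by
        rw [Subgroup.commutator_eq_bot_iff_le_centralizer.2 hKFc, Subgroup.commutator_bot_left]
      have h2 : ⁅⁅F, X⁆, K⁆ = ⊥ := by
        refine le_bot_iff.1 (le_trans (Subgroup.commutator_mono ?_ le_rfl)
          (Subgroup.commutator_eq_bot_iff_le_centralizer.2 (Subgroup.le_centralizer_iff.1 hKFc)).le)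
        rw [Subgroup.commutator_le]
        intro f hf x hx
        rw [commutatorElement_def, show f * x * f⁻¹ * x⁻¹ = f * (x * f⁻¹ * x⁻¹) by group]
        exact mul_mem hf (conj_mem hXF hx (inv_mem hf))
      have h3 := Subgroup.commutator_commutator_eq_bot_of_rotate h1 h2
      rw [← hWdef, hWeq] at h3
      exact Subgroup.commutator_eq_bot_iff_le_centralizer.1 h3
    · rcases hsub F hFle hFne hKF hKFc with hV | ⟨z, hQ⟩
      · exact hV.centralized hKF hK hKFc hX hXF hKX
      · exfalso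
        have hmove := hQ.moves_mod_center hKF hK hKFc hX hXF hKX
        have htop : (Subgroup.centralizer (F : Set G)).subgroupOf X ⊔ frattini X = ⊤ := by
          rw [eq_top_iff]
          intro x _
          obtain ⟨w, hw, hwc⟩ := hQ.mem_mul_centralizer (hmove x x.2)
          obtain ⟨f, hf, rfl⟩ := hw
          rw [sup_comm, show x = f * (f⁻¹ * x) by group]
          refine Subgroup.mul_mem_sup hf ?_
          exact hwc
        have hall : X ≤ Subgroup.centralizer (F : Set G) :=
          Subgroup.subgroupOf_eq_top.1 (frattini_nongenerating htop)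
        exact hQ.not_isMulCommutative
          (Subgroup.le_centralizer_iff_isMulCommutative.1 (hFle.trans hall))
  have hCF : commutator X ≤ frattini X := CfsgLib.PGroup.commutator_le_frattini hX
  have hcz : ∀ x y : X, ⁅x, y⁆ ∈ Subgroup.center X := fun x y =>
    hFc (hCF (by rw [commutator_def]; exact Subgroup.commutator_mem_commutator (Subgroup.mem_top _) (Subgroup.mem_top _)))
  have hsqF : ∀ x : X, x * x ∈ frattini X := fun x => by
    have := CfsgLib.PGroup.pow_mem_frattini hX x
    rwa [pow_two] at this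
  -- the derived subgroup has exponent two
  have hC2 : ∀ c ∈ commutator X, c * c = 1 := by
    have hgen : ∀ x y : X, ⁅x, y⁆ * ⁅x, y⁆ = 1 := fun x y => by
      have h1 : (x * x) * y * (x * x)⁻¹ * y⁻¹ = 1 := by
        rw [← Subgroup.mem_center_iff.1 (hFc (hsqF x)) y]; group
      have h2 := Subgroup.mem_center_iff.1 (hcz x y) x
      calc ⁅x, y⁆ * ⁅x, y⁆ = (⁅x, y⁆ * x) * y * x⁻¹ * y⁻¹ := by
            conv_lhs => arg 2; rw [commutatorElement_def]
            group
        _ = (x * ⁅x, y⁆) * y * x⁻¹ * y⁻¹ := by rw [h2]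
        _ = (x * x) * y * (x * x)⁻¹ * y⁻¹ := by rw [commutatorElement_def]; group
        _ = 1 := h1
    intro c hc
    rw [commutator_def, Subgroup.commutator_def] at hc
    induction hc using Subgroup.closure_induction with
    | mem c hc => obtain ⟨x, -, y, -, rfl⟩ := hc; exact hgen x y
    | one => exact one_mul 1
    | mul a b ha hb iha ihb =>
      have ha' : a ∈ Subgroup.center X := by
        rw [← Subgroup.commutator_def, ← commutator_def] at ha; exact hFc (hCF ha)
      rw [show a * b * (a * b) = a * (b * a) * b by group, Subgroup.mem_center_iff.1 ha' b,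
        show a * (a * b) * b = (a * a) * (b * b) by group, iha, ihb, one_mul]
    | inv a _ ih => rw [← mul_inv_rev, ih, inv_one]
  have hCne : commutator X ≠ ⊥ := fun h => hab ⟨⟨fun a b => commutatorElement_eq_one_iff_mul_comm.1
    (Subgroup.mem_bot.1 (h ▸ (by
      rw [commutator_def]
      exact Subgroup.commutator_mem_commutator (Subgroup.mem_top a) (Subgroup.mem_top b) :
      ⁅a, b⁆ ∈ commutator X)))⟩⟩
  -- the centre
  have hZle : (Subgroup.center X).map X.subtype ≤ X := Subgroup.map_subtype_le _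
  have hKZ := char_inv hKX (Subgroup.center X)
  have hZne : (Subgroup.center X).map X.subtype ≠ X := fun h => hab ⟨⟨fun a b =>
    Subgroup.mem_center_iff.1 ((map_subtype_eq_self _ h).symm ▸ Subgroup.mem_top b) a⟩⟩
  have hZN := hmin _ hZle hZne hKZ
  have hZcomm : IsMulCommutative ((Subgroup.center X).map X.subtype) :=
    ⟨⟨fun a b => Subtype.ext (by
      obtain ⟨a', ha', hae⟩ := a.2
      obtain ⟨b', -, hbe⟩ := b.2
      show (a : G) * b = b * a
      rw [← hae, ← hbe, ← map_mul, ← map_mul, Subgroup.mem_center_iff.1 ha' b'])⟩⟩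
  have hZC : Subgroup.center X ≤ commutator X := by
    by_cases hKZc : K ≤ Subgroup.centralizer (((Subgroup.center X).map X.subtype : Subgroup G) : Set G)
    · intro c hc
      refine fixed_le_commutator hX hKX hK (hWdef ▸ hWeq) c ?_
      exact Subgroup.le_centralizer_iff.1 hKZc (Subgroup.mem_map_of_mem _ hc)
    · rcases hsub _ hZle hZne hKZ hKZc with hV | ⟨z, hQ⟩
      swap
      · exact absurd hZcomm hQ.not_isMulCommutative
      have h1 : (commutator X).map X.subtype = (Subgroup.center X).map X.subtype := by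
        by_contra hne
        refine hCne ((Subgroup.map_eq_bot_iff_of_injective _ X.subtype_injective).1
          (hV.irreducible hKZ hK hKZc (lt_of_le_of_ne (Subgroup.map_mono (hCF.trans hFc)) hne)
            (char_inv hKX _)))
      exact (Subgroup.map_injective X.subtype_injective h1).ge
  have hFZ : frattini X = Subgroup.center X := le_antisymm hFc (hZC.trans hCF)
  have hCZ : commutator X = Subgroup.center X := le_antisymm (hCF.trans hFc) hZC
  have hspecial : Cfsg.IsSpecial 2 X := ⟨hX, hFZ, hCZ⟩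
  have hz4 : ∀ c ∈ Subgroup.center X, c ^ 4 = 1 := fun c hc => by
    rw [show (4 : ℕ) = 2 * 2 from rfl, pow_mul]
    simp only [pow_two]
    rw [hC2 c (hZC hc), one_mul]
  have hx4 : ∀ x : X, x ^ 4 = 1 := fun x => by
    rw [show (4 : ℕ) = 2 * 2 from rfl, pow_mul, pow_two x, pow_two,
      hC2 _ (hZC (hFc (hsqF x)))]
  have hbound : Nat.card (Subgroup.center X) ≤ 4 := by
    by_contra h
    have h8 : 8 ≤ Nat.card ((Subgroup.center X).map X.subtype) := by
      rw [Subgroup.card_map_of_injective X.subtype_injective]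
      obtain ⟨m, hm⟩ := IsPGroup.iff_card.1 (hX.to_subgroup (Subgroup.center X))
      rw [hm] at h ⊢
      have : 3 ≤ m := by
        by_contra hm'
        have : 2 ^ m ≤ 2 ^ 2 := Nat.pow_le_pow_right (by norm_num) (by omega)
        omega
      calc 8 = 2 ^ 3 := by norm_num
        _ ≤ 2 ^ m := Nat.pow_le_pow_right (by norm_num) this
    refine not_noA (hX.to_le hZle) le_rfl hZcomm ?_ h8 hZN
    rintro b ⟨c, hc, rfl⟩
    rw [← map_pow, hz4 c hc, map_one]
  -- abelian subgroups of exponent four containing the centre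
  have hlift : ∀ s : Set X, (∀ a ∈ s, ∀ b ∈ s, a * b = b * a) → 8 ≤ Nat.card (Subgroup.closure s) →
      ¬ NoA X := by
    intro s hs h8
    refine not_noA hX (Subgroup.map_subtype_le (Subgroup.closure s)) ?_ ?_
      (by rwa [Subgroup.card_map_of_injective X.subtype_injective])
    · refine ⟨⟨fun a b => Subtype.ext ?_⟩⟩
      obtain ⟨a', ha', hae⟩ := a.2
      obtain ⟨b', hb', hbe⟩ := b.2
      show (a : G) * b = b * a
      rw [← hae, ← hbe, ← map_mul, ← map_mul,
        show a' * b' = b' * a' from congrArg Subtype.val ((comm_closure hs).is_comm.comm ⟨a', ha'⟩ ⟨b', hb'⟩)]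
    · rintro b ⟨c, -, rfl⟩
      rw [← map_pow, hx4, map_one]
  obtain ⟨m, hm⟩ := IsPGroup.iff_card.1 (hX.to_subgroup (Subgroup.center X))
  have hm1 : 1 ≤ m := by
    by_contra h
    have h1 : Subgroup.center X = ⊥ := Subgroup.card_eq_one.1 (by rw [hm, show m = 0 by omega, pow_zero])
    exact hCne (hCZ.trans h1)
  have hm2 : m ≤ 2 := by
    rw [hm] at hbound
    exact (Nat.pow_le_pow_iff_right (by norm_num : 1 < 2)).1 (show 2 ^ m ≤ 2 ^ 2 from hbound)
  obtain ⟨x, hx⟩ : ∃ x : X, x ∉ Subgroup.center X := by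
    by_contra h
    push Not at h
    exact hab ⟨⟨fun a b => Subgroup.mem_center_iff.1 (h b) a⟩⟩
  set Zx : Set X := (Subgroup.center X : Set X) ∪ {x} with hZx
  have hZxc : ∀ a ∈ Zx, ∀ b ∈ Zx, a * b = b * a := by
    rintro a (ha | ha) b hb
    · exact (Subgroup.mem_center_iff.1 ha b).symm
    · cases ha
      rcases hb with hb | hb
      · exact Subgroup.mem_center_iff.1 hb x
      · cases hb; rfl
  have hZxlt : Subgroup.center X < Subgroup.closure Zx :=
    lt_of_le_of_ne (fun a ha => Subgroup.subset_closure (Or.inl ha)) fun h =>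
      hx (h.symm ▸ Subgroup.subset_closure (Or.inr rfl))
  have hZx2 := two_mul_card_le hZxlt
  rcases (show m = 1 ∨ m = 2 by omega) with rfl | rfl
  swap
  · -- special with centre of order four
    rw [show 2 ^ 2 = 4 by norm_num] at hm
    refine ⟨Or.inr (Or.inr (Or.inr (Or.inr ⟨hspecial, hm⟩))), fun h => absurd h ?_⟩
    exact hlift Zx hZxc (by omega)
  rw [pow_one] at hm
  have hES : Cfsg.IsExtraspecial 2 X := ⟨hspecial, hm⟩
  obtain ⟨e, he⟩ := IsPGroup.iff_card.1 hX
  have hzz : ∀ a b : X, ⁅a, b⁆ = 1 ∨ (⁅a, b⁆ ≠ 1 ∧ ∀ c ∈ Subgroup.center X, c ≠ 1 → c = ⁅a, b⁆) := by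
    intro a b
    by_cases h : ⁅a, b⁆ = 1
    · exact Or.inl h
    refine Or.inr ⟨h, fun c hc hc1 => ?_⟩
    obtain ⟨v, -, hv⟩ := (Nat.card_eq_two_iff' (1 : Subgroup.center X)).1 hm
    exact congrArg Subtype.val ((hv ⟨c, hc⟩ fun e => hc1 (congrArg Subtype.val e)).trans
      (hv ⟨_, hcz a b⟩ fun e => h (congrArg Subtype.val e)).symm)
  by_cases hbig : 32 ≤ Nat.card X
  · refine ⟨Or.inr (Or.inr (Or.inl ⟨hES, hbig⟩)), fun h => absurd h ?_⟩
    -- an element commuting with `x` outside `⟨x, Z⟩`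
    set A := Subgroup.closure Zx with hA
    have hA4 : Nat.card A ≤ 4 ∨ 8 ≤ Nat.card A := by
      obtain ⟨i, hi⟩ := IsPGroup.iff_card.1 (hX.to_subgroup A)
      rw [hi]
      rcases Nat.lt_or_ge i 3 with h | h
      · left; calc 2 ^ i ≤ 2 ^ 2 := Nat.pow_le_pow_right (by norm_num) (by omega)
          _ = 4 := by norm_num
      · right; calc 8 = 2 ^ 3 := by norm_num
          _ ≤ 2 ^ i := Nat.pow_le_pow_right (by norm_num) h
    rcases hA4 with hA4 | hA8
    swap
    · exact hlift Zx hZxc hA8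
    set f := CfsgLib.Extraspecial.commCenterHom hES x
    have hker : Nat.card X ≤ 2 * Nat.card f.ker := by
      have h1 := f.ker.card_mul_index
      rw [Subgroup.index_ker] at h1
      have h2 : Nat.card f.range ≤ 2 := hm ▸ Subgroup.card_le_card_group f.range
      calc Nat.card X = Nat.card f.ker * Nat.card f.range := h1.symm
        _ ≤ Nat.card f.ker * 2 := Nat.mul_le_mul le_rfl h2
        _ = _ := mul_comm _ _
    obtain ⟨y, hy, hyA⟩ : ∃ y, y ∈ f.ker ∧ y ∉ A := by
      by_contra h
      push Not at h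
      have := Subgroup.card_le_of_le (show f.ker ≤ A from h)
      omega
    have hxy : x * y = y * x := commutatorElement_eq_one_iff_mul_comm.1 (congrArg Subtype.val hy)
    have hc' : ∀ a ∈ Zx ∪ {y}, ∀ b ∈ Zx ∪ {y}, a * b = b * a := by
      rintro a (ha | ha) b (hb | hb)
      · exact hZxc a ha b hb
      · cases hb
        rcases ha with ha | ha
        · exact (Subgroup.mem_center_iff.1 ha y).symm
        · cases ha; exact hxy
      · cases ha
        rcases hb with hb | hb
        · exact Subgroup.mem_center_iff.1 hb y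
        · cases hb; exact hxy.symm
      · cases ha; cases hb; rfl
    refine hlift _ hc' ?_
    have hlt : A < Subgroup.closure (Zx ∪ {y}) :=
      lt_of_le_of_ne (Subgroup.closure_mono Set.subset_union_left) fun h =>
        hyA (h.symm ▸ Subgroup.subset_closure (Or.inr rfl))
    have h2 := two_mul_card_le hlt
    have h4 : 2 * Nat.card (Subgroup.center X) ≤ Nat.card A := hZx2
    omega
  -- order eight: a quaternion group
  have h8 : Nat.card X = 8 := by
    obtain ⟨i, hi1, hi⟩ := CfsgLib.Extraspecial.exists_card hES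
    rw [add_comm] at hi
    have : 2 * i + 1 < 5 := by
      by_contra h5
      exact hbig (by rw [hi]; calc 32 = 2 ^ 5 := by norm_num
        _ ≤ 2 ^ (2 * i + 1) := Nat.pow_le_pow_right (by norm_num) (by omega))
    rw [hi, show 2 * i + 1 = 3 by omega]
    norm_num
  obtain ⟨z, hz1, hzu⟩ := (Nat.card_eq_two_iff' (1 : Subgroup.center X)).1 hm
  have hzv : ∀ c ∈ Subgroup.center X, c = 1 ∨ c = z.1 := fun c hc => by
    by_cases h : c = 1
    · exact Or.inl h
    · exact Or.inr (congrArg Subtype.val (hzu ⟨c, hc⟩ fun e => h (congrArg Subtype.val e)))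
  have hz2 : z.1 * z.1 = 1 := hC2 _ (hZC z.2)
  have hQ : IsQAt X ((z.1 : X) : G) := by
    refine ⟨h8, z.1.2, fun h => hz1 (Subtype.ext (Subtype.ext h)), congrArg Subtype.val hz2,
      fun w hw => congrArg Subtype.val (Subgroup.mem_center_iff.1 z.2 ⟨w, hw⟩), ?_⟩
    by_contra hbad
    push Not at hbad
    obtain ⟨w₀, hw₀, hw1, hwz, hwsq⟩ := hbad
    set w : X := ⟨w₀, hw₀⟩ with hw
    have hww : w * w = 1 := (hzv _ (hFc (hsqF w))).resolve_right fun h => hwsq (congrArg Subtype.val h)
    have hwc : w ∉ Subgroup.center X := fun h => (hzv w h).elim (fun h => hw1 (congrArg Subtype.val h))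
      (fun h => hwz (congrArg Subtype.val h))
    set U := Subgroup.closure ((Subgroup.center X : Set X) ∪ {w}) with hU
    have hcardU : ∀ (V : Subgroup X), Subgroup.center X < V → IsMulCommutative V → Nat.card V = 4 := by
      intro V hV hVc
      have h2 := two_mul_card_le hV
      have hne : V ≠ ⊤ := fun h => hab ⟨⟨fun a b => congrArg Subtype.val
        (hVc.is_comm.comm ⟨a, h.symm ▸ Subgroup.mem_top a⟩ ⟨b, h.symm ▸ Subgroup.mem_top b⟩)⟩⟩
      have h3 := two_mul_card_le (lt_top_iff_ne_top.2 hne)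
      rw [Subgroup.card_top, h8] at h3
      omega
    have hUc : IsMulCommutative U := comm_closure (by
      rintro a (ha | ha) b hb
      · exact (Subgroup.mem_center_iff.1 ha b).symm
      · cases ha
        rcases hb with hb | hb
        · exact Subgroup.mem_center_iff.1 hb w
        · cases hb; rfl)
    have hUlt : Subgroup.center X < U :=
      lt_of_le_of_ne (fun a ha => Subgroup.subset_closure (Or.inl ha)) fun h =>
        hwc (h.symm ▸ Subgroup.subset_closure (Or.inr rfl))
    have hKc : K ≤ Subgroup.centralizer (((Subgroup.center X).map X.subtype : Subgroup G) : Set G) := by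
      intro k hk
      rw [Subgroup.mem_centralizer_iff]
      rintro _ ⟨c, hc, rfl⟩
      obtain ⟨c', hc', hce⟩ := conj_mem hKZ hk (Subgroup.mem_map_of_mem X.subtype hc)
      rcases hzv c hc with h | h <;> rcases hzv c' hc' with h' | h' <;> rw [h, h'] at hce <;> rw [h]
      · simp
      · simp
      · exfalso
        refine hz1 (Subtype.ext (Subtype.ext ?_))
        simpa using hce.symm
      · exact mul_inv_eq_iff_eq_mul.1 hce.symm |>.symm
    -- no subgroup of index two is invariant
    have hno : ∀ V : Subgroup X, Subgroup.center X < V → IsMulCommutative V →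
        K ≤ Subgroup.normalizer ((V.map X.subtype : Subgroup G) : Set G) → False := by
      intro V hV hVc hKV
      have h4 := hcardU V hV hVc
      refine hKnt (le_centralizer_of_index_two hX (Subgroup.map_subtype_le V) hKX hK ?_ ?_)
      · refine le_centralizer_of_index_two (hX.to_le (Subgroup.map_subtype_le V)) (Subgroup.map_mono hV.le)
          hKV hK hKc ?_
        rw [Subgroup.card_map_of_injective X.subtype_injective, Subgroup.card_map_of_injective X.subtype_injective,
          h4, hm]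
      · rw [Subgroup.card_map_of_injective X.subtype_injective, h4, h8]
    -- a second involution outside `U`
    obtain ⟨w', hw'2, hw'U⟩ : ∃ w' : X, w' * w' = 1 ∧ w' ∉ U := by
      by_contra h
      push Not at h
      refine hno U hUlt hUc (le_normalizer_of_conj fun k hk a ha => ?_)
      obtain ⟨b, hb, rfl⟩ := ha
      refine Subgroup.mem_map.2 ⟨⟨k * b * k⁻¹, conj_mem hKX hk b.2⟩, h _ ?_, rfl⟩
      have hb2 : b * b = 1 := by
        have hgen : ∀ a ∈ ((Subgroup.center X : Set X) ∪ {w}), a * a = 1 := by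
          rintro a (ha | ha)
          · exact hC2 a (hZC ha)
          · cases ha; exact hww
        clear h
        induction hb using Subgroup.closure_induction with
        | mem a ha => exact hgen a ha
        | one => exact one_mul 1
        | mul a c ha hc iha ihc =>
          rw [(show Commute c a from congrArg Subtype.val (hUc.is_comm.comm ⟨c, hc⟩ ⟨a, ha⟩)).mul_mul_mul_comm,
            iha, ihc, one_mul]
        | inv a _ iha => rw [← mul_inv_rev, iha, inv_one]
      refine Subtype.ext ?_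
      show k * b * k⁻¹ * (k * b * k⁻¹) = 1
      rw [show k * (b : G) * k⁻¹ * (k * b * k⁻¹) = k * ((b * b : X) : G) * k⁻¹ by
        rw [Subgroup.coe_mul]; group, hb2]
      simp
    -- `i` of order four, inverted by `w`
    set i := w * w' with hi
    have hwi : w * i * w⁻¹ = i⁻¹ := by
      rw [hi, inv_eq_of_mul_eq_one_right hww, mul_inv_rev, inv_eq_of_mul_eq_one_right hww,
        inv_eq_of_mul_eq_one_right hw'2, show w * (w * w') * w = (w * w) * w' * w by group, hww, one_mul]
    have hi2 : i * i = z.1 := by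
      refine (hzv _ (hFc (hsqF i))).resolve_left fun h => ?_
      have hc : w * w' = w' * w := by
        have := inv_eq_of_mul_eq_one_right (show i * i = 1 from h)
        rw [hi, mul_inv_rev, inv_eq_of_mul_eq_one_right hww, inv_eq_of_mul_eq_one_right hw'2] at this
        exact this.symm
      have hlt : U < Subgroup.closure (((Subgroup.center X : Set X) ∪ {w}) ∪ {w'}) :=
        lt_of_le_of_ne (Subgroup.closure_mono Set.subset_union_left) fun h =>
          hw'U (h.symm ▸ Subgroup.subset_closure (Or.inr rfl))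
      have hcc : IsMulCommutative (Subgroup.closure (((Subgroup.center X : Set X) ∪ {w}) ∪ {w'})) :=
        comm_closure (by
          rintro a ((ha | ha) | ha) b hb
          · exact (Subgroup.mem_center_iff.1 ha b).symm
          · cases ha
            rcases hb with (hb | hb) | hb
            · exact Subgroup.mem_center_iff.1 hb w
            · cases hb; rfl
            · cases hb; exact hc
          · cases ha
            rcases hb with (hb | hb) | hb
            · exact Subgroup.mem_center_iff.1 hb w'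
            · cases hb; exact hc.symm
            · cases hb; rfl)
      have h4 := hcardU _ (hUlt.trans hlt) hcc
      have h2 := two_mul_card_le hlt
      rw [hcardU U hUlt hUc] at h2
      omega
    have hzi : z.1 ∈ Subgroup.zpowers i := hi2 ▸ mul_mem (Subgroup.mem_zpowers i) (Subgroup.mem_zpowers i)
    have hI : Subgroup.center X < Subgroup.zpowers i := by
      refine lt_of_le_of_ne (fun c hc => (hzv c hc).elim (fun h => h ▸ one_mem _) (fun h => h ▸ hzi)) fun h => ?_
      rcases hzv i (h.symm ▸ Subgroup.mem_zpowers i) with h' | h'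
      · rw [h', one_mul] at hi2; exact hz1 (Subtype.ext hi2.symm)
      · rw [h', hz2] at hi2; exact hz1 (Subtype.ext hi2.symm)
    have hIc : IsMulCommutative (Subgroup.zpowers i) := inferInstance
    have hI4 := hcardU _ hI hIc
    have hwI : w ∉ Subgroup.zpowers i := by
      rintro ⟨m, hm'⟩
      replace hm' : i ^ m = w := hm'
      have hwi' : w * i * w⁻¹ = i := by
        rw [← hm']; group
      rw [hwi', eq_inv_iff_mul_eq_one, hi2] at hwi
      exact hz1 (Subtype.ext hwi)
    refine hno _ hI hIc (le_normalizer_of_conj fun k hk a ha => ?_)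
    obtain ⟨b, hb, rfl⟩ := ha
    refine Subgroup.mem_map.2 ⟨⟨k * b * k⁻¹, conj_mem hKX hk b.2⟩, ?_, rfl⟩
    set b' : X := ⟨k * b * k⁻¹, conj_mem hKX hk b.2⟩ with hb'
    by_cases hb2 : b * b = 1
    · -- `b` is central
      have hbc : b ∈ Subgroup.center X := by
        obtain ⟨m, rfl⟩ := hb
        rcases Int.even_or_odd' m with ⟨j, rfl | rfl⟩
        · show i ^ (2 * j) ∈ _
          rw [zpow_mul, zpow_two, hi2]
          exact zpow_mem z.2 j
        · exfalso
          have hb3 : i ^ (2 * j + 1) * i ^ (2 * j + 1) = z.1 := by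
            rw [← zpow_add, show 2 * j + 1 + (2 * j + 1) = 2 * (2 * j + 1) by ring, zpow_mul, zpow_two, hi2,
              zpow_add_one, zpow_mul, zpow_two, hz2, one_zpow, one_mul]
          exact hz1 (Subtype.ext (hb3.symm.trans hb2))
      have hcg := Subgroup.mem_centralizer_iff.1 (hKc hk) _ (Subgroup.mem_map_of_mem X.subtype hbc)
      have e : b' = b := Subtype.ext (by
        show k * (b : G) * k⁻¹ = b
        exact mul_inv_eq_iff_eq_mul.2 hcg.symm)
      rw [e]; exact hb
    · by_contra hnI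
      refine hb2 (Subtype.ext ?_)
      have hidx : (Subgroup.zpowers i).index = 2 := by
        have := (Subgroup.zpowers i).card_mul_index
        rw [hI4, h8] at this
        omega
      have hwb : w * b' ∈ Subgroup.zpowers i :=
        (Subgroup.mul_mem_iff_of_index_two hidx).2 ⟨fun h => absurd h hwI, fun h => absurd h hnI⟩
      obtain ⟨m, hm'⟩ := hwb
      replace hm' : i ^ m = w * b' := hm'
      have hbb : b' * b' = 1 := by
        have h1 : b' = w * i ^ m := by
          rw [hm', ← mul_assoc, hww, one_mul]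
        have h2 : w * i ^ m * w⁻¹ = (i ^ m)⁻¹ := by
          rw [← conj_zpow, hwi, inv_zpow]
        rw [h1, show w * i ^ m * (w * i ^ m) = (w * i ^ m * w⁻¹) * (w * w) * i ^ m by group, h2, hww,
          mul_one, inv_mul_cancel]
      have h3 : k * ((b : G) * b) * k⁻¹ = 1 := by
        have h4 : ((b' * b' : X) : G) = 1 := by rw [hbb]; rfl
        rw [← h4, hb', Subgroup.coe_mul]
        group
      show ((b : G) * b) = 1
      calc (b : G) * b = k⁻¹ * (k * ((b : G) * b) * k⁻¹) * k := by group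
        _ = 1 := by rw [h3]; group
  exact ⟨Or.inr (Or.inl ⟨_, hQ⟩), fun _ => Or.inr ⟨_, hQ⟩⟩

end CfsgLib.FGStruct.NoAbelianEight
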