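import Mathlib
import Cfsg.Prelude
import Cfsg.Agent.Lib.FGStruct.SixteenPoints
import Cfsg.Agent.Lib.FGStruct.NoAbelianEight

/-!
Elements of odd order groups moving a four-group inside a normal elementary abelian 2-subgroup.
-/

set_option autoImplicit false
set_option linter.style.haveILetI false

open scoped commutatorElement
open Subgroup

namespace CfsgLib.FGStruct.FourMover

variable {S : Type*} [Group S] [Finite S] {M : Subgroup S} [hMn : M.Normal]

/-- `[x, M]`. -/
abbrev mv (M : Subgroup S) (x : S) : Subgroup S := ⁅zpowers x, M⁆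

/-- `M` is elementary abelian. -/
structure El (M : Subgroup S) : Prop where
  comm : ∀ a ∈ M, ∀ b ∈ M, a * b = b * a
  sq : ∀ a ∈ M, a * a = 1

omit [Finite S] in
theorem comm_conj_mem {g m : S} (hm : m ∈ M) : ⁅g, m⁆ ∈ M := by
  rw [commutatorElement_def]; exact mul_mem (hMn.conj_mem m hm g) (inv_mem hm)

/-- Generators decide where `[G, M]` lies. -/
theorem commutator_le_of_gen {X : Set S} {W : Subgroup S} (hWM : W ≤ M)
    (h : ∀ x ∈ X, ∀ m ∈ M, ⁅x, m⁆ ∈ W) : ⁅closure X, M⁆ ≤ W := by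
  let K : Subgroup S :=
    { carrier := {g | ∀ m ∈ M, ⁅g, m⁆ ∈ W}
      one_mem' := fun m _ => by rw [commutatorElement_one_left]; exact one_mem W
      mul_mem' := fun {a b} ha hb m hm => by
        have e : ⁅a * b, m⁆ = ⁅a, ⁅b, m⁆⁆ * ⁅b, m⁆ * ⁅a, m⁆ := by simp only [commutatorElement_def]; group
        rw [e]
        exact mul_mem (mul_mem (ha _ (hWM (hb m hm))) (hb m hm)) (ha m hm)
      inv_mem' := fun {a} ha m hm => by
        have h1 := inv_mem (ha _ (hMn.conj_mem m hm a⁻¹))
        convert h1 using 1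
        simp only [commutatorElement_def]; group }
  rw [Subgroup.commutator_le]
  intro g hg m hm
  exact (closure_le K).2 h hg m hm

theorem mem_mv_iff (hel : El M) {x y : S} : y ∈ mv M x ↔ ∃ m ∈ M, ⁅x, m⁆ = y := by
  let f : M →* S :=
    { toFun := fun m => ⁅x, (m : S)⁆
      map_one' := by rw [OneMemClass.coe_one, commutatorElement_one_right]
      map_mul' := fun a b => by
        have e : ⁅x, ((a * b : M) : S)⁆ = ⁅x, (a : S)⁆ * ((a : S) * ⁅x, (b : S)⁆ * (a : S)⁻¹) := by
          simp only [commutatorElement_def, Subgroup.coe_mul]; group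
        show _ = ⁅x, (a : S)⁆ * ⁅x, (b : S)⁆
        rw [e, hel.comm _ a.2 _ (comm_conj_mem b.2), mul_inv_cancel_right] }
  constructor
  · intro hy
    have hle : mv M x ≤ f.range := by
      show ⁅zpowers x, M⁆ ≤ _
      rw [zpowers_eq_closure]
      refine commutator_le_of_gen (by rintro _ ⟨m, rfl⟩; exact comm_conj_mem m.2) ?_
      intro z hz m hm
      obtain rfl : z = x := hz
      exact ⟨⟨m, hm⟩, rfl⟩
    obtain ⟨m, hm⟩ := hle hy
    exact ⟨m, m.2, hm⟩
  · rintro ⟨m, hm, rfl⟩
    exact commutator_mem_commutator (mem_zpowers x) hm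

omit [Finite S] in
theorem mv_le (x : S) : mv M x ≤ M := commutator_le_right _ _

/-- The movers of four-groups. -/
structure Good (H M : Subgroup S) (x : S) : Prop where
  mem : x ∈ H
  cube : x ^ 3 ∈ centralizer (M : Set S)
  card : Nat.card (mv M x) = 4

theorem conj_cube {x : S} (h : x ^ 3 ∈ centralizer (M : Set S)) {m : S} (hm : m ∈ M) :
    x * (x * (x * m * x⁻¹) * x⁻¹) * x⁻¹ = m := by
  calc x * (x * (x * m * x⁻¹) * x⁻¹) * x⁻¹ = x ^ 3 * m * (x ^ 3)⁻¹ := by rw [pow_three']; group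
    _ = m := by rw [← mem_centralizer_iff.1 h m hm, mul_inv_cancel_right]

/-- No fixed point in `[x, M]`. -/
theorem fixed_eq_one (hel : El M) {x : S} (hx3 : x ^ 3 ∈ centralizer (M : Set S)) {w : S} (hw : w ∈ mv M x)
    (hfx : x * w = w * x) : w = 1 := by
  obtain ⟨m, hm, rfl⟩ := (mem_mv_iff hel).1 hw
  set w := ⁅x, m⁆ with hw'
  have hwM : w ∈ M := comm_conj_mem hm
  have h1 : x * m * x⁻¹ = w * m := by rw [hw', commutatorElement_def]; group
  have hc : x * w * x⁻¹ = w := by rw [hfx, mul_inv_cancel_right]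
  have h2 : x * (w * m) * x⁻¹ = w * (w * m) := by
    calc x * (w * m) * x⁻¹ = (x * w * x⁻¹) * (x * m * x⁻¹) := by group
      _ = _ := by rw [hc, h1]
  have h3 := conj_cube hx3 hm
  rw [h1, h2, ← mul_assoc w w m, hel.sq w hwM, one_mul, h1] at h3
  exact mul_right_cancel (h3.trans (one_mul m).symm)

/-- `x` acts on `[x, M]` with all elements as commutators. -/
theorem exists_inner (hel : El M) {x : S} (hx3 : x ^ 3 ∈ centralizer (M : Set S)) {w : S} (hw : w ∈ mv M x) :
    ∃ v ∈ mv M x, ⁅x, v⁆ = w := by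
  let f : mv M x → mv M x := fun v => ⟨⁅x, (v : S)⁆, commutator_mem_commutator (mem_zpowers x) (mv_le x v.2)⟩
  have hinj : Function.Injective f := by
    intro a b hab
    have h : ⁅x, (a : S)⁆ = ⁅x, (b : S)⁆ := congrArg Subtype.val hab
    have hab' : (b : S)⁻¹ * a ∈ mv M x := mul_mem (inv_mem b.2) a.2
    refine Subtype.ext (inv_mul_eq_one.1 (fixed_eq_one hel hx3 hab' ?_)).symm
    have ha : x * a * x⁻¹ = ⁅x, (a : S)⁆ * a := by rw [commutatorElement_def]; group
    have hb : x * b * x⁻¹ = ⁅x, (b : S)⁆ * b := by rw [commutatorElement_def]; group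
    calc x * ((b : S)⁻¹ * a) = (x * b * x⁻¹)⁻¹ * (x * a * x⁻¹) * x := by group
      _ = (b : S)⁻¹ * a * x := by rw [ha, hb, h]; group
  obtain ⟨v, hv⟩ := (Finite.injective_iff_surjective.1 hinj) ⟨w, hw⟩
  exact ⟨v, v.2, congrArg Subtype.val hv⟩

theorem conj_mem_of_comm {x : S} {W : Subgroup S} (hW : W ≤ M) (hV : mv M x ≤ W) {w : S} (hw : w ∈ W) :
    x * w * x⁻¹ ∈ W := by
  rw [show x * w * x⁻¹ = ⁅x, w⁆ * w by rw [commutatorElement_def]; group]
  exact mul_mem (hV (commutator_mem_commutator (mem_zpowers x) (hW hw))) hw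

theorem conj_mv (g x : S) {w : S} (hw : w ∈ mv M x) : g * w * g⁻¹ ∈ mv M (g * x * g⁻¹) := by
  have h : (mv M x).map (MulAut.conj g).toMonoidHom ≤ mv M (g * x * g⁻¹) := by
    rw [Subgroup.map_commutator, MonoidHom.map_zpowers]
    refine Subgroup.commutator_mono le_rfl ?_
    rintro _ ⟨m, hm, rfl⟩
    exact hMn.conj_mem m hm g
  exact h ⟨w, hw, rfl⟩

variable {H : Subgroup S}

theorem Good.conj {x : S} (hx : Good H M x) {g : S} (hg : g ∈ H) : Good H M (g * x * g⁻¹) := by
  refine ⟨mul_mem (mul_mem hg hx.mem) (inv_mem hg), ?_, ?_⟩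
  · rw [conj_pow]
    exact (inferInstance : (centralizer (M : Set S)).Normal).conj_mem _ hx.cube g
  · rw [← hx.card]
    refine Nat.card_congr (Equiv.symm
      { toFun := fun w => ⟨g * w * g⁻¹, conj_mv g x w.2⟩
        invFun := fun w => ⟨g⁻¹ * w * g, by
          have := conj_mv g⁻¹ _ w.2
          simpa [mul_assoc] using this⟩
        left_inv := fun w => Subtype.ext (by simp [mul_assoc])
        right_inv := fun w => Subtype.ext (by simp [mul_assoc]) })

/-- Meeting four-groups. -/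
def Meet (M : Subgroup S) (x y : S) : Prop := ∃ w, w ∈ mv M x ∧ w ∈ mv M y ∧ w ≠ 1

theorem Meet.symm {x y : S} (h : Meet M x y) : Meet M y x := by
  obtain ⟨w, a, b, c⟩ := h; exact ⟨w, b, a, c⟩

theorem Meet.conj {x y : S} (h : Meet M x y) (g : S) : Meet M (g * x * g⁻¹) (g * y * g⁻¹) := by
  obtain ⟨w, a, b, c⟩ := h
  exact ⟨g * w * g⁻¹, conj_mv g x a, conj_mv g y b, fun e => c (conj_eq_one_iff.1 e)⟩

theorem Good.refl {x : S} (hx : Good H M x) : Meet M x x := by
  haveI : Nontrivial (mv M x) := Finite.one_lt_card_iff_nontrivial.1 (by rw [hx.card]; norm_num)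
  obtain ⟨w, hw⟩ := exists_ne (1 : mv M x)
  exact ⟨w, w.2, w.2, fun e => hw (Subtype.ext e)⟩

theorem card_sup (hel : El M) {A B : Subgroup S} (hA : A ≤ M) (hB : B ≤ M) (h : ∀ w ∈ A, w ∈ B → w = 1) :
    Nat.card (A ⊔ B : Subgroup S) = Nat.card A * Nat.card B := by
  refine CfsgLib.Solvable.card_sup_of_disjoint (le_trans ?_ (centralizer_le_normalizer _)) ?_
  · exact fun b hb => mem_centralizer_iff.2 fun a ha => hel.comm a (hA ha) b (hB hb)
  · rw [disjoint_iff, eq_bot_iff]
    exact fun w hw => mem_bot.2 (h w hw.1 hw.2)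

/-- Coprime action: the fixed points in `[G, M]` are trivial. -/
theorem fix_trivial (hel : El M) (G : Subgroup S) (hodd : Odd (Nat.card G)) {u : S} (hu : u ∈ ⁅G, M⁆)
    (hfx : ∀ g ∈ G, g * u = u * g) : u = 1 := by
  classical
  haveI := Fintype.ofFinite G
  letI : CommGroup M := { (inferInstance : Group M) with mul_comm := fun a b => Subtype.ext (hel.comm _ a.2 _ b.2) }
  let cj : S → (M →* M) := fun g =>
    ((MulAut.conj g).toMonoidHom.comp M.subtype).codRestrict M fun x => hMn.conj_mem _ x.2 g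
  let P : M →* M := ∏ k : G, cj k
  have happ : ∀ m, P m = ∏ k : G, cj k m := fun m => by simp [P, MonoidHom.finsetProd_apply]
  have hinv : ∀ (g : G) m, P (cj g m) = P m := by
    intro g m
    rw [happ, happ]
    refine Fintype.prod_equiv (Equiv.mulRight g) _ _ fun k => Subtype.ext ?_
    show (k : S) * ((g : S) * (m : S) * (g : S)⁻¹) * (k : S)⁻¹ = ((k * g : G) : S) * m * ((k * g : G) : S)⁻¹
    rw [Subgroup.coe_mul]; group
  have hle : ⁅G, M⁆ ≤ P.ker.map M.subtype := by
    rw [Subgroup.commutator_le]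
    intro g hg m hm
    refine ⟨cj g ⟨m, hm⟩ * (⟨m, hm⟩ : M)⁻¹, ?_, by show g * m * g⁻¹ * m⁻¹ = _; rw [commutatorElement_def]⟩
    rw [SetLike.mem_coe, MonoidHom.mem_ker, map_mul, map_inv, hinv ⟨g, hg⟩, mul_inv_cancel]
  obtain ⟨v, hv, rfl⟩ := hle hu
  rw [SetLike.mem_coe, MonoidHom.mem_ker, happ] at hv
  have hconst : ∀ k : G, cj k v = v := fun k => Subtype.ext (by
    show (k : S) * v * (k : S)⁻¹ = v
    rw [show (k : S) * v = v * k from hfx k k.2, mul_inv_cancel_right])
  simp only [hconst, Finset.prod_const, Finset.card_univ] at hv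
  rw [← Nat.card_eq_fintype_card] at hv
  obtain ⟨k, hk⟩ := hodd
  have : v = 1 := by
    rw [hk, pow_succ, pow_mul, show v ^ 2 = 1 by rw [pow_two]; exact Subtype.ext (hel.sq _ v.2), one_pow, one_mul] at hv
    exact hv
  rw [this, map_one]

theorem commute_closure {X : Set S} {u : S} (h : ∀ x ∈ X, x * u = u * x) : ∀ g ∈ closure X, g * u = u * g :=
  fun g hg => by
    have h1 : closure X ≤ centralizer ({u} : Set S) :=
      (closure_le _).2 fun x hx => mem_centralizer_singleton_iff.2 (h x hx)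
    exact mem_centralizer_singleton_iff.1 (h1 hg)

variable [Group.IsSolvable S]

/-- On a space of order sixteen the generators commute. -/
theorem commute_sixteen (hel : El M) (hH : Odd (Nat.card H)) {X : Set S} (hX : X ⊆ (H : Set S)) {x : S}
    (hxX : x ∈ X) (hx : Good H M x) {U : Subgroup S} (hU : ⁅closure X, M⁆ = U) (hU16 : Nat.card U = 16) :
    ∀ a ∈ closure X, ∀ b ∈ closure X, ∀ u ∈ U, a * (b * u * b⁻¹) * a⁻¹ = b * (a * u * a⁻¹) * b⁻¹ := by
  set G := closure X
  have hGH : G ≤ H := (closure_le _).2 hX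
  have hUM : U ≤ M := hU ▸ commutator_le_right _ _
  have hxG : x ∈ G := subset_closure hxX
  have hGU : G ≤ normalizer (U : Set S) := hU ▸ CfsgLib.Solvable.le_normalizer_commutator_left G M
  have hodd : Odd (Nat.card G) := Odd.of_dvd_nat hH (card_dvd_of_le hGH)
  let φ : G →* MulAut U := U.normalizerMonoidHom.comp (inclusion hGU)
  have hφ : ∀ (g : G) (u : U), ((φ g u : U) : S) = g * u * (g : S)⁻¹ := fun g u => rfl
  haveI : Group.IsSolvable φ.range := Group.isSolvable_of_surjective φ.rangeRestrict_surjective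
  have hrodd : Odd (Nat.card φ.range) := Odd.of_dvd_nat hodd (card_range_dvd φ)
  have hfixU : ∀ u : U, (∀ g ∈ φ.range, g u = u) → u = 1 := by
    intro u h
    refine Subtype.ext (fix_trivial hel G hodd (hU.symm ▸ u.2) fun g hg => ?_)
    have := congrArg Subtype.val (h _ ⟨⟨g, hg⟩, rfl⟩)
    rw [hφ] at this
    exact mul_inv_eq_iff_eq_mul.1 this
  have hx4 : Nat.card {u : U // φ ⟨x, hxG⟩ u = u} = 4 := by
    let f : U →* S :=
      { toFun := fun u => ⁅x, (u : S)⁆
        map_one' := by rw [OneMemClass.coe_one, commutatorElement_one_right]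
        map_mul' := fun a b => by
          have e : ⁅x, ((a * b : U) : S)⁆ = ⁅x, (a : S)⁆ * ((a : S) * ⁅x, (b : S)⁆ * (a : S)⁻¹) := by
            simp only [commutatorElement_def, Subgroup.coe_mul]; group
          show _ = ⁅x, (a : S)⁆ * ⁅x, (b : S)⁆
          rw [e, hel.comm _ (hUM a.2) _ (comm_conj_mem (hUM b.2)), mul_inv_cancel_right] }
    have hrange : f.range = mv M x := by
      refine le_antisymm (by rintro _ ⟨u, rfl⟩; exact commutator_mem_commutator (mem_zpowers x) (hUM u.2)) fun w hw => ?_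
      obtain ⟨v, hv, rfl⟩ := exists_inner hel hx.cube hw
      exact ⟨⟨v, hU ▸ commutator_mono (zpowers_le.2 hxG) le_rfl hv⟩, rfl⟩
    have h1 := f.ker.card_mul_index
    rw [index_ker, hrange, hx.card, hU16] at h1
    have h2 : Nat.card {u : U // φ ⟨x, hxG⟩ u = u} = Nat.card f.ker := Nat.card_congr (Equiv.subtypeEquivRight fun u => by
      rw [MonoidHom.mem_ker]
      show _ ↔ ⁅x, (u : S)⁆ = 1
      rw [commutatorElement_eq_one_iff_mul_comm, Subtype.ext_iff, hφ]
      exact mul_inv_eq_iff_eq_mul)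
    omega
  have key := Sixteen.commute_all (U := U) hU16 (fun u => Subtype.ext (hel.sq _ (hUM u.2))) φ.range hrodd hfixU
    (x := φ ⟨x, hxG⟩) ⟨_, rfl⟩ hx4
  intro a ha b hb u hu
  have h := congrArg Subtype.val (MulEquiv.congr_fun (key _ ⟨⟨a, ha⟩, rfl⟩ _ ⟨⟨b, hb⟩, rfl⟩) ⟨u, hu⟩)
  rwa [MulAut.mul_apply, MulAut.mul_apply, hφ, hφ, hφ, hφ] at h

/-- Commuting movers. -/
theorem eq_or_disjoint_of_commute (hel : El M) {x y : S} (hx : Good H M x) (hy : Good H M y) {U : Subgroup S}
    (hyU : mv M y ≤ U)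
    (hcom : ∀ u ∈ U, x * (y * u * y⁻¹) * x⁻¹ = y * (x * u * x⁻¹) * y⁻¹) :
    mv M x = mv M y ∨ (¬ Meet M x y ∧ ∀ v ∈ mv M y, x * v = v * x) := by
  have hinv : ∀ v ∈ mv M y, x * v * x⁻¹ ∈ mv M y := by
    intro v hv
    obtain ⟨v0, hv0, rfl⟩ := exists_inner hel hy.cube hv
    have h := hcom v0 (hyU hv0)
    refine (mem_mv_iff hel).2 ⟨x * v0 * x⁻¹, hMn.conj_mem _ (mv_le y hv0) x, ?_⟩
    simp only [commutatorElement_def]
    rw [← h]; group
  have hcomm : ∀ v ∈ mv M y, ⁅x, v⁆ ∈ mv M y := fun v hv => by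
    rw [commutatorElement_def]; exact mul_mem (hinv v hv) (inv_mem hv)
  by_cases hm : Meet M x y
  · left
    obtain ⟨w, hwx, hwy, hw1⟩ := hm
    set D := mv M x ⊓ mv M y
    have hD : D = mv M x := by
      obtain ⟨k, hk2, hk⟩ := (Nat.dvd_prime_pow Nat.prime_two).1
        (show Nat.card D ∣ 2 ^ 2 by rw [show (2:ℕ) ^ 2 = 4 by norm_num, ← hx.card]; exact card_dvd_of_le inf_le_left)
      refine eq_of_le_of_card_ge inf_le_left ?_
      rw [hx.card, hk]
      interval_cases k
      · exact absurd (mem_bot.1 ((card_eq_one.1 (show Nat.card D = 1 by rw [hk]; rfl)) ▸ (⟨hwx, hwy⟩ : w ∈ D))) hw1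
      · exfalso
        have hwD : w ∈ D := ⟨hwx, hwy⟩
        have hxw : x * w * x⁻¹ ∈ D := ⟨conj_mem_of_comm (mv_le x) le_rfl hwx, hinv w hwy⟩
        refine hw1 (fixed_eq_one hel hx.cube hwx (mul_inv_eq_iff_eq_mul.1 ?_))
        have hu := (Nat.card_eq_two_iff' (1 : D)).1 (hk.trans (pow_one 2))
        exact congrArg Subtype.val (hu.unique (y₁ := ⟨_, hxw⟩) (y₂ := ⟨w, hwD⟩)
          (fun e => hw1 (conj_eq_one_iff.1 (congrArg Subtype.val e))) (fun e => hw1 (congrArg Subtype.val e)))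
      · norm_num
    exact eq_of_le_of_card_ge (hD ▸ inf_le_right) (by rw [hx.card, hy.card])
  · refine Or.inr ⟨hm, fun v hv => commutatorElement_eq_one_iff_mul_comm.1 ?_⟩
    by_contra h1
    exact hm ⟨_, commutator_mem_commutator (mem_zpowers x) (mv_le y hv), hcomm v hv, h1⟩

theorem comm_pair (hel : El M) {x y : S} :
    ⁅closure ({x, y} : Set S), M⁆ = mv M x ⊔ mv M y := by
  refine le_antisymm (commutator_le_of_gen (sup_le (mv_le x) (mv_le y)) ?_) (sup_le ?_ ?_)
  · rintro z (rfl | rfl) m hm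
    · exact mem_sup_left (commutator_mem_commutator (mem_zpowers _) hm)
    · exact mem_sup_right (commutator_mem_commutator (mem_zpowers _) hm)
  · exact commutator_mono (zpowers_le.2 (subset_closure (by simp))) le_rfl
  · exact commutator_mono (zpowers_le.2 (subset_closure (by simp))) le_rfl

/-- Disjoint four-groups are centralized. -/
theorem commute_of_not_meet (hel : El M) (hH : Odd (Nat.card H)) {x y : S} (hx : Good H M x) (hy : Good H M y)
    (hm : ¬ Meet M x y) : ∀ v ∈ mv M y, x * v = v * x := by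
  have hd : ∀ w ∈ mv M x, w ∈ mv M y → w = 1 := fun w a b => by_contra fun c => hm ⟨w, a, b, c⟩
  have h16 : Nat.card (mv M x ⊔ mv M y : Subgroup S) = 16 := by
    rw [card_sup hel (mv_le x) (mv_le y) hd, hx.card, hy.card]
  have hcom := commute_sixteen hel hH (X := ({x, y} : Set S)) (by rintro z (rfl | rfl); exacts [hx.mem, hy.mem])
    (by simp) hx (comm_pair hel) h16
  rcases eq_or_disjoint_of_commute hel hx hy le_sup_right (fun u hu => hcom x (subset_closure (by simp)) y
      (subset_closure (by simp)) u hu) with h | h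
  · exfalso
    obtain ⟨w, hw1, -, hw3⟩ := hx.refl
    exact hm ⟨w, hw1, h ▸ hw1, hw3⟩
  · exact h.2

omit [Group.IsSolvable S] in
theorem card_inter {x y : S} (hx : Good H M x) (hy : Good H M y) (hm : Meet M x y) (hne : mv M x ≠ mv M y) :
    Nat.card (mv M x ⊓ mv M y : Subgroup S) = 2 := by
  obtain ⟨k, hk2, hk⟩ := (Nat.dvd_prime_pow Nat.prime_two).1
    (show Nat.card (mv M x ⊓ mv M y : Subgroup S) ∣ 2 ^ 2 by
      rw [show (2:ℕ) ^ 2 = 4 by norm_num, ← hx.card]; exact card_dvd_of_le inf_le_left)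
  obtain ⟨w, a, b, c⟩ := hm
  interval_cases k
  · exact absurd (mem_bot.1 ((card_eq_one.1 (by rw [hk]; rfl)) ▸ (⟨a, b⟩ : w ∈ mv M x ⊓ mv M y))) c
  · rw [hk, pow_one]
  · exfalso
    refine hne ?_
    have h1 : mv M x ⊓ mv M y = mv M x := eq_of_le_of_card_ge inf_le_left (by rw [hk, hx.card]; norm_num)
    exact eq_of_le_of_card_ge (h1 ▸ inf_le_right) (by rw [hx.card, hy.card])

theorem card_eight (hel : El M) {x y : S} (hx : Good H M x) (hy : Good H M y) (hm : Meet M x y)
    (hne : mv M x ≠ mv M y) : Nat.card (mv M x ⊔ mv M y : Subgroup S) = 8 := by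
  set A := mv M x
  set B := mv M y
  set D := A ⊓ B with hDdef
  have hD := card_inter hx hy hm hne
  obtain ⟨b, hbB, hbA⟩ : ∃ b ∈ B, b ∉ A := by
    by_contra h
    push Not at h
    exact hne (eq_of_le_of_card_ge (fun w hw => h w hw) (by rw [hx.card, hy.card])).symm
  have hb2 : b * b = 1 := hel.sq b (mv_le y hbB)
  have hb : Nat.card (zpowers b) = 2 := by
    rw [Nat.card_zpowers]
    exact orderOf_eq_prime (by rw [pow_two]; exact hb2) fun h => hbA (h ▸ one_mem A)
  have hpow : ∀ w ∈ zpowers b, w = 1 ∨ w = b := by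
    intro w hw
    obtain ⟨n, rfl⟩ := (mem_powers_iff_mem_zpowers.2 hw : w ∈ Submonoid.powers b)
    show b ^ n = 1 ∨ b ^ n = b
    rcases Nat.even_or_odd n with ⟨k, hk⟩ | ⟨k, hk⟩
    · exact Or.inl (by rw [hk, ← two_mul, pow_mul, pow_two, hb2, one_pow])
    · exact Or.inr (by rw [hk, pow_succ, pow_mul, pow_two, hb2, one_pow, one_mul])
  have hd : ∀ w ∈ A, w ∈ zpowers b → w = 1 := fun w hw hw' => (hpow w hw').elim id fun e => absurd (e ▸ hw) hbA
  have hle : zpowers b ≤ B := zpowers_le.2 hbB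
  have h8 : Nat.card (A ⊔ zpowers b : Subgroup S) = 8 := by
    rw [card_sup hel (mv_le x) (hle.trans (mv_le y)) hd, hx.card, hb]
  have hB : B = D ⊔ zpowers b := by
    refine (eq_of_le_of_card_ge (sup_le inf_le_right hle) ?_).symm
    rw [card_sup hel (inf_le_left.trans (mv_le x)) (hle.trans (mv_le y)) (fun w hw hw' => hd w hw.1 hw'), hD, hb, hy.card]
  rw [hB, ← sup_assoc, sup_eq_left.2 (inf_le_left : D ≤ A), h8]

/-- All four-groups meeting a given one lie in one eight-group. -/
theorem le_sup_of_meet (hel : El M) (hH : Odd (Nat.card H)) {x y z : S} (hx : Good H M x) (hy : Good H M y)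
    (hz : Good H M z) (hxy : Meet M x y) (hne : mv M x ≠ mv M y) (hxz : Meet M x z) :
    mv M z ≤ mv M x ⊔ mv M y := by
  by_contra hle
  set U := mv M x ⊔ mv M y with hUdef
  have h8 := card_eight hel hx hy hxy hne
  have hUM : U ≤ M := sup_le (mv_le x) (mv_le y)
  obtain ⟨c, hcz, hcU⟩ := SetLike.not_le_iff_exists.1 hle
  have hc2 : Nat.card (zpowers c) = 2 := by
    rw [Nat.card_zpowers]
    exact orderOf_eq_prime (by rw [pow_two]; exact hel.sq c (mv_le z hcz)) fun h => hcU (h ▸ one_mem U)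
  have hd : ∀ w ∈ U, w ∈ zpowers c → w = 1 := by
    intro w hw hw'
    by_contra h1
    have he : zpowers w = zpowers c := eq_of_le_of_card_ge (zpowers_le.2 hw') (by
      rw [hc2, Nat.card_zpowers]
      have := mt orderOf_eq_one_iff.1 h1
      have := orderOf_pos w
      omega)
    exact hcU ((zpowers_le.2 hw) (he ▸ mem_zpowers c))
  obtain ⟨w, hwx, hwz, hw1⟩ := hxz
  have hzle : mv M z ≤ U ⊔ zpowers c := by
    have hd' : ∀ v ∈ zpowers w, v ∈ zpowers c → v = 1 := fun v hv hv' =>
      hd v (zpowers_le.2 (mem_sup_left hwx) hv) hv'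
    have he : zpowers w ⊔ zpowers c = mv M z := by
      refine eq_of_le_of_card_ge (sup_le (zpowers_le.2 hwz) (zpowers_le.2 hcz)) ?_
      rw [card_sup hel (zpowers_le.2 (mv_le z hwz)) (zpowers_le.2 (mv_le z hcz)) hd', hc2, hz.card, Nat.card_zpowers]
      have := mt orderOf_eq_one_iff.1 hw1
      have := orderOf_pos w
      omega
    rw [← he]
    exact sup_le_sup_right (zpowers_le.2 (mem_sup_left hwx)) _
  have hU16 : Nat.card (U ⊔ zpowers c : Subgroup S) = 16 := by
    rw [card_sup hel hUM (zpowers_le.2 (mv_le z hcz)) hd, h8, hc2]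
  have hG : ⁅closure ({x, y, z} : Set S), M⁆ = U ⊔ zpowers c := by
    refine le_antisymm (commutator_le_of_gen (sup_le hUM (zpowers_le.2 (mv_le z hcz))) ?_) (sup_le (sup_le ?_ ?_) ?_)
    · rintro t (rfl | rfl | rfl) m hm
      · exact mem_sup_left (mem_sup_left (commutator_mem_commutator (mem_zpowers _) hm))
      · exact mem_sup_left (mem_sup_right (commutator_mem_commutator (mem_zpowers _) hm))
      · exact hzle (commutator_mem_commutator (mem_zpowers _) hm)
    · exact commutator_mono (zpowers_le.2 (subset_closure (by simp))) le_rfl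
    · exact commutator_mono (zpowers_le.2 (subset_closure (by simp))) le_rfl
    · exact (zpowers_le.2 hcz).trans (commutator_mono (zpowers_le.2 (subset_closure (by simp))) le_rfl)
  have hcom := commute_sixteen hel hH (X := ({x, y, z} : Set S))
    (by rintro t (rfl | rfl | rfl); exacts [hx.mem, hy.mem, hz.mem]) (by simp) hx hG hU16
  rcases eq_or_disjoint_of_commute hel hx hy (le_sup_right.trans le_sup_left) (fun u hu => hcom x (subset_closure (by simp)) y
      (subset_closure (by simp)) u hu) with h | h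
  · exact hne h
  · exact h.1 hxy

theorem Meet.trans (hel : El M) (hH : Odd (Nat.card H)) {x y z : S} (hx : Good H M x) (hy : Good H M y)
    (hz : Good H M z) (hxy : Meet M x y) (hxz : Meet M x z) : Meet M y z := by
  by_cases hne : mv M x = mv M y
  · obtain ⟨w, a, b, c⟩ := hxz
    exact ⟨w, hne ▸ a, b, c⟩
  have hle := le_sup_of_meet hel hH hx hy hz hxy hne hxz
  have h8 := card_eight hel hx hy hxy hne
  by_contra hm
  have hd : ∀ w ∈ mv M y, w ∈ mv M z → w = 1 := fun w a b => by_contra fun c => hm ⟨w, a, b, c⟩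
  have h := card_le_of_le (show mv M y ⊔ mv M z ≤ mv M x ⊔ mv M y from sup_le le_sup_right hle)
  rw [card_sup hel (mv_le y) (mv_le z) hd, hy.card, hz.card, h8] at h
  norm_num at h

/-- The block of a four-group. -/
def block (H M : Subgroup S) (x : S) : Subgroup S :=
  sSup {V | ∃ y, Good H M y ∧ Meet M x y ∧ V = mv M y}

omit [Finite S] hMn [Group.IsSolvable S] in
theorem block_le_iff {x : S} {T : Subgroup S} :
    block H M x ≤ T ↔ ∀ y, Good H M y → Meet M x y → mv M y ≤ T := by
  rw [block, sSup_le_iff]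
  exact ⟨fun h y a b => h _ ⟨y, a, b, rfl⟩, fun h V hV => by obtain ⟨y, a, b, rfl⟩ := hV; exact h y a b⟩

theorem le_block {x : S} (hx : Good H M x) : mv M x ≤ block H M x :=
  le_sSup ⟨x, hx, hx.refl, rfl⟩

theorem block_eq (hel : El M) (hH : Odd (Nat.card H)) {x y : S} (hx : Good H M x) (hy : Good H M y)
    (h : Meet M x y) : block H M x = block H M y :=
  le_antisymm (block_le_iff.2 fun z hz hm => le_sSup ⟨z, hz, Meet.trans hel hH hx hy hz h hm, rfl⟩)
    (block_le_iff.2 fun z hz hm => le_sSup ⟨z, hz, Meet.trans hel hH hy hx hz h.symm hm, rfl⟩)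

theorem block_card (hel : El M) (hH : Odd (Nat.card H)) {x : S} (hx : Good H M x) :
    Nat.card (block H M x) = 4 ∨ Nat.card (block H M x) = 8 := by
  by_cases hall : ∀ y, Good H M y → Meet M x y → mv M x = mv M y
  · left
    rw [le_antisymm (block_le_iff.2 fun y a b => (hall y a b).ge) (le_block hx)]
    exact hx.card
  · right
    push Not at hall
    obtain ⟨y, hy, hm, hne⟩ := hall
    rw [le_antisymm (block_le_iff.2 fun z hz hmz => le_sup_of_meet hel hH hx hy hz hm hne hmz)
      (sup_le (le_block hx) (le_sSup ⟨y, hy, hm, rfl⟩))]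
    exact card_eight hel hx hy hm hne

theorem block_conj {x g : S} (hg : g ∈ H) {w : S} (hw : w ∈ block H M x) : g * w * g⁻¹ ∈ block H M (g * x * g⁻¹) := by
  have h : block H M x ≤ (block H M (g * x * g⁻¹)).comap (MulAut.conj g).toMonoidHom :=
    block_le_iff.2 fun y hy hm v hv => (le_sSup ⟨_, hy.conj hg, hm.conj g, rfl⟩ : mv M (g * y * g⁻¹) ≤ block H M (g * x * g⁻¹)) (conj_mv g y hv)
  exact h hw

omit [Group.IsSolvable S] in
/-- An elementary abelian group normalizing a group of order four or eight nearly centralizes it. -/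
theorem card_le_mul_centralizer (hel : El M) {W : Subgroup S} (hWM : W ≤ M) (hW : Nat.card W = 4 ∨ Nat.card W = 8)
    {p : ℕ} [hp : Fact p.Prime] (hp2 : p ≠ 2) {A : Subgroup S} (hA : IsPGroup p A)
    (hAW : A ≤ normalizer (W : Set S)) :
    Nat.card A ≤ p * Nat.card (A ⊓ centralizer (W : Set S) : Subgroup S) := by
  haveI : Fact (Nat.Prime 2) := ⟨Nat.prime_two⟩
  let φ : A →* MulAut W := W.normalizerMonoidHom.comp (inclusion hAW)
  have hdvd : Nat.card (MulAut W) ∣ 168 := by
    have hc : ∀ a b : W, a * b = b * a := fun a b => Subtype.ext (hel.comm _ (hWM a.2) _ (hWM b.2))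
    have he : ∀ a : W, a ^ 2 = 1 := fun a => Subtype.ext (by rw [Subgroup.coe_pow, pow_two]; exact hel.sq _ (hWM a.2))
    rcases hW with h | h
    · refine (Sixteen.card_mulAut_dvd (p := 2) (n := 2) (by rw [h]; norm_num) hc he).trans ?_
      norm_num [Finset.prod_range_succ]
    · refine (Sixteen.card_mulAut_dvd (p := 2) (n := 3) (by rw [h]; norm_num) hc he).trans ?_
      norm_num [Finset.prod_range_succ]
  obtain ⟨k, hk⟩ := IsPGroup.iff_card.1 (hA.to_quotient φ.ker)
  have hkd : p ^ k ∣ 168 := by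
    rw [← hk]
    exact dvd_trans (by rw [← Nat.card_congr (QuotientGroup.quotientKerEquivRange φ).toEquiv.symm]; exact card_subgroup_dvd_card φ.range) hdvd
  have hk1 : k ≤ 1 := by
    by_contra h
    have h2 : p ^ 2 ∣ 8 * 21 := (pow_dvd_pow p (show 2 ≤ k by omega)).trans hkd
    have h3 : p ^ 2 ∣ 21 := by
      refine Nat.Coprime.dvd_of_dvd_mul_left ?_ h2
      rw [show (8 : ℕ) = 2 ^ 3 by norm_num]
      exact ((Nat.coprime_primes hp.out Nat.prime_two).2 hp2).pow 2 3
    have h4 : p ^ 2 ≤ 21 := Nat.le_of_dvd (by norm_num) h3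
    have h5 : p ≤ 4 := by nlinarith
    have h6 := hp.out.two_le
    interval_cases p <;> norm_num at h3
  have hker : φ.ker.map A.subtype ≤ A ⊓ centralizer (W : Set S) := by
    rintro _ ⟨a, ha, rfl⟩
    refine ⟨a.2, mem_centralizer_iff.2 fun w hw => ?_⟩
    have h := congrArg (fun f : MulAut W => ((f ⟨w, hw⟩ : W) : S)) (MonoidHom.mem_ker.1 ha)
    change (a : S) * w * (a : S)⁻¹ = w at h
    exact (mul_inv_eq_iff_eq_mul.1 h).symm
  rw [card_eq_card_quotient_mul_card_subgroup φ.ker, hk]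
  refine Nat.mul_le_mul ((Nat.pow_le_pow_right hp.out.pos hk1).trans_eq (pow_one p)) ?_
  rw [← card_map_of_injective A.subtype_injective]
  exact card_le_of_le hker

end CfsgLib.FGStruct.FourMover
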