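import Cfsg.Agent.Lib.FGStruct.FreeModuleField

/-!
A finite group `H` acting fixed-point-freely on a finite solvable group `Q`, compatibly on a module without nonzero
`Q`-fixed vector, `|Q|` invertible: the module is free for `H`.
-/

set_option autoImplicit false

namespace CfsgLib.FGStruct.FreeModule

open scoped commutatorElement

open Module

universe uk uv

variable {k : Type uk} [Field k] {H : Type*} [Group H] [Finite H]

/-- A fixed-point-free action of an element maps no element of `Q` to a kernel-translate of itself. -/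
theorem fpf_subtype {Q : Type*} [Group Q] (act : H →* MulAut Q) (D : Subgroup Q)
    (hD : ∀ h, ∀ q ∈ D, act h q ∈ D) :
    ∃ actD : H →* MulAut D, ∀ h (q : D), (actD h q : Q) = act h q := by
  refine ⟨{ toFun := fun h =>
              { toFun := fun q => ⟨act h q, hD h q q.2⟩
                invFun := fun q => ⟨act h⁻¹ q, hD h⁻¹ q q.2⟩
                left_inv := fun q => Subtype.ext (show act h⁻¹ (act h q.1) = q.1 by
                  rw [← MulAut.mul_apply, ← map_mul, inv_mul_cancel, map_one, MulAut.one_apply])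
                right_inv := fun q => Subtype.ext (show act h (act h⁻¹ q.1) = q.1 by
                  rw [← MulAut.mul_apply, ← map_mul, mul_inv_cancel, map_one, MulAut.one_apply])
                map_mul' := fun q r => Subtype.ext (map_mul (act h) q.1 r.1) }
            map_one' := MulEquiv.ext fun q => Subtype.ext (by simp)
            map_mul' := fun g h => MulEquiv.ext fun q => Subtype.ext (by simp) }, fun h q => rfl⟩

/-- The case of commuting operators. -/
theorem free_of_commute {Q : Type*} [Group Q] [Finite Q] (act : H →* MulAut Q)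
    (hQ : (Nat.card Q : k) ≠ 0) (hfpf : ∀ h, h ≠ 1 → ∀ q, act h q = q → q = 1) :
    ∀ (n : ℕ) (V : Type uv) [AddCommGroup V] [Module k V] [FiniteDimensional k V],
      finrank k V = n →
      ∀ (σ : H →* Module.End k V) (τ : Q →* Module.End k V),
        (∀ h q, σ h * τ q = τ (act h q) * σ h) → (∀ q q', τ q * τ q' = τ q' * τ q) →
        (∀ v, (∀ q, τ q v = v) → v = 0) → FreeRep σ := by
  classical
  intro n
  induction n using Nat.strong_induction_on with
  | _ n ih =>
  intro V _ _ _ hn σ τ hcompat hcomm hfix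
  rcases subsingleton_or_nontrivial V with hV | hV
  · exact freeRep_of_subsingleton σ
  cases nonempty_fintype H
  set Φ := MonoidAlgebra.lift k (Module.End k V) Q τ with hΦ
  -- a minimal idempotent
  have hex : ∃ d, ∃ X, Φ X * Φ X = Φ X ∧ Φ X ≠ 0 ∧ finrank k (LinearMap.range (Φ X)) = d :=
    ⟨_, 1, by rw [map_one, one_mul], by rw [map_one]; exact one_ne_zero, rfl⟩
  obtain ⟨X, hidem, hne, hdim⟩ := Nat.find_spec hex
  set e := Φ X with he
  have hmin : ∀ Y, Φ Y * Φ Y = Φ Y → Φ Y ≠ 0 → e * Φ Y = Φ Y → Φ Y = e := by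
    intro Y hY hY0 heY
    have hle : LinearMap.range (Φ Y) ≤ LinearMap.range e := by
      rintro _ ⟨w, rfl⟩
      exact ⟨Φ Y w, by rw [← Module.End.mul_apply, heY]⟩
    have heq : LinearMap.range (Φ Y) = LinearMap.range e :=
      Submodule.eq_of_le_of_finrank_le hle (by
        rw [hdim]; exact Nat.find_min' hex ⟨Y, hY, hY0, rfl⟩)
    have h1 : Φ Y * e = e := LinearMap.ext fun v => by
      obtain ⟨w, hw⟩ : e v ∈ LinearMap.range (Φ Y) := heq ▸ LinearMap.mem_range_self e v
      rw [Module.End.mul_apply, ← hw, ← Module.End.mul_apply, hY]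
    rw [← h1, he, commute_lift_lift τ hcomm Y X, ← he, heY]
  -- its conjugates
  let ej : H → Module.End k V := fun h => σ h * e * σ h⁻¹
  have hmulconj : ∀ (h : H) (a b : Module.End k V),
      (σ h * a * σ h⁻¹) * (σ h * b * σ h⁻¹) = σ h * (a * b) * σ h⁻¹ := by
    intro h a b
    have h2 : (σ h * a * σ h⁻¹) * (σ h * b * σ h⁻¹) = σ h * a * (σ h⁻¹ * σ h) * b * σ h⁻¹ := by
      noncomm_ring
    rw [h2, map_inv_mul_self]; noncomm_ring
  have hej : ∀ h, ∃ Y, Φ Y = ej h := by
    intro h
    obtain ⟨Y, hY⟩ := conj_lift σ τ act hcompat h X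
    exact ⟨Y, by show Φ Y = σ h * e * σ h⁻¹; rw [hY, mul_assoc, map_mul_inv_self, mul_one]⟩
  have hejidem : ∀ h, ej h * ej h = ej h := fun h => by
    show (σ h * e * σ h⁻¹) * (σ h * e * σ h⁻¹) = σ h * e * σ h⁻¹
    rw [hmulconj, hidem]
  have hdich : ∀ h, e * ej h = 0 ∨ ej h = e := by
    intro h
    by_cases h0 : e * ej h = 0
    · exact Or.inl h0
    right
    have hprod : ∀ g, e * ej g ≠ 0 → e * ej g = e := by
      intro g hg
      obtain ⟨Y, hY⟩ := hej g
      have hc : e * ej g = ej g * e := by rw [← hY, he]; exact commute_lift_lift τ hcomm X Y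
      have h2 : Φ (X * Y) = e * ej g := by rw [map_mul, hY]
      have h3 := hmin (X * Y) (by
        rw [h2]
        calc e * ej g * (e * ej g) = e * (ej g * e) * ej g := by noncomm_ring
          _ = (e * e) * (ej g * ej g) := by rw [← hc]; noncomm_ring
          _ = e * ej g := by rw [hidem, hejidem])
        (by rwa [h2]) (by rw [h2, ← mul_assoc, hidem])
      rwa [h2] at h3
    have hback : σ h * (e * ej h⁻¹) * σ h⁻¹ = ej h * e := by
      show _ = (σ h * e * σ h⁻¹) * e
      rw [show ej h⁻¹ = σ h⁻¹ * e * σ h by simp [ej]]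
      calc σ h * (e * (σ h⁻¹ * e * σ h)) * σ h⁻¹
          = (σ h * e * σ h⁻¹) * e * (σ h * σ h⁻¹) := by noncomm_ring
        _ = _ := by rw [map_mul_inv_self, mul_one]
    obtain ⟨Y, hY⟩ := hej h
    have hc : e * ej h = ej h * e := by rw [← hY, he]; exact commute_lift_lift τ hcomm X Y
    have h4 : e * ej h⁻¹ ≠ 0 := fun h5 => h0 (by rw [hc, ← hback, h5, mul_zero, zero_mul])
    have h6 := hprod h⁻¹ h4
    rw [h6] at hback
    calc ej h = σ h * e * σ h⁻¹ := rfl
      _ = e * ej h := by rw [hback, hc]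
      _ = e := hprod h h0
  let S : Subgroup H :=
    { carrier := {h | ej h = e}
      one_mem' := show σ 1 * e * σ (1 : H)⁻¹ = e by simp
      mul_mem' := fun {g h} hg hh => show σ (g * h) * e * σ (g * h)⁻¹ = e by
        rw [mul_inv_rev, map_mul, map_mul]
        calc σ g * σ h * e * (σ h⁻¹ * σ g⁻¹) = σ g * (σ h * e * σ h⁻¹) * σ g⁻¹ := by noncomm_ring
          _ = σ g * e * σ g⁻¹ := by rw [show σ h * e * σ h⁻¹ = e from hh]
          _ = e := hg
      inv_mem' := fun {h} hh => show σ h⁻¹ * e * σ h⁻¹⁻¹ = e by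
        conv_lhs => rw [inv_inv, show e = σ h * e * σ h⁻¹ from hh.symm]
        calc σ h⁻¹ * (σ h * e * σ h⁻¹) * σ h = (σ h⁻¹ * σ h) * e * (σ h⁻¹ * σ h) := by noncomm_ring
          _ = e := by rw [map_inv_mul_self, one_mul, mul_one] }
  let c : H ⧸ S → Module.End k V := Quotient.lift ej fun g h hgh => by
    have hs : g⁻¹ * h ∈ S := QuotientGroup.leftRel_apply.1 hgh
    have h1 : σ (g⁻¹ * h) * e * σ (g⁻¹ * h)⁻¹ = e := hs
    show σ g * e * σ g⁻¹ = σ h * e * σ h⁻¹
    conv_rhs => rw [show h = g * (g⁻¹ * h) by group, mul_inv_rev, map_mul σ g, map_mul σ _ g⁻¹]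
    calc σ g * e * σ g⁻¹ = σ g * (σ (g⁻¹ * h) * e * σ (g⁻¹ * h)⁻¹) * σ g⁻¹ := by rw [h1]
      _ = _ := by noncomm_ring
  have hcmk : ∀ h : H, c (QuotientGroup.mk h) = σ h * e * σ h⁻¹ := fun h => rfl
  have hcidem : ∀ q, c q * c q = c q := fun q => QuotientGroup.induction_on q hejidem
  have hcorth : ∀ q q', q ≠ q' → c q * c q' = 0 := by
    intro q q'
    refine QuotientGroup.induction_on q fun g => QuotientGroup.induction_on q' fun h hne' => ?_
    rcases hdich (g⁻¹ * h) with h0 | h0
    · have h1 : c (QuotientGroup.mk h) = σ g * ej (g⁻¹ * h) * σ g⁻¹ := by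
        rw [hcmk]
        show _ = σ g * (σ (g⁻¹ * h) * e * σ (g⁻¹ * h)⁻¹) * σ g⁻¹
        conv_lhs => rw [show h = g * (g⁻¹ * h) by group, mul_inv_rev, map_mul σ g, map_mul σ _ g⁻¹]
        noncomm_ring
      rw [h1, hcmk, hmulconj, h0, mul_zero, zero_mul]
    · exact absurd (QuotientGroup.eq.2 h0) hne'
  let E := ∑ q, c q
  have hcE : ∀ q, c q * E = c q := fun q => by
    rw [Finset.mul_sum, Finset.sum_eq_single q (fun q' _ h => hcorth q q' (Ne.symm h))
      (fun h => absurd (Finset.mem_univ q) h), hcidem]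
  have hEidem : E * E = E := by
    conv_lhs => rw [show E * E = (∑ q, c q) * E from rfl, Finset.sum_mul]
    exact Finset.sum_congr rfl fun q _ => hcE q
  have hEσ : ∀ h, σ h * E = E * σ h := by
    intro h
    have h1 : σ h * E * σ h⁻¹ = E := by
      rw [Finset.mul_sum, Finset.sum_mul]
      refine Fintype.sum_equiv (MulAction.toPerm h) _ _ fun q => ?_
      refine QuotientGroup.induction_on q fun g => ?_
      show σ h * c (QuotientGroup.mk g) * σ h⁻¹ = c (QuotientGroup.mk (h * g))
      rw [hcmk, hcmk, mul_inv_rev, map_mul, map_mul]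
      noncomm_ring
    calc σ h * E = σ h * E * (σ h⁻¹ * σ h) := by rw [map_inv_mul_self, mul_one]
      _ = _ := by rw [← mul_assoc, h1]
  have hEτ : ∀ q, τ q * E = E * τ q := by
    intro q
    rw [Finset.mul_sum, Finset.sum_mul]
    refine Finset.sum_congr rfl fun p _ => QuotientGroup.induction_on p fun h => ?_
    obtain ⟨Y, hY⟩ := hej h
    show τ q * ej h = ej h * τ q
    rw [← hY]
    exact commute_lift τ (τ q) (fun q' => hcomm q q') Y
  have hE0 : E ≠ 0 := fun h => by
    have h1 := hcE (QuotientGroup.mk 1)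
    rw [h, mul_zero, hcmk] at h1
    simp at h1
    exact hne h1.symm
  by_cases hE1 : E = 1
  swap
  · obtain ⟨hlt1, hlt2⟩ := finrank_range_lt_of_ne_one hEidem hE1 hE0
    refine split σ E hEidem hEσ ?_ ?_
    · exact ih _ (hn ▸ hlt1) _ rfl _ (resHom τ _ (range_invariant τ hEτ))
        (fun h q => LinearMap.ext fun v => Subtype.ext (LinearMap.congr_fun (hcompat h q) v.1))
        (fun q q' => LinearMap.ext fun v => Subtype.ext (LinearMap.congr_fun (hcomm q q') v.1))
        (fun v hv => Subtype.ext (hfix v.1 fun q => congrArg Subtype.val (hv q)))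
    · exact ih _ (hn ▸ hlt2) _ rfl _ (resHom τ _ (ker_invariant τ hEτ))
        (fun h q => LinearMap.ext fun v => Subtype.ext (LinearMap.congr_fun (hcompat h q) v.1))
        (fun q q' => LinearMap.ext fun v => Subtype.ext (LinearMap.congr_fun (hcomm q q') v.1))
        (fun v hv => Subtype.ext (hfix v.1 fun q => congrArg Subtype.val (hv q)))
  -- a single orbit
  have hSe : ∀ s : S, (σ.comp S.subtype) s * e = e * (σ.comp S.subtype) s := by
    intro s
    have h1 : σ s.1 * e * σ s.1⁻¹ = e := s.2
    show σ s.1 * e = e * σ s.1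
    calc σ s.1 * e = σ s.1 * e * σ s.1⁻¹ * σ s.1 := by rw [mul_assoc (σ s.1 * e), map_inv_mul_self, mul_one]
      _ = _ := by rw [h1]
  have hτe : ∀ q, τ q * e = e * τ q := fun q => commute_lift τ (τ q) (fun q' => hcomm q q') X
  set σC := resHom (σ.comp S.subtype) (LinearMap.range e) (range_invariant _ hSe) with hσC
  set τC := resHom τ (LinearMap.range e) (range_invariant τ hτe) with hτC
  haveI : Nontrivial (LinearMap.range e) :=
    Submodule.nontrivial_iff_ne_bot.2 fun h => hne (LinearMap.range_eq_bot.1 h)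
  have hlift : ∀ (Y : MonoidAlgebra k Q) (v : LinearMap.range e),
      (MonoidAlgebra.lift k (Module.End k (LinearMap.range e)) Q τC Y v : V) = Φ Y v.1 := by
    intro Y
    induction Y using MonoidAlgebra.induction_on with
    | of g => intro v; rw [MonoidAlgebra.lift_of, hΦ, MonoidAlgebra.lift_of]; rfl
    | add x y hx hy => intro v; simp [map_add, hx, hy]
    | smul r x hx => intro v; simp [map_smul, hx]
  have heC : ∀ v : LinearMap.range e, e v.1 = v.1 := by
    rintro ⟨_, w, rfl⟩
    rw [← Module.End.mul_apply, hidem]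
  have hC : FreeRep σC := by
    refine component σC τC (act.comp S.subtype)
      (fun s q => LinearMap.ext fun v => Subtype.ext (LinearMap.congr_fun (hcompat s.1 q) v.1))
      (fun q q' => LinearMap.ext fun v => Subtype.ext (LinearMap.congr_fun (hcomm q q') v.1))
      ?_ (fun v hv => Subtype.ext (hfix v.1 fun q => congrArg Subtype.val (hv q)))
      (fun s hs => hfpf s.1 fun h => hs (Subtype.ext h))
    intro Y hY
    obtain ⟨R, hR⟩ := exists_regular hQ (Y * X)
    have hx : Φ (Y * X) ≠ 0 := by
      intro h0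
      refine hY (LinearMap.ext fun v => Subtype.ext ?_)
      rw [hlift, LinearMap.zero_apply]
      have h1 : (Φ Y * e) v.1 = Φ Y v.1 := by rw [Module.End.mul_apply, heC]
      have h2 : Φ Y * e = 0 := by rw [he, ← map_mul]; exact h0
      rw [← h1, h2, LinearMap.zero_apply, Submodule.coe_zero]
    have hxe : e * Φ (Y * X) = Φ (Y * X) := by
      rw [he, map_mul, ← mul_assoc, commute_lift_lift τ hcomm X Y, mul_assoc, hidem]
    have h3 := hmin ((Y * X) * R) (by rw [← map_mul, ← mul_assoc ((Y * X) * R), hR])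
      (fun h0 => hx (by rw [← hR, map_mul, h0, zero_mul]))
      (by rw [map_mul, ← mul_assoc, hxe])
    refine ⟨X * R, LinearMap.ext fun v => Subtype.ext ?_⟩
    rw [Module.End.mul_apply, hlift, hlift, ← Module.End.mul_apply, ← map_mul, ← mul_assoc, h3,
      heC v]
    rfl
  obtain ⟨W, hWtop, hWdim⟩ := hC
  refine ⟨W.map (LinearMap.range e).subtype, ?_, ?_⟩
  · rw [eq_top_iff]
    intro v _
    have hv : v = ∑ q, c q v := by
      conv_lhs => rw [← Module.End.one_apply (R := k) v, ← hE1]
      exact LinearMap.sum_apply _ _ _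
    rw [hv]
    refine Submodule.sum_mem _ fun q _ => QuotientGroup.induction_on q fun h => ?_
    have h1 : (⟨e (σ h⁻¹ v), LinearMap.mem_range_self _ _⟩ : LinearMap.range e) ∈ ⨆ s, W.map (σC s) := by
      rw [hWtop]; exact Submodule.mem_top
    have h2 := Submodule.mem_map_of_mem (f := (σ h).comp (LinearMap.range e).subtype) h1
    rw [Submodule.map_iSup] at h2
    have h3 : (⨆ s, (W.map (σC s)).map ((σ h).comp (LinearMap.range e).subtype)) ≤
        ⨆ g, (W.map (LinearMap.range e).subtype).map (σ g) := by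
      refine iSup_le fun s => le_trans ?_ (le_iSup _ (h * s.1))
      rintro _ ⟨_, ⟨w, hw, rfl⟩, rfl⟩
      refine ⟨w.1, ⟨w, hw, rfl⟩, ?_⟩
      show σ (h * s.1) w.1 = σ h (σ s.1 w.1)
      rw [map_mul, Module.End.mul_apply]
    have h4 := h3 h2
    rwa [hcmk, Module.End.mul_apply, Module.End.mul_apply]
  · have hfun : finrank k (H ⧸ S → LinearMap.range e) ≤ finrank k V := by
      let T : (H ⧸ S → LinearMap.range e) →ₗ[k] V :=
        ∑ q, (σ q.out).comp ((LinearMap.range e).subtype.comp (LinearMap.proj q))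
      refine LinearMap.finrank_le_finrank_of_injective (f := T) ?_
      rw [injective_iff_map_eq_zero]
      intro g hg
      funext q
      apply Subtype.ext
      have hcq : ∀ q', c q' (σ q'.out (g q').1) = σ q'.out (g q').1 := by
        intro q'
        conv_lhs => rw [← QuotientGroup.out_eq' q', hcmk]
        rw [QuotientGroup.out_eq', Module.End.mul_apply, Module.End.mul_apply,
          ← Module.End.mul_apply (σ _⁻¹), map_inv_mul_self, Module.End.one_apply, heC]
      have h1 := congrArg (c q) hg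
      simp only [T, LinearMap.sum_apply, LinearMap.coe_comp, Function.comp_apply, map_sum,
        LinearMap.proj_apply, Submodule.coe_subtype, map_zero] at h1
      rw [Finset.sum_eq_single q (fun q' _ h => by
          rw [← hcq q', ← Module.End.mul_apply, hcorth q q' (Ne.symm h), LinearMap.zero_apply])
        (fun h => absurd (Finset.mem_univ q) h), hcq] at h1
      have h2 := congrArg (σ q.out⁻¹) h1
      rw [← Module.End.mul_apply, map_inv_mul_self, Module.End.one_apply, map_zero] at h2
      exact h2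
    rw [Module.finrank_pi_fintype, Finset.sum_const, Finset.card_univ, smul_eq_mul,
      ← Nat.card_eq_fintype_card] at hfun
    calc Nat.card H * finrank k (W.map (LinearMap.range e).subtype)
        ≤ Nat.card H * finrank k W := Nat.mul_le_mul_left _ (Submodule.finrank_map_le _ _)
      _ = Nat.card (H ⧸ S) * (Nat.card S * finrank k W) := by
          rw [Subgroup.card_eq_card_quotient_mul_card_subgroup S, mul_assoc]
      _ ≤ Nat.card (H ⧸ S) * finrank k (LinearMap.range e) := Nat.mul_le_mul_left _ hWdim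
      _ ≤ _ := hfun

/-- Freeness in the solvable case. -/
theorem free_of_fpf {Q : Type*} [Group Q] [Finite Q] [Group.IsSolvable Q] (act : H →* MulAut Q)
    (hQ : (Nat.card Q : k) ≠ 0) (hfpf : ∀ h, h ≠ 1 → ∀ q, act h q = q → q = 1) :
    ∀ (n : ℕ) (V : Type uv) [AddCommGroup V] [Module k V] [FiniteDimensional k V],
      finrank k V = n →
      ∀ (σ : H →* Module.End k V) (τ : Q →* Module.End k V),
        (∀ h q, σ h * τ q = τ (act h q) * σ h) →
        (∀ v, (∀ q, τ q v = v) → v = 0) → FreeRep σ := by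
  classical
  intro n
  induction n using Nat.strong_induction_on with
  | _ n ih =>
  intro V _ _ _ hn σ τ hcompat hfix
  rcases subsingleton_or_nontrivial V with hV | hV
  · exact freeRep_of_subsingleton σ
  cases nonempty_fintype Q
  obtain ⟨v0, hv0⟩ := exists_ne (0 : V)
  obtain ⟨D, ⟨hDn, hDinv, q0, hq0D, hq0⟩, hDmin⟩ := Set.Finite.exists_minimal
    (s := {D : Subgroup Q | D.Normal ∧ (∀ h, ∀ q ∈ D, act h q ∈ D) ∧ ∃ q ∈ D, τ q ≠ 1})
    (Set.toFinite _) ⟨⊤, inferInstance, fun _ _ _ => trivial, by
      by_contra hcon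
      push Not at hcon
      exact hv0 (hfix v0 fun q => by rw [hcon q trivial, Module.End.one_apply])⟩
  have hDbot : D ≠ ⊥ := fun h => hq0 (by rw [h, Subgroup.mem_bot] at hq0D; rw [hq0D, map_one])
  have hDcomm : ∀ a ∈ D, ∀ b ∈ D, τ a * τ b = τ b * τ a := by
    have hlt := Group.IsSolvable.commutator_lt_of_ne_bot hDbot
    have hone : ∀ q ∈ ⁅D, D⁆, τ q = 1 := by
      by_contra hcon
      push Not at hcon
      obtain ⟨q, hq, hq'⟩ := hcon
      have hinv : ∀ h, ∀ q ∈ ⁅D, D⁆, act h q ∈ ⁅D, D⁆ := by
        intro h q hq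
        have h1 : act h q ∈ (⁅D, D⁆).map (act h).toMonoidHom := Subgroup.mem_map_of_mem _ hq
        rw [Subgroup.map_commutator] at h1
        have h2 : D.map (act h).toMonoidHom ≤ D := by
          rintro _ ⟨x, hx, rfl⟩; exact hDinv h x hx
        exact Subgroup.commutator_mono h2 h2 h1
      exact not_le_of_gt hlt (hDmin ⟨inferInstance, hinv, q, hq, hq'⟩ hlt.le)
    intro a ha b hb
    have h1 := hone _ (Subgroup.commutator_mem_commutator ha hb)
    have h2 : τ ⁅a, b⁆ * (τ b * τ a) = τ a * τ b := by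
      rw [← map_mul, ← map_mul, ← map_mul]
      congr 1
      rw [commutatorElement_def]
      group
    rw [h1, one_mul] at h2
    exact h2.symm
  have hDcard : (Nat.card D : k) ≠ 0 := by
    intro h0
    obtain ⟨m, hm⟩ := Subgroup.card_subgroup_dvd_card D
    exact hQ (by rw [hm, Nat.cast_mul, h0, zero_mul])
  let Sm : Module.End k V := ∑ d : D, τ d.1
  let E : Module.End k V := (Nat.card D : k)⁻¹ • Sm
  have hτS : ∀ d : D, τ d.1 * Sm = Sm := fun d => by
    rw [Finset.mul_sum]
    exact Fintype.sum_equiv (Equiv.mulLeft d) _ _ fun x => (map_mul τ d.1 x.1).symm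
  have hEidem : E * E = E := by
    have h1 : Sm * Sm = (Nat.card D : k) • Sm := by
      conv_lhs => rw [show Sm * Sm = (∑ d : D, τ d.1) * Sm from rfl, Finset.sum_mul]
      simp [hτS, Finset.sum_const, Nat.card_eq_fintype_card, Nat.cast_smul_eq_nsmul]
    show ((Nat.card D : k)⁻¹ • Sm) * ((Nat.card D : k)⁻¹ • Sm) = _
    rw [smul_mul_assoc, mul_smul_comm, h1, smul_smul, smul_smul, mul_assoc, inv_mul_cancel₀ hDcard,
      mul_one]
  have hEτ : ∀ q, τ q * E = E * τ q := by
    intro q
    show τ q * (_ • Sm) = (_ • Sm) * τ q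
    rw [mul_smul_comm, smul_mul_assoc, Finset.mul_sum, Finset.sum_mul]
    congr 1
    refine Fintype.sum_equiv (MulAut.conjNormal (H := D) q).toEquiv _ _ fun d => ?_
    rw [← map_mul, ← map_mul]
    congr 1
    simp [MulAut.conjNormal_apply]
  obtain ⟨actD, hactD⟩ := fpf_subtype act D hDinv
  have hEσ : ∀ h, σ h * E = E * σ h := by
    intro h
    show σ h * (_ • Sm) = (_ • Sm) * σ h
    rw [mul_smul_comm, smul_mul_assoc, Finset.mul_sum, Finset.sum_mul]
    congr 1
    refine Fintype.sum_equiv (actD h).toEquiv _ _ fun d => ?_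
    rw [hcompat]
    congr 2
    exact (hactD h d).symm
  by_cases hE0 : E = 0
  · refine free_of_commute actD hDcard (fun h hh d hd => Subtype.ext (hfpf h hh d.1 (by
        rw [← hactD, hd]))) n V hn σ (τ.comp D.subtype)
      (fun h d => by
        show σ h * τ d.1 = τ (actD h d).1 * σ h
        rw [hcompat, hactD])
      (fun a b => hDcomm a.1 a.2 b.1 b.2) ?_
    intro v hv
    have h1 : E v = v := by
      show (Nat.card D : k)⁻¹ • Sm v = v
      rw [LinearMap.sum_apply, Finset.sum_congr rfl (fun d _ => show τ d.1 v = v from hv d),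
        Finset.sum_const,
        Finset.card_univ, ← Nat.cast_smul_eq_nsmul k, smul_smul, ← Nat.card_eq_fintype_card,
        inv_mul_cancel₀ hDcard, one_smul]
    rw [← h1, hE0, LinearMap.zero_apply]
  · have hE1 : E ≠ 1 := by
      intro h1
      apply hq0
      have h2 : τ q0 * E = E := by
        show τ q0 * (_ • Sm) = _
        rw [mul_smul_comm, show τ q0 * Sm = Sm from hτS ⟨q0, hq0D⟩]
      rwa [h1, mul_one] at h2
    obtain ⟨hlt1, hlt2⟩ := finrank_range_lt_of_ne_one hEidem hE1 hE0
    refine split σ E hEidem hEσ ?_ ?_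
    · exact ih _ (hn ▸ hlt1) _ rfl _ (resHom τ _ (range_invariant τ hEτ))
        (fun h q => LinearMap.ext fun v => Subtype.ext (LinearMap.congr_fun (hcompat h q) v.1))
        (fun v hv => Subtype.ext (hfix v.1 fun q => congrArg Subtype.val (hv q)))
    · exact ih _ (hn ▸ hlt2) _ rfl _ (resHom τ _ (ker_invariant τ hEτ))
        (fun h q => LinearMap.ext fun v => Subtype.ext (LinearMap.congr_fun (hcompat h q) v.1))
        (fun v hv => Subtype.ext (hfix v.1 fun q => congrArg Subtype.val (hv q)))

end CfsgLib.FGStruct.FreeModule
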