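import Mathlib

/-!
A finite group acting fixed-point-freely on a finite solvable group `Q`, both acting compatibly on a module without
`Q`-fixed points and with `|Q|` invertible: the module is free for the acting group.
-/

set_option autoImplicit false

namespace CfsgLib.FGStruct.FreeModule

open Module

universe uk uv

variable {k : Type uk} [Field k] {H : Type*} [Group H] [Finite H]

/-- A module is free: a subspace whose translates span, of the correct dimension. -/
def FreeRep {V : Type*} [AddCommGroup V] [Module k V] (σ : H →* Module.End k V) : Prop :=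
  ∃ W : Submodule k V, (⨆ h, W.map (σ h)) = ⊤ ∧ Nat.card H * finrank k W ≤ finrank k V

section basic

variable {G : Type*} [Group G] {V : Type*} [AddCommGroup V] [Module k V]

theorem map_mul_inv_self (τ : G →* Module.End k V) (g : G) : τ g * τ g⁻¹ = 1 := by
  rw [← map_mul, mul_inv_cancel, map_one]

theorem map_inv_mul_self (τ : G →* Module.End k V) (g : G) : τ g⁻¹ * τ g = 1 := by
  rw [← map_mul, inv_mul_cancel, map_one]

/-- Restriction of an action to an invariant subspace. -/
def resHom (τ : G →* Module.End k V) (U : Submodule k V) (hU : ∀ g, ∀ v ∈ U, τ g v ∈ U) :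
    G →* Module.End k U where
  toFun g := (τ g).restrict (hU g)
  map_one' := LinearMap.ext fun v => Subtype.ext (by simp)
  map_mul' g g' := LinearMap.ext fun v => Subtype.ext (by simp)

@[simp]
theorem resHom_coe (τ : G →* Module.End k V) (U : Submodule k V) (hU : ∀ g, ∀ v ∈ U, τ g v ∈ U)
    (g : G) (v : U) : (resHom τ U hU g v : V) = τ g v := rfl

theorem range_invariant {E : Module.End k V} (τ : G →* Module.End k V)
    (hc : ∀ g, τ g * E = E * τ g) : ∀ g, ∀ v ∈ LinearMap.range E, τ g v ∈ LinearMap.range E := by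
  rintro g _ ⟨w, rfl⟩
  exact ⟨τ g w, by rw [← Module.End.mul_apply, ← hc g, Module.End.mul_apply]⟩

theorem ker_invariant {E : Module.End k V} (τ : G →* Module.End k V)
    (hc : ∀ g, τ g * E = E * τ g) : ∀ g, ∀ v ∈ LinearMap.ker E, τ g v ∈ LinearMap.ker E := by
  intro g v hv
  rw [LinearMap.mem_ker] at hv ⊢
  rw [← Module.End.mul_apply, ← hc g, Module.End.mul_apply, hv, map_zero]

theorem range_inf_ker {E : Module.End k V} (hE : E * E = E) :
    LinearMap.range E ⊓ LinearMap.ker E = ⊥ := by
  rw [eq_bot_iff]
  rintro v ⟨⟨w, rfl⟩, hv⟩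
  have : E w = (E * E) w := by rw [hE]
  rw [Submodule.mem_bot, this, Module.End.mul_apply]
  exact hv

theorem finrank_range_lt_of_ne_one [FiniteDimensional k V] {E : Module.End k V} (hE : E * E = E)
    (h1 : E ≠ 1) (h0 : E ≠ 0) :
    finrank k (LinearMap.range E) < finrank k V ∧ finrank k (LinearMap.ker E) < finrank k V := by
  refine ⟨Submodule.finrank_lt ?_, Submodule.finrank_lt ?_⟩
  · intro htop
    refine h1 (LinearMap.ext fun v => ?_)
    obtain ⟨w, rfl⟩ : v ∈ LinearMap.range E := htop ▸ Submodule.mem_top
    rw [← Module.End.mul_apply, hE, Module.End.one_apply]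
  · intro htop
    exact h0 (LinearMap.ker_eq_top.1 htop)

theorem split [FiniteDimensional k V] (σ : H →* Module.End k V) (E : Module.End k V)
    (hE : E * E = E) (hc : ∀ h, σ h * E = E * σ h)
    (h1 : FreeRep (resHom σ (LinearMap.range E) (range_invariant σ hc)))
    (h2 : FreeRep (resHom σ (LinearMap.ker E) (ker_invariant σ hc))) : FreeRep σ := by
  obtain ⟨W1, hs1, hd1⟩ := h1
  obtain ⟨W2, hs2, hd2⟩ := h2
  refine ⟨W1.map (LinearMap.range E).subtype ⊔ W2.map (LinearMap.ker E).subtype, ?_, ?_⟩
  · set X := ⨆ h, (W1.map (LinearMap.range E).subtype ⊔ W2.map (LinearMap.ker E).subtype).map (σ h)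
      with hX
    have key : ∀ (U : Submodule k V) (hU : ∀ g, ∀ v ∈ U, σ g v ∈ U) (W : Submodule k U),
        (⨆ h, W.map (resHom σ U hU h)) = ⊤ →
          W.map U.subtype ≤ W1.map (LinearMap.range E).subtype ⊔ W2.map (LinearMap.ker E).subtype →
          U ≤ X := by
      intro U hU W hW hle v hv
      have hv' : v ∈ (⨆ h, W.map (resHom σ U hU h)).map U.subtype := by
        rw [hW, Submodule.map_top, Submodule.range_subtype]; exact hv
      rw [Submodule.map_iSup] at hv'
      have hX2 : (⨆ h, (W.map (resHom σ U hU h)).map U.subtype) ≤ X := iSup_le fun h => by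
        refine le_trans ?_ (le_iSup _ h)
        rintro _ ⟨_, ⟨w, hw, rfl⟩, rfl⟩
        exact ⟨w.1, hle ⟨w, hw, rfl⟩, rfl⟩
      exact hX2 hv'
    rw [eq_top_iff]
    intro v _
    have hr := key _ _ W1 hs1 le_sup_left (LinearMap.mem_range_self E v)
    have hk := key _ _ W2 hs2 le_sup_right (show v - E v ∈ LinearMap.ker E by
      rw [LinearMap.mem_ker, map_sub, ← Module.End.mul_apply, hE, sub_self])
    simpa using X.add_mem hr hk
  · have hsum := LinearMap.finrank_range_add_finrank_ker E
    calc _ ≤ Nat.card H * (finrank k W1 + finrank k W2) := by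
            refine Nat.mul_le_mul_left _ (le_trans (Submodule.finrank_add_le_finrank_add_finrank _ _) ?_)
            exact Nat.add_le_add (Submodule.finrank_map_le _ _) (Submodule.finrank_map_le _ _)
      _ ≤ _ := by rw [Nat.mul_add, ← hsum]; exact Nat.add_le_add hd1 hd2

theorem freeRep_of_subsingleton [FiniteDimensional k V] [Subsingleton V] (σ : H →* Module.End k V) :
    FreeRep σ :=
  ⟨⊥, Subsingleton.elim _ _, by simp⟩

end basic

section algebra

variable {Q : Type*} [Group Q] {V : Type*} [AddCommGroup V] [Module k V]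

theorem commute_lift (τ : Q →* Module.End k V) (a : Module.End k V)
    (ha : ∀ q, a * τ q = τ q * a) (X : MonoidAlgebra k Q) :
    a * MonoidAlgebra.lift k (Module.End k V) Q τ X = MonoidAlgebra.lift k (Module.End k V) Q τ X * a := by
  induction X using MonoidAlgebra.induction_on with
  | of g => rw [MonoidAlgebra.lift_of]; exact ha g
  | add x y hx hy => rw [map_add, mul_add, add_mul, hx, hy]
  | smul c x hx => rw [map_smul, mul_smul_comm, smul_mul_assoc, hx]

theorem commute_lift_lift (τ : Q →* Module.End k V) (hcomm : ∀ q q', τ q * τ q' = τ q' * τ q)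
    (X Y : MonoidAlgebra k Q) :
    MonoidAlgebra.lift k (Module.End k V) Q τ X * MonoidAlgebra.lift k (Module.End k V) Q τ Y =
      MonoidAlgebra.lift k (Module.End k V) Q τ Y * MonoidAlgebra.lift k (Module.End k V) Q τ X :=
  commute_lift τ _ (fun q => (commute_lift τ (τ q) (hcomm q) X).symm) Y

theorem conj_lift (σ : H →* Module.End k V) (τ : Q →* Module.End k V) (act : H →* MulAut Q)
    (hcompat : ∀ h q, σ h * τ q = τ (act h q) * σ h) (h : H) (X : MonoidAlgebra k Q) :
    ∃ Y, σ h * MonoidAlgebra.lift k (Module.End k V) Q τ X =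
      MonoidAlgebra.lift k (Module.End k V) Q τ Y * σ h := by
  induction X using MonoidAlgebra.induction_on with
  | of g => exact ⟨MonoidAlgebra.of k Q (act h g), by rw [MonoidAlgebra.lift_of, MonoidAlgebra.lift_of, hcompat]⟩
  | add x y hx hy =>
    obtain ⟨x', hx⟩ := hx
    obtain ⟨y', hy⟩ := hy
    exact ⟨x' + y', by rw [map_add, map_add, mul_add, add_mul, hx, hy]⟩
  | smul c x hx =>
    obtain ⟨x', hx⟩ := hx
    exact ⟨c • x', by rw [map_smul, map_smul, mul_smul_comm, smul_mul_assoc, hx]⟩

theorem exists_regular [Finite Q] (hQ : (Nat.card Q : k) ≠ 0) (X : MonoidAlgebra k Q) :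
    ∃ S, X * S * X = X := by
  haveI : NeZero (Nat.card Q : k) := ⟨hQ⟩
  obtain ⟨f, hf, hspan⟩ := IsSemisimpleRing.ideal_eq_span_idempotent (Ideal.span {X})
  obtain ⟨r, hr⟩ := Ideal.mem_span_singleton'.1 (hspan ▸ Ideal.mem_span_singleton_self X)
  obtain ⟨s, hs⟩ := Ideal.mem_span_singleton'.1 (hspan.symm ▸ Ideal.mem_span_singleton_self f)
  refine ⟨s, ?_⟩
  calc X * s * X = r * f * f := by rw [mul_assoc, hs, hr]
    _ = X := by rw [mul_assoc, hf.eq, hr]

end algebra

/-- The case of a single field component: Galois descent and the normal basis theorem. -/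
theorem component {V : Type*} [AddCommGroup V] [Module k V] [FiniteDimensional k V] [Nontrivial V]
    {Q : Type*} [Group Q] [Finite Q] (σ : H →* Module.End k V) (τ : Q →* Module.End k V)
    (act : H →* MulAut Q) (hcompat : ∀ h q, σ h * τ q = τ (act h q) * σ h)
    (hcomm : ∀ q q', τ q * τ q' = τ q' * τ q)
    (hfield : ∀ X, MonoidAlgebra.lift k (Module.End k V) Q τ X ≠ 0 →
      ∃ Y, MonoidAlgebra.lift k (Module.End k V) Q τ X * MonoidAlgebra.lift k (Module.End k V) Q τ Y = 1)
    (hfix : ∀ v, (∀ q, τ q v = v) → v = 0)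
    (hfpf : ∀ h, h ≠ 1 → ∀ q, act h q = q → q = 1) : FreeRep σ := by
  classical
  cases nonempty_fintype H
  let L : Subalgebra k (Module.End k V) := (MonoidAlgebra.lift k (Module.End k V) Q τ).range
  letI icomm : CommRing L :=
    { (inferInstance : Ring L) with
      mul_comm := by
        rintro ⟨_, X, rfl⟩ ⟨_, Y, rfl⟩
        exact Subtype.ext (commute_lift_lift τ hcomm X Y) }
  have hisField : IsField L :=
    { exists_pair_ne := ⟨0, 1, fun h => zero_ne_one (congrArg Subtype.val h)⟩
      mul_comm := mul_comm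
      mul_inv_cancel := by
        rintro ⟨_, X, rfl⟩ hX
        obtain ⟨Y, hY⟩ := hfield X fun h => hX (Subtype.ext h)
        exact ⟨⟨_, Y, rfl⟩, Subtype.ext hY⟩ }
  letI : Field L := hisField.toField
  have hmem : ∀ (h : H) (x : L), σ h * x.1 * σ h⁻¹ ∈ L := by
    rintro h ⟨_, X, rfl⟩
    obtain ⟨Y, hY⟩ := conj_lift σ τ act hcompat h X
    refine ⟨Y, ?_⟩
    show _ = σ h * MonoidAlgebra.lift k (Module.End k V) Q τ X * σ h⁻¹
    rw [hY, mul_assoc, map_mul_inv_self, mul_one]
    rfl
  letI : MulSemiringAction H L :=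
    { smul := fun h x => ⟨σ h * x.1 * σ h⁻¹, hmem h x⟩
      one_smul := fun x => Subtype.ext (show σ 1 * x.1 * σ (1 : H)⁻¹ = x.1 by simp)
      mul_smul := fun g h x => Subtype.ext (show σ (g * h) * x.1 * σ (g * h)⁻¹ =
          σ g * (σ h * x.1 * σ h⁻¹) * σ g⁻¹ by rw [mul_inv_rev, map_mul, map_mul]; noncomm_ring)
      smul_zero := fun h => Subtype.ext (show σ h * (0 : Module.End k V) * σ h⁻¹ = 0 by simp)
      smul_add := fun h x y => Subtype.ext (show σ h * (x.1 + y.1) * σ h⁻¹ =
          σ h * x.1 * σ h⁻¹ + σ h * y.1 * σ h⁻¹ by noncomm_ring)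
      smul_one := fun h => Subtype.ext (show σ h * (1 : Module.End k V) * σ h⁻¹ = 1 by
          rw [mul_one, map_mul_inv_self])
      smul_mul := fun h x y => Subtype.ext (show σ h * (x.1 * y.1) * σ h⁻¹ =
          (σ h * x.1 * σ h⁻¹) * (σ h * y.1 * σ h⁻¹) by
        have h2 : (σ h * x.1 * σ h⁻¹) * (σ h * y.1 * σ h⁻¹) =
            σ h * x.1 * (σ h⁻¹ * σ h) * y.1 * σ h⁻¹ := by noncomm_ring
        rw [h2, map_inv_mul_self]; noncomm_ring) }
  have hsmul : ∀ (h : H) (x : L), (h • x).1 = σ h * x.1 * σ h⁻¹ := fun _ _ => rfl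
  have hfaith : FaithfulSMul H L := by
    have key : ∀ h : H, (∀ x : L, h • x = x) → h = 1 := by
      intro h hh
      by_contra hne
      have hq : ∀ q, τ (act h q) = τ q := by
        intro q
        have hq1 : (h • (⟨τ q, MonoidAlgebra.of k Q q, MonoidAlgebra.lift_of _ _⟩ : L)).1 = τ q :=
          congrArg Subtype.val (hh _)
        rw [hsmul] at hq1
        change σ h * τ q * σ h⁻¹ = τ q at hq1
        rwa [hcompat, mul_assoc, map_mul_inv_self, mul_one] at hq1
      let K : Set Q := {q | τ q = 1}
      have hK : ∀ q, q⁻¹ * act h q ∈ K := fun q => by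
        show τ _ = 1
        rw [map_mul, hq, map_inv_mul_self]
      have hinj : Function.Injective (fun q => q⁻¹ * act h q) := by
        intro a b hab
        have h1 : act h (a * b⁻¹) = a * b⁻¹ := by
          simp only at hab
          rw [map_mul, map_inv]
          calc act h a * (act h b)⁻¹ = a * (a⁻¹ * act h a) * (act h b)⁻¹ := by group
            _ = a * b⁻¹ := by rw [hab]; group
        exact mul_inv_eq_one.1 (hfpf h hne _ h1)
      let f : K → K := fun q => ⟨_, hK q.1⟩
      have hsurj : Function.Surjective f := Finite.surjective_of_injective fun a b hab =>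
        Subtype.ext (hinj (congrArg Subtype.val hab))
      have hall : ∀ q, τ q = 1 := by
        intro q
        obtain ⟨⟨k0, hk0⟩, hk⟩ := hsurj ⟨_, hK q⟩
        rw [hinj (congrArg Subtype.val hk).symm]
        exact hk0
      obtain ⟨v, hv⟩ := exists_ne (0 : V)
      exact hv (hfix v fun q => by rw [hall, Module.End.one_apply])
    refine ⟨fun {g h} hgh => ?_⟩
    have h1 := key (h⁻¹ * g) fun x => by rw [mul_smul, hgh, inv_smul_smul]
    exact (inv_mul_eq_one.1 h1).symm
  -- semilinearity
  have hsemi : ∀ (h : H) (x : L) (v : V), σ h (x • v) = (h • x) • σ h v := by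
    intro h x v
    show σ h (x.1 v) = (σ h * x.1 * σ h⁻¹) (σ h v)
    rw [← Module.End.mul_apply, ← Module.End.mul_apply]
    congr 1
    rw [mul_assoc _ (σ h⁻¹), map_inv_mul_self, mul_one]
  have : FiniteDimensional L V := Module.Finite.of_restrictScalars_finite k L V
  -- fixed vectors span
  have hspan : Submodule.span L {v : V | ∀ h, σ h v = v} = ⊤ := by
    rw [eq_top_iff]
    intro v _
    by_contra hv
    obtain ⟨φ, hφv, hφ⟩ := Submodule.exists_dual_map_eq_bot_of_notMem hv inferInstance
    apply hφv
    have hzero : ∀ w ∈ {v : V | ∀ h, σ h v = v}, φ w = 0 := fun w hw => by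
      have h1 : φ w ∈ Submodule.map φ (Submodule.span L {v : V | ∀ h, σ h v = v}) :=
        Submodule.mem_map_of_mem (Submodule.subset_span hw)
      rw [hφ] at h1
      exact h1
    let c : H → (L →* L) := fun h => (MulSemiringAction.toRingHom H L h).toMonoidHom
    have hc : Function.Injective c := fun g h hgh =>
      hfaith.eq_of_smul_eq_smul fun x => DFunLike.congr_fun hgh x
    have hli := (linearIndependent_monoidHom L L).comp c hc
    have h0 := Fintype.linearIndependent_iff.1 hli (fun h => φ (σ h v)) (by
      funext x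
      simp only [Finset.sum_apply, Pi.smul_apply, Function.comp_apply, smul_eq_mul, Pi.zero_apply]
      have hfixed : ∀ g, σ g (∑ h, σ h (x • v)) = ∑ h, σ h (x • v) := by
        intro g
        rw [map_sum]
        simp only [← Module.End.mul_apply, ← map_mul]
        exact Fintype.sum_equiv (Equiv.mulLeft g) _ _ fun h => rfl
      have h1 := hzero _ hfixed
      simp only [hsemi, map_sum, map_smul, smul_eq_mul] at h1
      rw [← h1]
      refine Finset.sum_congr rfl fun h _ => ?_
      exact mul_comm _ _) 1
    simpa using h0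
  obtain ⟨b, hbsub, hbspan, hbli⟩ := exists_linearIndependent L {v : V | ∀ h, σ h v = v}
  haveI : Fintype b := hbli.setFinite.fintype
  have hbtop : ⊤ ≤ Submodule.span L (Set.range ((↑) : b → V)) := by
    rw [Subtype.range_coe, hbspan, hspan]
  have hcardb : finrank L V = Fintype.card b := Module.finrank_eq_card_basis (Basis.mk hbli hbtop)
  -- normal basis
  haveI : FiniteDimensional k L := inferInstanceAs (FiniteDimensional k L.toSubmodule)
  haveI : FiniteDimensional (FixedPoints.subfield H L) L := inferInstance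
  obtain ⟨α, hα⟩ := exists_linearIndependent_algEquiv_apply (FixedPoints.subfield H L) L
  have hα2 : LinearIndependent (FixedPoints.subfield H L) (fun h : H => h • α) :=
    hα.comp (FixedPoints.toAlgAutMulEquiv H L) (FixedPoints.toAlgAutMulEquiv H L).injective
  have hαtop := hα2.span_eq_top_of_card_eq_finrank (FixedPoints.finrank_eq_card H L).symm
  have hsmulk : ∀ (h : H) (c : k) (x : L), h • (c • x) = c • (h • x) := fun h c x => Subtype.ext (by
    show σ h * (c • x.1) * σ h⁻¹ = c • (σ h * x.1 * σ h⁻¹)
    rw [mul_smul_comm, smul_mul_assoc])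
  let K0 : Submodule k L :=
    { carrier := {x | ∀ h : H, h • x = x}
      zero_mem' := fun h => smul_zero h
      add_mem' := fun {x y} hx hy h => by rw [smul_add, hx h, hy h]
      smul_mem' := fun c x hx h => by rw [hsmulk, hx h] }
  let T : (b → K0) →ₗ[k] V :=
    { toFun := fun f => ∑ i, (α * (f i).1) • i.1
      map_add' := fun f g => by simp [mul_add, add_smul, Finset.sum_add_distrib]
      map_smul' := fun c f => by
        simp only [Pi.smul_apply, Submodule.coe_smul_of_tower, Algebra.mul_smul_comm, smul_assoc,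
          RingHom.id_apply, Finset.smul_sum] }
  have hnb : Nat.card H * finrank k K0 ≤ finrank k L := by
    let P : (H → K0) →ₗ[k] L :=
      { toFun := fun f => ∑ h, (f h).1 * h • α
        map_add' := fun f g => by simp [add_mul, Finset.sum_add_distrib]
        map_smul' := fun c f => by simp [Finset.smul_sum, smul_mul_assoc] }
    have hP : Function.Injective P := by
      rw [injective_iff_map_eq_zero]
      intro f hf
      funext h
      apply Subtype.ext
      have h1 := Fintype.linearIndependent_iff.1 hα2
        (fun h => (⟨(f h).1, (f h).2⟩ : FixedPoints.subfield H L)) hf h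
      exact congrArg Subtype.val h1
    have h2 := LinearMap.finrank_le_finrank_of_injective hP
    rwa [Module.finrank_pi_fintype, Finset.sum_const, Finset.card_univ, smul_eq_mul,
      ← Nat.card_eq_fintype_card] at h2
  refine ⟨LinearMap.range T, ?_, ?_⟩
  · rw [eq_top_iff]
    intro v _
    have hlv : ∀ (x : L) (i : b), x • i.1 ∈ ⨆ h, (LinearMap.range T).map (σ h) := by
      intro x i
      obtain ⟨c, hc⟩ := (Submodule.mem_span_range_iff_exists_fun _).1
        (show x ∈ Submodule.span (FixedPoints.subfield H L) (Set.range fun h : H => h • α) by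
          rw [hαtop]; exact Submodule.mem_top)
      rw [← hc, Finset.sum_smul]
      refine Submodule.sum_mem _ fun h _ => Submodule.mem_iSup_of_mem h ?_
      refine ⟨T (Pi.single i ⟨(c h).1, (c h).2⟩), LinearMap.mem_range_self _ _, ?_⟩
      show σ h (∑ j, (α * ((Pi.single i _ : b → K0) j).1) • j.1) = _
      rw [Finset.sum_eq_single i (fun j _ hj => by simp [Pi.single_eq_of_ne hj])
        (fun h => absurd (Finset.mem_univ i) h), Pi.single_eq_same, hsemi, hbsub i.2 h, smul_mul',
        (c h).2 h, mul_comm]
      rfl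
    obtain ⟨c, hc⟩ := (Submodule.mem_span_range_iff_exists_fun _).1 (hbtop (Submodule.mem_top (x := v)))
    rw [← hc]
    exact Submodule.sum_mem _ fun i _ => hlv (c i) i
  · have h1 := LinearMap.finrank_range_le T
    rw [Module.finrank_pi_fintype, Finset.sum_const, Finset.card_univ, smul_eq_mul] at h1
    have h2 : finrank k L * finrank L V = finrank k V := Module.finrank_mul_finrank k L V
    calc Nat.card H * finrank k (LinearMap.range T) ≤ Nat.card H * (Fintype.card b * finrank k K0) :=
          Nat.mul_le_mul_left _ h1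
      _ = Fintype.card b * (Nat.card H * finrank k K0) := by ring
      _ ≤ Fintype.card b * finrank k L := Nat.mul_le_mul_left _ hnb
      _ = finrank k V := by rw [← h2, hcardb, mul_comm]

end CfsgLib.FGStruct.FreeModule
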