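import Mathlib
import Cfsg.Agent.Lib.Counting.Frobenius
import Cfsg.Agent.Lib.PNilpotent.Basic

/-!
Frobenius' theorem for solutions of `x ^ n = c` and `x ^ n` in a class.
-/

open Subgroup

namespace CfsgLib.FGStruct

universe u

/-- Solutions of `x ^ (p ^ a) = y` for a `p`-element `y ≠ 1`: their number is a multiple of `p ^ a`. -/
theorem pow_dvd_card_roots_pElement {G : Type u} [Group G] [Finite G] {p : ℕ} [Fact p.Prime] (a : ℕ) {y : G}
    (hy : y ≠ 1) (hyp : ∃ k, orderOf y = p ^ k) : p ^ a ∣ Nat.card {x : G // x ^ p ^ a = y} := by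
  classical
  haveI := Fintype.ofFinite G
  have hp : p.Prime := Fact.out
  obtain ⟨k, hk⟩ := hyp
  have hk0 : k ≠ 0 := by
    rintro rfl
    exact hy (orderOf_eq_one_iff.1 (by rw [hk, pow_zero]))
  have hord : ∀ x : G, x ^ p ^ a = y → orderOf x = p ^ (a + k) := by
    intro x hx
    obtain ⟨k', rfl⟩ : ∃ k', k = k' + 1 := ⟨k - 1, by omega⟩
    rw [show a + (k' + 1) = (a + k') + 1 by ring]
    refine orderOf_eq_prime_pow (n := a + k') ?_ ?_
    · rw [pow_add, pow_mul, hx]
      intro h
      have := orderOf_dvd_of_pow_eq_one h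
      rw [hk, Nat.pow_dvd_pow_iff_le_right hp.one_lt] at this
      omega
    · rw [show a + k' + 1 = a + (k' + 1) by ring, pow_add, pow_mul, hx, ← hk, pow_orderOf_eq_one]
  rw [Nat.card_eq_fintype_card, Fintype.card_subtype, Finset.card_eq_sum_ones,
    ← Finset.sum_fiberwise (Finset.univ.filter fun x : G => x ^ p ^ a = y) Subgroup.zpowers (fun _ => 1)]
  refine Finset.dvd_sum fun C _ => ?_
  simp only [Finset.sum_const, smul_eq_mul, mul_one]
  rcases Finset.eq_empty_or_nonempty
    ((Finset.univ.filter fun x : G => x ^ p ^ a = y).filter fun x => Subgroup.zpowers x = C) with h | ⟨g, hg⟩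
  · simp [h]
  simp only [Finset.mem_filter, Finset.mem_univ, true_and] at hg
  obtain ⟨hgy, rfl⟩ := hg
  letI : CommGroup (Subgroup.zpowers g) := IsCyclic.commGroup
  have hker : Nat.card (powMonoidHom (p ^ a) : Subgroup.zpowers g →* Subgroup.zpowers g).ker = p ^ a := by
    rw [IsCyclic.card_powMonoidHom_ker, Nat.card_zpowers, hord g hgy, Nat.gcd_comm]
    exact Nat.gcd_eq_left (pow_dvd_pow p (Nat.le_add_right a k))
  refine dvd_of_eq (hker.symm.trans ?_)
  rw [Nat.card_eq_fintype_card, ← Finset.card_univ]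
  refine Finset.card_bij (fun z _ => g * ((z.1 : Subgroup.zpowers g) : G)) ?_ ?_ ?_
  · intro z _
    simp only [Finset.mem_filter, Finset.mem_univ, true_and]
    have hc : Commute g ((z.1 : Subgroup.zpowers g) : G) := by
      obtain ⟨i, hi⟩ := Subgroup.mem_zpowers_iff.1 z.1.2
      rw [← hi]
      exact Commute.self_zpow g i
    have hz : ((z.1 : Subgroup.zpowers g) : G) ^ p ^ a = 1 := congrArg Subtype.val (MonoidHom.mem_ker.1 z.2)
    have hx : (g * ((z.1 : Subgroup.zpowers g) : G)) ^ p ^ a = y := by rw [hc.mul_pow, hz, mul_one, hgy]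
    refine ⟨hx, Subgroup.eq_of_le_of_card_ge (Subgroup.zpowers_le.2 (mul_mem (Subgroup.mem_zpowers g) z.1.2)) ?_⟩
    rw [Nat.card_zpowers, Nat.card_zpowers, hord _ hx, hord g hgy]
  · intro z _ w _ h
    exact Subtype.ext (Subtype.ext (mul_left_cancel h))
  · intro x hx
    simp only [Finset.mem_filter, Finset.mem_univ, true_and] at hx
    obtain ⟨i, hi⟩ := Subgroup.mem_zpowers_iff.1 (hx.2 ▸ Subgroup.mem_zpowers x : x ∈ Subgroup.zpowers g)
    have hmem : g⁻¹ * x ∈ Subgroup.zpowers g := by
      rw [← hi]; exact mul_mem (inv_mem (Subgroup.mem_zpowers g)) (zpow_mem (Subgroup.mem_zpowers g) i)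
    refine ⟨⟨⟨g⁻¹ * x, hmem⟩, MonoidHom.mem_ker.2 (Subtype.ext ?_)⟩, Finset.mem_univ _, mul_inv_cancel_left g x⟩
    have hc : Commute g⁻¹ x := by rw [← hi]; exact (Commute.self_zpow g i).inv_left
    show (g⁻¹ * x) ^ p ^ a = 1
    rw [hc.mul_pow, inv_pow, hgy, hx.1, inv_mul_cancel]

/-- The prime power case of Frobenius' theorem for a central right hand side. -/
theorem gcd_dvd_card_roots_central_prime_pow {G : Type u} [Group G] [Finite G] {p : ℕ} [Fact p.Prime] (a : ℕ)
    {y : G} (hy : y ∈ center G) : Nat.gcd (p ^ a) (Nat.card G) ∣ Nat.card {x : G // x ^ p ^ a = y} := by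
  obtain ⟨i, j, hij, hpi, hpj⟩ := CfsgLib.PNilpotent.exists_pPart_decomp (p := p) y
  obtain ⟨m, hm⟩ := exists_pow_eq_self_of_coprime (x := y ^ j) ((hpj.pow_right a).symm)
  set w := (y ^ j) ^ m with hw
  have hwc : ∀ x : G, Commute x w := fun x =>
    ((show Commute x y from Subgroup.mem_center_iff.1 hy x).pow_right j).pow_right m
  have hwpow : w ^ p ^ a = y ^ j := by rw [hw, ← pow_mul, mul_comm, pow_mul, hm]
  have heq : Nat.card {x : G // x ^ p ^ a = y} = Nat.card {x : G // x ^ p ^ a = y ^ i} := by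
    refine Nat.card_congr (Equiv.subtypeEquiv (Equiv.mulRight w⁻¹) fun x => ?_)
    rw [Equiv.coe_mulRight, (hwc x).inv_right.mul_pow, inv_pow, hwpow, mul_inv_eq_iff_eq_mul, hij]
  rw [heq]
  by_cases h1 : y ^ i = 1
  · rw [h1]
    exact CfsgLib.Counting.frobenius_prime_pow Fact.out a
  · exact (Nat.gcd_dvd_left _ _).trans (pow_dvd_card_roots_pElement a h1 hpi)

/-- Frobenius' theorem for a central right hand side. -/
theorem gcd_dvd_card_roots_central {G : Type u} [Group G] [Finite G] (n : ℕ) {c : G} (hc : c ∈ center G) :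
    Nat.gcd n (Nat.card G) ∣ Nat.card {x : G // x ^ n = c} := by
  classical
  haveI := Fintype.ofFinite G
  rw [Nat.dvd_iff_prime_pow_dvd_dvd]
  intro p k hp hk
  haveI : Fact p.Prime := ⟨hp⟩
  rcases Nat.eq_zero_or_pos n with rfl | hn
  · rw [Nat.gcd_zero_left] at hk
    by_cases h1 : c = 1
    · simpa [h1] using hk
    · have : IsEmpty {x : G // x ^ 0 = c} := ⟨fun x => h1 (by simpa using x.2.symm)⟩
      rw [Nat.card_of_isEmpty]
      exact dvd_zero _
  obtain ⟨a, m, hm, rfl⟩ := Nat.exists_eq_pow_mul_and_not_dvd hn.ne' p hp.ne_one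
  have hkle : p ^ k ∣ Nat.gcd (p ^ a) (Nat.card G) := by
    have h2 := hk.trans (Nat.gcd_dvd_left _ _)
    have h3 : Nat.Coprime (p ^ k) m := Nat.Coprime.pow_left _ (hp.coprime_iff_not_dvd.2 hm)
    exact Nat.dvd_gcd (h3.dvd_of_dvd_mul_right h2) (hk.trans (Nat.gcd_dvd_right _ _))
  refine hkle.trans ?_
  have hsplit : Nat.card {x : G // x ^ (p ^ a * m) = c} =
      ∑ y : G, if y ^ m = c then Nat.card {x : G // x ^ p ^ a = y} else 0 := by
    rw [← Finset.sum_filter, Finset.sum_subtype (Finset.univ.filter fun y : G => y ^ m = c) (p := fun y : G => y ^ m = c) (by simp)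
      (fun y : G => Nat.card {x : G // x ^ p ^ a = y}), ← Nat.card_sigma]
    exact Nat.card_congr
      { toFun := fun x => ⟨⟨x.1 ^ p ^ a, by rw [← pow_mul]; exact x.2⟩, x.1, rfl⟩
        invFun := fun z => ⟨z.2.1, by rw [pow_mul, z.2.2]; exact z.1.2⟩
        left_inv := fun _ => rfl
        right_inv := fun z => by
          obtain ⟨⟨y, hy⟩, x, hx⟩ := z
          simp only at hx
          subst hx
          rfl }
  rw [hsplit]
  refine CfsgLib.Counting.gcd_dvd_sum_conjInvariant (p ^ a) _ (fun g y => ?_) (fun y => ?_)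
  · have e : (g * y * g⁻¹) ^ m = c ↔ y ^ m = c := by
      rw [conj_pow, mul_inv_eq_iff_eq_mul]
      rw [← Subgroup.mem_center_iff.1 hc g]
      exact mul_left_cancel_iff
    simp only [e]
    split
    · exact (Nat.card_congr (Equiv.subtypeEquiv (MulAut.conj g).toEquiv fun x => by
        show x ^ p ^ a = y ↔ (g * x * g⁻¹) ^ p ^ a = g * y * g⁻¹
        rw [conj_pow]; simp)).symm
    · rfl
  · split
    · set C := centralizer ({y} : Set G)
      have hyC : y ∈ C := mem_centralizer_singleton_iff.2 rfl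
      have hcen : (⟨y, hyC⟩ : C) ∈ center C :=
        mem_center_iff.2 fun z => Subtype.ext (mem_centralizer_singleton_iff.1 z.2)
      refine (gcd_dvd_card_roots_central_prime_pow a hcen).trans (dvd_of_eq (Nat.card_congr ?_))
      exact
        { toFun := fun x => ⟨x.1.1, congrArg Subtype.val x.2⟩
          invFun := fun x => ⟨⟨x.1, mem_centralizer_singleton_iff.2 (by
            have h := Commute.self_pow x.1 (p ^ a)
            rw [x.2] at h
            exact h.eq)⟩,
            Subtype.ext x.2⟩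
          left_inv := fun _ => rfl
          right_inv := fun _ => rfl }
    · exact dvd_zero _

/-- Frobenius' generalized theorem. -/
theorem gcd_dvd_card_roots_class {G : Type u} [Group G] [Finite G] (c : G) (n : ℕ) :
    Nat.gcd (Nat.card {y : G // IsConj c y} * n) (Nat.card G) ∣ Nat.card {x : G // IsConj c (x ^ n)} := by
  classical
  haveI := Fintype.ofFinite G
  set C := centralizer ({c} : Set G)
  have hcC : c ∈ C := mem_centralizer_singleton_iff.2 rfl
  have hh : Nat.card {y : G // IsConj c y} = C.index := by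
    have h1 : (ConjClasses.mk c).carrier.ncard = C.index := by
      rw [← ConjAct.orbit_eq_carrier_conjClasses, ← MulAction.index_stabilizer, ConjAct.stabilizer_eq_centralizer]
      rfl
    rw [← h1, ← Nat.card_coe_set_eq]
    refine Nat.card_congr (Equiv.subtypeEquivRight fun y => ?_)
    rw [ConjClasses.mem_carrier_iff_mk_eq, ConjClasses.mk_eq_mk_iff_isConj, isConj_comm]
  have hcen : (⟨c, hcC⟩ : C) ∈ center C :=
    mem_center_iff.2 fun z => Subtype.ext (mem_centralizer_singleton_iff.1 z.2)
  have hfib : ∀ y : {y : G // IsConj c y}, Nat.card {x : G // x ^ n = y.1} = Nat.card {x : C // x ^ n = ⟨c, hcC⟩} := by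
    intro y
    obtain ⟨g, hg⟩ := isConj_iff.1 y.2
    refine (Nat.card_congr ?_).symm
    exact
      { toFun := fun x => ⟨g * x.1.1 * g⁻¹, by
          rw [conj_pow, show (x.1.1 : G) ^ n = c from congrArg Subtype.val x.2, hg]⟩
        invFun := fun x => ⟨⟨g⁻¹ * x.1 * g, mem_centralizer_singleton_iff.2 (by
            have e : (g⁻¹ * x.1 * g) ^ n = c := by
              rw [show g⁻¹ * x.1 * g = g⁻¹ * x.1 * (g⁻¹)⁻¹ by rw [inv_inv], conj_pow, x.2, ← hg]
              group
            have h := Commute.self_pow (g⁻¹ * x.1 * g) n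
            rw [e] at h
            exact h.eq)⟩, Subtype.ext (by
          show (g⁻¹ * x.1 * g) ^ n = c
          rw [show g⁻¹ * x.1 * g = g⁻¹ * x.1 * (g⁻¹)⁻¹ by rw [inv_inv], conj_pow, x.2, ← hg]
          group)⟩
        left_inv := fun x => Subtype.ext (Subtype.ext (by group))
        right_inv := fun x => Subtype.ext (by group) }
  have hcount : Nat.card {x : G // IsConj c (x ^ n)} = C.index * Nat.card {x : C // x ^ n = ⟨c, hcC⟩} := by
    rw [← hh]
    calc Nat.card {x : G // IsConj c (x ^ n)}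
        = Nat.card (Σ y : {y : G // IsConj c y}, {x : G // x ^ n = y.1}) := Nat.card_congr
          { toFun := fun x => ⟨⟨x.1 ^ n, x.2⟩, x.1, rfl⟩
            invFun := fun z => ⟨z.2.1, by rw [z.2.2]; exact z.1.2⟩
            left_inv := fun _ => rfl
            right_inv := fun z => by
              obtain ⟨⟨y, hy⟩, x, hx⟩ := z
              simp only at hx
              subst hx
              rfl }
      _ = _ := by
          rw [Nat.card_sigma, Finset.sum_congr rfl fun y _ => hfib y, Finset.sum_const, Finset.card_univ,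
            ← Nat.card_eq_fintype_card, smul_eq_mul]
  rw [hh, hcount, ← C.index_mul_card, Nat.gcd_mul_left]
  exact Nat.mul_dvd_mul_left _ (gcd_dvd_card_roots_central n hcen)

end CfsgLib.FGStruct
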