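import Mathlib
import Cfsg.Agent.Lib.Solvable.Gaschutz

/-!
Gaschütz: an abelian normal subgroup is complemented once it is complemented in the preimage of a Sylow
subgroup for each prime dividing the index.
-/

open Subgroup

namespace CfsgLib.FGStruct

open CfsgLib.Solvable

variable {G : Type*} [Group G] [Finite G] (K : Subgroup G) [K.Normal] [hKc : IsMulCommutative K]

/-- A crossed homomorphism `G → K` which is the `n`-th power on `K` exists. -/
def PowCocycle (n : ℤ) : Prop :=
  ∃ f : G → K, (∀ g h, f (g * h) = f g * conjK K g (f h)) ∧ ∀ k : K, f (k : G) = k ^ n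

theorem powCocycle_of_complement {A U : Subgroup G} (hKU : K ≤ U) (hAK : A ⊓ K = ⊥) (hKA : K ⊔ A = U) :
    PowCocycle K (U.index : ℤ) := by
  classical
  haveI : Fintype (G ⧸ U) := Fintype.ofFinite _
  letI : CommGroup K :=
    { (inferInstance : Group K) with mul_comm := fun a b => Subtype.ext (setLike_mul_comm a.2 b.2) }
  let u : G → G ⧸ U → G := fun g q => (g • q).out⁻¹ * g * q.out
  have hu : ∀ g q, u g q ∈ U := fun g q => by
    have : QuotientGroup.mk (s := U) (g • q).out = QuotientGroup.mk (g * q.out) := by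
      rw [QuotientGroup.out_eq', ← smul_eq_mul, MulAction.Quotient.coe_smul_out]
    simpa [u, mul_assoc] using QuotientGroup.eq.1 this
  refine ⟨fun g => ∏ q, conjK K (g • q).out (component K A (u g q)), fun g h => ?_, fun k => ?_⟩
  · simp only [map_prod]
    rw [← Equiv.prod_comp (MulAction.toPerm h) (fun q => conjK K (g • q).out (component K A (u g q))),
      ← Finset.prod_mul_distrib]
    refine Finset.prod_congr rfl fun q _ => ?_
    have hdec : u (g * h) q = u g (h • q) * u h q := by
      simp only [u, mul_smul]; group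
    simp only [MulAction.toPerm_apply]
    rw [hdec, component_mul hAK (by rw [hKA]; exact hu _ _) (by rw [hKA]; exact hu _ _), map_mul, conjK_conjK,
      conjK_conjK, mul_smul]
    congr 2
    simp only [u]
    group
  · have hfix : ∀ q : G ⧸ U, (k : G) • q = q := by
      intro q
      conv_lhs => rw [← QuotientGroup.out_eq' q]
      rw [← MulAction.Quotient.coe_smul_out]
      conv_rhs => rw [← QuotientGroup.out_eq' q]
      refine QuotientGroup.eq.2 ?_
      rw [QuotientGroup.out_eq']
      have := hKU (Subgroup.Normal.conj_mem ‹K.Normal› _ (K.inv_mem k.2) q.out⁻¹)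
      simpa [mul_assoc] using this
    rw [zpow_natCast, Subgroup.index_eq_card, Nat.card_eq_fintype_card, ← Finset.card_univ, ← Finset.prod_const]
    refine Finset.prod_congr rfl fun q _ => ?_
    simp only [u, hfix q]
    rw [component_of_mem hAK (by simpa using Subgroup.Normal.conj_mem ‹K.Normal› _ k.2 q.out⁻¹)]
    exact Subtype.ext (by simp only [conjK, MonoidHom.coe_mk, OneHom.coe_mk]; group)

theorem powCocycle_zero : PowCocycle K (0 : ℤ) :=
  ⟨fun _ => 1, fun g h => by simp, fun k => by simp⟩

theorem powCocycle_lin {m n : ℤ} (hm : PowCocycle K m) (hn : PowCocycle K n) (a b : ℤ) :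
    PowCocycle K (m * a + n * b) := by
  obtain ⟨f, hf, hf'⟩ := hm
  obtain ⟨g, hg, hg'⟩ := hn
  letI : CommGroup K :=
    { (inferInstance : Group K) with mul_comm := fun a b => Subtype.ext (setLike_mul_comm a.2 b.2) }
  refine ⟨fun x => f x ^ a * g x ^ b, fun x y => ?_, fun k => ?_⟩
  · simp only [hf, hg, mul_zpow, map_mul, map_zpow]
    exact mul_mul_mul_comm _ _ _ _
  · simp only [hf', hg', ← zpow_mul, ← zpow_add]

theorem powCocycle_finset_gcd {ι : Type*} (s : Finset ι) (m : ι → ℕ) (h : ∀ i ∈ s, PowCocycle K (m i : ℤ)) :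
    PowCocycle K ((s.gcd m : ℕ) : ℤ) := by
  classical
  induction s using Finset.induction_on with
  | empty => simpa using powCocycle_zero K
  | insert i s hi ih =>
    have h1 := h i (Finset.mem_insert_self i s)
    have h2 := ih fun j hj => h j (Finset.mem_insert_of_mem hj)
    rw [Finset.gcd_insert]
    show PowCocycle K ((Nat.gcd (m i) (s.gcd m) : ℕ) : ℤ)
    rw [Nat.gcd_eq_gcd_ab]
    exact powCocycle_lin K h1 h2 _ _

theorem exists_complement_of_powCocycle_one (h : PowCocycle K (1 : ℤ)) : ∃ H : Subgroup G, H.IsComplement' K := by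
  obtain ⟨f, hf, hfK'⟩ := h
  have hfK : ∀ k : K, f (k : G) = k := fun k => by rw [hfK', zpow_one]
  have hf1 : f 1 = 1 := hfK 1
  let H : Subgroup G :=
    { carrier := {g | f g = 1}
      one_mem' := hf1
      mul_mem' := fun {a b} ha hb => by
        show f (a * b) = 1
        rw [hf, ha, hb, map_one, mul_one]
      inv_mem' := fun {a} ha => by
        show f a⁻¹ = 1
        have h := hf a⁻¹ a
        rw [inv_mul_cancel, hf1, show f a = 1 from ha, map_one, mul_one] at h
        exact h.symm }
  refine ⟨H, Subgroup.IsComplement'.symm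
    (Subgroup.isComplement'_of_disjoint_and_mul_eq_univ ?_ (Set.eq_univ_of_forall fun g => ?_))⟩
  · rw [Subgroup.disjoint_def]
    intro x hx hxH
    have h := hfK ⟨x, hx⟩
    rw [show f x = 1 from hxH] at h
    exact congrArg Subtype.val h.symm
  · refine ⟨f g, (f g).2, ((f g : K) : G)⁻¹ * g, ?_, mul_inv_cancel_left _ _⟩
    show f _ = 1
    rw [← Subgroup.coe_inv, hf, hfK]
    have hc : conjK K ((f g)⁻¹ : K) (f g) = f g :=
      Subtype.ext (by simp only [conjK, MonoidHom.coe_mk, OneHom.coe_mk, Subgroup.coe_inv]; group)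
    rw [hc, inv_mul_cancel]

theorem exists_complement_iff_sylow_local :
    (∃ H : Subgroup G, H.IsComplement' K) ↔ ∀ p : ℕ, p.Prime → p ∣ K.index →
      ∃ (S : Sylow p (G ⧸ K)) (A : Subgroup G), A ⊓ K = ⊥ ∧ A ⊔ K = (S : Subgroup (G ⧸ K)).comap (QuotientGroup.mk' K) := by
  classical
  constructor
  · rintro ⟨H, hH⟩ p hp -
    haveI : Fact p.Prime := ⟨hp⟩
    obtain ⟨S⟩ : Nonempty (Sylow p (G ⧸ K)) := inferInstance
    set U := (S : Subgroup (G ⧸ K)).comap (QuotientGroup.mk' K)
    have hKU : K ≤ U := fun x hx => by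
      rw [Subgroup.mem_comap, QuotientGroup.mk'_apply, (QuotientGroup.eq_one_iff x).2 hx]; exact one_mem _
    refine ⟨S, H ⊓ U, le_bot_iff.1 ((inf_le_inf_right K inf_le_left).trans hH.disjoint.le_bot), ?_⟩
    refine le_antisymm (sup_le inf_le_right hKU) fun g hg => ?_
    obtain ⟨x, hx, k, hk, rfl⟩ := hH.mul_eq ▸ Set.mem_univ g
    have hxU : x ∈ U := by
      have := mul_mem hg (inv_mem (hKU hk))
      rwa [mul_inv_cancel_right] at this
    exact mul_mem (Subgroup.mem_sup_left ⟨hx, hxU⟩) (Subgroup.mem_sup_right hk)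
  · intro h
    apply exists_complement_of_powCocycle_one
    let P : ℕ → ℕ → Prop := fun p m => (p.Prime → ¬ p ∣ m) ∧ PowCocycle K (m : ℤ)
    have hex : ∀ p ∈ K.index.primeFactors, ∃ m, P p m := by
      intro p hp
      obtain ⟨S, A, hAK, hKA⟩ := h p (Nat.prime_of_mem_primeFactors hp) (Nat.dvd_of_mem_primeFactors hp)
      haveI : Fact p.Prime := ⟨Nat.prime_of_mem_primeFactors hp⟩
      refine ⟨((S : Subgroup (G ⧸ K)).comap (QuotientGroup.mk' K)).index, fun _ => ?_,
        powCocycle_of_complement K ?_ hAK (by rw [sup_comm, hKA])⟩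
      · rw [Subgroup.index_comap_of_surjective _ (QuotientGroup.mk'_surjective K)]; exact S.not_dvd_index
      · intro x hx
        rw [Subgroup.mem_comap, QuotientGroup.mk'_apply, (QuotientGroup.eq_one_iff x).2 hx]; exact one_mem _
    choose! m hm using hex
    have h0 : PowCocycle K (K.index : ℤ) := powCocycle_of_complement K le_rfl (bot_inf_eq K) (sup_bot_eq K)
    have hs := powCocycle_finset_gcd K K.index.primeFactors m fun p hp => (hm p hp).2
    have hg : Nat.gcd K.index (K.index.primeFactors.gcd m) = 1 := by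
      by_contra hne
      obtain ⟨q, hq, hqd⟩ := Nat.exists_prime_and_dvd hne
      have hmem : q ∈ K.index.primeFactors :=
        Nat.mem_primeFactors.2 ⟨hq, hqd.trans (Nat.gcd_dvd_left _ _), Subgroup.index_ne_zero_of_finite⟩
      exact (hm q hmem).1 hq ((hqd.trans (Nat.gcd_dvd_right _ _)).trans (Finset.gcd_dvd hmem))
    have := powCocycle_lin K h0 hs (Nat.gcdA K.index (K.index.primeFactors.gcd m))
      (Nat.gcdB K.index (K.index.primeFactors.gcd m))
    rw [← Nat.gcd_eq_gcd_ab, hg] at this
    simpa using this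

end CfsgLib.FGStruct
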