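import Mathlib
import Cfsg.Agent.Lib.Solvable.Hall
import Cfsg.Agent.Lib.Solvable.Core
import Cfsg.Agent.Lib.Solvable.Basic

/-!
P. Hall's theorem on the number of Hall subgroups of a solvable group.
-/

open Subgroup
open scoped Pointwise

namespace CfsgLib.FGStruct.HallCount

universe u

variable {G : Type u} [Group G] [Finite G]

/-- The index of the fixed points of a solvable coprime group splits into factors `≡ 1`. -/
theorem fixed_index_factors [Group.IsSolvable G] (V : Subgroup G) [V.Normal] {q : ℕ} (hq : q.Prime)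
    (hV : IsPGroup q V) :
    ∀ H : Subgroup G, ¬ q ∣ Nat.card H →
      ∃ L : List ℕ, Nat.card V = Nat.card (V ⊓ centralizer (H : Set G) : Subgroup G) * L.prod ∧
        ∀ f ∈ L, (∃ e : ℕ, f = q ^ e) ∧ f ∣ Nat.card V ∧ ∃ r : ℕ, r.Prime ∧ r ∣ Nat.card H ∧ f ≡ 1 [MOD r] := by
  intro H
  induction hn : Nat.card H using Nat.strong_induction_on generalizing H with
  | _ n ih =>
  subst hn
  intro hqH
  by_cases hH : H = ⊥
  · refine ⟨[], ?_, by simp⟩
    rw [List.prod_nil, mul_one, show V ⊓ centralizer (H : Set G) = V from inf_eq_left.2 fun v _ =>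
      mem_centralizer_iff.2 fun h hh => by rw [hH, SetLike.mem_coe, mem_bot] at hh; simp [hh]]
  haveI : Nontrivial H := (nontrivial_iff_ne_bot H).2 hH
  obtain ⟨M0, hM0n, -, hr⟩ := CfsgLib.Solvable.exists_normal_prime_index (G := H)
  set r := M0.index with hrdef
  haveI := Fact.mk hr
  haveI := Fact.mk hq
  set M := M0.map H.subtype with hM
  have hMH : M ≤ H := map_subtype_le _
  have hcM : Nat.card M = Nat.card M0 := Subgroup.card_map_of_injective H.subtype_injective
  have hrd : r ∣ Nat.card H := ⟨Nat.card M0, by rw [mul_comm, hrdef, card_mul_index]⟩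
  have hlt : Nat.card M < Nat.card H := by
    rw [hcM, ← M0.card_mul_index]
    exact lt_mul_of_one_lt_right Nat.card_pos hr.one_lt
  obtain ⟨L, hL, hLf⟩ := ih _ hlt M rfl (fun h => hqH (h.trans (card_dvd_of_le hMH)))
  -- an element of `r`-power order outside `M`
  obtain ⟨S⟩ : Nonempty (Sylow r H) := inferInstance
  have hSM : ¬ (S : Subgroup H) ≤ M0 := fun h => by
    have := S.not_dvd_index
    exact this (dvd_trans dvd_rfl (index_dvd_of_le h))
  obtain ⟨x, hxS, hxM⟩ := SetLike.not_le_iff_exists.1 hSM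
  have hxr : IsPGroup r (zpowers (x : G)) := by
    obtain ⟨k, hk⟩ := IsPGroup.iff_orderOf.1 S.2 ⟨x, hxS⟩
    rw [Subgroup.orderOf_mk] at hk
    exact IsPGroup.of_card (n := k) (by rw [Nat.card_zpowers, Subgroup.orderOf_coe, hk])
  have hgen : M ⊔ zpowers (x : G) = H := by
    refine le_antisymm (sup_le hMH (zpowers_le.2 x.2)) fun y hy => ?_
    have htop : M0 ⊔ zpowers x = ⊤ := by
      have hlt' : M0 < M0 ⊔ zpowers x := lt_of_le_of_ne le_sup_left fun e => hxM (e ▸ mem_sup_right (mem_zpowers x))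
      have h1 := index_dvd_of_le hlt'.le
      rcases (Nat.dvd_prime hr).1 h1 with h | h
      · exact index_eq_one.1 h
      · exact absurd (eq_of_le_of_card_ge hlt'.le (Nat.le_of_mul_le_mul_right
          (by rw [card_mul_index, ← h, card_mul_index]) hr.pos)) hlt'.ne
    have := mem_map_of_mem H.subtype (htop ▸ mem_top (⟨y, hy⟩ : H) : (⟨y, hy⟩ : H) ∈ M0 ⊔ zpowers x)
    rw [Subgroup.map_sup, MonoidHom.map_zpowers] at this
    exact this
  set V1 := V ⊓ centralizer (M : Set G) with hV1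
  set V0 := V ⊓ centralizer (H : Set G) with hV0
  have hV01 : V0 ≤ V1 := inf_le_inf_left _ (centralizer_le hMH)
  have hxn : (x : G) ∈ normalizer (V1 : Set G) := by
    have hfix : ∀ z ∈ H, ∀ v ∈ V1, z * v * z⁻¹ ∈ V1 := by
      intro z hz v hv
      refine ⟨(inferInstance : V.Normal).conj_mem v hv.1 z, mem_centralizer_iff.2 fun m hm => ?_⟩
      obtain ⟨m', hm', rfl⟩ := hm
      have h1 : z⁻¹ * (m' : G) * z ∈ M := ⟨(⟨z, hz⟩ : H)⁻¹ * m' * ⟨z, hz⟩, by
        simpa using hM0n.conj_mem m' hm' (⟨z, hz⟩ : H)⁻¹, by simp⟩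
      have h2 := mem_centralizer_iff.1 hv.2 _ h1
      calc (m' : G) * (z * v * z⁻¹) = z * ((z⁻¹ * m' * z) * v) * z⁻¹ := by group
        _ = z * (v * (z⁻¹ * m' * z)) * z⁻¹ := by rw [h2]
        _ = z * v * z⁻¹ * m' := by group
    rw [mem_normalizer_iff]
    refine fun v => ⟨hfix _ x.2 v, fun hv => ?_⟩
    have := hfix _ (inv_mem x.2) _ hv
    simpa [mul_assoc] using this
  let _ : MulAction (zpowers (x : G)) V1 :=
    { smul := fun z v => ⟨(z : G) * v * (z : G)⁻¹, (mem_normalizer_iff.1 (zpowers_le.2 hxn z.2) v).1 v.2⟩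
      one_smul := fun v => Subtype.ext (by change (1 : G) * v * (1 : G)⁻¹ = v; group)
      mul_smul := fun a b v => Subtype.ext (by
        change ((a : G) * b) * v * ((a : G) * b)⁻¹ = a * (b * v * (b : G)⁻¹) * (a : G)⁻¹
        group) }
  have hmod := hxr.card_modEq_card_fixedPoints V1
  have hfp : Nat.card (MulAction.fixedPoints (zpowers (x : G)) V1) = Nat.card V0 := by
    refine Nat.card_congr ⟨fun v => ⟨v.1.1, v.1.2.1, ?_⟩, fun v => ⟨⟨v.1, hV01 v.2⟩, fun z => ?_⟩, fun v => rfl, fun v => rfl⟩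
    · refine mem_centralizer_iff.2 fun y hy => ?_
      have : M ⊔ zpowers (x : G) ≤ centralizer {(v.1 : G)} := sup_le
        (fun m hm => mem_centralizer_singleton_iff.2 (mem_centralizer_iff.1 v.1.2.2 m hm))
        (zpowers_le.2 (mem_centralizer_singleton_iff.2 (mul_inv_eq_iff_eq_mul.1
          (congrArg Subtype.val (v.2 ⟨x, mem_zpowers _⟩)))))
      exact mem_centralizer_singleton_iff.1 (this (hgen.ge hy))
    · refine Subtype.ext ?_
      change (z : G) * v * (z : G)⁻¹ = v
      rw [mem_centralizer_iff.1 v.2.2 z (zpowers_le.2 x.2 z.2), mul_inv_cancel_right]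
  rw [hfp] at hmod
  obtain ⟨a, ha⟩ := IsPGroup.iff_card.1 (hV.to_le (inf_le_left : V1 ≤ V))
  obtain ⟨b, hb⟩ := IsPGroup.iff_card.1 (hV.to_le (inf_le_left : V0 ≤ V))
  have hba : b ≤ a := (Nat.pow_le_pow_iff_right hq.one_lt).1 (by
    rw [← ha, ← hb]; exact Nat.le_of_dvd Nat.card_pos (card_dvd_of_le hV01))
  have hsplit : Nat.card V1 = Nat.card V0 * q ^ (a - b) := by
    rw [ha, hb, ← pow_add, Nat.add_sub_cancel' hba]
  refine ⟨q ^ (a - b) :: L, ?_, ?_⟩
  · rw [List.prod_cons, hL, hsplit, mul_assoc]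
  · intro f hf
    rcases List.mem_cons.1 hf with rfl | hf
    · refine ⟨⟨_, rfl⟩, (dvd_mul_left _ _).trans (hsplit.symm.dvd.trans (card_dvd_of_le inf_le_left)), r, hr, hrd, ?_⟩
      rw [hsplit] at hmod
      refine Nat.ModEq.cancel_left_of_coprime (c := Nat.card V0) ?_ (by simpa using hmod)
      rw [hb]
      exact ((Nat.coprime_primes hr hq).2 fun e => hqH (e ▸ hrd)).pow_right b
    · obtain ⟨h1, h2, r', hr', hd', hc'⟩ := hLf f hf
      exact ⟨h1, h2, r', hr', hd'.trans (card_dvd_of_le hMH), hc'⟩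

omit [Finite G] in
theorem chief_comap {V : Subgroup G} [V.Normal] {K L : Subgroup (G ⧸ V)}
    (hc : ∀ M : Subgroup (G ⧸ V), M.Normal → K ≤ M → M ≤ L → M = K ∨ M = L) :
    ∀ M : Subgroup G, M.Normal → K.comap (QuotientGroup.mk' V) ≤ M → M ≤ L.comap (QuotientGroup.mk' V) →
      M = K.comap (QuotientGroup.mk' V) ∨ M = L.comap (QuotientGroup.mk' V) := by
  intro M hM hKM hML
  have hs := QuotientGroup.mk'_surjective V
  have hVM : V ≤ M := le_trans (fun v hv => by
    rw [mem_comap, show QuotientGroup.mk' V v = 1 from (QuotientGroup.eq_one_iff v).2 hv]; exact one_mem _) hKM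
  have hback : (M.map (QuotientGroup.mk' V)).comap (QuotientGroup.mk' V) = M := by
    rw [comap_map_eq, QuotientGroup.ker_mk', sup_eq_left.2 hVM]
  rcases hc _ (hM.map _ hs) (by rw [← map_comap_eq_self_of_surjective hs K]; exact map_mono hKM)
    (map_le_iff_le_comap.2 hML) with h | h
  · left; rw [← h, hback]
  · right; rw [← h, hback]

omit [Finite G] in
/-- The number of Hall subgroups factorises as asserted. -/
theorem count_factors : ∀ (N : ℕ) (G : Type u) [Group G] [Finite G] [Group.IsSolvable G], Nat.card G = N →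
    ∀ m n : ℕ, Nat.card G = m * n → Nat.Coprime m n →
    ∃ L : List ℕ, Nat.card {H : Subgroup G // Nat.card H = m} = L.prod ∧ ∀ f ∈ L,
      (∃ q e : ℕ, q.Prime ∧ f = q ^ e) ∧
      (∃ K L : Subgroup G, K.Normal ∧ L.Normal ∧ K < L ∧
        (∀ M : Subgroup G, M.Normal → K ≤ M → M ≤ L → M = K ∨ M = L) ∧ f ∣ K.relIndex L) ∧
      (∃ q : ℕ, q.Prime ∧ q ∣ m ∧ f ≡ 1 [MOD q]) := by
  intro N
  induction N using Nat.strong_induction_on with
  | _ N ih =>
  intro G _ _ _ hN m n hG hmn
  subst hN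
  rcases subsingleton_or_nontrivial G with hs | hs
  · refine ⟨[], ?_, by simp⟩
    rw [List.prod_nil, Nat.card_eq_one_iff_unique]
    have h1 : Nat.card G = 1 := Nat.card_eq_one_iff_unique.2 ⟨hs, inferInstance⟩
    refine ⟨⟨fun A B => Subtype.ext (Subsingleton.elim _ _)⟩, ⟨⊥, ?_⟩⟩
    rw [card_bot, eq_comm]
    exact Nat.eq_one_of_mul_eq_one_right (hG.symm.trans h1)
  obtain ⟨q, N0, hq, hN0, hN0q, hN01⟩ := CfsgLib.Solvable.exists_normal_pgroup_ne_bot (G := G)
  haveI := Fact.mk hq
  haveI := hN0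
  obtain ⟨V, hVn, hV1, hVN0, hVmin⟩ := CfsgLib.Solvable.exists_minimal_normal_le N0 hN01
  have hVq : IsPGroup q V := hN0q.to_le hVN0
  haveI := hVn
  set π := QuotientGroup.mk' V with hπ
  have hπs : Function.Surjective π := QuotientGroup.mk'_surjective V
  obtain ⟨a, ha⟩ := IsPGroup.iff_card.1 hVq
  have ha0 : a ≠ 0 := fun e => hV1 (Subgroup.card_eq_one.1 (by rw [ha, e, pow_zero]))
  have hlt : Nat.card (G ⧸ V) < Nat.card G := by
    rw [card_eq_card_quotient_mul_card_subgroup V]
    exact lt_mul_of_one_lt_right Nat.card_pos ((one_lt_card_iff_ne_bot V).mpr hV1)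
  haveI : Group.IsSolvable (G ⧸ V) := Group.isSolvable_of_surjective hπs
  have hcardq : Nat.card G = Nat.card (G ⧸ V) * q ^ a := by rw [← ha]; exact card_eq_card_quotient_mul_card_subgroup V
  have hVchief : ∀ f : ℕ, f ∣ Nat.card V → ∃ K L : Subgroup G, K.Normal ∧ L.Normal ∧ K < L ∧
      (∀ M : Subgroup G, M.Normal → K ≤ M → M ≤ L → M = K ∨ M = L) ∧ f ∣ K.relIndex L := fun f hf =>
    ⟨⊥, V, inferInstance, hVn, bot_lt_iff_ne_bot.2 hV1, fun M hM _ hMV => hVmin M hM hMV, by rwa [relIndex_bot_left]⟩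
  have hlift : ∀ {m' : ℕ} {f : ℕ},
      ((∃ q e : ℕ, q.Prime ∧ f = q ^ e) ∧
        (∃ K L : Subgroup (G ⧸ V), K.Normal ∧ L.Normal ∧ K < L ∧
          (∀ M : Subgroup (G ⧸ V), M.Normal → K ≤ M → M ≤ L → M = K ∨ M = L) ∧ f ∣ K.relIndex L) ∧
        (∃ q : ℕ, q.Prime ∧ q ∣ m' ∧ f ≡ 1 [MOD q])) → m' ∣ m →
      ((∃ q e : ℕ, q.Prime ∧ f = q ^ e) ∧
        (∃ K L : Subgroup G, K.Normal ∧ L.Normal ∧ K < L ∧
          (∀ M : Subgroup G, M.Normal → K ≤ M → M ≤ L → M = K ∨ M = L) ∧ f ∣ K.relIndex L) ∧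
        (∃ q : ℕ, q.Prime ∧ q ∣ m ∧ f ≡ 1 [MOD q])) := by
    rintro m' f ⟨h1, ⟨K, L, hK, hL, hKL, hc, hd⟩, ⟨r, hr, hrd, hrm⟩⟩ hm'
    refine ⟨h1, ⟨K.comap π, L.comap π, hK.comap π, hL.comap π, ?_, chief_comap hc, ?_⟩, ⟨r, hr, hrd.trans hm', hrm⟩⟩
    · exact (comap_lt_comap_of_surjective hπs).2 hKL
    · rwa [relIndex_comap, map_comap_eq_self_of_surjective hπs]
  by_cases hqm : q ∣ m
  · -- `V` lies in every Hall subgroup
    have hqn : ¬ q ∣ n := fun h => hq.ne_one (Nat.eq_one_of_dvd_coprimes hmn hqm h)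
    have hVH : ∀ H : Subgroup G, Nat.card H = m → V ≤ H := by
      intro H hH
      rw [← relIndex_eq_one]
      refine Nat.eq_one_of_dvd_coprimes ((hq.coprime_iff_not_dvd.2 hqn).pow_left a) (ha ▸ relIndex_dvd_card H V) ?_
      have hidx : H.index = n := by
        have h := card_mul_index H
        rw [hH, hG] at h
        exact Nat.eq_of_mul_eq_mul_left (hH ▸ Nat.card_pos) h
      have e2 := CfsgLib.Solvable.card_inf_mul_relIndex H V
      have e3 := CfsgLib.Solvable.card_inf_mul_relIndex V H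
      have e4 := CfsgLib.Solvable.card_inf_mul_relIndex V (H ⊔ V)
      rw [inf_of_le_left le_sup_right, relIndex_sup_right] at e4
      have hdd : Nat.card (H ⊔ V : Subgroup G) ∣ m * n := hG ▸ card_subgroup_dvd_card _
      rw [← e4, ← e2, inf_comm H V] at hdd
      refine (Nat.mul_dvd_mul_iff_left (hH ▸ Nat.card_pos : 0 < m)).1 ?_
      refine dvd_trans (dvd_of_eq ?_) hdd
      rw [← hH, ← e3]; ring
    obtain ⟨m', hm'⟩ : q ^ a ∣ m := ((hq.coprime_iff_not_dvd.2 hqn).pow_left a).dvd_of_dvd_mul_right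
      (by rw [← hG, hcardq]; exact dvd_mul_left _ _)
    have hG' : Nat.card (G ⧸ V) = m' * n := by
      have := hcardq.symm.trans hG
      rw [hm'] at this
      exact Nat.eq_of_mul_eq_mul_right (pow_pos hq.pos a) (by rw [this]; ring)
    obtain ⟨L, hL, hLf⟩ := ih _ hlt (G ⧸ V) rfl m' n hG' (hmn.coprime_dvd_left (hm' ▸ dvd_mul_left _ _))
    refine ⟨L, ?_, fun f hf => hlift (hLf f hf) (hm' ▸ dvd_mul_left _ _)⟩
    rw [← hL]
    have hc1 : ∀ H : Subgroup G, Nat.card H = m → Nat.card (H.map π) = m' := fun H hH => by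
      have h1 := CfsgLib.Solvable.card_comap_mk' V (H.map π)
      rw [comap_map_eq, QuotientGroup.ker_mk', sup_eq_left.2 (hVH H hH), hH, ha, hm'] at h1
      exact (Nat.eq_of_mul_eq_mul_left (pow_pos hq.pos a) h1).symm
    exact Nat.card_congr
      ⟨fun H => ⟨H.1.map π, hc1 _ H.2⟩,
        fun H => ⟨H.1.comap π, by rw [CfsgLib.Solvable.card_comap_mk', H.2, ha, hm']⟩,
        fun H => Subtype.ext (by
          show (H.1.map π).comap π = H.1
          rw [comap_map_eq, QuotientGroup.ker_mk', sup_eq_left.2 (hVH _ H.2)]),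
        fun H => Subtype.ext (map_comap_eq_self_of_surjective hπs _)⟩
  · -- `V` meets every Hall subgroup trivially
    obtain ⟨n', hn'⟩ : q ^ a ∣ n := ((hq.coprime_iff_not_dvd.2 hqm).pow_left a).dvd_of_dvd_mul_left
      (by rw [← hG, hcardq]; exact dvd_mul_left _ _)
    have hG' : Nat.card (G ⧸ V) = m * n' := by
      have := hcardq.symm.trans hG
      rw [hn'] at this
      exact Nat.eq_of_mul_eq_mul_right (pow_pos hq.pos a) (by rw [this]; ring)
    obtain ⟨L, hL, hLf⟩ := ih _ hlt (G ⧸ V) rfl m n' hG' (hmn.coprime_dvd_right (hn' ▸ dvd_mul_left _ _))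
    have hinj : ∀ H : Subgroup G, Nat.card H = m → V ⊓ H = ⊥ := fun H hH =>
      inf_eq_bot_of_coprime (by rw [ha, hH]; exact (hq.coprime_iff_not_dvd.2 hqm).pow_left a)
    have hc1 : ∀ H : Subgroup G, Nat.card H = m → Nat.card (H.map π) = m := fun H hH => by
      let f : H →* G ⧸ V := π.comp H.subtype
      have hf : Function.Injective f := by
        rw [← MonoidHom.ker_eq_bot_iff, eq_bot_iff]
        intro x hx
        have : (x : G) ∈ V ⊓ H := ⟨(QuotientGroup.eq_one_iff _).1 hx, x.2⟩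
        rw [hinj H hH, mem_bot] at this
        exact mem_bot.2 (Subtype.ext this)
      have h1 : H.map π = f.range := by
        rw [MonoidHom.range_comp, range_subtype]
      rw [h1, ← Nat.card_congr (MonoidHom.ofInjective hf).toEquiv, hH]
    let Φ : {H : Subgroup G // Nat.card H = m} → {H : Subgroup (G ⧸ V) // Nat.card H = m} :=
      fun H => ⟨H.1.map π, hc1 _ H.2⟩
    obtain ⟨H0, hH0⟩ := CfsgLib.Solvable.exists_isPiHall (G := G) {r | r ∣ m}
    have hH0m := CfsgLib.Solvable.card_isPiHall_dvd hG hmn hH0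
    have hfib : ∀ Hb : {H : Subgroup (G ⧸ V) // Nat.card H = m},
        Nat.card {H : {H : Subgroup G // Nat.card H = m} // Φ H = Hb} * Nat.card (V ⊓ centralizer (H0 : Set G) : Subgroup G) = Nat.card V := by
      rintro ⟨Hb, hHb⟩
      obtain ⟨g, hg⟩ := CfsgLib.Solvable.isPiHall_conj
        (CfsgLib.Solvable.isPiHall_of_card hG' (hmn.coprime_dvd_right (hn' ▸ dvd_mul_left _ _)) (hc1 _ hH0m))
        (CfsgLib.Solvable.isPiHall_of_card hG' (hmn.coprime_dvd_right (hn' ▸ dvd_mul_left _ _)) hHb)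
      obtain ⟨g, rfl⟩ := hπs g
      set H1 := MulAut.conj g • H0 with hH1
      have hH1m : Nat.card H1 = m := by rw [hH1, CfsgLib.Solvable.card_conj_smul, hH0m]
      have hmapconj : ∀ (z : G) (H : Subgroup G), (MulAut.conj z • H).map π = MulAut.conj (π z) • H.map π := fun z H => by
        rw [CfsgLib.Solvable.conj_smul_eq_map, CfsgLib.Solvable.conj_smul_eq_map, map_map, map_map]
        congr 1
      have hH1b : H1.map π = Hb := by rw [hH1, hmapconj, hg]
      let _ : MulAction V (Subgroup G) := MulAction.compHom _ ((MulAut.conj : G →* MulAut G).comp V.subtype)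
      have horb : ∀ H : Subgroup G, (H ∈ MulAction.orbit V H1) ↔ (∃ h : Nat.card H = m, Φ ⟨H, h⟩ = ⟨Hb, hHb⟩) := by
        intro H
        constructor
        · rintro ⟨v, rfl⟩
          refine ⟨(CfsgLib.Solvable.card_conj_smul _ _).trans hH1m, Subtype.ext ?_⟩
          show (MulAut.conj (v : G) • H1).map π = Hb
          rw [hmapconj, hH1b, show π (v : G) = 1 from (QuotientGroup.eq_one_iff _).2 v.2, map_one, one_smul]
        · rintro ⟨h, e⟩
          have e' : H.map π = H1.map π := (congrArg Subtype.val e).trans hH1b.symm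
          set W := Hb.comap π with hW
          have hWc : Nat.card W = m * q ^ a := by rw [hW, CfsgLib.Solvable.card_comap_mk', ha, hHb, mul_comm]
          have hle : ∀ X : Subgroup G, X.map π = H1.map π → X ≤ W := fun X hX => by
            rw [hW, ← hH1b, ← hX]; exact le_comap_map π X
          have hcopm : m.Coprime (q ^ a) := ((hq.coprime_iff_not_dvd.2 hqm).pow_left a).symm
          have hsub : ∀ X : Subgroup G, X.map π = H1.map π → Nat.card X = m →
              Cfsg.IsPiHall {r | r ∣ m} (X.subgroupOf W) := fun X hX hXc =>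
            CfsgLib.Solvable.isPiHall_of_card hWc hcopm (by rw [Nat.card_congr (subgroupOfEquivOfLe (hle X hX)).toEquiv, hXc])
          obtain ⟨w, hw⟩ := CfsgLib.Solvable.isPiHall_conj (hsub H1 rfl hH1m) (hsub H e' h)
          have hw' : MulAut.conj (w : G) • H1 = H := by
            have := congrArg (fun X : Subgroup W => X.map W.subtype) hw
            rw [CfsgLib.Solvable.conj_smul_eq_map] at this
            rw [CfsgLib.Solvable.conj_smul_eq_map]
            have h2 : ((H1.subgroupOf W).map (MulAut.conj w).toMonoidHom).map W.subtype =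
                ((H1.subgroupOf W).map W.subtype).map (MulAut.conj (w : G)).toMonoidHom := by
              rw [map_map, map_map]; rfl
            rw [map_subgroupOf_eq_of_le (hle H e')] at this
            rw [← this]
            first
              | rw [h2, map_subgroupOf_eq_of_le (hle H1 rfl)]
              | (show _ = ((H1.subgroupOf W).map (MulAut.conj w).toMonoidHom).map W.subtype
                 rw [h2, map_subgroupOf_eq_of_le (hle H1 rfl)])
          have hwW : (w : G) ∈ (H1.map π).comap π := by rw [hH1b]; exact w.2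
          rw [comap_map_eq, QuotientGroup.ker_mk', sup_comm] at hwW
          rw [← SetLike.mem_coe, normal_mul] at hwW
          obtain ⟨v, hv, h1, hh1, hvh⟩ := Set.mem_mul.1 hwW
          refine ⟨⟨v, hv⟩, ?_⟩
          show MulAut.conj v • H1 = H
          rw [← hw', ← hvh, map_mul, mul_smul, CfsgLib.Solvable.conj_smul_eq_self_iff.2 (le_normalizer hh1)]
      have hstab : Nat.card (MulAction.stabilizer V H1) = Nat.card (V ⊓ centralizer (H0 : Set G) : Subgroup G) := by
        have e1 : ∀ v : V, v ∈ MulAction.stabilizer V H1 ↔ (g⁻¹ * (v : G) * g) ∈ centralizer (H0 : Set G) := by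
          intro v
          have hcent : ∀ v : G, v ∈ V → (v ∈ normalizer (H0 : Set G) ↔ v ∈ centralizer (H0 : Set G)) := by
            intro v hv
            refine ⟨fun hn => mem_centralizer_iff.2 fun h hh => ?_, fun hc => centralizer_le_normalizer _ hc⟩
            have h1 : v * h * v⁻¹ * h⁻¹ ∈ V ⊓ H0 := ⟨by
              rw [show v * h * v⁻¹ * h⁻¹ = v * (h * v⁻¹ * h⁻¹) by group]
              exact V.mul_mem hv (hVn.conj_mem _ (V.inv_mem hv) h), H0.mul_mem ((mem_normalizer_iff.1 hn h).1 hh) (H0.inv_mem hh)⟩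
            rw [hinj H0 hH0m, mem_bot] at h1
            exact (mul_inv_eq_iff_eq_mul.1 (mul_inv_eq_one.1 h1)).symm
          rw [MulAction.mem_stabilizer_iff]
          show MulAut.conj (v : G) • (MulAut.conj g • H0) = MulAut.conj g • H0 ↔ _
          rw [← hcent _ (by simpa using hVn.conj_mem _ v.2 g⁻¹), ← CfsgLib.Solvable.conj_smul_eq_self_iff]
          rw [map_mul, map_mul, mul_smul, mul_smul, map_inv, inv_smul_eq_iff]
        exact Nat.card_congr
          ⟨fun v => ⟨g⁻¹ * (v.1 : G) * g, by simpa using hVn.conj_mem _ v.1.2 g⁻¹, (e1 _).1 v.2⟩,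
            fun c => ⟨⟨g * c.1 * g⁻¹, hVn.conj_mem _ c.2.1 g⟩, (e1 _).2 (by simpa [mul_assoc] using c.2.2)⟩,
            fun v => Subtype.ext (Subtype.ext (by show g * (g⁻¹ * (v.1 : G) * g) * g⁻¹ = _; group)),
            fun c => Subtype.ext (by show g⁻¹ * (g * c.1 * g⁻¹) * g = _; group)⟩
      have hb : Nat.card {H : {H : Subgroup G // Nat.card H = m} // Φ H = ⟨Hb, hHb⟩} = (MulAction.orbit V H1).ncard := by
        rw [← Nat.card_coe_set_eq]
        exact Nat.card_congr
          ⟨fun H => ⟨H.1.1, (horb _).2 ⟨H.1.2, H.2⟩⟩,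
            fun H => ⟨⟨H.1, ((horb _).1 H.2).1⟩, ((horb _).1 H.2).2⟩, fun H => rfl, fun H => rfl⟩
      rw [hb, ← hstab, ← MulAction.index_stabilizer, mul_comm, card_mul_index]
    obtain ⟨L', hL', hL'f⟩ := fixed_index_factors V hq hVq H0 (by rw [hH0m]; exact hqm)
    refine ⟨L ++ L', ?_, fun f hf => ?_⟩
    · rw [List.prod_append, ← hL]
      have hfc : ∀ Hb, Nat.card {H : {H : Subgroup G // Nat.card H = m} // Φ H = Hb} = L'.prod := fun Hb =>
        Nat.eq_of_mul_eq_mul_right Nat.card_pos ((hfib Hb).trans (hL'.trans (mul_comm _ _)))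
      have := Fintype.ofFinite {H : Subgroup (G ⧸ V) // Nat.card H = m}
      rw [← Nat.card_congr (Equiv.sigmaFiberEquiv Φ), Nat.card_sigma]
      simp only [hfc]
      rw [Finset.sum_const, Finset.card_univ, smul_eq_mul, ← Nat.card_eq_fintype_card]
    · rcases List.mem_append.1 hf with hf | hf
      · exact hlift (hLf f hf) dvd_rfl
      · obtain ⟨⟨e, he⟩, hd, r, hr, hrd, hrm⟩ := hL'f f hf
        exact ⟨⟨q, e, hq, he⟩, hVchief f hd, ⟨r, hr, hH0m ▸ hrd, hrm⟩⟩

end CfsgLib.FGStruct.HallCount
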