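import Mathlib
import Cfsg.Prelude.Def_Transfer
import Cfsg.Prelude.Def_BaumannBlocks
import Cfsg.Agent.Lib.Transfer.Tate
import Cfsg.Agent.Lib.Transfer.PResidual

/-!
The Hall–Wielandt transfer theorem.
-/

open Subgroup Finset
open scoped commutatorElement Pointwise

namespace CfsgLib.FGStruct

theorem choose_pred_cast {p : ℕ} [hp : Fact p.Prime] : ∀ k, k < p → ((p - 1).choose k : ZMod p) = (-1) ^ k
  | 0, _ => by simp
  | k + 1, hk => by
    have h1 := choose_pred_cast (p := p) k (by omega)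
    have h2 : (p.choose (k + 1) : ZMod p) = 0 :=
      (ZMod.natCast_eq_zero_iff _ _).2 (hp.out.dvd_choose_self (by omega) hk)
    have h3 : p.choose (k + 1) = (p - 1).choose k + (p - 1).choose (k + 1) := by
      obtain ⟨m, hm⟩ : ∃ m, p = m + 1 := ⟨p - 1, by omega⟩
      rw [hm, Nat.add_sub_cancel, Nat.choose_succ_succ']
    rw [h3, Nat.cast_add, h1] at h2
    rw [pow_succ]
    linear_combination h2

/-- A sum of the values at `p` successive points is a `(p-1)`-st difference in exponent `p`. -/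
theorem fwdDiff_pred_eq_sum {p : ℕ} [hp : Fact p.Prime] {A : Type*} [AddCommGroup A]
    (hA : ∀ a : A, p • a = 0) (f : ℕ → A) : (fwdDiff 1)^[p - 1] f 0 = ∑ i ∈ range p, f i := by
  rw [fwdDiff_iter_eq_sum_shift, show p - 1 + 1 = p by have := hp.out.pos; omega]
  refine sum_congr rfl fun k hk => ?_
  rw [mem_range] at hk
  have h1 : (((-1 : ℤ) ^ (p - 1 - k) * ((p - 1).choose k : ℤ) - 1 : ℤ) : ZMod p) = 0 := by
    push_cast
    rw [choose_pred_cast k hk, ← pow_add, show p - 1 - k + k = p - 1 by omega,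
      ZMod.pow_card_sub_one_eq_one (neg_ne_zero.2 one_ne_zero), sub_self]
  obtain ⟨t, ht⟩ := (ZMod.intCast_zmod_eq_zero_iff_dvd _ p).1 h1
  rw [show (-1 : ℤ) ^ (p - 1 - k) * ((p - 1).choose k : ℤ) = 1 + (p : ℤ) * t by linarith, add_smul, one_smul,
    mul_comm, mul_smul, natCast_zsmul, hA, smul_zero, add_zero]
  simp

/-- The product over the orbit of `z` of a homomorphism on conjugates of `v` vanishes when
`[v, z, …, z]` with `p - 1` entries `z` is trivial. -/
theorem prod_conj_eq_one {G E : Type*} [Group G] [CommGroup E] {p : ℕ} [hp : Fact p.Prime]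
    (hE : ∀ e : E, e ^ p = 1) (R : Subgroup G) (φ : R →* E) {z v : G} (hz : z ∈ normalizer (R : Set G))
    (hv : v ∈ R) (h : (fun y : G => y⁻¹ * z⁻¹ * y * z)^[p - 1] v = 1)
    (ψ : G → E) (hψ : ∀ x : R, ψ x = φ x) : ∏ i ∈ range p, ψ ((z ^ i)⁻¹ * v * z ^ i) = 1 := by
  let δ : G → G := fun y => y⁻¹ * z⁻¹ * y * z
  have hconj : ∀ (i : ℕ) {x : G}, x ∈ R → (z ^ i)⁻¹ * x * z ^ i ∈ R := fun i {x} hx => by
    simpa using (mem_normalizer_iff.1 (inv_mem (pow_mem hz i)) x).1 hx
  have hψm : ∀ {x y : G}, x ∈ R → y ∈ R → ψ (x * y) = ψ x * ψ y := fun {x y} hx hy => by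
    rw [hψ ⟨x, hx⟩, hψ ⟨y, hy⟩, ← map_mul]; exact hψ (⟨x, hx⟩ * ⟨y, hy⟩)
  let f : ℕ → Additive E := fun i => Additive.ofMul (ψ ((z ^ i)⁻¹ * v * z ^ i))
  have key : ∀ n, δ^[n] v ∈ R ∧ ∀ i : ℕ, Additive.ofMul (ψ ((z ^ i)⁻¹ * δ^[n] v * z ^ i)) = (fwdDiff 1)^[n] f i := by
    intro n
    induction n with
    | zero => exact ⟨hv, fun i => rfl⟩
    | succ n ih =>
      obtain ⟨hn, ih⟩ := ih
      have h1 : δ (δ^[n] v) ∈ R := by
        have h2 := mul_mem (inv_mem hn) (hconj 1 hn)
        rw [pow_one] at h2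
        simpa [δ, mul_assoc] using h2
      rw [Function.iterate_succ_apply' δ]
      refine ⟨h1, fun i => ?_⟩
      rw [Function.iterate_succ_apply', fwdDiff, ← ih, ← ih, eq_sub_iff_add_eq, ← ofMul_mul]
      congr 1
      rw [mul_comm, ← hψm (hconj i hn) (hconj i h1)]
      congr 1
      simp only [δ, pow_succ']
      group
  have h0 := (key (p - 1)).2 0
  have hψ1 : ψ 1 = 1 := (hψ 1).trans (map_one φ)
  rw [fwdDiff_pred_eq_sum (fun a => hE a.toMul) f] at h0
  simp only [show δ^[p - 1] v = 1 from h, pow_zero, mul_one, inv_one, hψ1, ofMul_one, f] at h0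
  rw [← ofMul_prod] at h0
  exact Additive.ofMul.injective h0.symm

/-- A product over a set permuted without fixed points by a map of prime period. -/
theorem prod_eq_one_of_periodic {ι E : Type*} [DecidableEq ι] [CommMonoid E] {p : ℕ} [hp : Fact p.Prime]
    (σ : ι → ι) (f : ι → E) (S : Finset ι) (hS : ∀ x ∈ S, σ x ∈ S) (hper : ∀ x ∈ S, σ^[p] x = x)
    (hne : ∀ x ∈ S, σ x ≠ x) (hf : ∀ x ∈ S, ∏ i ∈ range p, f (σ^[i] x) = 1) : ∏ x ∈ S, f x = 1 := by
  induction S using Finset.strongInduction with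
  | _ S ih =>
  rcases S.eq_empty_or_nonempty with rfl | ⟨x, hx⟩
  · simp
  let O := (range p).image fun i => σ^[i] x
  have hmem : ∀ i, σ^[i] x ∈ S := fun i => by
    induction i with
    | zero => exact hx
    | succ i hi => rw [Function.iterate_succ_apply']; exact hS _ hi
  have hO : O ⊆ S := fun y hy => by
    obtain ⟨i, -, rfl⟩ := mem_image.1 hy
    exact hmem i
  have hp0 : 0 < p := hp.out.pos
  have hmin : Function.minimalPeriod σ x = p := by
    have h1 : Function.minimalPeriod σ x ∣ p := Function.IsPeriodicPt.minimalPeriod_dvd (hper x hx)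
    rcases (Nat.dvd_prime hp.out).1 h1 with h | h
    · exact absurd (Function.minimalPeriod_eq_one_iff_isFixedPt.1 h) (hne x hx)
    · exact h
  have hinj : Set.InjOn (fun i => σ^[i] x) (range p : Set ℕ) := fun i hi j hj e => by
    simp only [coe_range, Set.mem_Iio] at hi hj
    exact Function.iterate_injOn_Iio_minimalPeriod (by rwa [Set.mem_Iio, hmin]) (by rwa [Set.mem_Iio, hmin]) e
  rw [← prod_sdiff hO, prod_image hinj, hf x hx, mul_one]
  have hxO : x ∈ O := mem_image.2 ⟨0, mem_range.2 hp0, rfl⟩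
  refine ih (S \ O) (sdiff_ssubset hO ⟨x, hxO⟩) (fun y hy => ?_) (fun y hy => hper y (sdiff_subset hy))
    (fun y hy => hne y (sdiff_subset hy)) (fun y hy => hf y (sdiff_subset hy))
  obtain ⟨hyS, hyO⟩ := mem_sdiff.1 hy
  refine mem_sdiff.2 ⟨hS y hyS, fun h => hyO ?_⟩
  obtain ⟨i, -, hi⟩ := mem_image.1 h
  refine mem_image.2 ⟨(p - 1 + i) % p, mem_range.2 (Nat.mod_lt _ hp0), ?_⟩
  have h2 : Function.IsPeriodicPt σ p x := hper x hx
  rw [h2.iterate_mod_apply, Function.iterate_add_apply, hi, ← Function.iterate_succ_apply,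
    show (p - 1).succ = p by omega]
  exact hper y hyS

variable {G : Type*} [Group G] [Finite G] {p : ℕ} [hp : Fact p.Prime]

theorem exists_conj_mem_sylow_normalizer (P : Sylow p G) {H S : Subgroup G} (hPH : (P : Subgroup G) ≤ H)
    (hS : IsPGroup p S) (hSH : S ≤ H) : ∃ h ∈ H, ∀ s ∈ S, h * s * h⁻¹ ∈ (P : Subgroup G) := by
  have hS' : IsPGroup p (S.subgroupOf H) := hS.of_equiv (subgroupOfEquivOfLe hSH).symm
  obtain ⟨T, hT⟩ := hS'.exists_le_sylow
  obtain ⟨h, hh⟩ := MulAction.exists_smul_eq H T (P.subtype hPH)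
  refine ⟨h, h.2, fun s hs => ?_⟩
  have h1 : MulAut.conj h • (⟨s, hSH hs⟩ : H) ∈ ((h • T : Sylow p H) : Subgroup H) :=
    Subgroup.smul_mem_pointwise_smul _ (MulAut.conj h) _ (hT hs)
  rw [hh] at h1
  exact h1

/-- The transfer to the normaliser of a weakly closed subgroup restricts to the identity on a Sylow subgroup. -/
theorem transfer_eq_of_hallWielandt (P : Sylow p G) (Q : Subgroup G)
    (hQ : Cfsg.IsWeaklyClosed Q (P : Subgroup G))
    (h : ∀ u ∈ (P : Subgroup G), ∀ z ∈ Q, (fun y : G => y⁻¹ * z⁻¹ * y * z)^[p - 1] u = 1)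
    {E : Type*} [CommGroup E] (hE : ∀ e : E, e ^ p = 1) (H : Subgroup G) (hH : H = normalizer (Q : Set G))
    (φ : H →* E) (hPH : (P : Subgroup G) ≤ H) :
    ∀ v (hv : v ∈ (P : Subgroup G)), MonoidHom.transfer φ v = φ ⟨v, hPH hv⟩ := by
  classical
  have hφc : ∀ (a b : H), φ (a * b * a⁻¹) = φ b := fun a b => by
    rw [map_mul, map_mul, map_inv, mul_comm (φ a), mul_inv_cancel_right]
  intro v
  induction' hn : orderOf v using Nat.strong_induction_on with n ih generalizing v
  intro hv
  by_cases hv1 : v = 1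
  · subst hv1; rw [map_one]; exact (map_one φ).symm
  have := Fintype.ofFinite (Quotient (MulAction.orbitRel (zpowers v) (G ⧸ H)))
  have := Fintype.ofFinite (G ⧸ H)
  rw [MonoidHom.transfer_eq_prod_quotient_orbitRel_zpowers_quot]
  -- long orbits contribute nothing
  have hlong : ∀ q : Quotient (MulAction.orbitRel (zpowers v) (G ⧸ H)),
      Function.minimalPeriod (v • ·) q.out ≠ 1 →
      φ ⟨q.out.out⁻¹ * v ^ Function.minimalPeriod (v • ·) q.out * q.out.out,
        QuotientGroup.out_conj_pow_minimalPeriod_mem H v q.out⟩ = 1 := by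
    intro q hq
    set l := Function.minimalPeriod (v • ·) q.out with hl
    set g := q.out.out
    have hdvd : l ∣ orderOf v := Function.IsPeriodicPt.minimalPeriod_dvd (by
      show (v • ·)^[orderOf v] q.out = q.out
      rw [smul_iterate]
      show v ^ orderOf v • q.out = q.out
      rw [pow_orderOf_eq_one, one_smul])
    obtain ⟨k, hk⟩ := IsPGroup.iff_orderOf.1 P.2 ⟨v, hv⟩
    rw [Subgroup.orderOf_mk] at hk
    obtain ⟨j, -, hj⟩ := (Nat.dvd_prime_pow hp.out).1 (hk ▸ hdvd)
    have hpl : p ∣ l := by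
      rcases Nat.eq_zero_or_pos j with h0 | h0
      · exact absurd (by rw [hj, h0, pow_zero]) hq
      · exact hj ▸ dvd_pow_self p h0.ne'
    have hw : g⁻¹ * v ^ l * g ∈ H := QuotientGroup.out_conj_pow_minimalPeriod_mem H v q.out
    have hp' : IsPGroup p (zpowers (g⁻¹ * v ^ l * g)) := by
      obtain ⟨m, -, hm⟩ := (Nat.dvd_prime_pow hp.out).1 (hk ▸ orderOf_pow_dvd (x := v) l)
      refine IsPGroup.of_card (n := m) ?_
      rw [Nat.card_zpowers, ← hm, show g⁻¹ * v ^ l * g = MulAut.conj g⁻¹ (v ^ l) by simp]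
      exact MulEquiv.orderOf_eq _ _
    obtain ⟨a, ha, haP⟩ := exists_conj_mem_sylow_normalizer P hPH hp' (zpowers_le.2 hw)
    have hw' := haP _ (mem_zpowers _)
    have hlt : orderOf (a * (g⁻¹ * v ^ l * g) * a⁻¹) < n := by
      rw [show a * (g⁻¹ * v ^ l * g) * a⁻¹ = MulAut.conj (a * g⁻¹) (v ^ l) by simp [MulAut.conj_apply, mul_assoc],
        MulEquiv.orderOf_eq, ← hn, orderOf_pow_of_dvd (fun e => by rw [e] at hdvd; exact (orderOf_pos v).ne' (zero_dvd_iff.1 hdvd)) hdvd]
      exact Nat.div_lt_self (orderOf_pos v) (lt_of_lt_of_le hp.out.one_lt (Nat.le_of_dvd (Nat.pos_of_ne_zero (fun e => by rw [e] at hdvd; exact (orderOf_pos v).ne' (zero_dvd_iff.1 hdvd))) hpl))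
    have h1 := ih _ hlt _ rfl hw'
    obtain ⟨t, ht⟩ := hpl
    have h2 : φ ⟨a * (g⁻¹ * v ^ l * g) * a⁻¹, hPH hw'⟩ = φ ⟨g⁻¹ * v ^ l * g, hw⟩ := hφc ⟨a, ha⟩ ⟨_, hw⟩
    rw [← h2, ← h1]
    simp only [map_mul, map_inv, map_pow, ht, pow_mul, hE, one_pow, mul_one]
    rw [inv_mul_cancel, mul_one, mul_inv_cancel]
  let f : G ⧸ H → E := fun c =>
    if hc : v • c = c then φ ⟨c.out⁻¹ * v * c.out, by
      have h2 : (((v * c.out : G)) : G ⧸ H) = (c.out : G ⧸ H) := by
        show v • ((c.out : G) : G ⧸ H) = _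
        rw [QuotientGroup.out_eq']; exact hc
      have h3 := QuotientGroup.eq.1 h2
      simpa [mul_assoc] using H.inv_mem h3⟩ else 1
  -- the fixed cosets
  have hfix : ∏ q : Quotient (MulAction.orbitRel (zpowers v) (G ⧸ H)),
      φ ⟨q.out.out⁻¹ * v ^ Function.minimalPeriod (v • ·) q.out * q.out.out,
        QuotientGroup.out_conj_pow_minimalPeriod_mem H v q.out⟩ =
      ∏ c ∈ Finset.univ.filter (fun c : G ⧸ H => v • c = c), f c := by
    rw [← Finset.prod_filter_of_ne (p := fun q => Function.minimalPeriod (v • ·) q.out = 1)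
      (fun q _ hne => by by_contra hq; exact hne (hlong q hq))]
    refine Finset.prod_bij (fun q _ => q.out) (fun q hq => ?_) (fun q1 _ q2 _ e => Quotient.out_injective e)
      (fun c hc => ?_) (fun q hq => ?_)
    · simp only [Finset.mem_filter, Finset.mem_univ, true_and] at hq ⊢
      exact Function.minimalPeriod_eq_one_iff_isFixedPt.1 hq
    · simp only [Finset.mem_filter, Finset.mem_univ, true_and] at hc
      have e : (Quotient.mk'' c : Quotient (MulAction.orbitRel (zpowers v) (G ⧸ H))).out = c := by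
        have h1 := Quotient.mk_out (s := MulAction.orbitRel (zpowers v) (G ⧸ H)) c
        obtain ⟨⟨z, hz⟩, hz'⟩ := h1
        obtain ⟨i, rfl⟩ := mem_zpowers_iff.1 hz
        change v ^ i • c = _ at hz'
        have : v ^ i ∈ MulAction.stabilizer G c := zpow_mem (show v ∈ MulAction.stabilizer G c from hc) i
        exact hz'.symm.trans this
      refine ⟨Quotient.mk'' c, ?_, e⟩
      simp only [Finset.mem_filter, Finset.mem_univ, true_and]
      exact Function.minimalPeriod_eq_one_iff_isFixedPt.2 (by rw [e]; exact hc)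
    · simp only [Finset.mem_filter, Finset.mem_univ, true_and] at hq
      have hc : v • q.out = q.out := Function.minimalPeriod_eq_one_iff_isFixedPt.1 hq
      simp only [f, dif_pos hc, hq, pow_one]
  rw [hfix]
  have hvH : v ∈ H := hPH hv
  let c0 : G ⧸ H := ((1 : G) : G ⧸ H)
  have hc0 : v • c0 = c0 := by
    show ((v * 1 : G) : G ⧸ H) = _
    exact QuotientGroup.eq.2 (by simpa using inv_mem hvH)
  -- independence of the representative
  have hrep : ∀ (g : G) (hg : g⁻¹ * v * g ∈ H), v • (g : G ⧸ H) = g → f (g : G ⧸ H) = φ ⟨g⁻¹ * v * g, hg⟩ := by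
    intro g hg hfx
    obtain ⟨a, ha⟩ := QuotientGroup.mk_out_eq_mul H g
    simp only [f, dif_pos hfx]
    rw [← hφc a⁻¹ ⟨g⁻¹ * v * g, hg⟩]
    congr 1
    apply Subtype.ext
    simp only [Subgroup.coe_mul, Subgroup.coe_inv, ha]
    group
  have hc0m : c0 ∈ Finset.univ.filter (fun c : G ⧸ H => v • c = c) := by simp [hc0]
  rw [← Finset.mul_prod_erase _ _ hc0m]
  have hrest : ∏ c ∈ (Finset.univ.filter (fun c : G ⧸ H => v • c = c)).erase c0, f c = 1 := by
    let Rs : G ⧸ H → Subgroup G := fun c => (P : Subgroup G) ⊓ MulAction.stabilizer G c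
    let zc : Subgroup G → G := fun R =>
      if hR : ∃ z, z ∈ Q ∧ z ∈ normalizer (R : Set G) ∧ z ∉ R ∧ z ^ p ∈ R then hR.choose else 1
    have hQP := hQ.1
    have hz : ∀ c, c ≠ c0 → zc (Rs c) ∈ Q ∧ zc (Rs c) ∈ normalizer (Rs c : Set G) ∧ zc (Rs c) ∉ Rs c ∧ zc (Rs c) ^ p ∈ Rs c := by
      intro c hc
      have hex : ∃ z, z ∈ Q ∧ z ∈ normalizer (Rs c : Set G) ∧ z ∉ Rs c ∧ z ^ p ∈ Rs c := by
        have hnot : ¬ Q ≤ Rs c := by
          intro hle
          obtain ⟨g, rfl⟩ := QuotientGroup.mk_surjective c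
          let S := Q.map (MulAut.conj g⁻¹).toMonoidHom
          have hSH : S ≤ H := by
            rintro _ ⟨x, hx, rfl⟩
            have h1 : ((x * g : G) : G ⧸ H) = (g : G ⧸ H) := (hle hx).2
            have h2 := QuotientGroup.eq.1 h1.symm
            simpa [mul_assoc] using h2
          obtain ⟨a, ha, haP⟩ := exists_conj_mem_sylow_normalizer P hPH ((P.2.to_le hQP).map _) hSH
          have h3 : Q.map (MulAut.conj (a * g⁻¹)).toMonoidHom ≤ (P : Subgroup G) := by
            rintro _ ⟨x, hx, rfl⟩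
            have := haP _ ⟨x, hx, rfl⟩
            simpa [mul_assoc] using this
          have h4 : a * g⁻¹ ∈ H := by
            rw [hH, mem_normalizer_iff]
            intro x
            constructor
            · intro hx
              have : MulAut.conj (a * g⁻¹) x ∈ Q.map (MulAut.conj (a * g⁻¹)).toMonoidHom := ⟨x, hx, rfl⟩
              rw [hQ.2 _ h3] at this
              exact this
            · intro hx
              rw [← hQ.2 _ h3] at hx
              obtain ⟨y, hy, e⟩ := hx
              have := (MulAut.conj (a * g⁻¹)).injective (e : MulAut.conj (a * g⁻¹) y = MulAut.conj (a * g⁻¹) x)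
              exact this ▸ hy
          apply hc
          refine QuotientGroup.eq.2 ?_
          simpa using (H.mul_mem_cancel_left ha).1 h4
        have hQn : (P : Subgroup G) ≤ normalizer (Q : Set G) := hH ▸ hPH
        have hRP : Rs c ≤ (P : Subgroup G) := inf_le_left
        let L := Rs c ⊔ Q
        have hLP : L ≤ (P : Subgroup G) := sup_le hRP hQP
        haveI : Group.IsNilpotent L := (P.2.to_le hLP).isNilpotent
        have hlt : (Rs c).subgroupOf L < ⊤ := lt_top_iff_ne_top.2 fun e =>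
          hnot (le_sup_right.trans (subgroupOf_eq_top.1 e))
        obtain ⟨⟨y, hyL⟩, hyN, hyR⟩ := SetLike.exists_of_lt (normalizerCondition_of_isNilpotent _ hlt)
        rw [mem_subgroupOf] at hyR
        have hyL' : y ∈ (Rs c : Set G) * (Q : Set G) :=
          (coe_mul_of_left_le_normalizer_right (Rs c) Q (hRP.trans hQn)).subset hyL
        obtain ⟨r, hr, q, hq, rfl⟩ := Set.mem_mul.1 hyL'
        have hRLn : r * q ∈ normalizer (Rs c : Set G) := by
          rw [mem_normalizer_iff]
          intro x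
          constructor
          · intro hx
            exact (mem_normalizer_iff.1 hyN ⟨x, le_sup_left (a := Rs c) hx⟩).1 hx
          · intro hx
            have hxL : x ∈ L := by
              have := L.mul_mem (L.mul_mem (L.inv_mem hyL) (le_sup_left (a := Rs c) hx)) hyL
              convert this using 1
              group
            exact (mem_normalizer_iff.1 hyN ⟨x, hxL⟩).2 hx
        have hqN : q ∈ normalizer (Rs c : Set G) := by
          simpa using mul_mem (inv_mem (le_normalizer hr : r ∈ normalizer (Rs c : Set G))) hRLn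
        have hqR : q ∉ Rs c := fun hq' => hyR (mul_mem hr hq')
        obtain ⟨k, hk⟩ := P.2 ⟨q, hQP hq⟩
        have hk' : q ^ p ^ k ∈ Rs c := by
          rw [show q ^ p ^ k = 1 from congrArg Subtype.val hk]; exact one_mem _
        have hex' : ∃ k, q ^ p ^ k ∈ Rs c := ⟨k, hk'⟩
        have hpos : Nat.find hex' ≠ 0 := fun e => hqR (by have := Nat.find_spec hex'; rwa [e, pow_zero, pow_one] at this)
        refine ⟨q ^ p ^ (Nat.find hex' - 1), pow_mem hq _, pow_mem hqN _, Nat.find_min hex' (by omega), ?_⟩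
        rw [← pow_mul, ← pow_succ, Nat.sub_add_cancel (Nat.pos_of_ne_zero hpos)]
        exact Nat.find_spec hex'
      simp only [zc, dif_pos hex]
      exact hex.choose_spec
    let σ : G ⧸ H → G ⧸ H := fun c => zc (Rs c) • c
    have hRs : ∀ c, c ≠ c0 → Rs (σ c) = Rs c := by
      intro c hc
      obtain ⟨h1, h2, -, -⟩ := hz c hc
      set z := zc (Rs c)
      have hzP : z ∈ (P : Subgroup G) := hQP h1
      have key : ∀ x, x ∈ Rs (σ c) ↔ z⁻¹ * x * z ∈ Rs c := fun x => by
        simp only [Rs, σ, Subgroup.mem_inf, MulAction.mem_stabilizer_iff]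
        refine and_congr ⟨fun hx => mul_mem (mul_mem (inv_mem hzP) hx) hzP, fun hx => ?_⟩ ?_
        · have := mul_mem (mul_mem hzP hx) (inv_mem hzP)
          simpa [mul_assoc] using this
        · rw [mul_smul, mul_smul, inv_smul_eq_iff]
      ext x
      rw [key]
      have := (mem_normalizer_iff.1 (inv_mem h2) x)
      rw [inv_inv] at this
      exact this.symm
    have hiter : ∀ c, c ≠ c0 → ∀ i : ℕ, σ^[i] c = zc (Rs c) ^ i • c ∧ Rs (σ^[i] c) = Rs c ∧ σ^[i] c ≠ c0 := by
      intro c hc i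
      induction i with
      | zero => simp [hc]
      | succ i hi =>
        obtain ⟨e1, e2, e3⟩ := hi
        rw [Function.iterate_succ_apply']
        refine ⟨?_, (hRs _ e3).trans e2, fun e => ?_⟩
        · show zc (Rs (σ^[i] c)) • σ^[i] c = _
          rw [e2, e1, smul_smul, ← pow_succ']
        · apply e3
          have hzH : zc (Rs (σ^[i] c)) ∈ H := hPH (hQP (hz _ e3).1)
          have : σ^[i] c = (zc (Rs (σ^[i] c)))⁻¹ • c0 := eq_inv_smul_iff.2 e
          rw [this]
          show (((zc (Rs (σ^[i] c)))⁻¹ * 1 : G) : G ⧸ H) = _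
          exact QuotientGroup.eq.2 (by simpa using hzH)
    have hvRs : ∀ c, v • c = c → v ∈ Rs c := fun c hc => ⟨hv, hc⟩
    refine prod_eq_one_of_periodic (p := p) σ f _ (fun c hc => ?_) (fun c hc => ?_) (fun c hc => ?_) (fun c hc => ?_) <;>
      simp only [Finset.mem_erase, Finset.mem_filter, Finset.mem_univ, true_and] at hc ⊢ <;>
      obtain ⟨hc1, hc2⟩ := hc
    · refine ⟨(hiter c hc1 1).2.2, ?_⟩
      have : v ∈ Rs (σ c) := hRs c hc1 ▸ hvRs c hc2
      exact this.2
    · rw [(hiter c hc1 p).1]; exact (hz c hc1).2.2.2.2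
    · intro e
      exact (hz c hc1).2.2.1 ⟨hQP (hz c hc1).1, e⟩
    · obtain ⟨hzQ, hzN, -, -⟩ := hz c hc1
      set z := zc (Rs c) with hzd
      obtain ⟨g, rfl⟩ := QuotientGroup.mk_surjective c
      have hRH : ∀ x ∈ Rs (g : G ⧸ H), g⁻¹ * x * g ∈ H := fun x hx => by
        have h1 : ((x * g : G) : G ⧸ H) = (g : G ⧸ H) := hx.2
        have h2 := QuotientGroup.eq.1 h1.symm
        simpa [mul_assoc] using h2
      let φ' : Rs (g : G ⧸ H) →* E := φ.comp
        { toFun := fun x => ⟨g⁻¹ * (x : G) * g, hRH x x.2⟩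
          map_one' := Subtype.ext (by simp)
          map_mul' := fun x y => Subtype.ext (by simp only [Subgroup.coe_mul]; group) }
      let ψ : G → E := fun x => if hx : x ∈ Rs (g : G ⧸ H) then φ' ⟨x, hx⟩ else 1
      have hψ : ∀ x : Rs (g : G ⧸ H), ψ x = φ' x := fun x => dif_pos x.2
      rw [← prod_conj_eq_one hE (Rs (g : G ⧸ H)) φ' hzN (hvRs _ hc2) (h v hv z hzQ) ψ hψ]
      refine Finset.prod_congr rfl fun i _ => ?_
      have hfx : v • σ^[i] (g : G ⧸ H) = σ^[i] (g : G ⧸ H) := by
        have : v ∈ Rs (σ^[i] (g : G ⧸ H)) := (hiter _ hc1 i).2.1 ▸ hvRs _ hc2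
        exact this.2
      rw [(hiter _ hc1 i).1, MulAction.Quotient.smul_coe, smul_eq_mul] at hfx ⊢
      have hm : (z ^ i)⁻¹ * v * z ^ i ∈ Rs (g : G ⧸ H) := by
        simpa using (mem_normalizer_iff.1 (inv_mem (pow_mem hzN i)) v).1 (hvRs _ hc2)
      have hm' : (z ^ i * g)⁻¹ * v * (z ^ i * g) ∈ H := by
        have := hRH _ hm
        simpa [mul_assoc] using this
      rw [hrep _ hm' hfx, hψ ⟨_, hm⟩]
      exact congrArg φ (Subtype.ext (by simp [mul_assoc]))
  rw [hrest, mul_one, hrep 1 (by simpa using hvH) hc0]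
  exact congrArg φ (Subtype.ext (by simp))

/-- **The Hall–Wielandt theorem.** -/
theorem hallWielandt (P : Sylow p G) (Q : Subgroup G) (hQ : Cfsg.IsWeaklyClosed Q (P : Subgroup G))
    (h : ∀ u ∈ (P : Subgroup G), ∀ z ∈ Q, (fun y : G => y⁻¹ * z⁻¹ * y * z)^[p - 1] u = 1) :
    Cfsg.pResidualOf p (normalizer (Q : Set G)) = Cfsg.pResidual p G ⊓ normalizer (Q : Set G) := by
  classical
  set H := normalizer (Q : Set G) with hH
  have hPH : (P : Subgroup G) ≤ H := fun x hx => by
    rw [hH, mem_normalizer_iff]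
    have h1 : Q.map (MulAut.conj x).toMonoidHom ≤ (P : Subgroup G) := by
      rintro _ ⟨y, hy, rfl⟩
      exact mul_mem (mul_mem hx (hQ.1 hy)) (inv_mem hx)
    intro y
    constructor
    · intro hy
      have : MulAut.conj x y ∈ Q.map (MulAut.conj x).toMonoidHom := ⟨y, hy, rfl⟩
      rw [hQ.2 _ h1] at this
      exact this
    · intro hy
      rw [← hQ.2 _ h1] at hy
      obtain ⟨w, hw, e⟩ := hy
      have := (MulAut.conj x).injective (e : MulAut.conj x w = MulAut.conj x y)
      exact this ▸ hw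
  have key : (Cfsg.pResidual p G).subgroupOf H = Cfsg.pResidual p H := by
    refine CfsgLib.Transfer.tate_core P H hPH fun X hX htop => ?_
    by_contra hXt
    obtain ⟨M, hM, hXM⟩ := (eq_top_or_exists_le_coatom X).resolve_left hXt
    let q := QuotientGroup.mk' (Cfsg.pResidual p H)
    have hHp : IsPGroup p (H ⧸ Cfsg.pResidual p H) := CfsgLib.Transfer.isPGroup_quotient_pResidual
    have hqs : Function.Surjective q := QuotientGroup.mk'_surjective _
    haveI := hHp.isNilpotent
    have hker : (Cfsg.pResidual p H) ≤ M := hX.trans hXM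
    have hMq : IsCoatom (M.map q) := by
      refine ⟨fun e => hM.1 ?_, fun N hN => ?_⟩
      · have := congrArg (Subgroup.comap q) e
        rwa [comap_map_eq, QuotientGroup.ker_mk', sup_eq_left.2 hker, comap_top] at this
      · have h1 : M < N.comap q := by
          refine lt_of_le_of_ne (map_le_iff_le_comap.1 hN.le) fun e => hN.ne ?_
          rw [e, map_comap_eq_self_of_surjective hqs]
        rw [← map_comap_eq_self_of_surjective hqs N, hM.2 _ h1, map_top_of_surjective _ hqs]
    haveI hMn : (M.map q).Normal := NormalizerCondition.normal_of_coatom _ normalizerCondition_of_isNilpotent hMq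
    let K := (H ⧸ Cfsg.pResidual p H) ⧸ M.map q
    haveI : IsSimpleGroup K := by
      haveI : Nontrivial K := by
        refine not_subsingleton_iff_nontrivial.1 fun hs => hMq.1 ?_
        exact index_eq_one.1 (Nat.card_eq_one_iff_unique.2 ⟨hs, inferInstance⟩)
      refine ⟨fun N hN => ?_⟩
      have h1 : M.map q ≤ N.comap (QuotientGroup.mk' (M.map q)) := fun x hx => by
        rw [mem_comap, show QuotientGroup.mk' (M.map q) x = 1 from (QuotientGroup.eq_one_iff x).2 hx]; exact one_mem _
      rcases h1.lt_or_eq with hlt | heq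
      · right
        rw [← map_comap_eq_self_of_surjective (QuotientGroup.mk'_surjective _) N, hMq.2 _ hlt,
          map_top_of_surjective _ (QuotientGroup.mk'_surjective _)]
      · left
        rw [← map_comap_eq_self_of_surjective (QuotientGroup.mk'_surjective _) N, ← heq]
        exact QuotientGroup.map_mk'_self _
    have hKp : IsPGroup p K := hHp.to_quotient _
    haveI : Group.IsNilpotent K := hKp.isNilpotent
    have hcomm : ∀ a b : K, a * b = b * a := IsSimpleGroup.comm_iff_isSolvable.2 inferInstance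
    letI : CommGroup K := { (inferInstance : Group K) with mul_comm := hcomm }
    have hKc : Nat.card K = p := by
      have hpr := IsSimpleGroup.prime_card (α := K)
      obtain ⟨n, hn⟩ := IsPGroup.iff_card.1 hKp
      rw [hn] at hpr ⊢
      obtain ⟨-, rfl⟩ := (Nat.Prime.pow_eq_iff hpr).1 rfl
      exact pow_one p
    have hE : ∀ e : K, e ^ p = 1 := fun e => orderOf_dvd_iff_pow_eq_one.1 ((orderOf_dvd_natCard e).trans hKc.dvd)
    let φ : H →* K := (QuotientGroup.mk' (M.map q)).comp q
    have hP := transfer_eq_of_hallWielandt P Q hQ h hE H hH φ hPH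
    -- the residual of `G` is killed
    have hL : (Cfsg.pResidual p G).subgroupOf H ≤ φ.ker := by
      intro x hx
      have : x ∈ Cfsg.pResidual p H ⊔ (P.subtype hPH : Subgroup H) := by
        rw [CfsgLib.Transfer.pResidual_sup_of_sylow]; exact mem_top x
      obtain ⟨a, ha, y, hy, rfl⟩ := Subgroup.mem_sup_of_normal_left.1 this
      have hφa : φ a = 1 := by
        show QuotientGroup.mk' (M.map q) (q a) = 1
        rw [show q a = 1 from (QuotientGroup.eq_one_iff a).2 ha, map_one]
      have hyK : (y : G) ∈ Cfsg.pResidual p G :=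
        (Subgroup.mul_mem_cancel_left _ (CfsgLib.Transfer.map_subtype_pResidual_le H (mem_map_of_mem _ ha))).1 hx
      have hτ : MonoidHom.transfer φ (y : G) = 1 :=
        CfsgLib.Transfer.pResidual_le_ker_of_isPGroup hKp (MonoidHom.transfer φ) hyK
      rw [MonoidHom.mem_ker, map_mul, hφa, one_mul]
      rw [← hτ, hP y hy]
    refine hM.1 (top_le_iff.1 (htop ▸ sup_le hXM ?_))
    intro x hx
    have h1 : q x ∈ M.map q := (QuotientGroup.eq_one_iff _).1 (hL hx)
    have h2 : x ∈ (M.map q).comap q := h1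
    rwa [comap_map_eq, QuotientGroup.ker_mk', sup_eq_left.2 hker] at h2
  show (Cfsg.pResidual p H).map H.subtype = _
  rw [← key, subgroupOf_map_subtype]

theorem pResidualOf_normalizer_of_class_lt (P : Sylow p G)
    (hcl : (P : Subgroup G).lowerCentralSeries (p - 1) = ⊥) :
    Cfsg.pResidualOf p (normalizer ((P : Subgroup G) : Set G)) =
      Cfsg.pResidual p G ⊓ normalizer ((P : Subgroup G) : Set G) := by
  refine hallWielandt P _ ⟨le_rfl, fun g hg => eq_of_le_of_card_ge hg ?_⟩ fun u hu z hz => ?_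
  · rw [Subgroup.card_map_of_injective (MulAut.conj g).injective]
  have key : ∀ n, (fun y : G => y⁻¹ * z⁻¹ * y * z)^[n] u ∈ (P : Subgroup G).lowerCentralSeries n := by
    intro n
    induction n with
    | zero => exact hu
    | succ n ih =>
      rw [Function.iterate_succ_apply', Subgroup.lowerCentralSeries_succ]
      have := commutator_mem_commutator (inv_mem ih) (inv_mem hz)
      rw [commutatorElement_def, inv_inv, inv_inv] at this
      exact this
  have := key (p - 1)
  rwa [hcl, mem_bot] at this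

end CfsgLib.FGStruct
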