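import Cfsg.Agent.S3927
import Mathlib.GroupTheory.Schreier
import Mathlib.GroupTheory.Index
import Mathlib.Data.Fintype.Perm
import Mathlib.GroupTheory.GroupAction.Quotient

/-!
# Bounding a group by the elements of odd order inverted by an involutive automorphism
-/

set_option autoImplicit false

open Subgroup
open scoped commutatorElement

namespace CfsgLib.FGStruct.InvolBound

universe u

variable {G : Type u} [Group G]

/-- The map `c ↦ c · α(c)⁻¹`. -/
def tw (α : MulAut G) (c : G) : G := c * (α c)⁻¹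

/-- The elements of odd order inverted by `α`. -/
def invOdd (α : MulAut G) : Set G := {g | Odd (orderOf g) ∧ α g = g⁻¹}

/-- `α` is involutive and `[G, α] = G`. -/
def Hyp (α : MulAut G) : Prop :=
  (∀ x, α (α x) = x) ∧ Subgroup.closure (Set.range (tw α)) = ⊤

theorem tw_inverted {α : MulAut G} (h : ∀ x, α (α x) = x) (c : G) : α (tw α c) = (tw α c)⁻¹ := by
  simp [tw, h]

theorem tw_iterate_inverted {α : MulAut G} {t : G} (ht : α t = t⁻¹) :
    ∀ k : ℕ, (tw α)^[k] t = t ^ (2 ^ k) := by
  intro k
  induction k with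
  | zero => simp
  | succ k ih =>
    rw [Function.iterate_succ_apply', ih]
    show t ^ 2 ^ k * (α (t ^ 2 ^ k))⁻¹ = _
    rw [map_pow, ht, inv_pow, inv_inv, pow_succ 2 k, mul_comm (2 ^ k) 2, pow_mul', sq]

theorem one_mem_invOdd (α : MulAut G) : (1 : G) ∈ invOdd α := ⟨by simp, by simp⟩

variable [Finite G]

theorem range_iterate_eq {α : MulAut G} (h : ∀ x, α (α x) = x) {j : ℕ} (hj : Nat.card G ≤ j) :
    Set.range ((tw α)^[j + 1]) = invOdd α := by
  ext g
  constructor
  · rintro ⟨c, rfl⟩
    rw [Function.iterate_succ_apply, tw_iterate_inverted (tw_inverted h c)]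
    set t := tw α c with ht
    refine ⟨?_, by rw [map_pow, tw_inverted h c, inv_pow]⟩
    obtain ⟨e, m, hm, he⟩ := Nat.exists_eq_two_pow_mul_odd (orderOf_pos t).ne'
    have hej : e ≤ j := by
      have h1 : 2 ^ e ≤ Nat.card G := by
        refine le_trans ?_ (orderOf_le_card (x := t))
        rw [he]
        exact Nat.le_mul_of_pos_right _ hm.pos
      exact le_trans (le_trans (Nat.lt_two_pow_self).le h1) hj
    have h1 : (t ^ 2 ^ j) ^ m = 1 := by
      rw [← pow_mul]
      refine orderOf_dvd_iff_pow_eq_one.mp ?_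
      rw [he]
      exact Nat.mul_dvd_mul (pow_dvd_pow 2 hej) dvd_rfl
    exact hm.of_dvd_nat (orderOf_dvd_of_pow_eq_one h1)
  · rintro ⟨hodd, hg⟩
    have hcop : Nat.Coprime (2 ^ (j + 1)) (orderOf g) :=
      Nat.Coprime.pow_left _ hodd.coprime_two_left
    obtain ⟨k, hk⟩ := exists_pow_eq_self_of_coprime (n := 2 ^ (j + 1)) hcop
    refine ⟨g ^ k, ?_⟩
    rw [tw_iterate_inverted (by rw [map_pow, hg, inv_pow]) (j + 1), ← pow_mul, mul_comm, pow_mul,
      hk]

theorem closure_invOdd {α : MulAut G} (h : Hyp α) : Subgroup.closure (invOdd α) = ⊤ := by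
  rw [← range_iterate_eq h.1 le_rfl]
  exact Cfsg.Agent.S3927.result α h.2 (Nat.card G + 1) (Nat.le_add_left 1 _)

theorem mem_center_of_commute {α : MulAut G} (h : Hyp α) {z : G}
    (hz : ∀ x ∈ invOdd α, z * x = x * z) : z ∈ center G := by
  rw [mem_center_iff]
  intro g
  have h1 : Subgroup.closure (invOdd α) ≤ centralizer {z} := (closure_le _).mpr fun x hx =>
    mem_centralizer_singleton_iff.mpr (hz x hx).symm
  rw [closure_invOdd h] at h1
  exact mem_centralizer_singleton_iff.mp (h1 (mem_top g))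

/-- The automorphism induced on the quotient by an invariant normal subgroup. -/
theorem exists_quotient {α : MulAut G} (h : Hyp α) (N : Subgroup G) [N.Normal]
    (hN : ∀ x ∈ N, α x ∈ N) : ∃ β : MulAut (G ⧸ N), Hyp β ∧
      (∀ x : G, β (x : G ⧸ N) = ((α x : G) : G ⧸ N)) ∧
      invOdd β = (fun x : G => (x : G ⧸ N)) '' invOdd α := by
  have hmap : N.map α.toMonoidHom = N := le_antisymm (map_le_iff_le_comap.mpr hN)
    fun x hx => ⟨α x, hN x hx, h.1 x⟩
  set β : MulAut (G ⧸ N) := QuotientGroup.congr N N α hmap with hβdef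
  have hβ : ∀ g : G, β (g : G ⧸ N) = ((α g : G) : G ⧸ N) := fun g => rfl
  have htw : ∀ g : G, tw β (g : G ⧸ N) = ((tw α g : G) : G ⧸ N) := fun g => by
    rw [tw, hβ, tw, QuotientGroup.mk_mul, QuotientGroup.mk_inv]
  have hit : ∀ (k : ℕ) (g : G), (tw β)^[k] (g : G ⧸ N) = (((tw α)^[k] g : G) : G ⧸ N) := by
    intro k
    induction k with
    | zero => intro g; rfl
    | succ k ih => intro g; rw [Function.iterate_succ_apply', ih, htw, Function.iterate_succ_apply']
  have hinv : ∀ x : G ⧸ N, β (β x) = x := fun x => by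
    obtain ⟨g, rfl⟩ := QuotientGroup.mk_surjective x
    rw [hβ, hβ, h.1]
  refine ⟨β, ⟨hinv, ?_⟩, hβ, ?_⟩
  · rw [eq_top_iff]
    intro x _
    obtain ⟨g, rfl⟩ := QuotientGroup.mk_surjective x
    have h1 : Subgroup.closure (Set.range (tw α)) ≤
        (Subgroup.closure (Set.range (tw β))).comap (QuotientGroup.mk' N) :=
      (closure_le _).mpr fun y ⟨c, hc⟩ => subset_closure ⟨(c : G ⧸ N), by rw [htw, hc]; rfl⟩
    rw [h.2] at h1
    exact h1 (mem_top g)
  · have hle : Nat.card (G ⧸ N) ≤ Nat.card G :=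
      Nat.card_le_card_of_surjective _ (QuotientGroup.mk_surjective (s := N))
    rw [← range_iterate_eq hinv hle, ← range_iterate_eq h.1 (le_refl (Nat.card G))]
    ext x
    constructor
    · rintro ⟨y, rfl⟩
      obtain ⟨g, rfl⟩ := QuotientGroup.mk_surjective y
      exact ⟨_, ⟨g, rfl⟩, (hit _ g).symm⟩
    · rintro ⟨_, ⟨g, rfl⟩, rfl⟩
      exact ⟨(g : G ⧸ N), hit _ g⟩

/-- An invariant normal subgroup modulo which the inverted elements stay apart is central. -/
theorem le_center_of_injOn {α : MulAut G} (h : Hyp α) (N : Subgroup G) [N.Normal]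
    (hN : ∀ x ∈ N, α x ∈ N) (hinj : Set.InjOn (fun x : G => (x : G ⧸ N)) (invOdd α)) :
    N ≤ center G := by
  have hI1 : ∀ z ∈ N, z ∈ invOdd α → z = 1 := fun z hz hzI =>
    hinj hzI (one_mem_invOdd α) ((QuotientGroup.eq_one_iff z).mpr hz)
  have key : ∀ (k : ℕ), ∀ n ∈ N, (tw α)^[k] n = 1 → n ∈ center G := by
    intro k
    induction k with
    | zero => intro n _ hn; rw [show n = 1 from hn]; exact one_mem _
    | succ k ih =>
      intro n hn hk
      rw [Function.iterate_succ_apply] at hk
      have hzN : tw α n ∈ N := mul_mem hn (inv_mem (hN n hn))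
      have hzc := ih _ hzN hk
      set z := tw α n with hz
      have hz2 : ∀ k : ℕ, Odd (orderOf (z ^ k)) → z ^ k = 1 := fun k hodd =>
        hI1 _ (pow_mem hzN k) ⟨hodd, by rw [map_pow, tw_inverted h.1 n, inv_pow]⟩
      refine mem_center_of_commute h fun x hx => ?_
      have hαn : α n = z⁻¹ * n := by rw [hz, tw]; group
      -- the inverted element `n x α(n)⁻¹ = z · n x n⁻¹`
      have hy : α (z * (n * x * n⁻¹)) = (z * (n * x * n⁻¹))⁻¹ := by
        have h1 : z * (n * x * n⁻¹) = n * x * (α n)⁻¹ := by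
          rw [hαn, mul_inv_rev, inv_inv, ← mem_center_iff.mp hzc (n * x * n⁻¹)]
          group
        rw [h1, map_mul, map_mul, map_inv, h.1, hx.2]
        group
      obtain ⟨e, m, hm, he⟩ := Nat.exists_eq_two_pow_mul_odd (orderOf_pos z).ne'
      have hzm : z ^ 2 ^ e = 1 := hz2 _ (hm.of_dvd_nat (orderOf_dvd_of_pow_eq_one (by
        rw [← pow_mul, ← he, pow_orderOf_eq_one])))
      have hcz : Commute z (n * x * n⁻¹) := (mem_center_iff.mp hzc _).symm
      have hord : orderOf (n * x * n⁻¹) = orderOf x := by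
        rw [show n * x * n⁻¹ = MulAut.conj n x from rfl, MulEquiv.orderOf_eq]
      have hI : (n * x * n⁻¹) ^ 2 ^ e ∈ invOdd α := by
        refine ⟨hx.1.of_dvd_nat (hord ▸ orderOf_pow_dvd _), ?_⟩
        have h1 : (z * (n * x * n⁻¹)) ^ 2 ^ e = (n * x * n⁻¹) ^ 2 ^ e := by
          rw [hcz.mul_pow, hzm, one_mul]
        rw [← h1, map_pow, hy, inv_pow]
      have hI' : x ^ 2 ^ e ∈ invOdd α :=
        ⟨hx.1.of_dvd_nat (orderOf_pow_dvd _), by rw [map_pow, hx.2, inv_pow]⟩
      have heq := hinj hI hI' (by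
        show ((((n * x * n⁻¹) ^ 2 ^ e : G)) : G ⧸ N) = ((x ^ 2 ^ e : G) : G ⧸ N)
        rw [QuotientGroup.mk_pow, QuotientGroup.mk_mul, QuotientGroup.mk_mul, QuotientGroup.mk_inv,
          (QuotientGroup.eq_one_iff n).mpr hn, inv_one, mul_one, one_mul, QuotientGroup.mk_pow])
      -- recover the element from its `2 ^ e`-th power
      have hcop : Nat.Coprime (2 ^ e) (orderOf x) := Nat.Coprime.pow_left _ hx.1.coprime_two_left
      obtain ⟨r, hr⟩ := exists_pow_eq_self_of_coprime hcop
      have h2 : n * x * n⁻¹ = x := by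
        have h3 : ((n * x * n⁻¹) ^ 2 ^ e) ^ r = n * x * n⁻¹ := by
          rw [← pow_mul, conj_pow, pow_mul, hr]
        rw [← h3, heq, hr]
      exact mul_inv_eq_iff_eq_mul.mp h2
  intro n hn
  refine key (Nat.card G + 1) n hn (hI1 _ ?_ ?_)
  · have : ∀ k, (tw α)^[k] n ∈ N := by
      intro k
      induction k with
      | zero => exact hn
      | succ k ih => rw [Function.iterate_succ_apply']; exact mul_mem ih (inv_mem (hN _ ih))
    exact this _
  · rw [← range_iterate_eq h.1 le_rfl]
    exact ⟨n, rfl⟩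

/-- The fixed points of `α`. -/
def fix (α : MulAut G) : Subgroup G := α.toMonoidHom.eqLocus (MonoidHom.id G)

omit [Finite G] in
theorem mem_fix {α : MulAut G} {x : G} : x ∈ fix α ↔ α x = x := Iff.rfl

/-- If no invariant normal subgroup keeps the inverted elements apart, the fixed points act
faithfully on them. -/
theorem card_fix_le {α : MulAut G} (h : Hyp α)
    (hred : ∀ (W : Subgroup G) [W.Normal], (∀ x ∈ W, α x ∈ W) →
      Set.InjOn (fun x : G => (x : G ⧸ W)) (invOdd α) → W = ⊥) :
    Nat.card (fix α) ≤ (Nat.card (invOdd α)).factorial := by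
  classical
  have hmem : ∀ (c : fix α) (x : invOdd α), (c : G) * x * (c : G)⁻¹ ∈ invOdd α := fun c x => by
    refine ⟨?_, ?_⟩
    · rw [show (c : G) * x * (c : G)⁻¹ = MulAut.conj (c : G) x from rfl, MulEquiv.orderOf_eq]
      exact x.2.1
    · rw [map_mul, map_mul, map_inv, mem_fix.mp c.2, x.2.2]
      group
  let F : fix α → Equiv.Perm (invOdd α) := fun c =>
    { toFun := fun x => ⟨(c : G) * x * (c : G)⁻¹, hmem c x⟩
      invFun := fun x => ⟨((c⁻¹ : fix α) : G) * x * ((c⁻¹ : fix α) : G)⁻¹, hmem c⁻¹ x⟩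
      left_inv := fun x => Subtype.ext (by simp [mul_assoc])
      right_inv := fun x => Subtype.ext (by simp [mul_assoc]) }
  have hF : Function.Injective F := by
    intro a b hab
    have hw : ∀ x ∈ invOdd α, ((b⁻¹ * a : fix α) : G) * x = x * ((b⁻¹ * a : fix α) : G) := by
      intro x hx
      have h1 := congrArg (fun e : Equiv.Perm (invOdd α) => ((e ⟨x, hx⟩ : invOdd α) : G)) hab
      have h2 : (a : G) * x * (a : G)⁻¹ = (b : G) * x * (b : G)⁻¹ := h1
      calc ((b⁻¹ * a : fix α) : G) * x = (b : G)⁻¹ * ((a : G) * x * (a : G)⁻¹) * a := by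
            push_cast; group
        _ = x * ((b⁻¹ * a : fix α) : G) := by rw [h2]; push_cast; group
    set w := ((b⁻¹ * a : fix α) : G) with hwdef
    have hwc := mem_center_of_commute h hw
    have hWn : (zpowers w).Normal := ⟨fun y hy g => by
      have hyc : y ∈ center G := (zpowers_le.mpr hwc) hy
      rw [mem_center_iff.mp hyc g, mul_inv_cancel_right]
      exact hy⟩
    have hbot : zpowers w = ⊥ := by
      refine hred _ (fun y ⟨i, hi⟩ => ⟨i, by
        subst hi
        show w ^ i = α (w ^ i)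
        rw [map_zpow, mem_fix.mp (b⁻¹ * a).2]⟩) ?_
      intro x hx x' hx' hxx
      have hm : x⁻¹ * x' ∈ zpowers w := QuotientGroup.eq.mp hxx
      set v := x⁻¹ * x' with hv
      have hvc : v ∈ center G := (zpowers_le.mpr hwc) hm
      have hαv : α v = v := by
        obtain ⟨i, hi⟩ := hm
        rw [← show w ^ i = v from hi, map_zpow, mem_fix.mp (b⁻¹ * a).2]
      have hxv : x' = x * v := by rw [hv]; group
      have hv2 : v ^ 2 = 1 := by
        have h1 := hx'.2
        rw [hxv, map_mul, hx.2, hαv, mul_inv_rev, ← mem_center_iff.mp (inv_mem hvc) x⁻¹] at h1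
        rw [sq]
        exact eq_inv_iff_mul_eq_one.mp (mul_left_cancel h1)
      have hcomm : Commute x' x⁻¹ := by
        rw [hxv]
        exact ((Commute.refl x).inv_right).mul_left (mem_center_iff.mp hvc x⁻¹).symm
      have hodd : Odd (orderOf v) := by
        refine Odd.of_dvd_nat ?_ (((hcomm.symm).orderOf_mul_dvd_lcm).trans (Nat.lcm_dvd_mul _ _))
        rw [orderOf_inv]
        exact hx.1.mul hx'.1
      have : v = 1 := orderOf_eq_one_iff.mp (Nat.eq_one_of_dvd_coprimes hodd.coprime_two_left
        (orderOf_dvd_of_pow_eq_one hv2) dvd_rfl)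
      rw [hxv, this, mul_one]
    have : b⁻¹ * a = 1 := Subtype.ext (mem_bot.mp (hbot ▸ mem_zpowers w))
    exact (inv_mul_eq_one.mp this).symm
  calc Nat.card (fix α) ≤ Nat.card (Equiv.Perm (invOdd α)) := Nat.card_le_card_of_injective F hF
    _ = (Nat.card (invOdd α)).factorial := Nat.card_perm

/-- An involutive automorphism with few fixed points forces a large centraliser. -/
theorem exists_large_centralizer {β : MulAut G} (hβ : ∀ x, β (β x) = x) [Nontrivial G] :
    ∃ x : G, x ≠ 1 ∧
      Nat.card G ≤ 2 * Nat.card (fix β) ^ 2 * Nat.card (centralizer ({x} : Set G)) := by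
  classical
  have := Fintype.ofFinite G
  set c := Nat.card (fix β) with hc
  obtain ⟨x₀, hx₀, hmax⟩ := Finset.exists_max_image (Finset.univ.filter fun x : G => x ≠ 1)
    (fun x => Nat.card (centralizer ({x} : Set G))) (by
      obtain ⟨y, hy⟩ := exists_ne (1 : G)
      exact ⟨y, Finset.mem_filter.mpr ⟨Finset.mem_univ _, hy⟩⟩)
  rw [Finset.mem_filter] at hx₀
  refine ⟨x₀, hx₀.2, ?_⟩
  set M := Nat.card (centralizer ({x₀} : Set G)) with hM
  set K := Finset.univ.image (tw β) with hK
  have hKG : K.card ≤ Fintype.card G := Finset.card_le_univ K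
  -- the fibres of `tw β` are cosets of the fixed points
  have hG : Fintype.card G ≤ c * K.card := by
    rw [← Finset.card_univ]
    refine Finset.card_le_mul_card_image (f := tw β) _ _ fun k hk => ?_
    obtain ⟨a₀, -, ha₀⟩ := Finset.mem_image.mp hk
    rw [hc, Nat.card_eq_fintype_card, Fintype.card_subtype]
    refine Finset.card_le_card_of_injOn (fun a => a₀⁻¹ * a) (fun a ha => ?_)
      (fun a _ b _ hab => mul_left_cancel hab)
    simp only [Finset.coe_filter, Finset.mem_univ, true_and, Set.mem_ofPred_eq] at ha ⊢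
    rw [mem_fix, map_mul, map_inv]
    rw [← ha₀] at ha
    simp only [tw] at ha
    have h1 : β a₀ = β a * a⁻¹ * a₀ := by
      have := congrArg (fun z => z⁻¹) ha
      simp only [mul_inv_rev, inv_inv] at this
      rw [this]; group
    rw [h1]; group
  -- pairs with a given quotient
  have hfib : ∀ x : G, ((K ×ˢ K).filter fun p => p.1 * p.2⁻¹ = x).card ≤
      (if x = 1 then K.card else M) := by
    intro x
    split_ifs with hx
    · refine Finset.card_le_card_of_injOn Prod.fst (fun p hp => ?_) (fun p hp q hq hpq => ?_)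
      · simp only [Finset.coe_filter, Finset.mem_product, Set.mem_ofPred_eq] at hp
        exact hp.1.1
      · simp only [Finset.coe_filter, Finset.mem_product, Set.mem_ofPred_eq, hx,
          mul_inv_eq_one] at hp hq
        exact Prod.ext hpq (hp.2.symm.trans (hpq.trans hq.2))
    · refine le_trans ?_ (hmax x (Finset.mem_filter.mpr ⟨Finset.mem_univ _, hx⟩))
      rcases ((K ×ˢ K).filter fun p => p.1 * p.2⁻¹ = x).eq_empty_or_nonempty with he | ⟨p₀, hp₀⟩
      · rw [he]; simp
      have hconj : ∀ p ∈ ((K ×ˢ K).filter fun p => p.1 * p.2⁻¹ = x),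
          p.1⁻¹ * x * p.1 = (β x)⁻¹ := by
        intro p hp
        obtain ⟨hpK, hpx⟩ := Finset.mem_filter.mp hp
        obtain ⟨h1, h2⟩ := Finset.mem_product.mp hpK
        obtain ⟨a, -, ha⟩ := Finset.mem_image.mp h1
        obtain ⟨b, -, hb⟩ := Finset.mem_image.mp h2
        have e1 : β p.1 = p.1⁻¹ := by rw [← ha]; exact tw_inverted hβ a
        have e2 : β p.2 = p.2⁻¹ := by rw [← hb]; exact tw_inverted hβ b
        rw [← hpx, map_mul, map_inv, e1, e2]
        group
      rw [Nat.card_eq_fintype_card, Fintype.card_subtype]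
      refine Finset.card_le_card_of_injOn (fun p => p.1 * p₀.1⁻¹) (fun p hp => ?_)
        (fun p hp q hq hpq => ?_)
      · simp only [Finset.mem_coe] at hp
        simp only [Finset.coe_filter, Finset.mem_univ, true_and, Set.mem_ofPred_eq]
        rw [mem_centralizer_singleton_iff]
        have h1 := (hconj p hp).trans (hconj p₀ hp₀).symm
        calc p.1 * p₀.1⁻¹ * x = p.1 * (p₀.1⁻¹ * x * p₀.1) * p₀.1⁻¹ := by group
          _ = x * (p.1 * p₀.1⁻¹) := by rw [← h1]; group
      · simp only [Finset.coe_filter, Set.mem_ofPred_eq] at hp hq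
        have h1 : p.1 = q.1 := mul_right_cancel hpq
        refine Prod.ext h1 (inv_injective (mul_left_cancel (a := q.1) ?_))
        rw [← h1, hp.2, h1, hq.2]
  have hsq : K.card * K.card ≤ K.card + Fintype.card G * M := by
    rw [← Finset.card_product, Finset.card_eq_sum_card_fiberwise
      (f := fun p : G × G => p.1 * p.2⁻¹) (t := Finset.univ) (fun p _ => Finset.mem_univ _)]
    refine (Finset.sum_le_sum fun x _ => hfib x).trans ?_
    rw [← Finset.add_sum_erase _ _ (Finset.mem_univ (1 : G)), if_pos rfl]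
    refine Nat.add_le_add_left ?_ _
    calc ∑ x ∈ Finset.univ.erase (1 : G), (if x = 1 then K.card else M)
        ≤ (Finset.univ.erase (1 : G)).card • M := Finset.sum_le_card_nsmul _ _ _ fun x hx => by
          rw [if_neg (Finset.ne_of_mem_erase hx)]
      _ ≤ Fintype.card G * M := by
          rw [smul_eq_mul]
          exact Nat.mul_le_mul_right _ (Finset.card_le_univ _)
  have hMpos : 0 < M := Nat.card_pos
  rw [Nat.card_eq_fintype_card]
  have hGpos : 0 < Fintype.card G := Fintype.card_pos
  refine Nat.le_of_mul_le_mul_left ?_ hGpos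
  calc Fintype.card G * Fintype.card G ≤ (c * K.card) * (c * K.card) := Nat.mul_le_mul hG hG
    _ = c ^ 2 * (K.card * K.card) := by ring
    _ ≤ c ^ 2 * (Fintype.card G + Fintype.card G * M) :=
        Nat.mul_le_mul_left _ (hsq.trans (Nat.add_le_add_right hKG _))
    _ ≤ c ^ 2 * (Fintype.card G * M + Fintype.card G * M) :=
        Nat.mul_le_mul_left _ (Nat.add_le_add_right (Nat.le_mul_of_pos_right _ hMpos) _)
    _ = Fintype.card G * (2 * c ^ 2 * M) := by ring

/-- An abelian group without invariant characteristic chain is small. -/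
theorem card_le_of_comm {β : MulAut G} (hβ : ∀ x, β (β x) = x) (hc : ∀ a b : G, a * b = b * a)
    (hmin : (∀ x : G, x ^ 2 = 1) ∨ ∀ x : G, ∃ y, y ^ 2 = x) :
    Nat.card G ≤ Nat.card (fix β) * (Nat.card (fix β) + Nat.card (invOdd β)) := by
  classical
  have := Fintype.ofFinite G
  set c := Nat.card (fix β) with hcdef
  set K := Finset.univ.image (tw β)
  have hG : Fintype.card G ≤ c * K.card := by
    rw [← Finset.card_univ]
    refine Finset.card_le_mul_card_image (f := tw β) _ _ fun k hk => ?_
    obtain ⟨a₀, -, ha₀⟩ := Finset.mem_image.mp hk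
    rw [hcdef, Nat.card_eq_fintype_card, Fintype.card_subtype]
    refine Finset.card_le_card_of_injOn (fun a => a₀⁻¹ * a) (fun a ha => ?_)
      (fun a _ b _ hab => mul_left_cancel hab)
    simp only [Finset.coe_filter, Finset.mem_univ, true_and, Set.mem_ofPred_eq] at ha ⊢
    rw [mem_fix, map_mul, map_inv]
    rw [← ha₀] at ha
    simp only [tw] at ha
    have h1 : β a₀ = β a * a⁻¹ * a₀ := by
      have := congrArg (fun z => z⁻¹) ha
      simp only [mul_inv_rev, inv_inv] at this
      rw [this]; group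
    rw [h1]; group
  rw [Nat.card_eq_fintype_card]
  refine hG.trans (Nat.mul_le_mul_left _ ?_)
  rcases hmin with h2 | h2
  · refine le_trans ?_ (Nat.le_add_right _ _)
    rw [hcdef, Nat.card_eq_fintype_card, Fintype.card_subtype]
    refine Finset.card_le_card fun k hk => ?_
    obtain ⟨a, -, rfl⟩ := Finset.mem_image.mp hk
    rw [Finset.mem_filter]
    refine ⟨Finset.mem_univ _, ?_⟩
    rw [mem_fix, tw_inverted hβ]
    exact inv_eq_of_mul_eq_one_right (by rw [← sq]; exact h2 _)
  · refine le_trans ?_ (Nat.le_add_left _ _)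
    rw [Nat.card_eq_fintype_card, ← Set.toFinset_card]
    refine Finset.card_le_card fun k hk => ?_
    obtain ⟨a, -, rfl⟩ := Finset.mem_image.mp hk
    rw [Set.mem_toFinset]
    refine ⟨?_, tw_inverted hβ a⟩
    rw [← Nat.not_even_iff_odd, even_iff_two_dvd]
    intro hd
    have hsurj : Function.Surjective (fun x : G => x ^ 2) := h2
    have hinj := Finite.injective_iff_surjective.mpr hsurj
    have h2' : orderOf (tw β a ^ (orderOf (tw β a) / 2)) = 2 := by
      rw [orderOf_pow, Nat.gcd_eq_right (Nat.div_dvd_of_dvd hd),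
        Nat.div_div_self hd (orderOf_pos _).ne']
    have h3 : (fun x : G => x ^ 2) (tw β a ^ (orderOf (tw β a) / 2)) = (fun x : G => x ^ 2) 1 := by
      show (tw β a ^ (orderOf (tw β a) / 2)) ^ 2 = 1 ^ 2
      rw [one_pow]
      have := pow_orderOf_eq_one (tw β a ^ (orderOf (tw β a) / 2))
      rwa [h2'] at this
    rw [hinj h3, orderOf_one] at h2'
    omega

/-- The bound for a minimal invariant normal subgroup in terms of the index, the fixed points and
the inverted elements. -/
def minBound (q c m : ℕ) : ℕ := c * (c + m) + (2 * c ^ 2).factorial.factorial ^ (2 * q) + 1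

theorem card_minimal_le {α : MulAut G} (hα : ∀ x, α (α x) = x) (V : Subgroup G) [V.Normal]
    (hV : ∀ x ∈ V, α x ∈ V) {q c m : ℕ} (hq : Nat.card (G ⧸ V) ≤ q) (hc : Nat.card (fix α) ≤ c)
    (hm : Nat.card (invOdd α) ≤ m)
    (hmin : ∀ W : Subgroup G, W.Normal → (∀ x ∈ W, α x ∈ W) → W ≤ V → W = ⊥ ∨ W = V) :
    Nat.card V ≤ minBound q c m := by
  classical
  let β : MulAut V :=
    { toFun := fun x => ⟨α x, hV x x.2⟩
      invFun := fun x => ⟨α x, hV x x.2⟩
      left_inv := fun x => Subtype.ext (hα x)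
      right_inv := fun x => Subtype.ext (hα x)
      map_mul' := fun x y => Subtype.ext (map_mul α (x : G) y) }
  have hβ : ∀ x : V, β (β x) = x := fun x => Subtype.ext (hα x)
  have hfixV : Nat.card (fix β) ≤ c := le_trans
    (Nat.card_le_card_of_injective
      (fun x : fix β => (⟨((x : V) : G), mem_fix.mpr (congrArg Subtype.val (mem_fix.mp x.2))⟩ : fix α))
      (fun x y h => Subtype.ext (Subtype.ext (congrArg (fun z : fix α => (z : G)) h)))) hc
  have hIV : Nat.card (invOdd β) ≤ m := le_trans
    (Nat.card_le_card_of_injective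
      (fun x : invOdd β => (⟨((x : V) : G), ⟨by rw [Subgroup.orderOf_coe]; exact x.2.1,
        congrArg Subtype.val x.2.2⟩⟩ : invOdd α))
      (fun x y h => Subtype.ext (Subtype.ext (congrArg (fun z : invOdd α => (z : G)) h)))) hm
  -- invariant characteristic subgroups of `V`
  have hchar : ∀ S : Subgroup V, S.Characteristic → S = ⊥ ∨ S = ⊤ := by
    intro S hS
    have hinv : ∀ x ∈ S.map V.subtype, α x ∈ S.map V.subtype := by
      rintro _ ⟨y, hy, rfl⟩
      exact ⟨β y, (characteristic_iff_map_eq.mp hS β).le ⟨y, hy, rfl⟩, rfl⟩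
    rcases hmin (S.map V.subtype) inferInstance hinv (map_subtype_le S) with h | h
    · exact Or.inl ((map_eq_bot_iff_of_injective S V.subtype_injective).mp h)
    · refine Or.inr (map_injective V.subtype_injective ?_)
      rw [h, ← MonoidHom.range_eq_map, range_subtype]
  rcases subsingleton_or_nontrivial V with hs | hnt
  · rw [Nat.card_of_subsingleton (1 : V)]
    exact Nat.le_add_left 1 _
  rcases hchar (center V) inferInstance with hZ | hZ
  swap
  · have hcomm : ∀ a b : V, a * b = b * a := fun a b =>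
      (mem_center_iff.mp (hZ ▸ mem_top b : b ∈ center V) a)
    let sq : V →* V :=
      { toFun := fun x => x ^ 2
        map_one' := one_pow 2
        map_mul' := fun a b => (show Commute a b from hcomm a b).mul_pow 2 }
    have hsq : sq.range.Characteristic := by
      refine characteristic_iff_map_le.mpr fun e => ?_
      rintro _ ⟨_, ⟨y, rfl⟩, rfl⟩
      exact ⟨e y, (map_pow e y 2).symm⟩
    have hor : (∀ x : V, x ^ 2 = 1) ∨ ∀ x : V, ∃ y, y ^ 2 = x := by
      rcases hchar sq.range hsq with h | h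
      · exact Or.inl fun x => mem_bot.mp (h ▸ ⟨x, rfl⟩ : sq x ∈ (⊥ : Subgroup V))
      · exact Or.inr fun x => MonoidHom.range_eq_top.mp h x
    refine (card_le_of_comm hβ hcomm hor).trans ?_
    calc Nat.card (fix β) * (Nat.card (fix β) + Nat.card (invOdd β)) ≤ c * (c + m) :=
          Nat.mul_le_mul hfixV (Nat.add_le_add hfixV hIV)
      _ ≤ minBound q c m := by unfold minBound; omega
  -- nonabelian case
  obtain ⟨x, hx, hxc⟩ := exists_large_centralizer hβ
  set S := centralizer ({x} : Set V) with hSdef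
  have hSne : S ≠ ⊤ := by
    intro h
    apply hx
    have : x ∈ center V := mem_center_iff.mpr fun g =>
      mem_centralizer_singleton_iff.mp (h.ge (mem_top g) : g ∈ S)
    rwa [hZ, mem_bot] at this
  have hidx : S.index ≤ 2 * c ^ 2 := by
    have h1 := S.card_mul_index
    have h2 : Nat.card S * S.index ≤ Nat.card S * (2 * c ^ 2) := by
      rw [h1]
      refine hxc.trans ?_
      rw [mul_comm]
      exact Nat.mul_le_mul_left _ (Nat.mul_le_mul_left 2 (Nat.pow_le_pow_left hfixV 2))
    exact Nat.le_of_mul_le_mul_left h2 Nat.card_pos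
  set K := S.normalCore with hKdef
  have hKcard : Nat.card (V ⧸ K) ≤ (2 * c ^ 2).factorial := by
    rw [← index_eq_card, hKdef, normalCore_eq_ker, index_ker]
    refine le_trans (Nat.card_le_card_of_injective Subtype.val Subtype.coe_injective) ?_
    rw [Nat.card_perm, ← index_eq_card]
    exact Nat.factorial_le hidx
  -- the conjugates of `K`
  let img : G → Bool → V → V := fun g e v =>
    ⟨g * (bif e then α v else (v : G)) * g⁻¹, (inferInstance : V.Normal).conj_mem _ (by
      cases e
      · exact v.2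
      · exact hV _ v.2) g⟩
  let W : Subgroup G :=
    { carrier := {v | ∃ hv : v ∈ V, ∀ (g : G) (e : Bool), img g e ⟨v, hv⟩ ∈ K}
      one_mem' := ⟨one_mem V, fun g e => by
        rw [show img g e ⟨1, one_mem V⟩ = 1 from Subtype.ext (by cases e <;> simp [img])]
        exact one_mem K⟩
      mul_mem' := fun {a b} ⟨ha, ha'⟩ ⟨hb, hb'⟩ => ⟨mul_mem ha hb, fun g e => by
        rw [show img g e ⟨a * b, mul_mem ha hb⟩ = img g e ⟨a, ha⟩ * img g e ⟨b, hb⟩ from
          Subtype.ext (by cases e <;> simp [img, mul_assoc])]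
        exact mul_mem (ha' g e) (hb' g e)⟩
      inv_mem' := fun {a} ⟨ha, ha'⟩ => ⟨inv_mem ha, fun g e => by
        rw [show img g e ⟨a⁻¹, inv_mem ha⟩ = (img g e ⟨a, ha⟩)⁻¹ from
          Subtype.ext (by cases e <;> simp [img, mul_assoc])]
        exact inv_mem (ha' g e)⟩ }
  have hWV : W ≤ V := by
    intro v hv0
    obtain ⟨hv, -⟩ := hv0
    exact hv
  have hVn : V.Normal := inferInstance
  have hWn : W.Normal := by
    refine ⟨fun v hv0 k => ?_⟩
    obtain ⟨hv, hv'⟩ := hv0
    refine ⟨hVn.conj_mem v hv k, fun g e => ?_⟩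
    cases e
    · rw [show img g false ⟨k * v * k⁻¹, hVn.conj_mem v hv k⟩ = img (g * k) false ⟨v, hv⟩ from
        Subtype.ext (by simp [img, mul_assoc])]
      exact hv' _ _
    · rw [show img g true ⟨k * v * k⁻¹, hVn.conj_mem v hv k⟩ = img (g * α k) true ⟨v, hv⟩ from
        Subtype.ext (by simp [img, mul_assoc])]
      exact hv' _ _
  have hWinv : ∀ v ∈ W, α v ∈ W := by
    intro v hv0
    obtain ⟨hv, hv'⟩ := hv0
    refine ⟨hV v hv, fun g e => ?_⟩
    cases e
    · rw [show img g false ⟨α v, hV v hv⟩ = img g true ⟨v, hv⟩ from Subtype.ext (by simp [img])]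
      exact hv' _ _
    · rw [show img g true ⟨α v, hV v hv⟩ = img g false ⟨v, hv⟩ from
        Subtype.ext (by simp [img, hα])]
      exact hv' _ _
  have hWbot : W = ⊥ := by
    refine (hmin W hWn hWinv hWV).resolve_right fun hW => hSne ?_
    rw [eq_top_iff]
    intro v _
    obtain ⟨_, hv'⟩ := (hW.ge v.2 : (v : G) ∈ W)
    have h1 := hv' 1 false
    rw [show img 1 false ⟨(v : G), v.2⟩ = v from Subtype.ext (by simp [img])] at h1
    exact normalCore_le S h1
  let Φ : V → ((G ⧸ V) × Bool → V ⧸ K) := fun v p => (img p.1.out p.2 v : V)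
  have hΦ : Function.Injective Φ := by
    intro a b hab
    have hd : ((a⁻¹ * b : V) : G) ∈ W := by
      refine ⟨(a⁻¹ * b).2, fun g e => ?_⟩
      set r := ((g : G ⧸ V)).out with hr
      have hrg : (r : G ⧸ V) = (g : G ⧸ V) := QuotientGroup.out_eq' _
      have hu : g * r⁻¹ ∈ V := by
        rw [← QuotientGroup.eq_one_iff, QuotientGroup.mk_mul, QuotientGroup.mk_inv, hrg,
          mul_inv_cancel]
      have h1 : Φ a ((g : G ⧸ V), e) = Φ b ((g : G ⧸ V), e) := congrFun hab _
      have h2 : (img r e a)⁻¹ * img r e b ∈ K := QuotientGroup.eq.mp h1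
      rw [show img g e ⟨((a⁻¹ * b : V) : G), (a⁻¹ * b).2⟩ =
        (⟨g * r⁻¹, hu⟩ : V) * ((img r e a)⁻¹ * img r e b) * (⟨g * r⁻¹, hu⟩ : V)⁻¹ from
          Subtype.ext (by cases e <;> simp [img, mul_assoc])]
      exact (inferInstance : K.Normal).conj_mem _ h2 _
    rw [hWbot, mem_bot] at hd
    exact inv_mul_eq_one.mp (Subtype.ext hd)
  refine (Nat.card_le_card_of_injective Φ hΦ).trans ?_
  rw [Nat.card_fun, Nat.card_prod, Nat.card_eq_fintype_card (α := Bool), Fintype.card_bool]
  calc Nat.card (V ⧸ K) ^ (Nat.card (G ⧸ V) * 2)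
      ≤ (2 * c ^ 2).factorial ^ (Nat.card (G ⧸ V) * 2) := Nat.pow_le_pow_left hKcard _
    _ ≤ (2 * c ^ 2).factorial ^ (2 * q) :=
        Nat.pow_le_pow_right (Nat.factorial_pos _) (by omega)
    _ ≤ (2 * c ^ 2).factorial.factorial ^ (2 * q) :=
        Nat.pow_le_pow_left (Nat.self_le_factorial _) _
    _ ≤ minBound q c m := by unfold minBound; omega

/-- The bound on the whole group from a bound on its central quotient. -/
def schurBound (B m : ℕ) : ℕ := (Finset.range (B * B + 1)).sup Subgroup.cardCommutatorBound * m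

theorem card_le_of_index_center {α : MulAut G} (h : Hyp α) {B m : ℕ}
    (hB : (center G).index ≤ B) (hm : Nat.card (invOdd α) ≤ m) :
    Nat.card G ≤ schurBound B m := by
  classical
  have hcs : Nat.card (commutatorSet G) ≤ B * B := by
    let F : (G ⧸ center G) × (G ⧸ center G) → commutatorSet G := fun p =>
      ⟨⁅p.1.out, p.2.out⁆, commutator_mem_commutatorSet _ _⟩
    have hF : Function.Surjective F := by
      rintro ⟨_, a, b, rfl⟩
      refine ⟨((a : G ⧸ center G), (b : G ⧸ center G)), Subtype.ext ?_⟩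
      show ⁅((a : G ⧸ center G)).out, ((b : G ⧸ center G)).out⁆ = ⁅a, b⁆
      obtain ⟨z, hz⟩ := QuotientGroup.mk_out_eq_mul (center G) a
      obtain ⟨w, hw⟩ := QuotientGroup.mk_out_eq_mul (center G) b
      rw [hz, hw]
      have hz' : ∀ y, Commute (z : G) y := fun y => (mem_center_iff.mp z.2 y).symm
      have hw' : ∀ y, Commute (w : G) y := fun y => (mem_center_iff.mp w.2 y).symm
      rw [commutatorElement_def, commutatorElement_def, mul_inv_rev, mul_inv_rev]
      calc a * z * (b * w) * ((z : G)⁻¹ * a⁻¹) * ((w : G)⁻¹ * b⁻¹)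
          = a * ((z : G) * (b * w) * (z : G)⁻¹) * a⁻¹ * ((w : G)⁻¹ * b⁻¹) := by group
        _ = a * b * ((w : G) * a⁻¹ * (w : G)⁻¹) * b⁻¹ := by
            rw [(hz' _).eq, mul_inv_cancel_right]; group
        _ = a * b * a⁻¹ * b⁻¹ := by rw [(hw' a⁻¹).eq, mul_inv_cancel_right]
    refine (Nat.card_le_card_of_surjective F hF).trans ?_
    rw [Nat.card_prod, ← index_eq_card]
    exact Nat.mul_le_mul hB hB
  have hcomm : Nat.card (commutator G) ≤
      (Finset.range (B * B + 1)).sup Subgroup.cardCommutatorBound :=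
    (card_commutator_le_of_finite_commutatorSet G).trans
      (Finset.le_sup (f := Subgroup.cardCommutatorBound) (Finset.mem_range.mpr (by omega)))
  have habel : ∀ x : G, α x ∈ commutator G ↔ x ∈ commutator G := by
    intro x
    have hch := characteristic_iff_comap_eq.mp (inferInstance : (commutator G).Characteristic) α
    exact ⟨fun hx => hch.le hx, fun hx => hch.ge hx⟩
  obtain ⟨β, hβ, -, hI⟩ := exists_quotient h (commutator G) fun x hx => (habel x).mpr hx
  have hQ : Nat.card (G ⧸ commutator G) ≤ m := by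
    have hcommQ : ∀ a b : G ⧸ commutator G, a * b = b * a := fun a b =>
      (inferInstance : Std.Commutative (α := Abelianization G) (· * ·)).comm a b
    let S : Subgroup (G ⧸ commutator G) :=
      { carrier := invOdd β
        one_mem' := one_mem_invOdd β
        mul_mem' := fun {a b} ha hb => ⟨Odd.of_dvd_nat (ha.1.mul hb.1)
          (((show Commute a b from hcommQ a b)).orderOf_mul_dvd_mul_orderOf),
          by rw [map_mul, ha.2, hb.2, mul_inv_rev, hcommQ]⟩
        inv_mem' := fun {a} ha => ⟨by rw [orderOf_inv]; exact ha.1, by rw [map_inv, ha.2]⟩ }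
    have hall : ∀ x, x ∈ invOdd β := fun x => by
      have h1 : Subgroup.closure (invOdd β) ≤ S := (closure_le _).mpr fun y hy => hy
      rw [closure_invOdd hβ] at h1
      exact h1 (mem_top x)
    calc Nat.card (G ⧸ commutator G) ≤ Nat.card (invOdd β) :=
          Nat.card_le_card_of_injective (fun x => ⟨x, hall x⟩) fun x y e => congrArg Subtype.val e
      _ ≤ Nat.card (invOdd α) := by
          rw [hI]; exact Nat.card_image_le (Set.toFinite _)
      _ ≤ m := hm
  rw [← (commutator G).card_mul_index, index_eq_card]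
  exact Nat.mul_le_mul hcomm hQ

/-- The bound as a function of the number of inverted elements. -/
def bound : ℕ → ℕ
  | 0 => 0
  | m + 1 => schurBound (bound m * minBound (bound m) (m + 1).factorial (m + 1) + 1) (m + 1)

theorem card_le_bound : ∀ (m : ℕ) (G : Type u) [Group G] [Finite G] (α : MulAut G), Hyp α →
    Nat.card (invOdd α) ≤ m → Nat.card G ≤ bound m := by
  intro m
  induction m with
  | zero =>
    intro G _ _ α _ hm
    have : Nonempty (invOdd α) := ⟨⟨1, one_mem_invOdd α⟩⟩
    have := Nat.card_pos (α := invOdd α)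
    omega
  | succ m ih =>
    intro G _ _ α h hm
    -- pass to the largest quotient keeping the inverted elements apart
    obtain ⟨N, -, hNmax⟩ := exists_maximal_ge_of_wellFoundedGT
      (fun N : Subgroup G => N.Normal ∧ (∀ x ∈ N, α x ∈ N) ∧
        Set.InjOn (fun x : G => (x : G ⧸ N)) (invOdd α)) ⊥
      ⟨inferInstance, fun x hx => by rw [mem_bot.mp hx, map_one]; exact one_mem _,
        fun x _ y _ hxy => inv_mul_eq_one.mp (mem_bot.mp (QuotientGroup.eq.mp hxy))⟩
    obtain ⟨hNn, hNinv, hNinj⟩ := hNmax.prop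
    have hNZ := le_center_of_injOn h N hNinv hNinj
    obtain ⟨β, hβ, hβm, hI⟩ := exists_quotient h N hNinv
    have hmR : Nat.card (invOdd β) ≤ m + 1 := by
      rw [hI]
      exact (Nat.card_image_le (Set.toFinite _)).trans hm
    have hred : ∀ (W : Subgroup (G ⧸ N)) [W.Normal], (∀ x ∈ W, β x ∈ W) →
        Set.InjOn (fun x : G ⧸ N => (x : (G ⧸ N) ⧸ W)) (invOdd β) → W = ⊥ := by
      intro W _ hWinv hWinj
      have hle : W.comap (QuotientGroup.mk' N) ≤ N := by
        refine hNmax.le_of_ge ⟨inferInstance, fun x hx => ?_, fun x hx y hy hxy => ?_⟩ ?_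
        · show ((α x : G) : G ⧸ N) ∈ W
          rw [← hβm]
          exact hWinv _ hx
        · refine hNinj hx hy (hWinj (hI ▸ Set.mem_image_of_mem _ hx) (hI ▸ Set.mem_image_of_mem _ hy) ?_)
          show ((x : G ⧸ N) : (G ⧸ N) ⧸ W) = ((y : G ⧸ N) : (G ⧸ N) ⧸ W)
          rw [QuotientGroup.eq]
          have h1 := QuotientGroup.eq.mp (hxy : (x : G ⧸ W.comap (QuotientGroup.mk' N)) = y)
          exact h1
        · intro x hx
          show (x : G ⧸ N) ∈ W
          rw [(QuotientGroup.eq_one_iff x).mpr hx]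
          exact one_mem W
      rw [eq_bot_iff]
      intro w hw
      obtain ⟨x, rfl⟩ := QuotientGroup.mk'_surjective N w
      exact mem_bot.mpr ((QuotientGroup.eq_one_iff x).mpr (hle hw))
    have hR : Nat.card (G ⧸ N) ≤
        bound m * minBound (bound m) (m + 1).factorial (m + 1) + 1 := by
      rcases subsingleton_or_nontrivial (G ⧸ N) with hs | hnt
      · rw [Nat.card_of_subsingleton (1 : G ⧸ N)]; omega
      obtain ⟨V, -, hVmin⟩ := exists_minimal_le_of_wellFoundedLT
        (fun V : Subgroup (G ⧸ N) => V.Normal ∧ (∀ x ∈ V, β x ∈ V) ∧ V ≠ ⊥) ⊤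
        ⟨inferInstance, fun x _ => mem_top _, top_ne_bot⟩
      obtain ⟨hVn, hVinv, hVne⟩ := hVmin.prop
      obtain ⟨γ, hγ, -, hJ⟩ := exists_quotient hβ V hVinv
      have hdrop : Nat.card (invOdd γ) ≤ m := by
        rw [hJ]
        by_contra hlt
        push Not at hlt
        refine hVne (hred V hVinv ?_)
        refine Set.injOn_of_ncard_image_eq ?_ (Set.toFinite _)
        rw [← Nat.card_coe_set_eq, ← Nat.card_coe_set_eq]
        exact le_antisymm (Nat.card_image_le (Set.toFinite _)) (hmR.trans hlt)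
      have hq := ih _ γ hγ hdrop
      have hc : Nat.card (fix β) ≤ (m + 1).factorial :=
        (card_fix_le hβ hred).trans (Nat.factorial_le hmR)
      have hV' := card_minimal_le hβ.1 V hVinv hq hc hmR fun W hW hWinv hWV => by
        by_cases hWb : W = ⊥
        · exact Or.inl hWb
        · exact Or.inr (le_antisymm hWV (hVmin.le_of_le ⟨hW, hWinv, hWb⟩ hWV))
      refine le_trans ?_ (Nat.le_succ _)
      rw [← V.card_mul_index, index_eq_card, mul_comm]
      exact Nat.mul_le_mul hq hV'
    refine card_le_of_index_center h (le_trans (Nat.le_of_dvd ?_ (index_dvd_of_le hNZ)) ?_) hm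
    · exact Nat.pos_of_ne_zero FiniteIndex.index_ne_zero
    · rw [index_eq_card]; exact hR

end CfsgLib.FGStruct.InvolBound
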