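import Cfsg.Agent.Lib.FGStruct.ItoTwoSizes
import Mathlib.GroupTheory.IndexNormal

/-!
Normal subgroups whose elements have two class sizes in the whole group and which contain a
noncentral Sylow `r`-subgroup: the components `C(y)` for noncentral `r'`-elements `y`.
-/

set_option autoImplicit false
set_option linter.style.haveILetI false
set_option linter.unusedSectionVars false

namespace CfsgLib.FGStruct.ItoNormal

open Subgroup CfsgLib.FGStruct.ItoTwoSizes

variable {G : Type*} [Group G] [Finite G]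

local notation "Cl" x => Subgroup.centralizer ({x} : Set _)

/-- `x` is an `r`-element. -/
def IsR (r : ℕ) (x : G) : Prop := ∃ k, x ^ r ^ k = 1

theorem isR_of_mem {r : ℕ} {U : Subgroup G} (hU : IsPGroup r U) {x : G} (hx : x ∈ U) : IsR r x := by
  obtain ⟨k, hk⟩ := hU ⟨x, hx⟩
  exact ⟨k, congrArg Subtype.val hk⟩

theorem isR_iff {r : ℕ} [hr : Fact r.Prime] {x : G} : IsR r x ↔ ∃ k, orderOf x = r ^ k := by
  constructor
  · rintro ⟨k, hk⟩
    obtain ⟨j, -, hj⟩ := (Nat.dvd_prime_pow hr.out).mp (orderOf_dvd_of_pow_eq_one hk)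
    exact ⟨j, hj⟩
  · rintro ⟨k, hk⟩
    exact ⟨k, by rw [← hk]; exact pow_orderOf_eq_one x⟩

theorem eq_one_of_isR {r : ℕ} [hr : Fact r.Prime] {x : G} (h : IsR r x)
    (h' : (orderOf x).Coprime r) : x = 1 := by
  obtain ⟨k, hk⟩ := h
  rw [← orderOf_eq_one_iff]
  exact Nat.eq_one_of_dvd_coprimes ((h'.pow_right k)) dvd_rfl (orderOf_dvd_of_pow_eq_one hk)

theorem isPGroup_zpowers {r : ℕ} [hr : Fact r.Prime] {x : G} (h : IsR r x) :
    IsPGroup r (zpowers x) := by
  obtain ⟨k, hk⟩ := isR_iff.mp h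
  exact IsPGroup.of_card (n := k) (by rw [Nat.card_zpowers, hk])

/-- `C` is the centraliser of a noncentral `r'`-element of `N`. -/
def IsComp (r : ℕ) (N C : Subgroup G) : Prop :=
  ∃ y ∈ N, y ∉ center G ∧ (orderOf y).Coprime r ∧ C = (Cl y : Subgroup G)

/-- The `r`-elements of a subgroup. -/
def rPart (r : ℕ) (A : Subgroup G) : Subgroup G := closure {x | x ∈ A ∧ IsR r x}

/-- The hypotheses. -/
structure Hyp (r : ℕ) (N : Subgroup G) (m : ℕ) : Prop where
  normal : N.Normal
  cls : ∀ x ∈ N, x ∉ center G → (Cl x : Subgroup G).index = m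
  rmem : ∀ x : G, IsR r x → x ∈ N
  ex : ∃ t : G, IsR r t ∧ t ∉ center G
  cent : ∀ R : Sylow r G, ∀ x ∈ (R : Subgroup G),
    (∀ u ∈ (R : Subgroup G), Commute x u) → x ∈ center G

theorem map_cl (g y : G) :
    (Cl y : Subgroup G).map (MulAut.conj g).toMonoidHom = (Cl (g * y * g⁻¹) : Subgroup G) := by
  ext a
  rw [mem_map_equiv, mem_cl_iff, mem_cl_iff, MulAut.conj_symm_apply]
  constructor
  · intro h
    have := h.map (MulAut.conj g)
    simpa [mul_assoc] using this
  · intro h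
    have := h.map (MulAut.conj g⁻¹)
    simpa [mul_assoc] using this

theorem mem_center_conj {g x : G} (h : g * x * g⁻¹ ∈ center G) : x ∈ center G := by
  have := (inferInstance : (center G).Normal).conj_mem _ h g⁻¹
  simpa [mul_assoc] using this

/-- `R` meets a subgroup it normalises in a Sylow subgroup of it. -/
theorem inf_card {r : ℕ} [hr : Fact r.Prime] (R : Sylow r G) {X : Subgroup G}
    (hX : (R : Subgroup G) ≤ normalizer (X : Set G)) :
    Nat.card ((R : Subgroup G) ⊓ X : Subgroup G) = r ^ (Nat.card X).factorization r := by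
  set M := ((R : Subgroup G) ⊓ X : Subgroup G) with hM
  have hMp : IsPGroup r M := R.isPGroup'.to_le inf_le_left
  obtain ⟨a, ha⟩ := IsPGroup.iff_card.mp hMp
  rw [ha]
  congr 1
  apply le_antisymm
  · refine (hr.out.pow_dvd_iff_le_factorization Nat.card_pos.ne').mp ?_
    rw [← ha]
    exact card_dvd_of_le inf_le_right
  · set W := normalizer (X : Set G) with hW
    haveI : (X.subgroupOf W).Normal := normal_in_normalizer
    -- the image of `R` modulo `X`
    have hdvd : X.relIndex (R : Subgroup G) ∣ X.relIndex W := by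
      have h1 := relIndex_dvd_index_of_normal (X.subgroupOf W) ((R : Subgroup G).subgroupOf W)
      rwa [relIndex_subgroupOf hX] at h1
    have h2 : Nat.card M * X.relIndex (R : Subgroup G) = Nat.card (R : Subgroup G) := by
      rw [← inf_relIndex_right, inf_comm, ← relIndex_bot_left M, relIndex_mul_relIndex _ _ _ bot_le
        inf_le_left, relIndex_bot_left]
    obtain ⟨b, hb⟩ : ∃ b, X.relIndex (R : Subgroup G) = r ^ b := by
      obtain ⟨b, hb⟩ := IsPGroup.iff_card.mp R.isPGroup'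
      have : X.relIndex (R : Subgroup G) ∣ r ^ b := hb ▸ Dvd.intro_left _ h2
      obtain ⟨c, -, hc⟩ := (Nat.dvd_prime_pow hr.out).mp this
      exact ⟨c, hc⟩
    have hbX : b ≤ (X.index).factorization r :=
      (hr.out.pow_dvd_iff_le_factorization index_ne_zero_of_finite).mp
        (hb ▸ hdvd.trans (relIndex_dvd_index_of_le le_normalizer))
    have h3 : (Nat.card G).factorization r = a + b := by
      rw [ha, hb, R.card_eq_multiplicity, ← pow_add] at h2
      exact (Nat.pow_right_injective hr.out.two_le h2).symm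
    rw [← X.card_mul_index, Nat.factorization_mul Nat.card_pos.ne' index_ne_zero_of_finite,
      Finsupp.add_apply] at h3
    omega

/-- A full-order normal `r`-subgroup contains all `r`-elements. -/
theorem mem_of_full {r : ℕ} [hr : Fact r.Prime] {C T : Subgroup G} (hTC : T ≤ C)
    (hT : Nat.card T = r ^ (Nat.card C).factorization r) (hn : ∀ c ∈ C, ∀ t ∈ T, Commute c t)
    {x : G} (hxC : x ∈ C) (hx : IsR r x) : x ∈ T := by
  set U := T ⊔ zpowers x with hU
  have hle : U ≤ C := sup_le hTC (zpowers_le.mpr hxC)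
  have hnorm : zpowers x ≤ normalizer (T : Set G) := by
    refine zpowers_le.mpr (Subgroup.mem_normalizer_iff.mpr fun t => ?_)
    constructor
    · intro ht
      rw [(hn x hxC t ht).eq, mul_inv_cancel_right]
      exact ht
    · intro ht
      have h1 := (hn x hxC _ ht).eq
      rw [← mul_assoc, ← mul_assoc, mul_inv_eq_iff_eq_mul] at h1
      have h3 : x * t * x⁻¹ = t := by
        have h4 : x * (x * t) = x * t * x := by rw [← mul_assoc]; exact h1.trans (by group)
        calc x * t * x⁻¹ = x⁻¹ * (x * (x * t)) * x⁻¹ := by group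
          _ = x⁻¹ * (x * t * x) * x⁻¹ := by rw [h4]
          _ = t := by group
      rwa [h3] at ht
  have hUp : IsPGroup r U :=
    IsPGroup.to_sup_of_normal_left' (IsPGroup.of_card hT) (isPGroup_zpowers hx) hnorm
  obtain ⟨u, hu⟩ := IsPGroup.iff_card.mp hUp
  have hcard : Nat.card U ≤ Nat.card T := by
    rw [hu, hT]
    exact Nat.pow_le_pow_right hr.out.pos ((hr.out.pow_dvd_iff_le_factorization
      Nat.card_pos.ne').mp (hu ▸ card_dvd_of_le hle))
  rw [eq_of_le_of_card_ge (le_sup_left : T ≤ U) hcard]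
  exact mem_sup_right (mem_zpowers x)

namespace Hyp

variable {r : ℕ} [hr : Fact r.Prime] {N : Subgroup G} {m : ℕ} (H : Hyp r N m)
include H

theorem card_cl {x y : G} (hx : x ∈ N) (hx' : x ∉ center G) (hy : y ∈ N) (hy' : y ∉ center G) :
    Nat.card (Cl x : Subgroup G) = Nat.card (Cl y : Subgroup G) := by
  have h1 := (Cl x : Subgroup G).card_mul_index
  have h2 := (Cl y : Subgroup G).card_mul_index
  rw [H.cls x hx hx'] at h1
  rw [H.cls y hy hy'] at h2
  have hn : m ≠ 0 := by rw [← H.cls x hx hx']; exact index_ne_zero_of_finite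
  exact Nat.eq_of_mul_eq_mul_right (Nat.pos_of_ne_zero hn) (h1.trans h2.symm)

theorem cl_eq {x y : G} (hx : x ∈ N) (hy : y ∈ N) (hy' : y ∉ center G)
    (hle : (Cl x : Subgroup G) ≤ (Cl y : Subgroup G)) :
    (Cl x : Subgroup G) = (Cl y : Subgroup G) :=
  eq_of_le_of_card_ge hle (H.card_cl hy hy' hx (not_mem_center_of_le hy' hle)).le

theorem cl_pair {x y : G} (hx : IsR r x) (hy : y ∈ N) (hyr : (orderOf y).Coprime r)
    (hx' : x ∉ center G) (hy' : y ∉ center G) (hxy : Commute x y) :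
    (Cl x : Subgroup G) = (Cl y : Subgroup G) := by
  obtain ⟨k, hk⟩ := isR_iff.mp hx
  have hcop : Nat.Coprime (orderOf x) (orderOf y) := by rw [hk]; exact hyr.symm.pow_left k
  have hxN := H.rmem x hx
  have hzN : x * y ∈ N := mul_mem hxN hy
  obtain ⟨a, ha1, ha2⟩ := Nat.chineseRemainder hcop 1 0
  obtain ⟨b, hb1, hb2⟩ := Nat.chineseRemainder hcop 0 1
  have hxa : x = (x * y) ^ a := by
    rw [hxy.mul_pow, orderOf_dvd_iff_pow_eq_one.mp (Nat.modEq_zero_iff_dvd.mp ha2), mul_one]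
    conv_lhs => rw [← pow_one x]
    exact pow_eq_pow_iff_modEq.mpr ha1.symm
  have hyb : y = (x * y) ^ b := by
    rw [hxy.mul_pow, orderOf_dvd_iff_pow_eq_one.mp (Nat.modEq_zero_iff_dvd.mp hb1), one_mul]
    conv_lhs => rw [← pow_one y]
    exact pow_eq_pow_iff_modEq.mpr hb2.symm
  have h1 : (Cl (x * y) : Subgroup G) ≤ (Cl x : Subgroup G) := by
    conv_rhs => rw [hxa]
    exact cl_le_pow _ a
  have h2 : (Cl (x * y) : Subgroup G) ≤ (Cl y : Subgroup G) := by
    conv_rhs => rw [hyb]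
    exact cl_le_pow _ b
  rw [← H.cl_eq hzN hxN hx' h1, H.cl_eq hzN hy hy' h2]

theorem comp_cl_r {A : Subgroup G} (hA : IsComp r N A) {x : G} (hx : x ∈ A) (hr' : IsR r x)
    (hx' : x ∉ center G) : (Cl x : Subgroup G) = A := by
  obtain ⟨y, hy, hy', hyr, rfl⟩ := hA
  exact H.cl_pair hr' hy hyr hx' hy' (mem_cl_iff.mp hx)

theorem comp_r_comm {A : Subgroup G} (hA : IsComp r N A) {x a : G} (hx : x ∈ A) (hr' : IsR r x)
    (ha : a ∈ A) : Commute a x := by
  by_cases hx' : x ∈ center G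
  · exact (Subgroup.mem_center_iff.mp hx' a)
  · exact mem_cl_iff.mp ((H.comp_cl_r hA hx hr' hx').symm ▸ ha)

theorem comp_exists_r {A : Subgroup G} (hA : IsComp r N A) :
    ∃ x ∈ A, IsR r x ∧ x ∉ center G := by
  obtain ⟨y, hy, hy', -, rfl⟩ := hA
  obtain ⟨t, ht, ht'⟩ := H.ex
  by_contra! hall
  obtain ⟨S⟩ : Nonempty (Sylow r (Cl y : Subgroup G)) := inferInstance
  set S' := (S : Subgroup (Cl y : Subgroup G)).map (Cl y : Subgroup G).subtype with hS'
  have hS'p : IsPGroup r S' := S.isPGroup'.map _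
  have hS'c : S' ≤ center G := fun s hs => hall s (map_subtype_le _ hs) (isR_of_mem hS'p hs)
  have hcard : Nat.card S' = r ^ (Nat.card (Cl t : Subgroup G)).factorization r := by
    rw [hS', Nat.card_congr ((S : Subgroup (Cl y : Subgroup G)).equivMapOfInjective _
      (subtype_injective _)).toEquiv.symm, S.card_eq_multiplicity,
      H.card_cl hy hy' (H.rmem t ht) ht']
  exact ht' (hS'c (mem_of_full (hS'c.trans (center_le_cl t)) hcard
    (fun c _ s hs => Subgroup.mem_center_iff.mp (hS'c hs) c) (mem_cl_self t) ht))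

theorem comp_cl_mem {A : Subgroup G} (hA : IsComp r N A) {w : G} (hw : w ∈ A) (hwN : w ∈ N)
    (hw' : w ∉ center G) : (Cl w : Subgroup G) = A := by
  obtain ⟨a, b, hab, ⟨k, hk⟩, hb⟩ := CfsgLib.PNilpotent.exists_pPart_decomp (p := r) w
  by_cases ha' : w ^ a ∈ center G
  · have hb' : w ^ b ∉ center G := fun hh => hw' (hab ▸ mul_mem ha' hh)
    obtain ⟨x, hxA, hxr, hx'⟩ := H.comp_exists_r hA
    have hwA : w ^ b ∈ A := pow_mem hw b
    rw [H.cl_eq hwN (pow_mem hwN b) hb' (cl_le_pow w b),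
      ← H.cl_pair hxr (pow_mem hwN b) hb hx' hb' (H.comp_r_comm hA hxA hxr hwA).symm]
    exact H.comp_cl_r hA hxA hxr hx'
  · rw [H.cl_eq hwN (pow_mem hwN a) ha' (cl_le_pow w a)]
    exact H.comp_cl_r hA (pow_mem hw a) (isR_iff.mpr ⟨k, hk⟩) ha'

theorem comp_comm {A : Subgroup G} (hA : IsComp r N A) {u v : G} (hu : u ∈ A) (hv : v ∈ A)
    (hvN : v ∈ N) : Commute u v := by
  by_cases hv' : v ∈ center G
  · exact Subgroup.mem_center_iff.mp hv' u
  · exact mem_cl_iff.mp ((H.comp_cl_mem hA hv hvN hv').symm ▸ hu)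

theorem comp_eq {A B : Subgroup G} (hA : IsComp r N A) (hB : IsComp r N B) {w : G} (hwA : w ∈ A)
    (hwB : w ∈ B) (hwN : w ∈ N) (hw' : w ∉ center G) : A = B :=
  (H.comp_cl_mem hA hwA hwN hw').symm.trans (H.comp_cl_mem hB hwB hwN hw')

theorem comp_map {A : Subgroup G} (hA : IsComp r N A) (g : G) :
    IsComp r N (A.map (MulAut.conj g).toMonoidHom) := by
  obtain ⟨y, hy, hy', hyr, rfl⟩ := hA
  refine ⟨g * y * g⁻¹, H.normal.conj_mem _ hy g, fun h => hy' (mem_center_conj h), ?_, map_cl g y⟩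
  have : orderOf (g * y * g⁻¹) = orderOf y :=
    (MulAut.conj g).orderOf_eq y
  rwa [this]

theorem comp_card {A B : Subgroup G} (hA : IsComp r N A) (hB : IsComp r N B) :
    Nat.card A = Nat.card B := by
  obtain ⟨y, hy, hy', -, rfl⟩ := hA
  obtain ⟨z, hz, hz', -, rfl⟩ := hB
  exact H.card_cl hy hy' hz hz'

theorem comp_card_cl {A : Subgroup G} (hA : IsComp r N A) {x : G} (hx : x ∈ N)
    (hx' : x ∉ center G) : Nat.card A = Nat.card (Cl x : Subgroup G) := by
  obtain ⟨y, hy, hy', -, rfl⟩ := hA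
  exact H.card_cl hy hy' hx hx'

theorem mem_normalizer_of_conj_mem {A : Subgroup G} (hA : IsComp r N A) {g w : G} (hw : w ∈ A)
    (hwN : w ∈ N) (hw' : w ∉ center G) (hgw : g * w * g⁻¹ ∈ A) :
    g ∈ normalizer (A : Set G) := by
  have hmap : A.map (MulAut.conj g).toMonoidHom = A :=
    H.comp_eq (H.comp_map hA g) hA ⟨w, hw, rfl⟩ hgw (H.normal.conj_mem _ hwN g)
      fun h => hw' (mem_center_conj h)
  rw [Subgroup.mem_normalizer_iff]
  intro a
  conv_rhs => rw [← hmap, mem_map_equiv, MulAut.conj_symm_apply]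
  simp [mul_assoc]

theorem mem_rPart_iff {A : Subgroup G} (hA : IsComp r N A) {x : G} :
    x ∈ rPart r A ↔ x ∈ A ∧ IsR r x := by
  refine ⟨fun hx => ?_, fun hx => Subgroup.subset_closure hx⟩
  induction hx using Subgroup.closure_induction with
  | mem a ha => exact ha
  | one => exact ⟨one_mem A, 0, by simp⟩
  | mul a b _ _ ha hb =>
    obtain ⟨haA, i, hi⟩ := ha
    obtain ⟨hbA, hbr⟩ := hb
    obtain ⟨j, hj⟩ := hbr
    refine ⟨mul_mem haA hbA, i + j, ?_⟩
    rw [(H.comp_r_comm hA hbA ⟨j, hj⟩ haA).mul_pow, pow_add, pow_mul, hi, one_pow, one_mul,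
      mul_comm, pow_mul, hj, one_pow]
  | inv a _ ha =>
    obtain ⟨haA, i, hi⟩ := ha
    exact ⟨inv_mem haA, i, by rw [inv_pow, hi, inv_one]⟩

theorem isPGroup_rPart {A : Subgroup G} (hA : IsComp r N A) : IsPGroup r (rPart r A) := fun x => by
  obtain ⟨k, hk⟩ := ((H.mem_rPart_iff hA).mp x.2).2
  exact ⟨k, Subtype.ext (by simpa using hk)⟩

theorem card_rPart {A : Subgroup G} (hA : IsComp r N A) :
    Nat.card (rPart r A) = r ^ (Nat.card A).factorization r := by
  obtain ⟨S⟩ : Nonempty (Sylow r A) := inferInstance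
  set S' := (S : Subgroup A).map A.subtype with hS'
  have hle : S' ≤ rPart r A := fun s hs =>
    (H.mem_rPart_iff hA).mpr ⟨map_subtype_le _ hs, isR_of_mem (S.isPGroup'.map _) hs⟩
  have hS'card : Nat.card S' = r ^ (Nat.card A).factorization r := by
    rw [hS', Nat.card_congr ((S : Subgroup A).equivMapOfInjective _
      (subtype_injective _)).toEquiv.symm, S.card_eq_multiplicity]
  obtain ⟨k, hk⟩ := IsPGroup.iff_card.mp (H.isPGroup_rPart hA)
  refine le_antisymm ?_ (hS'card ▸ card_le_of_le hle)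
  rw [hk]
  refine Nat.pow_le_pow_right hr.out.pos ((hr.out.pow_dvd_iff_le_factorization
      Nat.card_pos.ne').mp (hk ▸ card_dvd_of_le fun x hx => ((H.mem_rPart_iff hA).mp hx).1))

theorem inf_eq_rPart {A : Subgroup G} (hA : IsComp r N A) (R : Sylow r G)
    (hR : (R : Subgroup G) ≤ normalizer (A : Set G)) :
    (R : Subgroup G) ⊓ A = rPart r A := by
  refine eq_of_le_of_card_ge (fun x hx => (H.mem_rPart_iff hA).mpr
    ⟨hx.2, isR_of_mem R.isPGroup' hx.1⟩) ?_
  rw [inf_card R hR, H.card_rPart hA]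

/-- An `r`-group normalising a component, with `r`-th powers inside it, has order at most `r`
modulo the component. -/
theorem fpf_bound {A U : Subgroup G} (hA : IsComp r N A)
    (hUN : U ≤ normalizer (A : Set G)) (hUp : IsPGroup r U) (hpow : ∀ u ∈ U, u ^ r ∈ A) :
    Nat.card U ≤ r * Nat.card (U ⊓ A : Subgroup G) := by
  classical
  haveI := H.normal
  by_contra! hlt
  obtain ⟨y, hy, hy', hyr, hAy⟩ := id hA
  obtain ⟨q, j, b, hq, hqj, hbc⟩ := exists_primary_not_mem hy'
  have hqp : q ≠ r := by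
    rintro rfl
    have hj0 : j ≠ 0 := by
      rintro rfl
      rw [pow_zero, orderOf_eq_one_iff] at hqj
      exact hbc (hqj ▸ one_mem _)
    exact (hq.coprime_iff_not_dvd.mp hyr.symm)
      ((hqj ▸ dvd_pow_self q hj0).trans (orderOf_pow_dvd b))
  haveI := Fact.mk hq
  set t := y ^ b with htdef
  set AN : Subgroup G := A ⊓ N with hAN
  set W := normalizer (A : Set G) with hW
  have htA : t ∈ AN := ⟨pow_mem (hAy ▸ mem_cl_self y) b, pow_mem hy b⟩
  have hANW : AN ≤ W := inf_le_left.trans le_normalizer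
  have hANconj : ∀ g ∈ W, ∀ a ∈ AN, g * a * g⁻¹ ∈ AN := fun g hg a ha =>
    ⟨((Subgroup.mem_normalizer_iff.mp hg) a).mp ha.1, H.normal.conj_mem _ ha.2 g⟩
  set k := Nat.card AN / q ^ (Nat.card AN).factorization q with hk
  have hkq : k.Coprime q := (Nat.coprime_ordCompl hq Nat.card_pos.ne').symm
  have hAk : k * q ^ (Nat.card AN).factorization q = Nat.card AN :=
    Nat.div_mul_cancel (Nat.ordProj_dvd _ _)
  let K : Subgroup G :=
    { carrier := {a | a ∈ AN ∧ a ^ k ∈ center G}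
      one_mem' := ⟨one_mem _, by rw [one_pow]; exact one_mem _⟩
      mul_mem' := fun {a b} ha hb => ⟨mul_mem ha.1 hb.1, by
        rw [(H.comp_comm hA ha.1.1 hb.1.1 hb.1.2).mul_pow]; exact mul_mem ha.2 hb.2⟩
      inv_mem' := fun {a} ha => ⟨inv_mem ha.1, by rw [inv_pow]; exact inv_mem ha.2⟩ }
  have hKmem : ∀ a, a ∈ K ↔ a ∈ AN ∧ a ^ k ∈ center G := fun a => Iff.rfl
  haveI hKn : (K.subgroupOf W).Normal := by
    refine ⟨fun a ha g => ?_⟩
    rw [mem_subgroupOf, hKmem] at ha ⊢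
    refine ⟨hANconj g g.2 a ha.1, ?_⟩
    push_cast
    rw [conj_pow, Subgroup.mem_center_iff.mp ha.2 g, mul_inv_cancel_right]
    exact ha.2
  let π := QuotientGroup.mk' (K.subgroupOf W)
  have hπ : ∀ g : W, π g = 1 ↔ (g : G) ∈ K := fun g => by
    rw [QuotientGroup.mk'_apply, QuotientGroup.eq_one_iff, mem_subgroupOf]
  let f : U →* W ⧸ K.subgroupOf W := π.comp (Subgroup.inclusion hUN)
  have hker : f.ker = A.subgroupOf U := by
    ext u
    rw [MonoidHom.mem_ker, mem_subgroupOf]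
    show π _ = 1 ↔ _
    rw [hπ]
    refine ⟨fun hu => hu.1.1, fun hu => ?_⟩
    have huN : (u : G) ∈ N := H.rmem _ (isR_of_mem hUp u.2)
    refine ⟨⟨hu, huN⟩, ?_⟩
    obtain ⟨i, hi⟩ := isR_iff.mp (isR_of_mem hUp u.2)
    have hd : orderOf (u : G) ∣ k * q ^ (Nat.card AN).factorization q := by
      rw [hAk]; exact Subgroup.orderOf_dvd_natCard AN ⟨hu, huN⟩
    show (u : G) ^ k ∈ center G
    rw [orderOf_dvd_iff_pow_eq_one.mp (Nat.Coprime.dvd_of_dvd_mul_right (hi ▸
      Nat.Coprime.pow _ _ ((Nat.coprime_primes hr.out hq).mpr hqp.symm)) hd)]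
    exact one_mem _
  have hp2 : r ^ 2 ∣ Nat.card f.range := by
    rw [← Nat.card_congr (QuotientGroup.quotientKerEquivRange f).toEquiv, ← index_eq_card, hker]
    obtain ⟨c, hc⟩ := (IsPGroup.iff_card.mp (hUp.to_le (inf_le_left : U ⊓ A ≤ U)))
    obtain ⟨d, hd⟩ := IsPGroup.iff_card.mp hUp
    have he : Nat.card (A.subgroupOf U) = r ^ c := by
      rw [Nat.card_congr ((A.subgroupOf U).equivMapOfInjective _ (subtype_injective _)).toEquiv,
        subgroupOf_map_subtype, inf_comm, hc]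
    have h1 := card_mul_index (A.subgroupOf U)
    rw [he, hd] at h1
    rw [hc, hd, mul_comm, ← pow_succ] at hlt
    have hcd : c + 1 < d := (Nat.pow_lt_pow_iff_right hr.out.one_lt).mp hlt
    have : (A.subgroupOf U).index = r ^ (d - c) :=
      Nat.eq_of_mul_eq_mul_left (pow_pos hr.out.pos c)
        (by rw [h1, ← pow_add]; congr 1; omega)
    rw [this]
    exact pow_dvd_pow r (by omega)
  obtain ⟨E₀, hE₀⟩ := Sylow.exists_subgroup_card_pow_prime r hp2
  set E := E₀.map f.range.subtype with hE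
  set V := (AN.subgroupOf W).map π with hV
  have hVn : V.Normal := by
    haveI : (AN.subgroupOf W).Normal := ⟨fun a ha g => hANconj g g.2 a ha⟩
    exact Subgroup.Normal.map ‹_› π (QuotientGroup.mk'_surjective _)
  haveI : IsMulCommutative V := ⟨⟨by
    rintro ⟨_, a, ha, rfl⟩ ⟨_, a', ha', rfl⟩
    apply Subtype.ext
    show π a * π a' = π a' * π a
    rw [← map_mul, ← map_mul]
    exact congrArg π (Subtype.ext (H.comp_comm hA ha.1 ha'.1 ha'.2))⟩⟩
  have hVne : V ≠ ⊥ := by
    intro hbot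
    have htK : π ⟨t, hANW htA⟩ = 1 := by
      rw [← Subgroup.mem_bot, ← hbot]
      exact ⟨⟨t, hANW htA⟩, htA, rfl⟩
    rw [hπ] at htK
    apply hbc
    have hcm : (orderOf t).Coprime k := by rw [hqj]; exact hkq.symm.pow_left j
    obtain ⟨i, hi⟩ := exists_pow_eq_self_of_coprime hcm.symm
    rw [← hi]
    exact pow_mem htK.2 i
  refine hVne (CfsgLib.Frobenius.eq_bot_of_elementary_fpf (A := E) (V := V) ?_ ?_ hr.out ?_ ?_)
  · rw [Subgroup.normalizer_eq_top]; exact le_top
  · intro e he hne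
    obtain ⟨⟨_, u, rfl⟩, -, rfl⟩ := he
    rw [eq_bot_iff]
    rintro _ ⟨⟨a, ha, rfl⟩, hac⟩
    rw [Subgroup.mem_bot, hπ]
    have huA : (u : G) ∉ A := fun hu => hne (by
      show f u = 1
      rw [← MonoidHom.mem_ker, hker]; exact hu)
    have hcomm : π (Subgroup.inclusion hUN u * a * (Subgroup.inclusion hUN u)⁻¹ * a⁻¹) = 1 := by
      have h3 := Subgroup.mem_centralizer_singleton_iff.mp hac
      rw [map_mul, map_mul, map_mul, map_inv, map_inv]
      change π a * f u = f u * π a at h3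
      show f u * π a * (f u)⁻¹ * (π a)⁻¹ = 1
      rw [← h3, mul_inv_cancel_right, mul_inv_cancel]
    rw [hπ] at hcomm
    obtain ⟨-, hcm⟩ := hcomm
    have haA : (a : G) ∈ AN := ha
    push_cast at hcm
    have hua : (u : G) * a * (u : G)⁻¹ ∈ AN := hANconj _ (hUN u.2) _ haA
    rw [Subgroup.coe_inclusion,
      (H.comp_comm hA hua.1 (inv_mem haA.1) (inv_mem haA.2)).mul_pow, conj_pow, inv_pow] at hcm
    refine ⟨haA, ?_⟩
    by_contra hac'
    obtain ⟨i, hi⟩ := isR_iff.mp (isR_of_mem hUp u.2)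
    have hod : orderOf ((a : G) ^ k) ∣ q ^ (Nat.card AN).factorization q := by
      apply orderOf_dvd_of_pow_eq_one
      rw [← pow_mul, hAk]
      exact orderOf_dvd_iff_pow_eq_one.mp (Subgroup.orderOf_dvd_natCard AN haA)
    have hcop : (orderOf (u : G)).Coprime (orderOf ((a : G) ^ k)) := by
      rw [hi]
      exact Nat.Coprime.coprime_dvd_right hod
        (Nat.Coprime.pow _ _ ((Nat.coprime_primes hr.out hq).mpr hqp.symm))
    have := commute_of_commutator_central hcop hcm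
    apply huA
    rw [← H.comp_cl_mem hA (pow_mem haA.1 k) (pow_mem haA.2 k) hac', mem_cl_iff]
    exact this
  · rw [hE, Nat.card_congr (E₀.equivMapOfInjective _ (subtype_injective _)).toEquiv.symm, hE₀]
  · rintro e ⟨⟨_, u, rfl⟩, -, rfl⟩
    show f u ^ r = 1
    rw [← map_pow, ← MonoidHom.mem_ker, hker, mem_subgroupOf]
    exact hpow u u.2

theorem le_normalizer_of_comm {R : Subgroup G} {x : G}
    (hxc : ∀ u ∈ R, x * u * x⁻¹ * u⁻¹ ∈ center G) :
    R ≤ normalizer ((Cl x : Subgroup G) : Set G) := by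
  have hstep : ∀ u ∈ R, ∀ a ∈ (Cl x : Subgroup G), u * a * u⁻¹ ∈ (Cl x : Subgroup G) := by
    intro u hu a ha
    obtain ⟨z, hz⟩ : ∃ z, z = u⁻¹ * x * u * x⁻¹ := ⟨_, rfl⟩
    have hzc : z ∈ center G := by
      have h1 := hxc u⁻¹ (inv_mem hu)
      have h2 := (inferInstance : (center G).Normal).conj_mem _ (inv_mem h1) 1
      rw [hz]
      simpa [mul_assoc] using h2
    have h3 : a * (u⁻¹ * x * u) = u⁻¹ * x * u * a := by
      rw [show u⁻¹ * x * u = z * x by rw [hz]; group, ← mul_assoc,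
        Subgroup.mem_center_iff.mp hzc a, mul_assoc, (mem_cl_iff.mp ha).eq, ← mul_assoc]
    rw [mem_cl_iff, commute_iff_eq]
    calc u * a * u⁻¹ * x = u * (a * (u⁻¹ * x * u)) * u⁻¹ := by group
      _ = u * (u⁻¹ * x * u * a) * u⁻¹ := by rw [h3]
      _ = x * (u * a * u⁻¹) := by group
  intro u hu
  rw [Subgroup.mem_normalizer_iff]
  refine fun a => ⟨hstep u hu a, fun ha => ?_⟩
  have := hstep u⁻¹ (inv_mem hu) _ ha
  simpa [mul_assoc] using this

theorem pow_mem_cl {R : Subgroup G} {x : G} (hxp : x ^ r ∈ center G)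
    (hxc : ∀ u ∈ R, x * u * x⁻¹ * u⁻¹ ∈ center G) {u : G} (hu : u ∈ R) :
    u ^ r ∈ (Cl x : Subgroup G) := by
  obtain ⟨z, hzdef⟩ : ∃ z, z = x * u * x⁻¹ * u⁻¹ := ⟨_, rfl⟩
  have hc : ∀ g, g * z = z * g := Subgroup.mem_center_iff.mp (hzdef ▸ hxc u hu)
  have h1 : x * u * x⁻¹ = z * u := by rw [hzdef]; group
  have hn' : ∀ i : ℕ, x ^ i * u * (x ^ i)⁻¹ = z ^ i * u := by
    intro i
    induction i with
    | zero => simp
    | succ i ih =>
      have h3 : x ^ (i + 1) * u * (x ^ (i + 1))⁻¹ = x * (x ^ i * u * (x ^ i)⁻¹) * x⁻¹ := by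
        rw [pow_succ']; group
      rw [h3, ih, ← mul_assoc x, ((Commute.pow_right (hc x) i)).eq, pow_succ]
      calc z ^ i * x * u * x⁻¹ = z ^ i * (x * u * x⁻¹) := by group
        _ = z ^ i * z * u := by rw [h1, ← mul_assoc]
  have hzp : z ^ r = 1 := by
    have := hn' r
    rw [← Subgroup.mem_center_iff.mp hxp u, mul_inv_cancel_right, right_eq_mul] at this
    exact this
  rw [mem_cl_iff]
  have h2 : (x * u * x⁻¹) ^ r = u ^ r := by
    rw [h1, (Commute.symm (hc u)).mul_pow, hzp, one_mul]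
  rw [conj_pow, mul_inv_eq_iff_eq_mul] at h2
  exact h2.symm

/-- Elements central modulo the centre in some Sylow subgroup lie in a component. -/
theorem exists_comp_mem (R : Sylow r G) {s : G} (hsR : s ∈ (R : Subgroup G))
    (hs : s ∉ center G) (hsp : s ^ r ∈ center G)
    (hsc : ∀ u ∈ (R : Subgroup G), s * u * s⁻¹ * u⁻¹ ∈ center G)
    (hne : ∃ A, IsComp r N A) : ∃ A, IsComp r N A ∧ s ∈ A := by
  classical
  haveI := H.normal
  by_contra! hpoor
  obtain ⟨A₀, hA₀⟩ := hne
  -- move a component so that its `r`-elements lie in `R`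
  obtain ⟨A, hA, hAR⟩ : ∃ A, IsComp r N A ∧ rPart r A ≤ (R : Subgroup G) := by
    obtain ⟨R₁, hR₁⟩ := (H.isPGroup_rPart hA₀).exists_le_sylow
    obtain ⟨g, hg⟩ := MulAction.exists_smul_eq G R₁ R
    refine ⟨_, H.comp_map hA₀ g, fun x hx => ?_⟩
    obtain ⟨hxA, k, hk⟩ := (H.mem_rPart_iff (H.comp_map hA₀ g)).mp hx
    obtain ⟨a, ha, rfl⟩ := hxA
    rw [← hg]
    refine ⟨a, hR₁ ((H.mem_rPart_iff hA₀).mpr ⟨ha, k, ?_⟩), rfl⟩
    rw [← map_pow] at hk
    exact (MulEquiv.map_eq_one_iff _).mp hk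
  have hsN : s ∈ N := H.rmem s (isR_of_mem R.isPGroup' hsR)
  set C := (Cl s : Subgroup G) with hC
  have hRC : (R : Subgroup G) ≤ normalizer (C : Set G) := H.le_normalizer_of_comm hsc
  set T := (R : Subgroup G) ⊓ C with hT
  set S := rPart r A with hS
  set Z := (R : Subgroup G) ⊓ center G with hZ
  have hTcard : Nat.card T = Nat.card S := by
    rw [hT, inf_card R hRC, hS, H.card_rPart hA, hC, H.comp_card_cl hA hsN hs]
  have hSA : S ≤ A := fun x hx => ((H.mem_rPart_iff hA).mp hx).1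
  have hZS : Z ≤ S := fun z hz => (H.mem_rPart_iff hA).mpr ⟨by
      obtain ⟨y, -, -, -, rfl⟩ := hA
      exact center_le_cl y hz.2, isR_of_mem R.isPGroup' hz.1⟩
  have hZT : Z ≤ T := fun z hz => ⟨hz.1, center_le_cl s hz.2⟩
  have hSC : ∀ x ∈ S, x ∈ C → x ∈ center G := by
    intro x hx hxC
    by_contra hx'
    obtain ⟨hxA, hxr⟩ := (H.mem_rPart_iff hA).mp hx
    refine hpoor A hA ?_
    rw [← H.comp_cl_r hA hxA hxr hx', mem_cl_iff]
    exact (mem_cl_iff.mp hxC).symm
  have hZp : IsPGroup r Z := R.isPGroup'.to_le inf_le_left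
  -- `S` has order at most `r` modulo `Z`
  have hSsmall : Nat.card S ≤ r * Nat.card Z := by
    have hSp : ∀ v ∈ S, v ^ r ∈ center G := fun v hv =>
      hSC _ (pow_mem hv r) (H.pow_mem_cl hsp hsc (hAR hv))
    by_cases hnorm : (R : Subgroup G) ≤ normalizer (A : Set G)
    · have hRS : (R : Subgroup G) ⊓ A = S := H.inf_eq_rPart hA R hnorm
      -- an element of `S` central modulo the centre
      obtain ⟨v, hvS, hv', hvc⟩ : ∃ v ∈ S, v ∉ center G ∧
          ∀ u ∈ (R : Subgroup G), v * u * v⁻¹ * u⁻¹ ∈ center G := by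
        haveI h1 : (S.subgroupOf (R : Subgroup G)).Normal := by
          refine ⟨fun a ha g => ?_⟩
          rw [mem_subgroupOf, ← hRS] at ha ⊢
          exact ⟨(R : Subgroup G).mul_mem ((R : Subgroup G).mul_mem g.2 ha.1) ((R : Subgroup G).inv_mem g.2),
            ((Subgroup.mem_normalizer_iff.mp (hnorm g.2)) _).mp ha.2⟩
        have hlt : (center G).subgroupOf (R : Subgroup G) ⊓ S.subgroupOf (R : Subgroup G) <
            S.subgroupOf (R : Subgroup G) := by
          refine lt_of_le_of_ne inf_le_right fun he => ?_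
          obtain ⟨x, hxA, hxr, hx'⟩ := H.comp_exists_r hA
          have hxS : x ∈ S := (H.mem_rPart_iff hA).mpr ⟨hxA, hxr⟩
          exact hx' (inf_eq_right.mp he (show (⟨x, hAR hxS⟩ : (R : Subgroup G)) ∈
            S.subgroupOf (R : Subgroup G) from hxS))
        obtain ⟨v, hvS, hv', -, hvc⟩ := CfsgLib.PGroup.exists_step R.isPGroup' _ _ hlt
        exact ⟨v, hvS, fun h => hv' ⟨h, hvS⟩, fun u hu => (hvc ⟨u, hu⟩).1⟩
      obtain ⟨hvA, hvr⟩ := (H.mem_rPart_iff hA).mp hvS
      have hvA' := H.comp_cl_r hA hvA hvr hv'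
      have hpow : ∀ u ∈ (R : Subgroup G), u ^ r ∈ A := fun u hu =>
        hvA' ▸ H.pow_mem_cl (hSp v hvS) hvc hu
      have h2 := H.fpf_bound hA hnorm R.isPGroup' hpow
      rw [hRS] at h2
      -- `T ∩ S` is central, and `T` embeds into `R/S`
      have hTS : T ⊓ S = Z := by
        refine le_antisymm (fun x hx => ⟨hx.1.1, hSC x hx.2 hx.1.2⟩) (le_inf hZT hZS)
      have hinj : S.relIndex T ≤ S.relIndex (R : Subgroup G) :=
        relIndex_le_of_le_right inf_le_left
          (fun h => by simp [relIndex, index_ne_zero_of_finite] at h)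
      have hTm : Nat.card Z * S.relIndex T = Nat.card T := by
        rw [← inf_relIndex_right, inf_comm, hTS, ← relIndex_bot_left Z,
          relIndex_mul_relIndex _ _ _ bot_le hZT, relIndex_bot_left]
      have hRm : Nat.card S * S.relIndex (R : Subgroup G) = Nat.card (R : Subgroup G) := by
        rw [← relIndex_bot_left S, relIndex_mul_relIndex _ _ _ bot_le hAR, relIndex_bot_left]
      have hle : S.relIndex (R : Subgroup G) ≤ r := by
        rw [← hRm, mul_comm r] at h2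
        exact Nat.le_of_mul_le_mul_left h2 Nat.card_pos
      rw [← hTcard, ← hTm, mul_comm r]
      exact Nat.mul_le_mul_left _ (hinj.trans hle)
    · -- a second conjugate of `S` normalising `A`
      set U := (R : Subgroup G) ⊓ normalizer (A : Set G) with hU
      have hUlt : U.subgroupOf (R : Subgroup G) < ⊤ := lt_top_iff_ne_top.mpr fun h =>
        hnorm fun u hu => ((subgroupOf_eq_top.mp h) hu).2
      haveI : Group.IsNilpotent (R : Subgroup G) := R.isPGroup'.isNilpotent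
      obtain ⟨⟨g, hgR⟩, hgN, hgU⟩ := SetLike.exists_of_lt
        (Group.normalizerCondition_of_isNilpotent _ hUlt)
      set S' := S.map (MulAut.conj g).toMonoidHom with hS'
      have hSU : S ≤ U := fun x hx => ⟨hAR hx, le_normalizer (hSA hx)⟩
      have hS'U : S' ≤ U := by
        rintro _ ⟨x, hx, rfl⟩
        exact ((Subgroup.mem_normalizer_iff.mp hgN) ⟨x, hAR hx⟩).mp (hSU hx)
      have hS'A : S' ⊓ A ≤ Z := by
        rintro w ⟨⟨x, hx, rfl⟩, hwA⟩
        refine ⟨(hS'U ⟨x, hx, rfl⟩).1, ?_⟩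
        by_contra hw
        obtain ⟨hxA, hxr⟩ := (H.mem_rPart_iff hA).mp hx
        have hx' : x ∉ center G := fun h => hw
          ((inferInstance : (center G).Normal).conj_mem _ h g)
        exact hgU ⟨hgR, H.mem_normalizer_of_conj_mem hA hxA (H.rmem x hxr) hx' hwA⟩
      have h2 := H.fpf_bound hA (hS'U.trans inf_le_right)
        ((H.isPGroup_rPart hA).map _) (by
          rintro _ ⟨x, hx, rfl⟩
          obtain ⟨y, -, -, -, rfl⟩ := id hA
          refine center_le_cl y ?_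
          rw [← map_pow]
          exact (inferInstance : (center G).Normal).conj_mem _ (hSp x hx) g)
      rw [hS', Nat.card_congr (S.equivMapOfInjective _ (MulEquiv.injective _)).toEquiv.symm] at h2
      exact h2.trans (Nat.mul_le_mul_left _ (card_le_of_le hS'A))
  -- hence `T = ⟨s⟩Z` is central in `C`
  have hTcomm : ∀ c ∈ C, ∀ t ∈ T, Commute c t := by
    intro c hc
    set X := T ⊓ (Cl c : Subgroup G) with hX
    have hsX : s ∈ X := ⟨⟨hsR, mem_cl_self s⟩, mem_cl_iff.mpr (mem_cl_iff.mp hc).symm⟩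
    have hZX : Z ≤ X := le_inf hZT fun z hz => center_le_cl c hz.2
    have hXp : IsPGroup r X := R.isPGroup'.to_le (inf_le_left.trans inf_le_left)
    obtain ⟨i, hi⟩ := IsPGroup.iff_card.mp hXp
    obtain ⟨j, hj⟩ := IsPGroup.iff_card.mp hZp
    have hlt : Nat.card Z < Nat.card X := lt_of_le_of_ne (card_le_of_le hZX)
      fun he => hs ((eq_of_le_of_card_ge hZX he.ge).symm ▸ hsX).2
    rw [hi, hj] at hlt
    have hji : j < i := (Nat.pow_lt_pow_iff_right hr.out.one_lt).mp hlt
    have hXT : X = T := eq_of_le_of_card_ge inf_le_left (by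
      rw [hTcard]
      refine hSsmall.trans ?_
      rw [hi, hj, ← pow_succ']
      exact Nat.pow_le_pow_right hr.out.pos hji)
    intro t ht
    rw [← hXT] at ht
    exact (mem_cl_iff.mp ht.2).symm
  have hTfull : Nat.card T = r ^ (Nat.card C).factorization r := inf_card R hRC
  -- pick a noncentral `q`-element in `A`
  obtain ⟨y, hy, hy', hyr, hAy⟩ := id hA
  obtain ⟨q, j, b, hq, hqj, hbc⟩ := exists_primary_not_mem hy'
  haveI := Fact.mk hq
  have hqp : q ≠ r := by
    rintro rfl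
    have hj0 : j ≠ 0 := by
      rintro rfl
      rw [pow_zero, orderOf_eq_one_iff] at hqj
      exact hbc (hqj ▸ one_mem _)
    exact (hq.coprime_iff_not_dvd.mp hyr.symm)
      ((hqj ▸ dvd_pow_self q hj0).trans (orderOf_pow_dvd b))
  obtain ⟨Q⟩ : Nonempty (Sylow q C) := inferInstance
  set Q' := (Q : Subgroup C).map C.subtype with hQ'
  have hQC : Q' ≤ C := map_subtype_le _
  -- `Q'` centralises `R`
  have hQR : ∀ g ∈ Q', ∀ u ∈ (R : Subgroup G), Commute g u := by
    intro g hg u hu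
    obtain ⟨w, hw⟩ : ∃ w, w = g * u * g⁻¹ * u⁻¹ := ⟨_, rfl⟩
    have hwN : w ∈ N := hw ▸ mul_mem (H.normal.conj_mem _ (H.rmem u (isR_of_mem R.isPGroup' hu)) g)
      (inv_mem (H.rmem u (isR_of_mem R.isPGroup' hu)))
    have hwC : w ∈ C := by
      rw [hw, show g * u * g⁻¹ * u⁻¹ = g * (u * g⁻¹ * u⁻¹) by group]
      exact mul_mem (hQC hg)
        (((Subgroup.mem_normalizer_iff.mp (hRC hu)) g⁻¹).mp (inv_mem (hQC hg)))
    obtain ⟨a, c, hac, ⟨i, hi⟩, hcr⟩ := CfsgLib.PNilpotent.exists_pPart_decomp (p := r) w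
    have hzc : w ^ c ∈ center G := by
      by_contra hh
      exact hpoor _ ⟨w ^ c, pow_mem hwN c, hh, hcr, rfl⟩
        (mem_cl_iff.mpr (mem_cl_iff.mp (pow_mem hwC c)).symm)
    have ht : w ^ a ∈ T :=
      mem_of_full inf_le_right hTfull hTcomm (pow_mem hwC a) (isR_iff.mpr ⟨i, hi⟩)
    obtain ⟨t, htdef⟩ : ∃ t, t = w ^ a := ⟨_, rfl⟩
    obtain ⟨z, hzdef⟩ : ∃ z, z = w ^ c := ⟨_, rfl⟩
    have hzcen : ∀ h, h * z = z * h := Subgroup.mem_center_iff.mp (hzdef ▸ hzc)
    have hconj : g * u * g⁻¹ = z * (t * u) := by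
      rw [← mul_assoc, ← hzcen t, htdef, hzdef, hac, hw]; group
    have hz1 : z = 1 := by
      have hcomm : Commute z (t * u) := (hzcen _).symm
      obtain ⟨e, he⟩ := isR_of_mem R.isPGroup' hu
      obtain ⟨e', he'⟩ := isR_of_mem R.isPGroup' (mul_mem (htdef ▸ ht).1 hu)
      refine eq_one_of_isR ⟨e + e', ?_⟩ (hzdef ▸ hcr)
      have h4 : (g * u * g⁻¹) ^ r ^ (e + e') = 1 := by
        rw [conj_pow, pow_add, pow_mul, he, one_pow]; group
      rw [hconj, hcomm.mul_pow] at h4
      have h5 : (t * u) ^ r ^ (e + e') = 1 := by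
        rw [pow_add, mul_comm, pow_mul, he', one_pow]
      rwa [h5, mul_one] at h4
    rw [hz1, one_mul] at hconj
    have hgt : Commute g t := hTcomm g (hQC hg) t (htdef ▸ ht)
    have hiter : ∀ n : ℕ, g ^ n * u * (g ^ n)⁻¹ = t ^ n * u := by
      intro n
      induction n with
      | zero => simp
      | succ n ih =>
        have h3 : g ^ (n + 1) * u * (g ^ (n + 1))⁻¹ = g * (g ^ n * u * (g ^ n)⁻¹) * g⁻¹ := by
          rw [pow_succ']; group
        rw [h3, ih, ← mul_assoc g, (hgt.pow_right n).eq, pow_succ]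
        calc t ^ n * g * u * g⁻¹ = t ^ n * (g * u * g⁻¹) := by group
          _ = _ := by rw [hconj, ← mul_assoc]
    obtain ⟨e, he⟩ := isR_of_mem (Q.isPGroup'.map C.subtype) hg
    have ht1 : t = 1 := by
      have h4 := hiter (q ^ e)
      rw [he, one_mul, inv_one, mul_one, right_eq_mul] at h4
      obtain ⟨k, hk⟩ := isR_of_mem R.isPGroup' (htdef ▸ ht).1
      rw [← orderOf_eq_one_iff]
      exact Nat.eq_one_of_dvd_coprimes
        (Nat.Coprime.pow k e ((Nat.coprime_primes hr.out hq).mpr hqp.symm))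
        (orderOf_dvd_of_pow_eq_one hk) (orderOf_dvd_of_pow_eq_one h4)
    rw [ht1, one_mul, mul_inv_eq_iff_eq_mul] at hconj
    exact hconj
  obtain ⟨v, hvA, hvr, hv'⟩ := H.comp_exists_r hA
  have hclv := H.comp_cl_r hA hvA hvr hv'
  have hQA : Q' ≤ A := fun g hg => by
    rw [← hclv]; exact mem_cl_iff.mpr (hQR g hg v (hAR ((H.mem_rPart_iff hA).mpr ⟨hvA, hvr⟩)))
  -- `Q'` is a Sylow subgroup of `A`
  have hQcard : Nat.card Q' = q ^ (Nat.card A).factorization q := by
    rw [hQ', Nat.card_congr ((Q : Subgroup C).equivMapOfInjective _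
      (subtype_injective _)).toEquiv.symm, Q.card_eq_multiplicity, H.comp_card_cl hA hsN hs]
  let QA : Sylow q A := Sylow.ofCard (Q'.subgroupOf A)
    (by rw [Nat.card_congr (subgroupOfEquivOfLe hQA).toEquiv, hQcard])
  have ht : (⟨y ^ b, hAy ▸ pow_mem (mem_cl_self y) b⟩ : A) ∈
      zpowers (⟨y ^ b, hAy ▸ pow_mem (mem_cl_self y) b⟩ : A) := mem_zpowers _
  obtain ⟨P, hP⟩ := (IsPGroup.of_card
    (G := zpowers (⟨y ^ b, hAy ▸ pow_mem (mem_cl_self y) b⟩ : A)) (p := q) (n := j)
    (by rw [Nat.card_zpowers, ← orderOf_coe]; exact hqj)).exists_le_sylow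
  obtain ⟨g, hg⟩ := MulAction.exists_smul_eq A P QA
  have hmem : (g : G) * y ^ b * (g : G)⁻¹ ∈ Q' := by
    have h1 : g * ⟨y ^ b, hAy ▸ pow_mem (mem_cl_self y) b⟩ * g⁻¹ ∈
        ((g • P : Sylow q A) : Subgroup A) := ⟨_, hP ht, rfl⟩
    rw [hg] at h1
    exact h1
  have hord : orderOf ((g : G) * y ^ b * (g : G)⁻¹) = orderOf (y ^ b) :=
    (MulAut.conj (g : G)).orderOf_eq _
  refine hpoor _ ⟨(g : G) * y ^ b * (g : G)⁻¹, H.normal.conj_mem _ (pow_mem hy b) _,
    fun h => hbc (mem_center_conj h),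
    by rw [hord, hqj]; exact ((Nat.coprime_primes hq hr.out).mpr hqp).pow_left j, rfl⟩ ?_
  exact mem_cl_iff.mpr (hQR _ hmem s hsR).symm

end Hyp

end CfsgLib.FGStruct.ItoNormal
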