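import Mathlib

/-!
The Krull–Schmidt theorem for finite groups.
-/

open Subgroup

namespace CfsgLib.FGStruct.KrullSchmidt

/-- No non-trivial decomposition as an internal direct product. -/
def Indec (A : Type*) [Group A] : Prop :=
  Nontrivial A ∧ ∀ H K : Subgroup A, H.Normal → K.Normal → H ⊓ K = ⊥ → H ⊔ K = ⊤ → H = ⊥ ∨ K = ⊥

/-- An endomorphism commuting with inner automorphisms. -/
def IsNormalEnd {A : Type*} [Group A] (h : A →* A) : Prop := ∀ x a : A, h (x * a * x⁻¹) = x * h a * x⁻¹

theorem IsNormalEnd.iterate {A : Type*} [Group A] {h : A →* A} (hh : IsNormalEnd h) (n : ℕ) (x a : A) :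
    h^[n] (x * a * x⁻¹) = x * h^[n] a * x⁻¹ := by
  induction n with
  | zero => rfl
  | succ n ih => rw [Function.iterate_succ_apply', Function.iterate_succ_apply', ih, hh]

/-- Fitting's lemma. -/
theorem bijective_or_nilpotent {A : Type*} [Group A] [Finite A] (hA : Indec A) {h : A →* A}
    (hh : IsNormalEnd h) : Function.Bijective h ∨ ∃ n : ℕ, ∀ a, h^[n] a = 1 := by
  -- an idempotent iterate
  obtain ⟨i, j, hij, he⟩ : ∃ i j : ℕ, i < j ∧ (h : A → A)^[i] = (h : A → A)^[j] := by
    obtain ⟨i, j, hne, he⟩ := Finite.exists_ne_map_eq_of_infinite (fun n : ℕ => (h : A → A)^[n])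
    rcases hne.lt_or_gt with hlt | hlt
    · exact ⟨i, j, hlt, he⟩
    · exact ⟨j, i, hlt, he.symm⟩
  have hper : ∀ m, i ≤ m → ∀ k : ℕ, (h : A → A)^[m + k * (j - i)] = (h : A → A)^[m] := by
    intro m hm k
    induction k with
    | zero => rw [Nat.zero_mul, Nat.add_zero]
    | succ k ih =>
      rw [show m + (k + 1) * (j - i) = (m - i + k * (j - i)) + j by rw [Nat.succ_mul]; omega, Function.iterate_add, ← he,
        ← Function.iterate_add, show m - i + k * (j - i) + i = m + k * (j - i) by omega, ih]
  obtain ⟨N, hN0, hNN⟩ : ∃ N, 1 ≤ N ∧ ∀ a, h^[N] (h^[N] a) = h^[N] a := by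
    refine ⟨(i + 1) * (j - i), Nat.one_le_iff_ne_zero.2 (Nat.mul_ne_zero (by omega) (by omega)), fun a => ?_⟩
    rw [← Function.iterate_add_apply]
    exact congrFun (hper _ (le_trans (by omega) (Nat.le_mul_of_pos_right (i + 1) (by omega))) (i + 1)) a
  let E : A →* A :=
    { toFun := h^[N]
      map_one' := iterate_map_one h N
      map_mul' := fun a b => iterate_map_mul h N a b }
  have hrange : E.range.Normal := ⟨by
    rintro _ ⟨a, rfl⟩ x
    exact ⟨x * a * x⁻¹, hh.iterate N x a⟩⟩
  have hinf : E.ker ⊓ E.range = ⊥ := by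
    rw [eq_bot_iff]
    rintro x ⟨hk, a, rfl⟩
    rw [mem_bot]
    calc E a = E (E a) := (hNN a).symm
      _ = 1 := hk
  have hsup : E.ker ⊔ E.range = ⊤ := eq_top_iff.2 fun x _ => by
    rw [show x = x * (E x)⁻¹ * E x by group]
    refine mul_mem (mem_sup_left ?_) (mem_sup_right ⟨x, rfl⟩)
    rw [MonoidHom.mem_ker, map_mul, map_inv, show E (E x) = E x from hNN x, mul_inv_cancel]
  rcases hA.2 _ _ inferInstance hrange hinf hsup with hk | hr
  · left
    refine Finite.injective_iff_bijective.1 fun a b e => ?_
    apply (MonoidHom.ker_eq_bot_iff E).1 hk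
    show h^[N] a = h^[N] b
    rw [show N = (N - 1) + 1 by omega, Function.iterate_succ_apply, Function.iterate_succ_apply, e]
  · right
    refine ⟨N, fun a => ?_⟩
    exact mem_bot.1 (hr ▸ (⟨a, rfl⟩ : E a ∈ E.range))

variable {A C : Type*} [Group A] [Group C] {ι : Type*} [Finite ι] [DecidableEq ι] {B : ι → Type*}
  [∀ i, Group (B i)]

/-- An indecomposable factor may be exchanged. -/
theorem exists_exchange [Finite A] [Finite C] [∀ i, Finite (B i)] (hA : Indec A) (hB : ∀ i, Indec (B i))
    (e : A × C ≃* ((i : ι) → B i)) :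
    ∃ j, Nonempty (A ≃* B j) ∧ Nonempty (C ≃* ((k : {k : ι // k ≠ j}) → B k)) := by
  classical
  let res : Finset ι → ((i : ι) → B i) →* ((i : ι) → B i) := fun S =>
    { toFun := fun x i => if i ∈ S then x i else 1
      map_one' := funext fun i => by simp
      map_mul' := fun x y => funext fun i => by by_cases h : i ∈ S <;> simp [h] }
  let inA : A →* ((i : ι) → B i) := e.toMonoidHom.comp (MonoidHom.inl A C)
  let outA : ((i : ι) → B i) →* A := (MonoidHom.fst A C).comp e.symm.toMonoidHom
  let H : Finset ι → A →* A := fun S => outA.comp ((res S).comp inA)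
  have houtin : ∀ a, outA (inA a) = a := fun a => by simp [inA, outA]
  have hH : ∀ S, IsNormalEnd (H S) := by
    intro S x a
    show outA (res S (inA (x * a * x⁻¹))) = x * outA (res S (inA a)) * x⁻¹
    have h1 : res S (inA (x * a * x⁻¹)) = inA x * res S (inA a) * (inA x)⁻¹ := by
      funext i
      simp only [map_mul, map_inv, Pi.mul_apply, Pi.inv_apply, res, MonoidHom.coe_mk, OneHom.coe_mk]
      by_cases hi : i ∈ S <;> simp [hi]
    rw [h1, map_mul, map_mul, map_inv, houtin]
  have hins : ∀ (S : Finset ι) (j : ι), j ∉ S → ∀ a, H (insert j S) a = H S a * H {j} a := by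
    intro S j hj a
    show outA _ = outA _ * outA _
    rw [← map_mul]
    congr 1
    funext i
    simp only [res, Pi.mul_apply, MonoidHom.coe_comp, Function.comp_apply, MonoidHom.coe_mk, OneHom.coe_mk,
      Finset.mem_insert, Finset.mem_singleton]
    by_cases hi : i = j
    · subst hi; simp [hj]
    · simp [hi]
  obtain ⟨j, hj⟩ : ∃ j, Function.Bijective (H {j}) := by
    by_contra hall
    push Not at hall
    have main : ∀ S : Finset ι, ¬ Function.Bijective (H S) := by
      intro S
      induction S using Finset.induction_on with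
      | empty =>
        intro hb
        haveI := hA.1
        obtain ⟨a, ha⟩ := exists_ne (1 : A)
        refine ha (hb.1 ?_)
        have : ∀ x : A, H ∅ x = 1 := fun x => by
          show outA _ = 1
          rw [show (res ∅).comp inA x = 1 from funext fun i => by simp [res], map_one]
        rw [this, this]
      | insert j S hj ih =>
        intro hb
        apply ih
        let σ : A ≃* A := MulEquiv.ofBijective (H (insert j S)) hb
        have hσ : IsNormalEnd σ.symm.toMonoidHom := fun x a => by
          apply σ.injective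
          show σ (σ.symm (x * a * x⁻¹)) = σ (x * σ.symm a * x⁻¹)
          rw [MulEquiv.apply_symm_apply]
          have := hH (insert j S) x (σ.symm a)
          rw [show σ (x * σ.symm a * x⁻¹) = H (insert j S) (x * σ.symm a * x⁻¹) from rfl, this]
          rw [show H (insert j S) (σ.symm a) = a from σ.apply_symm_apply a]
        let v : A →* A := σ.symm.toMonoidHom.comp (H {j})
        have hv : IsNormalEnd v := fun x a => by
          show σ.symm (H {j} (x * a * x⁻¹)) = _
          rw [hH {j} x a]; exact hσ x _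
        have hvn : ∃ n : ℕ, ∀ a, v^[n] a = 1 := (bijective_or_nilpotent hA hv).resolve_left fun hvb =>
          hall j (by simpa [v] using σ.bijective.comp hvb)
        obtain ⟨n, hn⟩ := hvn
        refine Finite.injective_iff_bijective.1 ((injective_iff_map_eq_one (H S)).2 fun a ha => ?_)
        have hva : v a = a := by
          show σ.symm (H {j} a) = a
          rw [MulEquiv.symm_apply_eq]
          show H {j} a = H (insert j S) a
          rw [hins S j hj a, ha, one_mul]
        rw [← hn a]
        exact (Function.iterate_fixed hva n).symm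
    have := Fintype.ofFinite ι
    refine main Finset.univ ?_
    have : ∀ x, H Finset.univ x = x := fun x => by
      show outA _ = x
      rw [show (res Finset.univ).comp inA x = inA x from funext fun i => by simp [res], houtin]
    exact ⟨fun a b h => by rwa [this, this] at h, fun a => ⟨a, this a⟩⟩
  refine ⟨j, ?_⟩
  let f : A →* B j := (Pi.evalMonoidHom B j).comp inA
  let g : B j →* A := outA.comp (MonoidHom.mulSingle B j)
  have hgf : ∀ a, g (f a) = H {j} a := fun a => by
    show outA _ = outA _
    congr 1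
    funext i
    by_cases hi : i = j
    · subst hi; simp [f, res]
    · simp [res, hi]
  have hfinj : Function.Injective f := fun a b h => hj.1 (by rw [← hgf, ← hgf, h])
  have hnorm : f.range.Normal := ⟨by
    rintro _ ⟨a, rfl⟩ w
    obtain ⟨⟨x, c⟩, hxc⟩ := e.surjective (MonoidHom.mulSingle B j w)
    refine ⟨x * a * x⁻¹, ?_⟩
    have h1 : e (x * a * x⁻¹, 1) = e (x, c) * inA a * (e (x, c))⁻¹ := by
      show _ = e (x, c) * e (a, 1) * (e (x, c))⁻¹
      rw [← map_mul, ← map_inv, ← map_mul]
      simp
    show inA (x * a * x⁻¹) j = w * inA a j * w⁻¹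
    show e (x * a * x⁻¹, 1) j = _
    rw [h1, hxc]
    simp⟩
  have hinf : f.range ⊓ g.ker = ⊥ := by
    rw [eq_bot_iff]
    rintro _ ⟨⟨a, rfl⟩, hk⟩
    have : a = 1 := hj.1 (by rw [map_one, ← hgf]; exact hk)
    rw [this, map_one]; exact one_mem _
  have hsup : f.range ⊔ g.ker = ⊤ := eq_top_iff.2 fun w _ => by
    obtain ⟨a, ha⟩ := hj.2 (g w)
    rw [show w = f a * ((f a)⁻¹ * w) by group]
    refine mul_mem (mem_sup_left ⟨a, rfl⟩) (mem_sup_right ?_)
    rw [MonoidHom.mem_ker, map_mul, map_inv, hgf, ha, inv_mul_cancel]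
  have hker : g.ker = ⊥ := ((hB j).2 _ _ hnorm inferInstance hinf hsup).resolve_left fun h => by
    haveI := hA.1
    obtain ⟨a, ha⟩ := exists_ne (1 : A)
    exact ha (hfinj (by rw [map_one]; exact mem_bot.1 (h ▸ (⟨a, rfl⟩ : f a ∈ f.range))))
  have hfsurj : Function.Surjective f := fun w => by
    obtain ⟨a, ha⟩ := hj.2 (g w)
    exact ⟨a, (MonoidHom.ker_eq_bot_iff g).1 hker (by rw [hgf, ha])⟩
  let eA : A ≃* B j := MulEquiv.ofBijective f ⟨hfinj, hfsurj⟩
  refine ⟨⟨eA⟩, ?_⟩
  let ext : ((k : {k : ι // k ≠ j}) → B k) →* ((i : ι) → B i) :=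
    { toFun := fun r i => if h : i = j then 1 else r ⟨i, h⟩
      map_one' := funext fun i => by by_cases h : i = j <;> simp [h]
      map_mul' := fun r s => funext fun i => by by_cases h : i = j <;> simp [h] }
  let ψ : ((k : {k : ι // k ≠ j}) → B k) →* C := (MonoidHom.snd A C).comp (e.symm.toMonoidHom.comp ext)
  have hψ : Function.Injective ψ := (injective_iff_map_eq_one ψ).2 fun r hr => by
    have h1 : e.symm (ext r) = ((e.symm (ext r)).1, 1) := Prod.ext rfl hr
    have h2 : ext r = inA (e.symm (ext r)).1 := by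
      show ext r = e ((e.symm (ext r)).1, 1)
      rw [← h1, MulEquiv.apply_symm_apply]
    have h3 : f (e.symm (ext r)).1 = 1 := by
      show inA (e.symm (ext r)).1 j = 1
      rw [← h2]; simp [ext]
    rw [hfinj (h3.trans (map_one f).symm), map_one] at h2
    funext ⟨k, hk⟩
    simpa [ext, hk] using congrFun h2 k
  have hcard : Nat.card ((k : {k : ι // k ≠ j}) → B k) = Nat.card C := by
    have h1 := Nat.card_congr e.toEquiv
    rw [Nat.card_prod, Nat.card_congr eA.toEquiv, Nat.card_congr (Equiv.piSplitAt j B), Nat.card_prod] at h1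
    exact (Nat.eq_of_mul_eq_mul_left Nat.card_pos h1).symm
  have : Finite ((k : {k : ι // k ≠ j}) → B k) := Pi.finite
  exact ⟨(MulEquiv.ofBijective ψ ((Nat.bijective_iff_injective_and_card ψ).2 ⟨hψ, hcard⟩)).symm⟩

universe u v

/-- The Krull–Schmidt theorem. -/
theorem krullSchmidt : ∀ {m n : ℕ} {A : Fin m → Type u} {B : Fin n → Type v} [∀ i, Group (A i)] [∀ j, Group (B j)]
    [∀ i, Finite (A i)] [∀ j, Finite (B j)] (_ : ∀ i, Indec (A i)) (_ : ∀ j, Indec (B j))
    (_ : ((i : Fin m) → A i) ≃* ((j : Fin n) → B j)), ∃ σ : Fin m ≃ Fin n, ∀ i, Nonempty (A i ≃* B (σ i)) := by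
  intro m
  induction m with
  | zero =>
    intro n A B _ _ _ _ _ hB e
    cases n with
    | zero => exact ⟨Equiv.refl _, fun i => i.elim0⟩
    | succ n =>
      exfalso
      haveI := (hB 0).1
      obtain ⟨b, hb⟩ := exists_ne (1 : B 0)
      haveI : Subsingleton ((j : Fin (n + 1)) → B j) := e.symm.toEquiv.subsingleton
      exact hb (by simpa using congrFun (Subsingleton.elim (MonoidHom.mulSingle B 0 b) 1) 0)
  | succ m ih =>
    intro n A B _ _ _ _ hA hB e
    let e0 : A 0 × ((i : Fin m) → A i.succ) ≃* ((i : Fin (m + 1)) → A i) :=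
      { Fin.consEquiv A with
        map_mul' := fun x y => funext fun i => by
          induction i using Fin.cases with
          | zero => rfl
          | succ i => rfl }
    obtain ⟨j, ⟨e1⟩, ⟨e2⟩⟩ := exists_exchange (hA 0) hB (e0.trans e)
    cases n with
    | zero => exact j.elim0
    | succ n =>
      let τ : Fin n ≃ {k : Fin (n + 1) // k ≠ j} := finSuccAboveEquiv j
      let e3 : ((k : {k : Fin (n + 1) // k ≠ j}) → B k) ≃* ((k : Fin n) → B (τ k)) :=
        { (Equiv.piCongrLeft (fun k : {k : Fin (n + 1) // k ≠ j} => B k) τ).symm with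
          map_mul' := fun x y => rfl }
      obtain ⟨σ, hσ⟩ := @ih n (fun i => A i.succ) (fun k => B (τ k)) inferInstance inferInstance inferInstance inferInstance
        (fun i => hA i.succ) (fun k => hB _) (e2.trans e3)
      refine ⟨(finSuccEquiv m).trans ((Equiv.optionCongr σ).trans (finSuccEquiv' j).symm), fun i => ?_⟩
      induction i using Fin.cases with
      | zero => simpa [finSuccEquiv, finSuccEquiv'] using ⟨e1⟩
      | succ i =>
        have : ((finSuccEquiv m).trans ((Equiv.optionCongr σ).trans (finSuccEquiv' j).symm)) i.succ = (τ (σ i) : Fin (n + 1)) := by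
          simp [τ, finSuccAboveEquiv]
        rw [this]
        exact hσ i

end CfsgLib.FGStruct.KrullSchmidt
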