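import Cfsg.Agent.Lib.Solvable.Core
import Cfsg.Agent.Lib.Solvable.Frattini
import Cfsg.Agent.Lib.Solvable.SchurZassenhaus
import Cfsg.Prelude.Def_Transfer
import Mathlib

/-!
Groups all of whose maximal subgroups are p-nilpotent or of prime index.
-/

set_option autoImplicit false

open scoped Pointwise

namespace CfsgLib.MaxPNilpotent

universe u

/-- Every quotient with trivial p'-core has a self-centralizing p-core. -/
def Good (p : ℕ) (G : Type u) [Group G] : Prop :=
  ∀ (H : Type u) [Group H] [Finite H] (f : G →* H), Function.Surjective f → Cfsg.pPrimeCore p H = ⊥ →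
    Subgroup.centralizer (Cfsg.pCore p H : Set H) ≤ Cfsg.pCore p H

/-- Every maximal subgroup is p-nilpotent or has prime index. -/
def MaxCond (p : ℕ) (G : Type u) [Group G] : Prop :=
  ∀ M : Subgroup G, IsCoatom M →
    (∃ K : Subgroup ↥M, K.Normal ∧ ¬ p ∣ Nat.card K ∧ ∃ k : ℕ, K.index = p ^ k) ∨ (M.index).Prime

/-- The conclusion: a normal p',p,p',p series. -/
def Series (p : ℕ) (G : Type u) [Group G] : Prop :=
  ∃ A B C : Subgroup G, A.Normal ∧ B.Normal ∧ C.Normal ∧ A ≤ B ∧ B ≤ C ∧ ¬ p ∣ Nat.card A ∧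
    (∃ k : ℕ, A.relIndex B = p ^ k) ∧ ¬ p ∣ B.relIndex C ∧ ∃ k : ℕ, C.index = p ^ k

theorem maxCond_quotient {p : ℕ} [Fact p.Prime] {G : Type u} [Group G] [Finite G] (h : MaxCond p G)
    (N : Subgroup G) [N.Normal] : MaxCond p (G ⧸ N) := by
  intro M hM
  set f := QuotientGroup.mk' N
  have hf : Function.Surjective f := QuotientGroup.mk'_surjective N
  have hco : IsCoatom (M.comap f) := by
    refine ⟨fun e => hM.1 (Subgroup.comap_injective hf (e.trans (Subgroup.comap_top f).symm)), fun L hL => ?_⟩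
    have hker : f.ker ≤ L := le_trans (MonoidHom.ker_le_comap f M) hL.le
    have h1 : M < L.map f := by
      rw [← Subgroup.comap_lt_comap_of_surjective hf, Subgroup.comap_map_eq_self hker]
      exact hL
    rw [← Subgroup.comap_map_eq_self hker, hM.2 _ h1, Subgroup.comap_top]
  rcases h _ hco with ⟨K, hK, hKp, k, hk⟩ | hp
  · left
    let φ : ↥(M.comap f) →* ↥M := f.subgroupComap M
    have hφ : Function.Surjective φ := by
      rintro ⟨y, hy⟩
      obtain ⟨x, rfl⟩ := hf y
      exact ⟨⟨x, hy⟩, rfl⟩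
    refine ⟨K.map φ, hK.map φ hφ, fun hd => hKp (hd.trans (Subgroup.card_map_dvd _ _)), ?_⟩
    obtain ⟨j, -, hj⟩ := (Nat.dvd_prime_pow Fact.out).1 (hk ▸ Subgroup.index_map_dvd K hφ)
    exact ⟨j, hj⟩
  · right
    rwa [Subgroup.index_comap_of_surjective _ hf] at hp

/-- Lift a series along a quotient by a p'-group or when the bottom term is then p'. -/
theorem series_lift {p : ℕ} {G : Type u} [Group G] [Finite G] (N : Subgroup G) [N.Normal]
    (h : Series p (G ⧸ N)) : ∃ A B C : Subgroup G, A.Normal ∧ B.Normal ∧ C.Normal ∧ A ≤ B ∧ B ≤ C ∧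
      N ≤ A ∧ ¬ p ∣ N.relIndex A ∧ (∃ k : ℕ, A.relIndex B = p ^ k) ∧ ¬ p ∣ B.relIndex C ∧ ∃ k : ℕ, C.index = p ^ k := by
  obtain ⟨A, B, C, hA, hB, hC, hAB, hBC, hAp, hk, hBCp, hCi⟩ := h
  have hf : Function.Surjective (QuotientGroup.mk' N) := QuotientGroup.mk'_surjective N
  set f := QuotientGroup.mk' N with hfdef
  have hrel : ∀ X Y : Subgroup (G ⧸ N), (X.comap f).relIndex (Y.comap f) = X.relIndex Y := fun X Y => by
    rw [Subgroup.relIndex_comap, Subgroup.map_comap_eq_self_of_surjective hf]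
  refine ⟨A.comap f, B.comap f, C.comap f, hA.comap f, hB.comap f, hC.comap f, Subgroup.comap_mono hAB,
    Subgroup.comap_mono hBC, ?_, ?_, ?_, ?_, ?_⟩
  · exact le_of_eq_of_le (QuotientGroup.ker_mk' N).symm (MonoidHom.ker_le_comap f A)
  · have : N.relIndex (A.comap f) = Nat.card A := by
      have h0 : (⊥ : Subgroup (G ⧸ N)).comap f = N := by rw [MonoidHom.comap_bot]; exact QuotientGroup.ker_mk' N
      rw [← Subgroup.relIndex_bot_left A, ← hrel, h0]
    rw [this]; exact hAp
  · rw [hrel]; exact hk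
  · rw [hrel]; exact hBCp
  · rw [Subgroup.index_comap_of_surjective _ hf]; exact hCi

theorem main (p : ℕ) [hp : Fact p.Prime] : ∀ (n : ℕ) (G : Type u) [Group G] [Finite G],
    Nat.card G = n → Good p G → MaxCond p G → Series p G := by
  intro n
  induction n using Nat.strong_induction_on with
  | _ n ih =>
  intro G _ _ hn hgood hmax
  classical
  have ihq : ∀ (N : Subgroup G) [N.Normal], N ≠ ⊥ → Series p (G ⧸ N) := by
    intro N _ hN
    refine ih _ ?_ (G ⧸ N) rfl (fun H _ _ f hf hO => hgood H (f.comp (QuotientGroup.mk' N))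
      (hf.comp (QuotientGroup.mk'_surjective N)) hO) (maxCond_quotient hmax N)
    rw [← hn, Subgroup.card_eq_card_quotient_mul_card_subgroup N]
    refine lt_mul_of_one_lt_right Nat.card_pos ?_
    exact Subgroup.one_lt_card_iff_ne_bot _ |>.2 hN
  haveI hOn : (Cfsg.pPrimeCore p G).Normal := CfsgLib.Solvable.pPrimeCore_normal p G
  by_cases hO : Cfsg.pPrimeCore p G = ⊥
  swap
  · obtain ⟨A, B, C, hA, hB, hC, hAB, hBC, hNA, hNAp, hk, h1, h2⟩ := series_lift _ (ihq _ hO)
    refine ⟨A, B, C, hA, hB, hC, hAB, hBC, ?_, hk, h1, h2⟩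
    rw [← Subgroup.relIndex_bot_left, ← Subgroup.relIndex_mul_relIndex ⊥ _ A bot_le hNA,
      Subgroup.relIndex_bot_left]
    intro hd
    rcases hp.out.dvd_mul.1 hd with hd | hd
    · exact (Nat.Prime.coprime_iff_not_dvd hp.out).1 (CfsgLib.Solvable.pPrimeCore_card_coprime p G).symm hd
    · exact hNAp hd
  haveI hWn : (Cfsg.pCore p G).Normal := CfsgLib.Solvable.pCore_normal p G
  set W := Cfsg.pCore p G with hWdef
  have hWp : IsPGroup p ↥W := CfsgLib.Solvable.pCore_isPGroup p G
  have hCW : Subgroup.centralizer (W : Set G) ≤ W :=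
    hgood G (MonoidHom.id G) Function.surjective_id hO
  by_cases hΦ : frattini G = ⊥
  swap
  · obtain ⟨A, B, C, hA, hB, hC, hAB, hBC, hNA, hNAp, ⟨k, hk⟩, h1, h2⟩ := series_lift _ (ihq _ hΦ)
    have hFW : frattini G ≤ W := by
      refine le_trans CfsgLib.Solvable.frattini_le_fittingSubgroup ?_
      rw [CfsgLib.Solvable.fittingSubgroup_eq_iSup_pCore]
      refine iSup_le fun q => ?_
      haveI : Fact (q : ℕ).Prime := ⟨(Nat.mem_primeFactors.1 q.2).1⟩
      by_cases hqp : (q : ℕ) = p
      · rw [hqp]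
      · refine le_trans (le_trans (CfsgLib.Solvable.le_pPrimeCore (CfsgLib.Solvable.pCore_normal _ G) ?_) hO.le) bot_le
        obtain ⟨j, hj⟩ := CfsgLib.Solvable.card_pCore (p := (q : ℕ)) (G := G)
        rw [hj]
        exact Nat.Coprime.pow_left _ ((Nat.coprime_primes Fact.out hp.out).2 hqp)
    obtain ⟨j, hj⟩ := IsPGroup.iff_card.1 (hWp.to_le hFW)
    have hAeq : A = frattini G := by
      have hcop : (Nat.card ↥((frattini G).subgroupOf A)).Coprime ((frattini G).subgroupOf A).index := by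
        rw [Nat.card_congr (Subgroup.subgroupOfEquivOfLe hNA).toEquiv, hj]
        exact Nat.Coprime.pow_left _ ((Nat.Prime.coprime_iff_not_dvd hp.out).2 hNAp)
      obtain ⟨K, hK⟩ := Subgroup.exists_right_complement'_of_coprime hcop
      let K' := K.map A.subtype
      have hK'A : K' ≤ A := Subgroup.map_subtype_le _
      have hK'card : Nat.card ↥K' = (frattini G).relIndex A := by
        rw [Subgroup.card_map_of_injective A.subtype_injective, ← hK.symm.index_eq_card]; rfl
      have hcop' : (Nat.card ↥K').Coprime (Nat.card ↥(frattini G)) := by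
        rw [hK'card, hj]
        exact (Nat.Coprime.pow_left _ ((Nat.Prime.coprime_iff_not_dvd hp.out).2 hNAp)).symm
      haveI : (frattini G).Normal := inferInstance
      have hsupA : A ≤ frattini G ⊔ K' := by
        have := congrArg (Subgroup.map A.subtype) hK.sup_eq_top
        rw [Subgroup.map_sup, Subgroup.subgroupOf_map_subtype, ← MonoidHom.range_eq_map, Subgroup.range_subtype,
          inf_eq_left.2 hNA] at this
        exact this.ge
      have hnorm : Subgroup.normalizer (K' : Set G) = ⊤ := by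
        apply frattini_nongenerating
        rw [eq_top_iff]
        intro g _
        have hle : MulAut.conj g • K' ≤ frattini G ⊔ K' := by
          rintro _ ⟨x, hx, rfl⟩
          exact hsupA (hA.conj_mem x (hK'A hx) g)
        have hK'N : K' ≤ Subgroup.normalizer ((frattini G : Subgroup G) : Set G) := Subgroup.le_normalizer_of_normal
        obtain ⟨d, hd, hde⟩ := CfsgLib.Solvable.exists_conj_eq_of_coprime hK'N hle (CfsgLib.Solvable.card_conj_smul _ _) hcop'.symm
          (Or.inl (by
            haveI : Group.IsNilpotent ↥(frattini G) := frattini_nilpotent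
            infer_instance))
        have hmem : d * g ∈ Subgroup.normalizer (K' : Set G) ∨ d⁻¹ * g ∈ Subgroup.normalizer (K' : Set G) := by
          first
            | exact Or.inl (CfsgLib.Solvable.conj_smul_eq_self_iff.1 (by rw [← CfsgLib.Solvable.conj_smul_conj_smul, hde]))
            | exact Or.inr (CfsgLib.Solvable.conj_smul_eq_self_iff.1 (by
                rw [← CfsgLib.Solvable.conj_smul_conj_smul, ← hde, CfsgLib.Solvable.conj_smul_conj_smul, inv_mul_cancel, map_one, one_smul]))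
        rcases hmem with h | h
        · rw [show g = d⁻¹ * (d * g) by group]
          exact Subgroup.mul_mem _ (Subgroup.mem_sup_right ((frattini G).inv_mem hd)) (Subgroup.mem_sup_left h)
        · rw [show g = d * (d⁻¹ * g) by group]
          exact Subgroup.mul_mem _ (Subgroup.mem_sup_right hd) (Subgroup.mem_sup_left h)
      haveI : K'.Normal := Subgroup.normalizer_eq_top_iff.1 hnorm
      have hK1 : K' = ⊥ := by
        refine le_bot_iff.1 (hO ▸ CfsgLib.Solvable.le_pPrimeCore inferInstance ?_)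
        rw [hK'card]
        exact ((Nat.Prime.coprime_iff_not_dvd hp.out).2 hNAp).symm
      rw [hK1, sup_bot_eq] at hsupA
      exact le_antisymm hsupA hNA
    subst hAeq
    refine ⟨⊥, B, C, inferInstance, hB, hC, bot_le, hBC, by simp [hp.out.ne_one], ?_, h1, h2⟩
    exact ⟨j + k, by rw [← Subgroup.relIndex_mul_relIndex ⊥ _ B bot_le hAB, Subgroup.relIndex_bot_left, hj, hk, pow_add]⟩
  obtain ⟨w, hw⟩ := IsPGroup.iff_card.1 hWp
  have hWser : ∀ C : Subgroup G, C.Normal → W ≤ C → ¬ p ∣ W.relIndex C → (∃ k : ℕ, C.index = p ^ k) → Series p G :=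
    fun C hC hle h1 h2 => ⟨⊥, W, C, inferInstance, hWn, hC, bot_le, hle, by simp [hp.out.ne_one],
      ⟨w, by rw [Subgroup.relIndex_bot_left, hw]⟩, h1, h2⟩
  have hsupW : ∀ M : Subgroup G, IsCoatom M → ¬ W ≤ M → W ⊔ M = ⊤ := fun M hM hWM =>
    hM.2 _ (lt_of_le_not_ge le_sup_right fun h => hWM (le_trans le_sup_left h))
  by_cases hnil : ∃ M : Subgroup G, IsCoatom M ∧ ¬ W ≤ M ∧
      ∃ K : Subgroup ↥M, K.Normal ∧ ¬ p ∣ Nat.card K ∧ ∃ k : ℕ, K.index = p ^ k
  · obtain ⟨M, hM, hWM, K, hK, hKp, k, hk⟩ := hnil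
    let K' := K.map M.subtype
    let C := W ⊔ K'
    have hK'M : ∀ m ∈ M, ∀ x ∈ K', m * x * m⁻¹ ∈ K' := by
      rintro m hm _ ⟨x, hx, rfl⟩
      exact ⟨⟨m, hm⟩ * x * ⟨m, hm⟩⁻¹, hK.conj_mem x hx _, rfl⟩
    haveI hC : C.Normal := by
      refine Subgroup.normalizer_eq_top_iff.1 (top_le_iff.1 ?_)
      rw [← hsupW M hM hWM, sup_le_iff]
      refine ⟨le_trans le_sup_left (Subgroup.le_normalizer (H := C)), ?_⟩
      intro m hm
      rw [Subgroup.mem_normalizer_iff_map_conj_eq]
      refine Subgroup.eq_of_le_of_card_ge ?_ (Subgroup.card_map_of_injective (MulAut.conj m).injective).ge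
      rw [Subgroup.map_le_iff_le_comap, sup_le_iff]
      exact ⟨fun x hx => Subgroup.mem_sup_left (hWn.conj_mem x hx m), fun x hx => Subgroup.mem_sup_right (hK'M m hm x hx)⟩
    refine hWser C hC le_sup_left (fun hd => ?_) ?_
    · have : W.relIndex C ∣ Nat.card ↥K' := by
        rw [show C = K' ⊔ W from sup_comm _ _, Subgroup.relIndex_sup_right]
        exact Subgroup.relIndex_dvd_card W K'
      rw [Subgroup.card_map_of_injective M.subtype_injective] at this
      exact hKp (hd.trans this)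
    · let φ : ↥M →* G ⧸ C := (QuotientGroup.mk' C).comp M.subtype
      have hφ : Function.Surjective φ := by
        intro y
        obtain ⟨g, rfl⟩ := QuotientGroup.mk'_surjective C y
        have hg : g ∈ ((W ⊔ M : Subgroup G) : Set G) := by rw [hsupW M hM hWM]; exact Set.mem_univ g
        rw [Subgroup.normal_mul W M] at hg
        obtain ⟨a, ha, b, hb, rfl⟩ := hg
        refine ⟨⟨b, hb⟩, ?_⟩
        show QuotientGroup.mk' C b = QuotientGroup.mk' C (a * b)
        rw [map_mul, show QuotientGroup.mk' C a = 1 from (QuotientGroup.eq_one_iff a).2 (Subgroup.mem_sup_left ha), one_mul]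
      have hKker : K ≤ φ.ker := fun x hx => (QuotientGroup.eq_one_iff x.1).2 (Subgroup.mem_sup_right ⟨x, hx, rfl⟩)
      have hd : C.index ∣ p ^ k := by
        rw [← hk, show C.index = φ.ker.index by
          rw [Subgroup.index_ker, MonoidHom.range_eq_top.2 hφ, Subgroup.card_top]; rfl]
        exact Subgroup.index_dvd_of_le hKker
      obtain ⟨j, -, hj⟩ := (Nat.dvd_prime_pow hp.out).1 hd
      exact ⟨j, hj⟩
  push Not at hnil
  refine hWser ⊤ inferInstance le_top (fun hd => ?_) ⟨0, by simp⟩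
  -- all relevant maximal subgroups have prime index
  have hfix : ∀ g : G, g ^ (p - 1) ∈ W := by
    intro g
    refine hCW fun x hx => ?_
    suffices h : g ^ (p - 1) * x * (g ^ (p - 1))⁻¹ * x⁻¹ ∈ frattini G by
      rw [hΦ, Subgroup.mem_bot, mul_inv_eq_one, mul_inv_eq_iff_eq_mul] at h
      exact h.symm
    simp only [frattini, Order.radical, Subgroup.mem_iInf]
    intro M hM
    have hxW : g ^ (p - 1) * x * (g ^ (p - 1))⁻¹ * x⁻¹ ∈ W := W.mul_mem (hWn.conj_mem x hx _) (W.inv_mem hx)
    by_cases hWM : W ≤ M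
    · exact hWM hxW
    have hprime : M.index.Prime := (hmax M hM).resolve_left fun ⟨K, h1, h2, k, hk⟩ => hnil M hM hWM K h1 h2 k hk
    -- `W ⊓ M` is normal of index `p` in `W`
    have hrel : M.relIndex W = M.index := by
      rw [← Subgroup.relIndex_top_right, ← hsupW M hM hWM]
      have h1 := Subgroup.relIndex_mul_relIndex (M ⊓ W) W (W ⊔ M) inf_le_right le_sup_left
      have h2 := Subgroup.relIndex_mul_relIndex (M ⊓ W) M (W ⊔ M) inf_le_left le_sup_right
      have h3 : W.relIndex (W ⊔ M) = W.relIndex M := by rw [sup_comm, Subgroup.relIndex_sup_right]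
      rw [Subgroup.inf_relIndex_right, h3, ← h2, Subgroup.inf_relIndex_left, mul_comm] at h1
      exact Nat.eq_of_mul_eq_mul_left (Nat.pos_of_ne_zero Subgroup.index_ne_zero_of_finite) h1
    have hMp : M.index = p := by
      have hd' : M.index ∣ p ^ w := hrel ▸ hw ▸ Subgroup.relIndex_dvd_card M W
      exact (Nat.prime_dvd_prime_iff_eq hprime hp.out).1 (hprime.dvd_of_dvd_pow hd')
    let X := M.subgroupOf W
    have hXidx : X.index = p := hrel.trans hMp
    haveI : Group.IsNilpotent ↥W := hWp.isNilpotent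
    haveI hXn : X.Normal := by
      refine Subgroup.NormalizerCondition.normal_of_coatom X Group.normalizerCondition_of_isNilpotent
        ⟨fun e => hp.out.ne_one (by rw [← hXidx, e, Subgroup.index_top]), fun L hL => ?_⟩
      have hdL := Subgroup.index_dvd_of_le hL.le
      rw [hXidx] at hdL
      rcases (Nat.dvd_prime hp.out).1 hdL with h | h
      · exact Subgroup.index_eq_one.1 h
      · exfalso
        have := Subgroup.relIndex_mul_index hL.le
        rw [h, hXidx] at this
        exact hL.not_ge (Subgroup.relIndex_eq_one.1 (mul_eq_right₀ hp.out.ne_zero |>.1 this))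
    -- `W ⊓ M` is invariant under `G`
    haveI hW0 : (M ⊓ W).Normal := by
      refine Subgroup.normalizer_eq_top_iff.1 (top_le_iff.1 ?_)
      rw [← hsupW M hM hWM, sup_le_iff]
      refine ⟨fun a ha => ?_, fun m hm => ?_⟩ <;> rw [Subgroup.mem_normalizer_iff_map_conj_eq] <;>
        refine Subgroup.eq_of_le_of_card_ge ?_ (Subgroup.card_map_of_injective (MulAut.conj _).injective).ge <;>
        rintro _ ⟨y, hy, rfl⟩
      · exact ⟨hXn.conj_mem ⟨y, hy.2⟩ hy.1 ⟨a, ha⟩, W.mul_mem (W.mul_mem ha hy.2) (W.inv_mem ha)⟩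
      · exact ⟨M.mul_mem (M.mul_mem hm hy.1) (M.inv_mem hm), hWn.conj_mem y hy.2 m⟩
    let Q := ↥W ⧸ X
    have hQ : Nat.card Q = p := hXidx
    haveI : IsCyclic Q := isCyclic_of_prime_card hQ
    let α : MulAut Q := QuotientGroup.congr X X (MulAut.conjNormal g) (by
      refine Subgroup.eq_of_le_of_card_ge ?_ (Subgroup.card_map_of_injective (MulAut.conjNormal g).injective).ge
      rintro _ ⟨y, hy, rfl⟩
      exact (hW0.conj_mem y.1 ⟨hy, y.2⟩ g).1)
    have hα : α ^ (p - 1) = 1 := by
      rw [← orderOf_dvd_iff_pow_eq_one]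
      refine (orderOf_dvd_natCard α).trans ?_
      rw [IsCyclic.card_mulAut, hQ, Nat.totient_prime hp.out]
    have hpow : ∀ (m : ℕ) (y : ↥W), (α ^ m) (y : Q) = ((MulAut.conjNormal (g ^ m) y : ↥W) : Q) := by
      intro m y
      induction m with
      | zero => simp
      | succ m ihm =>
        rw [pow_succ', MulAut.mul_apply, ihm]
        show ((MulAut.conjNormal g (MulAut.conjNormal (g ^ m) y) : ↥W) : Q) = _
        rw [← MulAut.mul_apply, ← map_mul, ← pow_succ']
    have h1 := hpow (p - 1) ⟨x, hx⟩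
    rw [hα, MulAut.one_apply] at h1
    have h2 := QuotientGroup.eq.1 h1
    have h3 : x⁻¹ * (g ^ (p - 1) * x * (g ^ (p - 1))⁻¹) ∈ M ⊓ W :=
      ⟨h2, W.mul_mem (W.inv_mem hx) (hWn.conj_mem x hx _)⟩
    have h4 := hW0.conj_mem _ h3 x
    have e : x * (x⁻¹ * (g ^ (p - 1) * x * (g ^ (p - 1))⁻¹)) * x⁻¹ = g ^ (p - 1) * x * (g ^ (p - 1))⁻¹ * x⁻¹ := by group
    rw [e] at h4
    exact h4.1
  rw [Subgroup.relIndex_top_right] at hd
  obtain ⟨y, hy⟩ := exists_prime_orderOf_dvd_card' (G := G ⧸ W) p hd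
  obtain ⟨g, rfl⟩ := QuotientGroup.mk_surjective y
  have h1 : (g : G ⧸ W) ^ (p - 1) = 1 := by rw [← QuotientGroup.mk_pow]; exact (QuotientGroup.eq_one_iff _).2 (hfix g)
  have h2 := orderOf_dvd_of_pow_eq_one h1
  rw [hy] at h2
  rcases Nat.eq_zero_or_pos (p - 1) with h | h
  · have := hp.out.two_le; omega
  · have := Nat.le_of_dvd h h2; omega

end CfsgLib.MaxPNilpotent
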