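import Mathlib
import Cfsg.Prelude.Def_SolvableStructure
import Cfsg.Agent.Lib.MinimalNonNilpotent.Basic
import Cfsg.Agent.Lib.PNilpotent.Basic
import Cfsg.Agent.Lib.Solvable.CoprimeAction
import Cfsg.Agent.S0046
import Cfsg.Agent.Lib.NilpPerm.Bound

/-!
Groups all of whose maximal subgroups of order divisible by `p` are nilpotent.
-/

open Subgroup
open scoped Pointwise

namespace CfsgLib.FGStruct

universe u

private theorem isNilpotent_of_injective {A B : Type*} [Group A] [Group B] [Group.IsNilpotent B]
    (f : A →* B) (hf : Function.Injective f) : Group.IsNilpotent A :=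
  Group.nilpotent_of_mulEquiv (MonoidHom.ofInjective hf).symm

variable {G : Type u} [Group G] [Finite G] {p : ℕ} [hp : Fact p.Prime]

/-- Every proper subgroup of order divisible by `p` is nilpotent. -/
theorem isNilpotent_of_ne_top_of_dvd (h : ∀ M : Subgroup G, IsCoatom M → p ∣ Nat.card M → Group.IsNilpotent M)
    {L : Subgroup G} (hL : L ≠ ⊤) (hd : p ∣ Nat.card L) : Group.IsNilpotent L := by
  obtain ⟨M, hM, hLM⟩ := (eq_top_or_exists_le_coatom L).resolve_left hL
  haveI := h M hM (hd.trans (card_dvd_of_le hLM))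
  exact isNilpotent_of_injective (Subgroup.inclusion hLM) (Subgroup.inclusion_injective hLM)

/-- A `p`-subgroup acting on a normal `p'`-subgroup `M` centralises it if every proper extension of it is nilpotent. -/
theorem le_centralizer_of_nilpotent_supplements (h : ∀ M : Subgroup G, IsCoatom M → p ∣ Nat.card M → Group.IsNilpotent M)
    (P : Subgroup G) (hP : IsPGroup p P) (hP1 : P ≠ ⊥) (M : Subgroup G) (hMn : M.Normal) (hM : ¬ p ∣ Nat.card M)
    (hMr : ∀ r : ℕ, r.Prime → ¬ IsPGroup r M) : M ≤ centralizer (P : Set G) := by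
  obtain ⟨k, hk⟩ := IsPGroup.iff_card.1 hP
  have hcop : (Nat.card P).Coprime (Nat.card M) := by
    rw [hk]; exact ((hp.out.coprime_iff_not_dvd).2 hM).pow_left k
  haveI : Group.IsNilpotent P := hP.isNilpotent
  haveI := hMn
  have hPM : P ≤ normalizer (M : Set G) := (normalizer_eq_top (H := M)).symm ▸ le_top
  have key : (centralizer (P : Set G)).subgroupOf M = ⊤ := by
    refine CfsgLib.MinNonNilp.eq_top_of_forall_sylow fun r _ hr => ?_
    have hrp : r ≠ p := fun e => hM (e ▸ hr)
    obtain ⟨R, hR⟩ := CfsgLib.Solvable.exists_invariant_sylow hPM hcop (Or.inl inferInstance) r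
    refine ⟨R, fun x hx => ?_⟩
    set R' := (R : Subgroup M).map M.subtype
    have hR'p : IsPGroup r R' := R.2.map _
    have hne : P ⊔ R' ≠ ⊤ := fun e => by
      have h1 : ((R' : Set G) * (P : Set G)) = Set.univ := by
        rw [← coe_mul_of_right_le_normalizer_left R' P hR, sup_comm, e, coe_top]
      refine hMr r Fact.out (hR'p.of_equiv ?_)
      refine MulEquiv.subgroupCongr (le_antisymm (map_subtype_le _) fun m hm => ?_)
      obtain ⟨a, ha, b, hb, rfl⟩ := Set.mem_mul.1 (h1.symm.subset (Set.mem_univ m))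
      have hbM : b ∈ M ⊓ P := ⟨by simpa using M.mul_mem (M.inv_mem (map_subtype_le _ ha)) hm, hb⟩
      rw [inf_eq_bot_of_coprime hcop.symm, mem_bot] at hbM
      rw [hbM, mul_one]; exact ha
    have hd : p ∣ Nat.card (P ⊔ R' : Subgroup G) := by
      have hk0 : k ≠ 0 := fun e => hP1 (Subgroup.card_eq_one.1 (by rw [hk, e, pow_zero]))
      exact (dvd_pow_self p hk0).trans (hk.symm.dvd.trans (card_dvd_of_le le_sup_left))
    have := CfsgLib.MinNonNilp.commute_of_le_nilpotent (isNilpotent_of_ne_top_of_dvd h hne hd) hrp hR'p hP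
      le_sup_right le_sup_left
    exact this (mem_map_of_mem _ hx)
  exact subgroupOf_eq_top.1 key

theorem isSolvable_of_maximal_nilpotent : ∀ {G : Type u} [Group G] [Finite G],
    p ∣ Nat.card G → (∀ M : Subgroup G, IsCoatom M → p ∣ Nat.card M → Group.IsNilpotent M) → Group.IsSolvable G := by
  intro G _ _
  induction hn : Nat.card G using Nat.strong_induction_on generalizing G with
  | _ n ih =>
  subst hn
  intro hd h
  obtain ⟨P⟩ : Nonempty (Sylow p G) := inferInstance
  have hP1 : (P : Subgroup G) ≠ ⊥ := P.ne_bot_of_dvd_card hd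
  have hdP : p ∣ Nat.card (P : Subgroup G) := by
    obtain ⟨k, hk⟩ := IsPGroup.iff_card.1 P.2
    have hk0 : k ≠ 0 := fun e => hP1 (Subgroup.card_eq_one.1 (by rw [hk, e, pow_zero]))
    exact hk ▸ dvd_pow_self p hk0
  have hPn : Group.IsNilpotent (P : Subgroup G) := P.2.isNilpotent
  have schmidt : ∀ {K : Type u} [Group K] [Finite K], (∀ M : Subgroup K, IsCoatom M → Group.IsNilpotent M) →
      Group.IsSolvable K := fun hK => Cfsg.Agent.S0046.result hK
  by_cases hsim : ∃ N : Subgroup G, N.Normal ∧ N ≠ ⊥ ∧ N ≠ ⊤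
  · obtain ⟨N, hN, hbot, htop⟩ := hsim
    have hext : Group.IsSolvable N → Group.IsSolvable (G ⧸ N) → Group.IsSolvable G := fun _ _ =>
      Group.isSolvable_of_ker_le_range N.subtype (QuotientGroup.mk' N) (by rw [QuotientGroup.ker_mk', range_subtype])
    have hcomap : ∀ M : Subgroup (G ⧸ N), IsCoatom M → p ∣ Nat.card (M.comap (QuotientGroup.mk' N)) → Group.IsNilpotent M := by
      intro M hM hdM
      have hM' : M.comap (QuotientGroup.mk' N) ≠ ⊤ := fun e => hM.1 (by
        rw [← map_comap_eq_self_of_surjective (QuotientGroup.mk'_surjective N) M, e,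
          map_top_of_surjective _ (QuotientGroup.mk'_surjective N)])
      haveI := isNilpotent_of_ne_top_of_dvd h hM' hdM
      exact Group.nilpotent_of_surjective _ ((QuotientGroup.mk' N).subgroupComap_surjective_of_surjective M (QuotientGroup.mk'_surjective N))
    have hlt : Nat.card (G ⧸ N) < Nat.card G := by
      rw [card_eq_card_quotient_mul_card_subgroup N]
      exact lt_mul_of_one_lt_right Nat.card_pos ((one_lt_card_iff_ne_bot N).mpr hbot)
    by_cases hpN : p ∣ Nat.card N
    · refine hext ?_ (schmidt fun M hM => hcomap M hM (hpN.trans (card_dvd_of_le fun x hx => ?_)))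
      · haveI := isNilpotent_of_ne_top_of_dvd h htop hpN
        infer_instance
      · rw [mem_comap, show QuotientGroup.mk' N x = 1 from (QuotientGroup.eq_one_iff x).2 hx]; exact one_mem _
    have hdq : p ∣ Nat.card (G ⧸ N) := by
      have := hd
      rw [card_eq_card_quotient_mul_card_subgroup N] at this
      exact (hp.out.dvd_mul.1 this).resolve_right hpN
    refine hext ?_ (ih _ hlt rfl hdq fun M hM hdM => hcomap M hM (hdM.trans
      (Subgroup.card_dvd_of_surjective _ ((QuotientGroup.mk' N).subgroupComap_surjective_of_surjective M (QuotientGroup.mk'_surjective N)))))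
    by_cases hNP : N ⊔ (P : Subgroup G) = ⊤
    swap
    · haveI := isNilpotent_of_ne_top_of_dvd h hNP (hdP.trans (card_dvd_of_le le_sup_right))
      haveI : Group.IsNilpotent N := isNilpotent_of_injective (Subgroup.inclusion (le_sup_left : N ≤ N ⊔ (P : Subgroup G))) (Subgroup.inclusion_injective _)
      infer_instance
    by_cases hMr : ∃ r : ℕ, r.Prime ∧ IsPGroup r N
    · obtain ⟨r, hr, hrN⟩ := hMr
      haveI := Fact.mk hr
      haveI := hrN.isNilpotent
      infer_instance
    push Not at hMr
    have hc := le_centralizer_of_nilpotent_supplements h P P.2 hP1 N hN hpN hMr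
    refine schmidt fun L hL => ?_
    let L' := L.map N.subtype
    have hne : L' ⊔ (P : Subgroup G) ≠ ⊤ := fun e => by
      refine hL.1 (eq_top_iff.2 fun x _ => ?_)
      have hLP : (P : Subgroup G) ≤ normalizer (L' : Set G) := fun y hy =>
        centralizer_le_normalizer _ (mem_centralizer_iff.2 fun l hl =>
          (mem_centralizer_iff.1 (hc (map_subtype_le _ hl)) y hy).symm)
      have h1 : ((L' : Set G) * (P : Set G)) = Set.univ := by
        exact (coe_mul_of_right_le_normalizer_left L' (P : Subgroup G) hLP).symm.trans (by rw [e, coe_top])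
      obtain ⟨a, ha, b, hb, hab⟩ := Set.mem_mul.1 (h1.symm.subset (Set.mem_univ (x : G)))
      obtain ⟨l, hl, rfl⟩ := ha
      have hbN : b ∈ N ⊓ (P : Subgroup G) := ⟨by
        have := N.mul_mem (N.inv_mem (show (l : G) ∈ N from l.2)) (show (l : G) * b ∈ N by rw [show (l : G) * b = x from hab]; exact x.2)
        simpa using this, hb⟩
      obtain ⟨k, hk⟩ := IsPGroup.iff_card.1 P.2
      rw [inf_eq_bot_of_coprime (by rw [hk]; exact (((hp.out.coprime_iff_not_dvd).2 hpN).pow_left k).symm), mem_bot] at hbN
      rw [hbN, mul_one] at hab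
      exact (Subtype.ext hab : l = x) ▸ hl
    haveI := isNilpotent_of_ne_top_of_dvd h hne (hdP.trans (card_dvd_of_le le_sup_right))
    exact isNilpotent_of_injective ((Subgroup.inclusion (le_sup_left : L' ≤ L' ⊔ (P : Subgroup G))).comp (L.equivMapOfInjective _ N.subtype_injective).toMonoidHom)
      ((Subgroup.inclusion_injective (le_sup_left : L' ≤ L' ⊔ (P : Subgroup G))).comp (L.equivMapOfInjective _ N.subtype_injective).injective)
  -- simple groups
  push Not at hsim
  by_contra hns
  by_cases hPtop : (P : Subgroup G) = ⊤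
  · haveI : Group.IsNilpotent (⊤ : Subgroup G) := hPtop ▸ hPn
    haveI : Group.IsNilpotent G := Group.nilpotent_of_surjective (topEquiv : (⊤ : Subgroup G) ≃* G).toMonoidHom topEquiv.surjective
    exact hns inferInstance
  haveI : Nontrivial G := by
    by_contra hc
    rw [not_nontrivial_iff_subsingleton] at hc
    exact hPtop (Subsingleton.elim _ _)
  have hyp : CfsgLib.PNilpotent.PrimeToPCentralizes p G := by
    intro Q hQ g hg hcop
    by_cases hQ1 : Q = ⊥
    · rw [hQ1, mem_centralizer_iff]
      intro x hx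
      rw [SetLike.mem_coe, mem_bot] at hx
      simp [hx]
    have hQt : normalizer (Q : Set G) ≠ ⊤ := fun e => hPtop (by
      have hQtop := hsim Q (normalizer_eq_top_iff.1 e) hQ1
      exact (P.3 (hQtop ▸ hQ : IsPGroup p (⊤ : Subgroup G)) le_top).symm)
    have hdQ : p ∣ Nat.card Q := by
      obtain ⟨k, hk⟩ := IsPGroup.iff_card.1 hQ
      have hk0 : k ≠ 0 := fun e => hQ1 (Subgroup.card_eq_one.1 (by rw [hk, e, pow_zero]))
      exact hk ▸ dvd_pow_self p hk0
    haveI hnil := isNilpotent_of_ne_top_of_dvd h hQt (hdQ.trans (card_dvd_of_le le_normalizer))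
    rw [mem_centralizer_iff]
    intro x hx
    obtain ⟨k, hk⟩ := IsPGroup.iff_orderOf.1 hQ ⟨x, hx⟩
    have hc : (orderOf (⟨x, le_normalizer hx⟩ : normalizer (Q : Set G))).Coprime (orderOf (⟨g, hg⟩ : normalizer (Q : Set G))) := by
      rw [Subgroup.orderOf_mk, Subgroup.orderOf_mk]
      rw [Subgroup.orderOf_mk] at hk
      rw [hk]
      exact hcop.symm.pow_left k
    exact congrArg Subtype.val (CfsgLib.NilpPerm.commute_of_coprime_order hc).eq
  obtain ⟨N, hN, hNP⟩ := CfsgLib.PNilpotent.exists_normal_complement hyp P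
  rcases em (N = ⊥) with hb | hb
  · rw [hb, isComplement'_bot_left] at hNP
    exact hPtop hNP
  · rw [hsim N hN hb, isComplement'_top_left] at hNP
    exact hP1 hNP

/-- Maximal subgroups of order divisible by `p` nilpotent. -/
theorem maximal_dvd_nilpotent_iff (p : ℕ) (hp : p.Prime) (hpG : p ∣ Nat.card G) :
    (∀ M : Subgroup G, IsCoatom M → p ∣ Nat.card M → Group.IsNilpotent M) ↔
      (Group.IsNilpotent G ∨ Cfsg.IsMinimalNonNilpotent G ∨
        ∃ Z K : Subgroup G, Z.Normal ∧ K.Normal ∧ Z ⊓ K = ⊥ ∧ Z ⊔ K = ⊤ ∧ Nat.card Z = p ∧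
          Cfsg.IsMinimalNonNilpotent K ∧ ¬ p ∣ Nat.card K) := by
  haveI := Fact.mk hp
  constructor
  · intro h
    by_cases hnil : Group.IsNilpotent G
    · exact Or.inl hnil
    by_cases hmin : Cfsg.IsMinimalNonNilpotent G
    · exact Or.inr (Or.inl hmin)
    right; right
    obtain ⟨M₀, hM₀, hM₀nil⟩ : ∃ M₀ : Subgroup G, M₀ ≠ ⊤ ∧ ¬ Group.IsNilpotent M₀ := by
      by_contra hc
      push Not at hc
      exact hmin ⟨hnil, hc⟩
    obtain ⟨M, hM, hM0M⟩ := (eq_top_or_exists_le_coatom M₀).resolve_left hM₀
    have hMnil : ¬ Group.IsNilpotent M := fun _ => hM₀nil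
      (isNilpotent_of_injective (Subgroup.inclusion hM0M) (Subgroup.inclusion_injective hM0M))
    have hpM : ¬ p ∣ Nat.card M := fun hd => hMnil (h M hM hd)
    haveI := isSolvable_of_maximal_nilpotent hpG h
    haveI : Nontrivial G := by
      by_contra hc
      rw [not_nontrivial_iff_subsingleton] at hc
      exact hnil inferInstance
    obtain ⟨T, hTn, -, hTi⟩ := CfsgLib.Solvable.exists_normal_prime_index (G := G)
    obtain ⟨P⟩ : Nonempty (Sylow p G) := inferInstance
    have hP1 : (P : Subgroup G) ≠ ⊥ := P.ne_bot_of_dvd_card hpG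
    have hPd : ∀ S : Subgroup G, IsPGroup p S → (Nat.card S).Coprime (Nat.card M) := fun S hS => by
      obtain ⟨k, hk⟩ := IsPGroup.iff_card.1 hS
      rw [hk]; exact ((hp.coprime_iff_not_dvd).2 hpM).pow_left k
    have hMr : ∀ r : ℕ, r.Prime → ¬ IsPGroup r M := fun r hr hM' => by
      haveI := Fact.mk hr
      exact hMnil hM'.isNilpotent
    have hTtop : T ≠ ⊤ := fun e => Nat.not_prime_one (by rw [e, index_top] at hTi; exact hTi)
    have hPn : (P : Subgroup G).Normal := by
      by_cases hpT : p ∣ Nat.card T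
      · haveI := isNilpotent_of_ne_top_of_dvd h hTtop hpT
        obtain ⟨S⟩ : Nonempty (Sylow p T) := inferInstance
        haveI : (S : Subgroup T).Characteristic := S.characteristic_of_normal inferInstance
        let S' := (S : Subgroup T).map T.subtype
        haveI hS'n : S'.Normal := inferInstance
        have hS'1 : S' ≠ ⊥ := fun e => S.ne_bot_of_dvd_card hpT ((map_eq_bot_iff_of_injective _ T.subtype_injective).1 e)
        have hS'M : S' ⊔ M = ⊤ := by
          refine hM.2 _ (lt_of_le_of_ne le_sup_right fun e => hS'1 ?_)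
          have hle : S' ≤ M := e.symm ▸ le_sup_left
          rw [eq_bot_iff, ← inf_eq_bot_of_coprime (hPd S' (S.2.map _))]
          exact le_inf le_rfl hle
        obtain ⟨g, hgP⟩ := (S.2.map T.subtype).exists_le_sylow
        haveI : S'.Normal := hS'n
        have hcomp : S'.IsComplement' M := isComplement'_of_disjoint_and_mul_eq_univ
          (disjoint_iff.2 (inf_eq_bot_of_coprime (hPd S' (S.2.map _)))) (by rw [← normal_mul, hS'M, coe_top])
        have hcard := hcomp.card_mul
        have hnd : ¬ p ∣ S'.index := by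
          rw [hcomp.symm.index_eq_card]; exact hpM
        let S'' : Sylow p G := (S.2.map T.subtype).toSylow hnd
        have : S'' = P := by
          obtain ⟨x, hx⟩ := MulAction.exists_smul_eq G S'' P
          rw [← hx, Sylow.smul_eq_of_normal (h := hS'n)]
        rw [← this]; exact hS'n
      · have hMT : M ≤ T := by
          intro x hx
          have h1 : orderOf (QuotientGroup.mk' T x) ∣ Nat.card M := (orderOf_map_dvd _ x).trans (by
            rw [← Subgroup.orderOf_mk x hx]; exact orderOf_dvd_natCard _)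
          have h2 : orderOf (QuotientGroup.mk' T x) ∣ T.index := orderOf_dvd_natCard _
          have hTp : T.index = p := by
            have := hpG
            rw [← T.card_mul_index] at this
            exact ((Nat.prime_dvd_prime_iff_eq hp hTi).1 ((hp.dvd_mul.1 this).resolve_left hpT)).symm
          rw [hTp] at h2
          exact (QuotientGroup.eq_one_iff x).1 (orderOf_eq_one_iff.1
            (Nat.eq_one_of_dvd_coprimes ((hp.coprime_iff_not_dvd).2 hpM).symm h1 h2))
        have hMn : M.Normal := by
          rcases hMT.lt_or_eq with hlt | heq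
          · exact absurd (hM.2 T hlt) hTtop
          · exact heq ▸ hTn
        have hc := le_centralizer_of_nilpotent_supplements h P P.2 hP1 M hMn hpM hMr
        have hnorm : normalizer ((P : Subgroup G) : Set G) = ⊤ := by
          refine hM.2 _ (lt_of_le_of_ne (hc.trans (centralizer_le_normalizer _)) fun e => hP1 ?_)
          rw [eq_bot_iff, ← inf_eq_bot_of_coprime (hPd P P.2)]
          exact le_inf le_rfl (e ▸ le_normalizer)
        exact normalizer_eq_top_iff.1 hnorm
    haveI := hPn
    have hPM : (P : Subgroup G) ⊔ M = ⊤ := hM.2 _ (lt_of_le_of_ne le_sup_right fun e => hP1 (by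
      rw [eq_bot_iff, ← inf_eq_bot_of_coprime (hPd P P.2)]
      exact le_inf le_rfl (e.symm ▸ le_sup_left)))
    have hPinf : (P : Subgroup G) ⊓ M = ⊥ := inf_eq_bot_of_coprime (hPd P P.2)
    -- `M` centralises `P`
    have hMc : M ≤ centralizer ((P : Subgroup G) : Set G) := by
      have key : (centralizer ((P : Subgroup G) : Set G)).subgroupOf M = ⊤ := by
        refine CfsgLib.MinNonNilp.eq_top_of_forall_sylow fun r _ hr => ?_
        obtain ⟨R⟩ : Nonempty (Sylow r M) := inferInstance
        refine ⟨R, fun x hx => ?_⟩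
        let R' := (R : Subgroup M).map M.subtype
        have hR'p : IsPGroup r R' := R.2.map _
        have hne : (P : Subgroup G) ⊔ R' ≠ ⊤ := fun e => by
          refine hMr r Fact.out (hR'p.of_equiv ?_)
          refine MulEquiv.subgroupCongr (le_antisymm (map_subtype_le _) fun m hm => ?_)
          have h1 : m ∈ ((P : Subgroup G) : Set G) * (R' : Set G) := by
            rw [← normal_mul, e]; trivial
          obtain ⟨a, ha, b, hb, rfl⟩ := Set.mem_mul.1 h1
          have haM : a ∈ (P : Subgroup G) ⊓ M := ⟨ha, by simpa using M.mul_mem hm (M.inv_mem (map_subtype_le _ hb))⟩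
          rw [hPinf, mem_bot] at haM
          rw [haM, one_mul]; exact hb
        have hd : p ∣ Nat.card ((P : Subgroup G) ⊔ R' : Subgroup G) := by
          obtain ⟨k, hk⟩ := IsPGroup.iff_card.1 P.2
          have hk0 : k ≠ 0 := fun e => hP1 (Subgroup.card_eq_one.1 (by rw [hk, e, pow_zero]))
          exact (dvd_pow_self p hk0).trans (hk.symm.dvd.trans (card_dvd_of_le le_sup_left))
        exact CfsgLib.MinNonNilp.commute_of_le_nilpotent (isNilpotent_of_ne_top_of_dvd h hne hd)
          (fun e : r = p => hpM (e ▸ hr)) hR'p P.2 le_sup_right le_sup_left (mem_map_of_mem _ hx)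
      exact subgroupOf_eq_top.1 key
    have hMn : M.Normal := by
      refine normalizer_eq_top_iff.1 (top_le_iff.1 (hPM ▸ sup_le (fun y hy => ?_) le_normalizer))
      exact centralizer_le_normalizer _ (mem_centralizer_iff.2 fun m hm => (mem_centralizer_iff.1 (hMc hm) y hy).symm)
    -- subgroups of `P` are centralised by `M`
    have hext : ∀ S : Subgroup G, S ≤ (P : Subgroup G) → S ≠ ⊥ → S = (P : Subgroup G) := fun S hS hS1 => by
      refine le_antisymm hS fun x hx => ?_
      have hSM : S ⊔ M = ⊤ := hM.2 _ (lt_of_le_of_ne le_sup_right fun e => hS1 (by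
        rw [eq_bot_iff, ← hPinf]; exact le_inf hS (e.symm ▸ le_sup_left)))
      haveI := hMn
      have h1 : x ∈ (S : Set G) * (M : Set G) := by rw [← mul_normal, hSM]; trivial
      obtain ⟨a, ha, b, hb, rfl⟩ := Set.mem_mul.1 h1
      have hbP : b ∈ (P : Subgroup G) ⊓ M := by
        refine ⟨?_, hb⟩
        show b ∈ (P : Subgroup G)
        have h2 := (P : Subgroup G).mul_mem ((P : Subgroup G).inv_mem (hS ha)) hx
        rwa [inv_mul_cancel_left] at h2
      rw [hPinf, mem_bot] at hbP
      rw [hbP, mul_one]; exact ha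
    obtain ⟨z, hz⟩ := exists_prime_orderOf_dvd_card' p (show p ∣ Nat.card (P : Subgroup G) by
      obtain ⟨k, hk⟩ := IsPGroup.iff_card.1 P.2
      have hk0 : k ≠ 0 := fun e => hP1 (Subgroup.card_eq_one.1 (by rw [hk, e, pow_zero]))
      exact hk ▸ dvd_pow_self p hk0)
    have hPcard : Nat.card (P : Subgroup G) = p := by
      rw [← hext (zpowers (z : G)) (zpowers_le.2 z.2) (by
        rw [Ne, zpowers_eq_bot]
        intro e
        rw [show z = 1 from Subtype.ext e, orderOf_one] at hz
        exact hp.ne_one hz.symm), Nat.card_zpowers, Subgroup.orderOf_coe, hz]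
    refine ⟨P, M, hPn, hMn, hPinf, hPM, hPcard, ⟨hMnil, fun L hL => ?_⟩, hpM⟩
    let L' := L.map M.subtype
    have hne : (P : Subgroup G) ⊔ L' ≠ ⊤ := fun e => hL (eq_top_iff.2 fun x _ => by
      have h1 : (x : G) ∈ ((P : Subgroup G) : Set G) * (L' : Set G) := by rw [← normal_mul, e]; trivial
      obtain ⟨a, ha, b, hb, hab⟩ := Set.mem_mul.1 h1
      obtain ⟨l, hl, rfl⟩ := hb
      have haM : a ∈ (P : Subgroup G) ⊓ M := ⟨ha, by
        have := M.mul_mem (show a * (l : G) ∈ M by rw [show a * (l : G) = x from hab]; exact x.2) (M.inv_mem l.2)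
        simpa using this⟩
      rw [hPinf, mem_bot] at haM
      rw [haM, one_mul] at hab
      exact (Subtype.ext hab : l = x) ▸ hl)
    haveI := isNilpotent_of_ne_top_of_dvd h hne ((hPcard.symm.dvd : p ∣ Nat.card (P : Subgroup G)).trans (card_dvd_of_le le_sup_left))
    exact isNilpotent_of_injective ((Subgroup.inclusion (le_sup_right : L' ≤ (P : Subgroup G) ⊔ L')).comp (L.equivMapOfInjective _ M.subtype_injective).toMonoidHom)
      ((Subgroup.inclusion_injective (le_sup_right : L' ≤ (P : Subgroup G) ⊔ L')).comp (L.equivMapOfInjective _ M.subtype_injective).injective)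
  · rintro (hG | hG | ⟨Z, K, hZn, hKn, hinf, hsup, hZ, hK, hpK⟩) M hM hd
    · exact inferInstance
    · exact hG.2 M hM.1
    haveI := hZn
    haveI := hKn
    obtain ⟨x, hx⟩ := exists_prime_orderOf_dvd_card' p hd
    have hcopZ : ∀ y : G, orderOf y = p → y ∈ Z := fun y hy => by
      have h1 : y ∈ (Z : Set G) * (K : Set G) := by rw [← normal_mul, hsup]; trivial
      obtain ⟨a, ha, b, hb, rfl⟩ := Set.mem_mul.1 h1
      have hc : Commute a b := commute_of_normal_of_disjoint Z K hZn hKn (disjoint_iff.2 hinf) a b ha hb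
      have h2 : (a * b) ^ p = 1 := by rw [← hy]; exact pow_orderOf_eq_one _
      have ha' : a ^ p = 1 := orderOf_dvd_iff_pow_eq_one.1 (by
        rw [← hZ, ← Subgroup.orderOf_mk a ha]; exact orderOf_dvd_natCard _)
      rw [hc.mul_pow, ha', one_mul] at h2
      have h3 : orderOf b ∣ Nat.card K := by rw [← Subgroup.orderOf_mk b hb]; exact orderOf_dvd_natCard _
      have h4 : b = 1 := orderOf_eq_one_iff.1 (Nat.eq_one_of_dvd_coprimes
        ((hp.coprime_iff_not_dvd).2 hpK) (orderOf_dvd_of_pow_eq_one h2) h3)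
      rw [h4, mul_one]; exact ha
    have hxZ : (x : G) ∈ Z := hcopZ _ (by rw [Subgroup.orderOf_coe, hx])
    have hZM : Z ≤ M := by
      have he : zpowers (x : G) = Z := eq_of_le_of_card_ge (zpowers_le.2 hxZ)
        (by rw [Nat.card_zpowers, Subgroup.orderOf_coe, hx, hZ])
      exact he ▸ zpowers_le.2 x.2
    have hKM : M ⊓ K ≠ K := fun e => hM.1 (top_unique (hsup ▸ sup_le hZM (inf_eq_right.1 e)))
    haveI hMK : Group.IsNilpotent (M ⊓ K : Subgroup G) := by
      haveI := hK.2 ((M ⊓ K).subgroupOf K) (fun e => hKM (le_antisymm inf_le_right (subgroupOf_eq_top.1 e)))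
      exact isNilpotent_of_injective (subgroupOfEquivOfLe (inf_le_right : M ⊓ K ≤ K)).symm.toMonoidHom (MulEquiv.injective _)
    haveI : IsCyclic Z := isCyclic_of_prime_card hZ
    letI : CommGroup Z := IsCyclic.commGroup
    let f : Z × (M ⊓ K : Subgroup G) →* M :=
      { toFun := fun a => ⟨(a.1 : G) * (a.2 : G), M.mul_mem (hZM a.1.2) a.2.2.1⟩
        map_one' := Subtype.ext (by simp)
        map_mul' := fun a b => Subtype.ext (by
          simp only [Prod.fst_mul, Prod.snd_mul, Subgroup.coe_mul]
          have hc : Commute (b.1 : G) (a.2 : G) :=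
            commute_of_normal_of_disjoint Z K hZn hKn (disjoint_iff.2 hinf) _ _ b.1.2 a.2.2.2
          rw [mul_assoc, ← mul_assoc (b.1 : G), hc.eq, mul_assoc, ← mul_assoc]) }
    refine Group.nilpotent_of_surjective f fun m => ?_
    have h1 : (m : G) ∈ (Z : Set G) * (K : Set G) := by rw [← normal_mul, hsup]; trivial
    obtain ⟨a, ha, b, hb, hab⟩ := Set.mem_mul.1 h1
    have hbM : b ∈ M := by
      have := M.mul_mem (M.inv_mem (hZM ha)) m.2
      rw [← hab] at this; simpa using this
    exact ⟨(⟨a, ha⟩, ⟨b, hbM, hb⟩), Subtype.ext hab⟩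

end CfsgLib.FGStruct
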