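import Cfsg.Agent.Lib.Solvable.CoprimeMulAction
import Cfsg.Agent.Lib.PGroup.Basic
import Mathlib
import Cfsg.Prelude

/-!
Automorphisms of metacyclic p-groups of order prime to `p ^ 2 - 1`.
-/

set_option autoImplicit false

namespace CfsgLib.FGStruct.MetacyclicAut

variable {Q : Type*} [Group Q]

theorem isMetacyclic_of_injective {S : Type*} [Group S] (f : Q →* S) (hf : Function.Injective f)
    (h : Cfsg.IsMetacyclic S) : Cfsg.IsMetacyclic Q := by
  obtain ⟨N, hN, hc, hq⟩ := h
  refine ⟨N.comap f, Subgroup.Normal.comap hN f, ?_, ?_⟩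
  · let g : (N.comap f) →* N := (f.comp (N.comap f).subtype).codRestrict N fun x => x.2
    exact isCyclic_of_injective g fun x y hxy => Subtype.ext (hf (congrArg Subtype.val hxy))
  · haveI := Subgroup.Normal.comap hN f
    let g : Q ⧸ N.comap f →* S ⧸ N := QuotientGroup.map _ _ f le_rfl
    refine isCyclic_of_injective g ?_
    rw [injective_iff_map_eq_one]
    intro x hx
    obtain ⟨x, rfl⟩ := QuotientGroup.mk_surjective x
    exact (QuotientGroup.eq_one_iff x).2 ((QuotientGroup.eq_one_iff (f x)).1 hx)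

/-- The Frattini quotient of a metacyclic p-group has order dividing `p ^ 2`. -/
theorem index_frattini_le [Finite Q] {p : ℕ} [hp : Fact p.Prime] (hQ : IsPGroup p Q)
    (h : Cfsg.IsMetacyclic Q) : (frattini Q).index ≤ p ^ 2 := by
  obtain ⟨N, hN, hc, hq⟩ := h
  obtain ⟨a, ha⟩ := isCyclic_iff_exists_zpowers_eq_top.1 hc
  obtain ⟨b', hb'⟩ := isCyclic_iff_exists_zpowers_eq_top.1 hq
  obtain ⟨b, rfl⟩ := QuotientGroup.mk_surjective b'
  let F : Fin p × Fin p → Q ⧸ frattini Q := fun x =>
    (QuotientGroup.mk a.1) ^ (x.1 : ℕ) * (QuotientGroup.mk b) ^ (x.2 : ℕ)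
  have hred : ∀ (w : Q) (i : ℤ), ∃ j : Fin p,
      ((QuotientGroup.mk w : Q ⧸ frattini Q)) ^ i = (QuotientGroup.mk w) ^ (j : ℕ) := by
    intro w i
    have hp0 : (0 : ℤ) < p := by exact_mod_cast hp.out.pos
    have h1 := Int.emod_nonneg i hp0.ne'
    have h2 := Int.emod_lt_of_pos i hp0
    refine ⟨⟨(i % p).toNat, by omega⟩, ?_⟩
    have hpow : (QuotientGroup.mk w : Q ⧸ frattini Q) ^ p = 1 := by
      rw [← QuotientGroup.mk_pow, QuotientGroup.eq_one_iff]
      exact CfsgLib.PGroup.pow_mem_frattini hQ w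
    rw [← zpow_natCast (QuotientGroup.mk w) ((i % p).toNat), zpow_eq_zpow_emod' i hpow]
    congr 1
    exact (Int.toNat_of_nonneg h1).symm
  have hF : Function.Surjective F := by
    intro v
    obtain ⟨v, rfl⟩ := QuotientGroup.mk_surjective v
    obtain ⟨j, hj⟩ := Subgroup.mem_zpowers_iff.1
      (show (QuotientGroup.mk v : Q ⧸ N) ∈ Subgroup.zpowers (QuotientGroup.mk b) by
        rw [hb']; exact Subgroup.mem_top _)
    rw [← QuotientGroup.mk_zpow, QuotientGroup.eq] at hj
    obtain ⟨i, hi⟩ := Subgroup.mem_zpowers_iff.1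
      (show (⟨v * b ^ (-j), by
        have h1 := hN.conj_mem _ hj (b ^ j)
        simpa [mul_assoc] using h1⟩ : N) ∈ Subgroup.zpowers a by rw [ha]; exact Subgroup.mem_top _)
    have hv : v = a.1 ^ i * b ^ j := by
      have h1 : a.1 ^ i = v * b ^ (-j) := congrArg Subtype.val hi
      rw [h1, mul_assoc, ← zpow_add]; simp
    obtain ⟨i', hi'⟩ := hred a.1 i
    obtain ⟨j', hj'⟩ := hred b j
    exact ⟨(i', j'), by rw [hv, QuotientGroup.mk_mul, QuotientGroup.mk_zpow, QuotientGroup.mk_zpow, hi', hj']⟩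
  calc (frattini Q).index = Nat.card (Q ⧸ frattini Q) := rfl
    _ ≤ Nat.card (Fin p × Fin p) := Nat.card_le_card_of_surjective F hF
    _ = p ^ 2 := by simp [pow_two]

/-- An `r`-group of automorphisms of a metacyclic p-group is trivial when `r` is prime to `p (p ^ 2 - 1)`. -/
theorem smul_eq_self {A : Type*} [Group A] [Finite A] [Finite Q] [MulDistribMulAction A Q] {p r : ℕ}
    [hp : Fact p.Prime] [hr : Fact r.Prime] (hA : IsPGroup r A) (hQ : IsPGroup p Q) (hrp : r ≠ p)
    (hr2 : ¬ r ∣ p ^ 2 - 1) (hm : Cfsg.IsMetacyclic Q) (a : A) (q : Q) : a • q = q := by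
  classical
  have hcop : (Nat.card A).Coprime (Nat.card (frattini Q)) := by
    obtain ⟨i, hi⟩ := IsPGroup.iff_card.1 hA
    obtain ⟨j, hj⟩ := IsPGroup.iff_card.1 (hQ.to_subgroup (frattini Q))
    rw [hi, hj]
    exact Nat.Coprime.pow i j ((Nat.coprime_primes hr.out hp.out).2 hrp)
  refine CfsgLib.Solvable.smul_eq_self_of_trivial_on_frattini_quotient hcop (fun a q => ?_) a q
  have hΦ : ∀ a : A, frattini Q ≤ (frattini Q).comap (MulDistribMulAction.toMonoidHom Q a) := by
    intro a x hx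
    have h1 := Subgroup.characteristic_iff_map_le.1 (inferInstance : (frattini Q).Characteristic)
      (MulDistribMulAction.toMulEquiv Q a)
    exact h1 (Subgroup.mem_map_of_mem _ hx)
  let φ : A → (Q ⧸ frattini Q →* Q ⧸ frattini Q) := fun a =>
    QuotientGroup.map _ _ (MulDistribMulAction.toMonoidHom Q a) (hΦ a)
  letI : MulAction A (Q ⧸ frattini Q) :=
    { smul := fun a x => φ a x
      one_smul := fun x => QuotientGroup.induction_on x fun q => congrArg QuotientGroup.mk (one_smul A q)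
      mul_smul := fun a b x => QuotientGroup.induction_on x fun q => congrArg QuotientGroup.mk (mul_smul a b q) }
  let Fx : Subgroup (Q ⧸ frattini Q) :=
    { carrier := MulAction.fixedPoints A (Q ⧸ frattini Q)
      one_mem' := fun a => map_one (φ a)
      mul_mem' := fun {x y} hx hy a => by
        show φ a (x * y) = x * y
        rw [map_mul]; exact congrArg₂ (· * ·) (hx a) (hy a)
      inv_mem' := fun {x} hx a => by
        show φ a x⁻¹ = x⁻¹
        rw [map_inv]; exact congrArg (·⁻¹) (hx a) }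
  obtain ⟨d, hd⟩ := IsPGroup.iff_card.1 (hQ.to_quotient (frattini Q))
  have hd2 : d ≤ 2 := by
    have h1 := index_frattini_le hQ hm
    rw [Subgroup.index, hd] at h1
    exact (Nat.pow_le_pow_iff_right hp.out.one_lt).1 h1
  obtain ⟨f, hfd, hf⟩ := (Nat.dvd_prime_pow hp.out).1 (hd ▸ Subgroup.card_subgroup_dvd_card Fx)
  have hmod := hA.card_modEq_card_fixedPoints (Q ⧸ frattini Q)
  rw [hd, show Nat.card (MulAction.fixedPoints A (Q ⧸ frattini Q)) = p ^ f from hf] at hmod
  have hfd' : f = d := by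
    by_contra hne
    have h1 : r ∣ p ^ d - p ^ f := (Nat.modEq_iff_dvd' (Nat.pow_le_pow_right hp.out.pos hfd)).1 hmod.symm
    rw [show d = f + (d - f) by omega, pow_add, ← Nat.mul_sub_one] at h1
    rcases hr.out.dvd_mul.1 h1 with h | h
    · exact hrp ((Nat.prime_dvd_prime_iff_eq hr.out hp.out).1 (hr.out.dvd_of_dvd_pow h))
    · apply hr2
      rcases (show d - f = 1 ∨ d - f = 2 by omega) with e | e <;> rw [e] at h
      · refine h.trans ?_
        simpa using Nat.sub_dvd_pow_sub_pow (x := p) (y := 1) (n := 2)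
      · exact h
  have htop : Fx = ⊤ := Subgroup.eq_top_of_card_eq _ (by rw [hf, hfd', hd])
  have hfix : φ a (QuotientGroup.mk q) = QuotientGroup.mk q :=
    (show QuotientGroup.mk q ∈ Fx from htop ▸ Subgroup.mem_top _) a
  exact QuotientGroup.eq.1 hfix.symm

end CfsgLib.FGStruct.MetacyclicAut
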