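import Mathlib
import Cfsg.Prelude
import Cfsg.Agent.Lib.MinimalNonNilpotent.Basic
import Cfsg.Agent.Lib.PGroup.Basic
import Cfsg.Agent.Lib.Solvable.CoprimeAction
import Cfsg.Agent.Lib.FGStruct.NoAbelianEight

/-!
The normal Sylow subgroup of a minimal non-nilpotent group: class at most two, semi-extraspecial, and
the two small exceptions of order `p ^ 3`.
-/

set_option autoImplicit false

open scoped commutatorElement

namespace CfsgLib.FGStruct.MinNonNilpSylow

/-- `C_Y(K)` lies in the derived subgroup when `Y = [Y, K]` and the action is coprime. -/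
theorem fixed_le_commutator {G : Type*} [Group G] [Finite G] {Y K : Subgroup G}
    (hKY : K ≤ Subgroup.normalizer (Y : Set G)) (hcop : (Nat.card K).Coprime (Nat.card Y))
    (hcom : ⁅Y, K⁆ = Y) (c : Y) (hc : (c : G) ∈ Subgroup.centralizer (K : Set G)) : c ∈ commutator Y := by
  classical
  haveI := Fintype.ofFinite K
  let cj : K → (Y →* Y) := fun k =>
    ((MulAut.conj (k : G)).toMonoidHom.comp Y.subtype).codRestrict Y fun x =>
      CfsgLib.FGStruct.NoAbelianEight.conj_mem hKY k.2 x.2
  let f : Y →* Abelianization Y := ∏ k : K, Abelianization.of.comp (cj k)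
  have happ : ∀ x, f x = ∏ k : K, Abelianization.of (cj k x) := fun x => by
    simp [f, MonoidHom.finsetProd_apply]
  have hinv : ∀ (m : K) x, f (cj m x) = f x := by
    intro m x
    rw [happ, happ]
    refine Fintype.prod_equiv (Equiv.mulRight m) _ _ fun k => ?_
    congr 1
    refine Subtype.ext ?_
    show (k : G) * ((m : G) * (x : G) * (m : G)⁻¹) * (k : G)⁻¹ = ((k * m : K) : G) * x * ((k * m : K) : G)⁻¹
    rw [Subgroup.coe_mul]; group
  have hker : ∀ (w : G), w ∈ ⁅Y, K⁆ → ∀ h : w ∈ Y, f ⟨w, h⟩ = 1 := by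
    intro w hw
    rw [Subgroup.commutator_def] at hw
    induction hw using Subgroup.closure_induction with
    | mem w hw =>
      obtain ⟨x, hx, m, hm, rfl⟩ := hw
      intro h
      have e : (⟨⁅x, m⁆, h⟩ : Y) = ⟨x, hx⟩ * cj ⟨m, hm⟩ ⟨x, hx⟩⁻¹ := Subtype.ext (by
        show ⁅x, m⁆ = x * (m * x⁻¹ * m⁻¹)
        rw [commutatorElement_def]; group)
      rw [e, map_mul, hinv, map_inv, mul_inv_cancel]
    | one => intro h; exact map_one f
    | mul a b ha hb iha ihb =>
      intro h
      rw [← Subgroup.commutator_def, hcom] at ha hb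
      have e : (⟨a * b, h⟩ : Y) = ⟨a, ha⟩ * ⟨b, hb⟩ := rfl
      rw [e, map_mul, iha, ihb, one_mul]
    | inv a ha iha =>
      intro h
      rw [← Subgroup.commutator_def, hcom] at ha
      have e : (⟨a⁻¹, h⟩ : Y) = (⟨a, ha⟩)⁻¹ := rfl
      rw [e, map_inv, iha, inv_one]
  have h1 := hker c.1 (hcom.symm ▸ c.2) c.2
  rw [happ] at h1
  have hfix : ∀ k : K, cj k c = c := fun k => Subtype.ext (by
    show (k : G) * c * (k : G)⁻¹ = c
    rw [Subgroup.mem_centralizer_iff.1 hc k k.2, mul_inv_cancel_right])
  simp only [hfix, Finset.prod_const, Finset.card_univ] at h1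
  rw [← Nat.card_eq_fintype_card] at h1
  have h2 : orderOf (Abelianization.of c) = 1 := Nat.eq_one_of_dvd_coprimes hcop
    (orderOf_dvd_of_pow_eq_one h1) ((orderOf_map_dvd _ c).trans (orderOf_dvd_natCard c))
  rw [orderOf_eq_one_iff] at h2
  rw [← Abelianization.ker_of]
  exact h2

variable {X : Type*} [Group X] [Finite X] {p : ℕ} [hp : Fact p.Prime]

/-- The acting cyclic `q`-group. -/
theorem exists_actor (hX : Cfsg.IsMinimalNonNilpotent X) (P : Sylow p X) (hPn : (P : Subgroup X).Normal)
    (hP1 : (P : Subgroup X) ≠ ⊥) :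
    ∃ (q : ℕ) (x : X), q.Prime ∧ q ≠ p ∧ (∃ b, orderOf x = q ^ b) ∧
      (P : Subgroup X) ⊔ Subgroup.zpowers x = ⊤ ∧ x ∉ Subgroup.centralizer ((P : Subgroup X) : Set X) := by
  classical
  obtain ⟨q, p₀, hq, hp₀, hqp, Q, P₀, hQc, hP₀, hsup⟩ := CfsgLib.MinNonNilp.structure_theorem hX
  haveI := Fact.mk hq
  haveI := Fact.mk hp₀
  haveI := hP₀
  have hcard : Nat.card X = Nat.card (P₀ : Subgroup X) * Nat.card (Q : Subgroup X) := by
    rw [← CfsgLib.Solvable.card_sup_of_disjoint
      (by rw [Subgroup.normalizer_eq_top (P₀ : Subgroup X)]; exact le_top)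
      (IsPGroup.disjoint_of_ne _ _ hqp.symm _ _ P₀.isPGroup' Q.isPGroup'), sup_comm, hsup,
      Subgroup.card_top]
  obtain ⟨g, hg⟩ := isCyclic_iff_exists_zpowers_eq_top.1 hQc
  have hz : Subgroup.zpowers (g : X) = (Q : Subgroup X) := by
    rw [show (g : X) = (Q : Subgroup X).subtype g from rfl, ← MonoidHom.map_zpowers, hg,
      ← MonoidHom.range_eq_map, Subgroup.range_subtype]
  -- `Q` is not normal
  have hQn : ¬ (Q : Subgroup X).Normal := by
    intro hQn
    refine hX.1 ?_
    have e := (Group.isNilpotent_of_finite_tfae (G := X)).out 0 3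
    rw [e]
    intro r hr R
    by_cases hrd : r ∣ Nat.card X
    · obtain ⟨i, hi⟩ := P₀.isPGroup'.exists_card_eq
      obtain ⟨j, hj⟩ := Q.isPGroup'.exists_card_eq
      rw [hcard, hi, hj] at hrd
      rcases hr.out.dvd_mul.1 hrd with h | h
      · obtain rfl := (Nat.prime_dvd_prime_iff_eq hr.out hp₀).1 (hr.out.dvd_of_dvd_pow h)
        rw [← CfsgLib.MinNonNilp.sylow_eq_of_normal P₀ R hP₀]; exact hP₀
      · obtain rfl := (Nat.prime_dvd_prime_iff_eq hr.out hq).1 (hr.out.dvd_of_dvd_pow h)
        rw [← CfsgLib.MinNonNilp.sylow_eq_of_normal Q R hQn]; exact hQn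
    · have : (R : Subgroup X) = ⊥ := by
        apply Subgroup.eq_bot_of_card_eq
        rw [R.card_eq_multiplicity, Nat.factorization_eq_zero_of_not_dvd hrd, pow_zero]
      rw [this]; infer_instance
  obtain rfl : p = p₀ := by
    have hpd : p ∣ Nat.card X := by
      obtain ⟨k, hk⟩ := IsPGroup.iff_card.1 P.isPGroup'
      refine dvd_trans ?_ (Subgroup.card_subgroup_dvd_card (P : Subgroup X))
      rw [hk]
      refine dvd_pow_self p fun h0 => hP1 (Subgroup.card_eq_one.1 ?_)
      rw [hk, h0, pow_zero]
    obtain ⟨i, hi⟩ := P₀.isPGroup'.exists_card_eq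
    obtain ⟨j, hj⟩ := Q.isPGroup'.exists_card_eq
    rw [hcard, hi, hj] at hpd
    rcases hp.out.dvd_mul.1 hpd with h | h
    · exact (Nat.prime_dvd_prime_iff_eq hp.out hp₀).1 (hp.out.dvd_of_dvd_pow h)
    · exfalso
      obtain rfl := (Nat.prime_dvd_prime_iff_eq hp.out hq).1 (hp.out.dvd_of_dvd_pow h)
      exact hQn (CfsgLib.MinNonNilp.sylow_eq_of_normal P Q hPn ▸ hPn)
  obtain rfl : P₀ = P := CfsgLib.MinNonNilp.sylow_eq_of_normal P₀ P hP₀
  refine ⟨q, g, hq, hqp, ?_, by rw [hz, sup_comm, hsup], fun hc => hQn ?_⟩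
  · obtain ⟨b, hb⟩ := IsPGroup.iff_orderOf.1 Q.isPGroup' g
    exact ⟨b, by rw [← hb, Subgroup.orderOf_coe]⟩
  · rw [← Subgroup.normalizer_eq_top_iff, eq_top_iff, ← hsup]
    refine sup_le Subgroup.le_normalizer (le_trans ?_ (Subgroup.centralizer_le_normalizer _))
    rw [← hz, Subgroup.le_centralizer_iff, Subgroup.zpowers_le]
    exact hc

/-- The facts used about `P`. -/
structure Facts (p : ℕ) (P : Type*) [Group P] : Prop where
  comm_le : commutator P ≤ Subgroup.center P
  pow_mem : ∀ v : P, v ^ p ∈ Subgroup.center P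
  semi : ∀ v : P, v ∉ Subgroup.center P → ∀ c ∈ commutator P, ∃ w : P, ⁅v, w⁆ = c
  center_le : ¬ IsMulCommutative P → Subgroup.center P ≤ commutator P
  small : (p = 2 ∨ p = 3) → ¬ IsMulCommutative P → Nat.card P = p ^ 3 → ∀ v : P, v ^ p = 1 → v ∈ Subgroup.center P

theorem facts (hX : Cfsg.IsMinimalNonNilpotent X) (P : Sylow p X) (hPn : (P : Subgroup X).Normal)
    (hP1 : (P : Subgroup X) ≠ ⊥) : IsMulCommutative (P : Subgroup X) ∨ Facts p (P : Subgroup X) := by
  classical
  by_cases hab : IsMulCommutative (P : Subgroup X)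
  · exact Or.inl hab
  right
  haveI := hPn
  obtain ⟨q, x, hq, hqp, ⟨b, hb⟩, hsup, hxc⟩ := exists_actor hX P hPn hP1
  haveI := Fact.mk hq
  set Y := (P : Subgroup X) with hY
  set K := Subgroup.zpowers x with hK
  have hKY : ∀ R : Subgroup X, R.Normal → K ≤ Subgroup.normalizer (R : Set X) := fun R hR => by
    rw [Subgroup.normalizer_eq_top_iff.2 hR]; exact le_top
  have hKc : Nat.card K = q ^ b := by rw [hK, Nat.card_zpowers, hb]
  have hYp : IsPGroup p Y := P.isPGroup'
  have hcop : (Nat.card K).Coprime (Nat.card Y) := by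
    obtain ⟨k, hk⟩ := IsPGroup.iff_card.1 hYp
    rw [hKc, hk]
    exact Nat.Coprime.pow _ _ ((Nat.coprime_primes hq hp.out).2 hqp)
  have hKp : IsPGroup q K := IsPGroup.of_card hKc
  -- proper invariant subgroups are centralized
  have hfix : ∀ R : Subgroup X, R ≤ Y → R ≠ Y → K ≤ Subgroup.normalizer (R : Set X) →
      R ≤ Subgroup.centralizer (K : Set X) := by
    intro R hR hne hKR
    refine CfsgLib.MinNonNilp.commute_of_le_nilpotent (hX.2 (R ⊔ K) fun htop => hne ?_) hqp.symm
      (hYp.to_le hR) hKp le_sup_left le_sup_right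
    have h1 := CfsgLib.Solvable.card_sup_of_disjoint (N := R) hKR
      (IsPGroup.disjoint_of_ne _ _ hqp.symm _ _ (hYp.to_le hR) hKp)
    have h2 := CfsgLib.Solvable.card_sup_of_disjoint (N := Y) (hKY Y hPn)
      (IsPGroup.disjoint_of_ne _ _ hqp.symm _ _ hYp hKp)
    rw [htop] at h1
    rw [hsup, h1] at h2
    exact Subgroup.eq_of_le_of_card_ge hR (Nat.eq_of_mul_eq_mul_right Nat.card_pos h2).ge
  haveI : Group.IsNilpotent Y := hYp.isNilpotent
  have hsolv : Group.IsSolvable Y := inferInstance
  have hcom : ⁅Y, K⁆ = Y := by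
    by_contra hne
    have hle : ⁅Y, K⁆ ≤ Y := by
      rw [Subgroup.commutator_le]
      intro y hy k hk
      rw [commutatorElement_def, show y * k * y⁻¹ * k⁻¹ = y * (k * y⁻¹ * k⁻¹) by group]
      exact mul_mem hy (hPn.conj_mem _ (inv_mem hy) k)
    have h1 := hfix _ hle hne (CfsgLib.Solvable.le_normalizer_commutator_right Y K)
    rw [← Subgroup.commutator_eq_bot_iff_le_centralizer,
      CfsgLib.Solvable.commutator_commutator_eq (hKY Y hPn) hcop (Or.inr hsolv),
      Subgroup.commutator_eq_bot_iff_le_centralizer] at h1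
    exact hxc (Subgroup.le_centralizer_iff.1 h1 (Subgroup.mem_zpowers x))
  have hchar : ∀ C : Subgroup Y, C.Characteristic → C ≠ ⊤ →
      (C.map Y.subtype) ≤ Subgroup.centralizer (K : Set X) := by
    intro C hC hne
    haveI := hC
    refine hfix _ (Subgroup.map_subtype_le C) (fun h => hne ?_) ?_
    · exact CfsgLib.FGStruct.NoAbelianEight.map_subtype_eq_self C h
    · exact CfsgLib.FGStruct.NoAbelianEight.char_inv (hKY Y hPn) C
  haveI : Nontrivial Y := by
    by_contra h
    rw [not_nontrivial_iff_subsingleton] at h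
    exact hab ⟨⟨fun a b => Subsingleton.elim _ _⟩⟩
  have hFK := hchar (frattini Y) inferInstance CfsgLib.PGroup.frattini_ne_top
  -- three subgroups: the Frattini subgroup is central
  have hFc : frattini Y ≤ Subgroup.center Y := by
    set F := (frattini Y).map Y.subtype
    refine CfsgLib.FGStruct.NoAbelianEight.centralizer_map_le _ ?_
    have hKF : K ≤ Subgroup.centralizer (F : Set X) := Subgroup.le_centralizer_iff.1 hFK
    have h1 : ⁅⁅K, F⁆, Y⁆ = ⊥ := by
      rw [Subgroup.commutator_eq_bot_iff_le_centralizer.2 hKF, Subgroup.commutator_bot_left]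
    have hYF : Y ≤ Subgroup.normalizer (F : Set X) :=
      CfsgLib.FGStruct.NoAbelianEight.char_inv Subgroup.le_normalizer _
    have h2 : ⁅⁅F, Y⁆, K⁆ = ⊥ := by
      refine le_bot_iff.1 (le_trans (Subgroup.commutator_mono ?_ le_rfl)
        (Subgroup.commutator_eq_bot_iff_le_centralizer.2 hFK).le)
      rw [Subgroup.commutator_le]
      intro f hf y hy
      rw [commutatorElement_def, show f * y * f⁻¹ * y⁻¹ = f * (y * f⁻¹ * y⁻¹) by group]
      exact mul_mem hf (CfsgLib.FGStruct.NoAbelianEight.conj_mem hYF hy (inv_mem hf))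
    have h3 := Subgroup.commutator_commutator_eq_bot_of_rotate h1 h2
    rw [hcom] at h3
    exact Subgroup.commutator_eq_bot_iff_le_centralizer.1 h3
  have hC : commutator Y ≤ Subgroup.center Y := (CfsgLib.PGroup.commutator_le_frattini hYp).trans hFc
  have hZne : Subgroup.center Y ≠ ⊤ := fun h => hab ⟨⟨fun a b =>
    Subgroup.mem_center_iff.1 (h ▸ Subgroup.mem_top b) a⟩⟩
  have hZC : Subgroup.center Y ≤ commutator Y := fun c hc =>
    fixed_le_commutator (hKY Y hPn) hcop hcom c (hchar _ inferInstance hZne (Subgroup.mem_map_of_mem _ hc))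
  have hcz : ∀ a b : Y, ⁅a, b⁆ ∈ Subgroup.center Y := fun a b => hC (by
    rw [commutator_def]; exact Subgroup.commutator_mem_commutator (Subgroup.mem_top _) (Subgroup.mem_top _))
  refine ⟨hC, fun v => hFc (CfsgLib.PGroup.pow_mem_frattini hYp v), ?_, fun _ => hZC, ?_⟩
  · intro v hv c hc
    let f : Y →* Y :=
      { toFun := fun w => ⁅v, w⁆
        map_one' := commutatorElement_one_right v
        map_mul' := fun w w' => by
          have h := Subgroup.mem_center_iff.1 (hcz v w') w
          calc ⁅v, w * w'⁆ = ⁅v, w⁆ * (w * ⁅v, w'⁆) * w⁻¹ := by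
                simp only [commutatorElement_def]; group
            _ = _ := by rw [h]; group }
    set D := f.range
    have hD : D ≤ Subgroup.center Y := by
      rintro _ ⟨w, rfl⟩
      exact hcz v w
    -- elements all of whose commutators lie in `D`
    let R : Subgroup Y :=
      { carrier := {u | ∀ w, ⁅u, w⁆ ∈ D}
        one_mem' := fun w => by rw [commutatorElement_one_left]; exact one_mem D
        mul_mem' := fun {a a'} ha ha' w => by
          have h := Subgroup.mem_center_iff.1 (hcz a' w) a
          have e : ⁅a * a', w⁆ = a * ⁅a', w⁆ * a⁻¹ * ⁅a, w⁆ := by simp only [commutatorElement_def]; group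
          rw [e, h, mul_inv_cancel_right]
          exact mul_mem (ha' w) (ha w)
        inv_mem' := fun {a} ha w => by
          have h := Subgroup.mem_center_iff.1 (inv_mem (hcz a w)) a⁻¹
          have e : ⁅a⁻¹, w⁆ = a⁻¹ * ⁅a, w⁆⁻¹ * a := by simp only [commutatorElement_def]; group
          rw [e, h, inv_mul_cancel_right]
          exact inv_mem (ha w) }
    have hRtop : R = ⊤ := by
      by_contra hne
      have hKR : K ≤ Subgroup.normalizer ((R.map Y.subtype : Subgroup X) : Set X) := by
        refine CfsgLib.FGStruct.NoAbelianEight.le_normalizer_of_conj fun k hk u hu => ?_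
        obtain ⟨u, hu, rfl⟩ := hu
        refine ⟨⟨k * u * k⁻¹, hPn.conj_mem _ u.2 k⟩, fun w => ?_, rfl⟩
        have hw : (k⁻¹ * (w : X) * k) ∈ Y := by simpa using hPn.conj_mem _ w.2 k⁻¹
        have hd := hu ⟨_, hw⟩
        have hfixd : k * ((⁅u, ⟨_, hw⟩⁆ : Y) : X) * k⁻¹ = ((⁅u, ⟨_, hw⟩⁆ : Y) : X) := by
          have h' := hchar _ inferInstance hZne (Subgroup.mem_map_of_mem Y.subtype (hD hd))
          exact mul_inv_eq_iff_eq_mul.2 (Subgroup.mem_centralizer_iff.1 h' k hk)
        have e : ⁅(⟨k * (u : X) * k⁻¹, hPn.conj_mem _ u.2 k⟩ : Y), w⁆ = ⁅u, ⟨_, hw⟩⁆ := by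
          refine Subtype.ext ?_
          rw [← hfixd]
          simp only [commutatorElement_def, Subgroup.coe_mul, Subgroup.coe_inv]
          group
        rw [e]
        exact hd
      have hRK := hfix _ (Subgroup.map_subtype_le R)
        (fun h => hne (CfsgLib.FGStruct.NoAbelianEight.map_subtype_eq_self R h)) hKR
      refine hv (hC (fixed_le_commutator (hKY Y hPn) hcop hcom v (hRK (Subgroup.mem_map_of_mem _ ?_))))
      exact fun w => ⟨w, rfl⟩
    have hle : commutator Y ≤ D := by
      rw [commutator_def, Subgroup.commutator_le]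
      exact fun a _ w _ => (hRtop.symm ▸ Subgroup.mem_top a : a ∈ R) w
    obtain ⟨w, hw⟩ := hle hc
    exact ⟨w, hw⟩
  · intro hp23 _ h27 v hv
    have hZ1 : Subgroup.center Y ≠ ⊥ := fun h => hab ⟨⟨fun a b =>
      commutatorElement_eq_one_iff_mul_comm.1 (Subgroup.mem_bot.1 (h ▸ hcz a b))⟩⟩
    have hx2 : orderOf x ≠ 1 := fun h => hxc (by
      rw [orderOf_eq_one_iff.1 h]; exact one_mem _)
    have hb0 : b ≠ 0 := fun h => hx2 (by rw [hb, h, pow_zero])
    rcases hp23 with rfl | rfl
    · -- `P` is a quaternion group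
      have hodd : Odd (Nat.card K) := by
        rw [hKc]
        exact (hq.odd_of_ne_two hqp).pow
      have hnt : ¬ K ≤ Subgroup.centralizer (Y : Set X) := fun h => hxc (h (Subgroup.mem_zpowers x))
      have hsmallY : ∀ Z ≤ Y, Z ≠ Y → K ≤ Subgroup.normalizer (Z : Set X) → CfsgLib.FGStruct.NoAbelianEight.NoA Z := by
        intro Z hZ hne _ A hA _ hA8
        refine absurd (le_antisymm hZ ?_) hne
        have := Subgroup.eq_of_le_of_card_ge (hA.trans hZ) (by rw [hA8, h27]; norm_num)
        exact this.ge.trans hA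
      rcases (CfsgLib.FGStruct.NoAbelianEight.classify hodd _ Y rfl hYp (hKY Y hPn) hnt hsmallY).2
        (fun A hA hAc hA8 => absurd (by
          rw [← Subgroup.eq_of_le_of_card_ge hA (by rw [hA8, h27]; norm_num)]; exact hAc) hab) with hV | ⟨z, hQ⟩
      · rw [hV.1] at h27; norm_num at h27
      · rw [Subgroup.mem_center_iff]
        intro w
        refine Subtype.ext ?_
        have hv2 : (v : X) * v = 1 := by
          have := congrArg Subtype.val hv
          simpa [pow_two] using this
        by_cases h1 : (v : X) = 1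
        · simp [h1]
        by_cases h2 : (v : X) = z
        · show (w : X) * v = v * w
          rw [h2]; exact hQ.2.2.2.2.1 w w.2
        · exact absurd ((hQ.2.2.2.2.2 v v.2 h1 h2).symm.trans hv2) hQ.2.2.1
    · exfalso
      by_cases hq2 : q = 2
      · -- an involution inverts
        subst hq2
        have hxx : x * x ∈ Subgroup.centralizer (Y : Set X) := by
          have hK2 : Subgroup.zpowers (x * x) ≤ K := Subgroup.zpowers_le.2
            (mul_mem (Subgroup.mem_zpowers x) (Subgroup.mem_zpowers x))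
          have hne : Y ⊔ Subgroup.zpowers (x * x) ≠ ⊤ := by
            intro htop
            have h1 := CfsgLib.Solvable.card_sup_of_disjoint (N := Y) (H := Subgroup.zpowers (x * x))
              (hK2.trans (hKY Y hPn)) (IsPGroup.disjoint_of_ne _ _ (by norm_num) _ _ hYp (hKp.to_le hK2))
            have h2 := CfsgLib.Solvable.card_sup_of_disjoint (N := Y) (hKY Y hPn)
              (IsPGroup.disjoint_of_ne _ _ (by norm_num) _ _ hYp hKp)
            rw [htop] at h1
            rw [hsup, h1] at h2
            have h3 := Nat.eq_of_mul_eq_mul_left Nat.card_pos h2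
            rw [Nat.card_zpowers, Nat.card_zpowers, ← pow_two, orderOf_pow' x (two_ne_zero), hb,
              Nat.gcd_eq_right (dvd_pow_self 2 hb0)] at h3
            have : 0 < 2 ^ b := pow_pos (by norm_num) b
            omega
          exact Subgroup.le_centralizer_iff.1 (CfsgLib.MinNonNilp.commute_of_le_nilpotent (hX.2 _ hne)
            (by norm_num) hYp (hKp.to_le hK2) le_sup_left le_sup_right) (Subgroup.mem_zpowers _)
        refine hxc (Subgroup.mem_centralizer_iff.2 fun y hy => ?_)
        set s := y * x * y⁻¹ * x⁻¹ with hs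
        have hsY : s ∈ Y := by
          rw [hs, show y * x * y⁻¹ * x⁻¹ = y * (x * y⁻¹ * x⁻¹) by group]
          exact mul_mem hy (hPn.conj_mem _ (inv_mem hy) x)
        have hinvs : x * s * x⁻¹ = s⁻¹ := by
          have h1 : (x * x) * y⁻¹ * (x * x)⁻¹ = y⁻¹ := by
            rw [← Subgroup.mem_centralizer_iff.1 hxx y⁻¹ (inv_mem hy)]; group
          rw [hs, show x * (y * x * y⁻¹ * x⁻¹) * x⁻¹ = (x * y * x⁻¹) * ((x * x) * y⁻¹ * (x * x)⁻¹) by group, h1]
          group
        have hKs : K ≤ Subgroup.normalizer ((Subgroup.zpowers s : Subgroup X) : Set X) := by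
          rw [hK, Subgroup.zpowers_le]
          exact Subgroup.mem_normalizer_iff_map_conj_eq.2 (by
            rw [MonoidHom.map_zpowers]
            show Subgroup.zpowers (x * s * x⁻¹) = _
            rw [hinvs, Subgroup.zpowers_inv])
        have hne : Subgroup.zpowers s ≠ Y := fun h => hab (by rw [← h]; infer_instance)
        have hsx := Subgroup.mem_centralizer_iff.1
          (hfix _ (Subgroup.zpowers_le.2 hsY) hne hKs (Subgroup.mem_zpowers s)) x (Subgroup.mem_zpowers x)
        have hss : s = s⁻¹ := by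
          rw [← hinvs, hsx, mul_inv_cancel_right]
        have hs1 : orderOf s = 1 := by
          obtain ⟨i, hi⟩ := IsPGroup.iff_orderOf.1 hYp ⟨s, hsY⟩
          rw [Subgroup.orderOf_mk] at hi
          exact Nat.eq_one_of_dvd_coprimes ((show Nat.Coprime 3 2 by norm_num).pow_left i) hi.dvd
            (orderOf_dvd_of_pow_eq_one (by rw [pow_two]; nth_rw 2 [hss]; exact mul_inv_cancel s))
        rw [orderOf_eq_one_iff, hs, mul_inv_eq_one, mul_inv_eq_iff_eq_mul] at hs1
        exact hs1
      -- a `q`-element on nine points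
      obtain ⟨m, hm⟩ := IsPGroup.iff_card.1 (hYp.to_subgroup (Subgroup.center Y))
      have hm1 : m = 1 := by
        have hm0 : m ≠ 0 := fun h => hZ1 (Subgroup.card_eq_one.1 (by rw [hm, h, pow_zero]))
        have hidx := (Subgroup.center Y).card_mul_index
        rw [hm, h27] at hidx
        by_contra hne
        -- then the central quotient is cyclic
        have hd : (Subgroup.center Y).index ∣ 3 := by
          obtain ⟨i, -, hi⟩ := (Nat.dvd_prime_pow hp.out).1 (h27 ▸ (Subgroup.center Y).index_dvd_card)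
          rw [hi] at hidx ⊢
          rw [← pow_add] at hidx
          have := Nat.pow_right_injective (le_refl 2 |>.trans (by norm_num : 2 ≤ 3)) hidx
          exact (pow_dvd_pow 3 (show i ≤ 1 by omega)).trans (pow_one 3).dvd
        haveI : IsCyclic (Y ⧸ Subgroup.center Y) := by
          rcases (Nat.dvd_prime hp.out).1 hd with h | h
          · haveI : Subsingleton (Y ⧸ Subgroup.center Y) := (Nat.card_eq_one_iff_unique.1 h).1
            infer_instance
          · exact isCyclic_of_prime_card (p := 3) h
        exact hab (MonoidHom.isMulCommutative_of_isCyclic_of_ker_le_center (QuotientGroup.mk' _)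
          (QuotientGroup.ker_mk' _).le)
      have h9 : Nat.card (Y ⧸ Subgroup.center Y) = 9 := by
        have hidx := (Subgroup.center Y).card_mul_index
        rw [hm, hm1, h27, pow_one] at hidx
        show (Subgroup.center Y).index = 9
        omega
      let c : K → Y ⧸ Subgroup.center Y → Y ⧸ Subgroup.center Y := fun k => QuotientGroup.map _ _
        ((MulAut.conjNormal (k : X) : MulAut Y).toMonoidHom)
        (fun a ha => Subgroup.characteristic_iff_le_comap.1 Subgroup.centerCharacteristic _ ha)
      letI : MulAction K (Y ⧸ Subgroup.center Y) :=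
        { smul := c
          one_smul := fun a => QuotientGroup.induction_on a fun y => congrArg QuotientGroup.mk (Subtype.ext (by
            show ((1 : K) : X) * y * ((1 : K) : X)⁻¹ = y
            simp))
          mul_smul := fun k l a => QuotientGroup.induction_on a fun y => congrArg QuotientGroup.mk (Subtype.ext (by
            show ((k * l : K) : X) * y * ((k * l : K) : X)⁻¹ = (k : X) * ((l : X) * y * (l : X)⁻¹) * (k : X)⁻¹
            rw [Subgroup.coe_mul]; group)) }
      let R : Subgroup Y :=
        { carrier := {u | ∀ k : K, (MulAut.conjNormal (k : X) : MulAut Y) u * u⁻¹ ∈ Subgroup.center Y}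
          one_mem' := fun k => by simp [one_mem]
          mul_mem' := fun {a a'} ha ha' k => by
            rw [map_mul]
            have h := Subgroup.mem_center_iff.1 (ha' k) ((MulAut.conjNormal (k : X) : MulAut Y) a)
            have e : (MulAut.conjNormal (k : X) : MulAut Y) a * (MulAut.conjNormal (k : X) : MulAut Y) a' * (a * a')⁻¹ =
                (MulAut.conjNormal (k : X) : MulAut Y) a * ((MulAut.conjNormal (k : X) : MulAut Y) a' * a'⁻¹) * a⁻¹ := by
              group
            rw [e, h, mul_assoc]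
            exact mul_mem (ha' k) (ha k)
          inv_mem' := fun {a} ha k => by
            rw [map_inv, inv_inv]
            have h := (inferInstance : (Subgroup.center Y).Normal).mem_comm
              (show a * ((MulAut.conjNormal (k : X) : MulAut Y) a)⁻¹ ∈ Subgroup.center Y by
                have := inv_mem (ha k)
                rwa [mul_inv_rev, inv_inv] at this)
            exact h }
      have hmod := (hKp.card_modEq_card_fixedPoints (Y ⧸ Subgroup.center Y))
      rw [h9] at hmod
      have hR : R ≠ ⊤ := by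
        intro htop
        refine hab ⟨⟨fun a b => ?_⟩⟩
        -- every `[y, k]` is central, so `Y` is abelian
        have hle : ⁅Y, K⁆ ≤ (Subgroup.center Y).map Y.subtype := by
          rw [Subgroup.commutator_le]
          intro y hy k hk
          have h := inv_mem ((htop.symm ▸ Subgroup.mem_top _ : (⟨y, hy⟩ : Y) ∈ R) ⟨k, hk⟩)
          refine ⟨_, h, ?_⟩
          simp [commutatorElement_def, MulAut.conjNormal_apply, mul_assoc]
        rw [hcom] at hle
        obtain ⟨b', hb', hbe⟩ := hle b.2
        rw [← Y.subtype_injective hbe]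
        exact Subgroup.mem_center_iff.1 hb' a
      have hKR : K ≤ Subgroup.normalizer ((R.map Y.subtype : Subgroup X) : Set X) := by
        refine CfsgLib.FGStruct.NoAbelianEight.le_normalizer_of_conj fun k hk u hu => ?_
        obtain ⟨u, hu, rfl⟩ := hu
        refine ⟨(MulAut.conjNormal k : MulAut Y) u, fun l => ?_, rfl⟩
        have h := Subgroup.characteristic_iff_le_comap.1 Subgroup.centerCharacteristic (MulAut.conjNormal k : MulAut Y) (hu l)
        rw [Subgroup.mem_comap] at h
        convert h using 1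
        simp only [MulEquiv.coe_toMonoidHom, map_mul, map_inv]
        congr 1
        obtain ⟨i, hi⟩ := l.2
        obtain ⟨j, hj⟩ := hk
        rw [← MulAut.mul_apply, ← MulAut.mul_apply, ← map_mul, ← map_mul,
          show (l : X) * k = k * l by rw [← hi, ← hj]; exact (Commute.refl x).zpow_zpow i j]
      have hRK := hfix _ (Subgroup.map_subtype_le R)
        (fun h => hR (CfsgLib.FGStruct.NoAbelianEight.map_subtype_eq_self R h)) hKR
      have hfixset : Nat.card (MulAction.fixedPoints K (Y ⧸ Subgroup.center Y)) = 1 := by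
        rw [Nat.card_eq_one_iff_unique]
        refine ⟨⟨fun a a' => ?_⟩, ⟨⟨1, fun k => map_one (QuotientGroup.map _ _ _ _)⟩⟩⟩
        have hall : ∀ a : MulAction.fixedPoints K (Y ⧸ Subgroup.center Y), (a : Y ⧸ Subgroup.center Y) = 1 := by
          rintro ⟨a, ha⟩
          obtain ⟨u, rfl⟩ := QuotientGroup.mk_surjective a
          refine (QuotientGroup.eq_one_iff u).2 (hC (fixed_le_commutator (hKY Y hPn) hcop hcom u
            (hRK (Subgroup.mem_map_of_mem _ fun k => ?_))))
          have h : (QuotientGroup.mk ((MulAut.conjNormal (k : X) : MulAut Y) u) : Y ⧸ Subgroup.center Y) = QuotientGroup.mk u :=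
            ha k
          have h2 := (inferInstance : (Subgroup.center Y).Normal).mem_comm (QuotientGroup.eq.1 h.symm)
          exact h2
        exact Subtype.ext ((hall a).trans (hall a').symm)
      rw [hfixset] at hmod
      have h8 : q ∣ 8 := (Nat.modEq_iff_dvd' (by norm_num)).1 hmod.symm
      exact hq2 ((Nat.prime_dvd_prime_iff_eq hq Nat.prime_two).1 (hq.dvd_of_dvd_pow (show q ∣ 2 ^ 3 from h8)))

end CfsgLib.FGStruct.MinNonNilpSylow
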