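import Mathlib
import Cfsg.Prelude
import Cfsg.Agent.Lib.PGroup.RankTwoOdd
import Cfsg.Agent.Lib.PGroup.OmegaRankTwo
import Cfsg.Agent.Lib.OddOrder.NormalRank

/-!
An odd `p`-group mapping onto an elementary abelian group of order `p ^ 4` has rank at least three.
-/

set_option autoImplicit false
set_option linter.style.haveILetI false

namespace CfsgLib.FGStruct

open Subgroup

theorem exists_elementary_cube_of_quotient {R A : Type*} [Group R] [Finite R] [Group A] [Finite A] {p : ℕ}
    [hp : Fact p.Prime] (hp2 : p ≠ 2) (hR : IsPGroup p R) (φ : R →* A) (hφ : Function.Surjective φ)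
    (hc : ∀ a b : A, a * b = b * a) (hexp : ∀ a : A, a ^ p = 1) (hA : p ^ 4 ≤ Nat.card A) :
    ∃ F : Subgroup R, Cfsg.IsElementaryAbelian p F ∧ Nat.card F = p ^ 3 := by
  classical
  by_contra hcon
  push Not at hcon
  have hnc : ¬ IsCyclic (⊤ : Subgroup R) := by
    intro h
    haveI : IsCyclic R := isCyclic_of_surjective (Subgroup.topEquiv : (⊤ : Subgroup R) ≃* R).toMonoidHom
      (MulEquiv.surjective _)
    haveI := isCyclic_of_surjective φ hφ
    obtain ⟨g, hg⟩ := IsCyclic.exists_generator (α := A)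
    have h1 : Nat.card A ≤ p := by
      rw [← orderOf_eq_card_of_forall_mem_zpowers hg]
      exact Nat.le_of_dvd hp.out.pos (orderOf_dvd_of_pow_eq_one (hexp g))
    have := Nat.pow_lt_pow_right hp.out.one_lt (show 1 < 4 by norm_num)
    rw [pow_one] at this
    omega
  obtain ⟨E, -, hEn, hE, hE2⟩ := CfsgLib.PGroup.exists_normal_elementary_sq hp2 hR ⊤ hnc
  haveI := hEn
  set T := centralizer (E : Set R) with hT
  have hTi : T.index ≤ p := by
    have h := CfsgLib.OddOrder.centralizer_index_le hR hE hE2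
    exact h
  have hom : ∀ t : T, t ^ p = 1 → (t : R) ∈ E := by
    intro t ht
    by_contra hn
    have htp : (t : R) ^ p = 1 := congrArg Subtype.val ht
    refine hcon (E ⊔ zpowers (t : R)) ⟨?_, ?_⟩ ?_
    · rw [← le_centralizer_iff_isMulCommutative]
      have hte : ∀ e ∈ E, e * (t : R) = t * e := fun e he => mem_centralizer_iff.1 t.2 e he
      refine sup_le (le_centralizer_iff.1 (sup_le (le_centralizer_iff_isMulCommutative.2 hE.1)
        (zpowers_le.2 t.2))) (zpowers_le.2 ?_)
      intro y hy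
      have hle : E ⊔ zpowers (t : R) ≤ centralizer ({(t : R)} : Set R) :=
        sup_le (fun e he => mem_centralizer_singleton_iff.2 (hte e he))
          (zpowers_le.2 (mem_centralizer_singleton_iff.2 rfl))
      exact mem_centralizer_singleton_iff.1 (hle hy)
    · intro a ha
      rw [← SetLike.mem_coe, Subgroup.normal_mul] at ha
      obtain ⟨e, he, _, ⟨i, rfl⟩, rfl⟩ := ha
      show (e * (t : R) ^ i) ^ p = 1
      have hc' : Commute e ((t : R) ^ i) := (show Commute e (t : R) from mem_centralizer_iff.1 t.2 e he).zpow_right i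
      rw [hc'.mul_pow, hE.2 e he, one_mul, ← zpow_natCast, ← zpow_mul, mul_comm, zpow_mul, zpow_natCast, htp, one_zpow]
    · rw [CfsgLib.PGroup.card_sup_zpowers hn (by rw [htp]; exact one_mem E), hE2, ← pow_succ']
  have hTp : IsPGroup p T := hR.to_subgroup T
  have hcen : ∀ t : T, t ^ p = 1 → t ∈ center T := fun t ht => mem_center_iff.2 fun s => Subtype.ext
    (mem_centralizer_iff.1 s.2 _ (hom t ht)).symm
  have hW := CfsgLib.PGroup.RankTwo.index_powerClosure_le hp2 hTp hcen (E.subgroupOf T)
    (fun t ht => mem_subgroupOf.2 (hom t ht))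
  let ψ : T →* A := φ.comp T.subtype
  have hWker : Cfsg.powerClosure p 1 (⊤ : Subgroup T) ≤ ψ.ker := by
    rw [Cfsg.powerClosure, closure_le]
    rintro _ ⟨x, -, rfl⟩
    rw [SetLike.mem_coe, MonoidHom.mem_ker, map_pow, pow_one]
    exact hexp _
  have h1 : Nat.card ψ.range ≤ p ^ 2 := by
    rw [← index_ker]
    refine le_trans (Nat.le_of_dvd (Nat.pos_of_ne_zero index_ne_zero_of_finite) (index_dvd_of_le hWker)) (hW.trans ?_)
    rw [← hE2]
    exact le_of_eq (Nat.card_congr (subgroupOfEquivOfLe (le_centralizer_iff_isMulCommutative.2 hE.1)).toEquiv)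
  have hidx : ψ.range.index ≤ p := by
    have h : ψ.range = T.map φ := by
      ext a
      constructor
      · rintro ⟨t, rfl⟩; exact ⟨t, t.2, rfl⟩
      · rintro ⟨t, ht, rfl⟩; exact ⟨⟨t, ht⟩, rfl⟩
    rw [h]
    exact (Nat.le_of_dvd (Nat.pos_of_ne_zero index_ne_zero_of_finite) (index_map_dvd T hφ)).trans hTi
  have h2 := ψ.range.card_mul_index
  have h3 : Nat.card A ≤ p ^ 3 := by
    rw [← h2, pow_succ p 2]
    exact Nat.mul_le_mul h1 hidx
  have := Nat.pow_lt_pow_right hp.out.one_lt (show 3 < 4 by norm_num)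
  omega

end CfsgLib.FGStruct
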