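import Mathlib
import Cfsg.Agent.Lib.FGStruct.FourGroupMover
import Cfsg.Agent.Lib.FGStruct.RankOfQuotient
import Cfsg.Agent.Lib.OddOrder.NormalRank

/-!
A rank three elementary abelian subgroup with a noncyclic centralizer of a moved four-group.
-/

set_option autoImplicit false
set_option linter.style.haveILetI false

open scoped commutatorElement Pointwise
open Subgroup

namespace CfsgLib.FGStruct.FourMover

variable {S : Type*} [Group S] [Finite S] [Group.IsSolvable S] {M : Subgroup S} [hMn : M.Normal] {H : Subgroup S}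

omit hMn in
/-- The conclusion. -/
theorem finish {x : S} {r : ℕ} [hr : Fact r.Prime] (hr2 : r ≠ 2) (hel : El M) [M.Normal] (hH : Odd (Nat.card H))
    (hx : Good H M x) {A : Subgroup S} (hA : Cfsg.IsElementaryAbelian r A) (hA3 : Nat.card A = r ^ 3) (hAH : A ≤ H)
    (hmeet : ∀ e ∈ A, Meet M x (e * x * e⁻¹)) :
    ∃ (r : ℕ) (F : Subgroup S), r.Prime ∧ r ≠ 2 ∧ Cfsg.IsElementaryAbelian r F ∧ Nat.card F = r ^ 3 ∧
      ¬ IsCyclic ↥(F ⊓ centralizer ((mv M x : Subgroup S) : Set S)) := by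
  refine ⟨r, A, hr.out, hr2, hA, hA3, fun hcyc => ?_⟩
  have hnorm : A ≤ normalizer (block H M x : Set S) := NoAbelianEight.le_normalizer_of_conj fun e he w hw => by
    rw [block_eq hel hH hx (hx.conj (hAH he)) (hmeet e he)]
    exact block_conj (hAH he) hw
  have hAp : IsPGroup r A := IsPGroup.of_card hA3
  have h := card_le_mul_centralizer hel (block_le_iff.2 fun y _ _ => mv_le y) (block_card hel hH hx) hr2 hAp hnorm
  have hle : A ⊓ centralizer (block H M x : Set S) ≤ A ⊓ centralizer ((mv M x : Subgroup S) : Set S) :=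
    inf_le_inf_left _ (centralizer_le (le_block hx))
  set K := A ⊓ centralizer ((mv M x : Subgroup S) : Set S)
  obtain ⟨g, hg⟩ := IsCyclic.exists_generator (α := K)
  have h1 : Nat.card K ≤ r := by
    rw [← orderOf_eq_card_of_forall_mem_zpowers hg]
    exact Nat.le_of_dvd hr.out.pos (orderOf_dvd_of_pow_eq_one (Subtype.ext (hA.2 g g.2.1)))
  have h2 : r ^ 3 ≤ r * r := hA3 ▸ h.trans (Nat.mul_le_mul_left r ((card_le_of_le hle).trans h1))
  have := Nat.pow_lt_pow_right hr.out.one_lt (show 2 < 3 by norm_num)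
  rw [pow_two] at this
  omega

theorem meet_pow (hel : El M) (hH : Odd (Nat.card H)) {x : S} (hx : Good H M x) {c : S} (hc : c ∈ H)
    (h : Meet M x (c * x * c⁻¹)) : ∀ k : ℕ, Meet M x (c ^ k * x * (c ^ k)⁻¹) := by
  intro k
  induction k with
  | zero => simpa using hx.refl
  | succ k ih =>
    have h' := ih.conj c
    rw [show c * (c ^ k * x * (c ^ k)⁻¹) * c⁻¹ = c ^ (k + 1) * x * (c ^ (k + 1))⁻¹ by rw [pow_succ']; group] at h'
    exact Meet.trans hel hH (hx.conj hc) hx (hx.conj (pow_mem hc _)) h.symm h'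

/-- A moving element gives `3`-rank at least three. -/
theorem exists_three_cube (hel : El M) (hH : Odd (Nat.card H)) {x : S} (hx : Good H M x) {p : ℕ}
    [hp : Fact p.Prime] (hp5 : 5 ≤ p) {e : S} (he : e ∈ H) (hep : e ^ p = 1) (hm : ¬ Meet M x (e * x * e⁻¹)) :
    ∃ F : Subgroup S, F ≤ H ∧ Cfsg.IsElementaryAbelian 3 F ∧ Nat.card F = 3 ^ 3 := by
  classical
  haveI : Fact (Nat.Prime 3) := ⟨Nat.prime_three⟩
  let xi : ℕ → S := fun i => e ^ i * x * (e ^ i)⁻¹
  have hgood : ∀ i, Good H M (xi i) := fun i => hx.conj (pow_mem he i)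
  have hd : ∀ d, 0 < d → d < p → ¬ Meet M x (xi d) := by
    intro d hd0 hdp hmd
    have hcop : d.Coprime p := ((hp.out.coprime_iff_not_dvd).2 (Nat.not_dvd_of_pos_of_lt hd0 hdp)).symm
    obtain ⟨k, -, hk⟩ := Nat.exists_mul_mod_eq_one_of_coprime hcop hp.out.one_lt
    have h := meet_pow hel hH hx (pow_mem he d) hmd k
    rw [← pow_mul, pow_eq_pow_mod (d * k) hep, hk, pow_one] at h
    exact hm h
  have hpair : ∀ i j, i < j → j < p → ¬ Meet M (xi i) (xi j) := by
    intro i j hij hjp hmij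
    refine hd (j - i) (by omega) (by omega) ?_
    have h := hmij.conj (e ^ i)⁻¹
    have e1 : (e ^ i)⁻¹ * xi i * ((e ^ i)⁻¹)⁻¹ = x := by simp only [xi]; group
    have e2 : (e ^ i)⁻¹ * xi j * ((e ^ i)⁻¹)⁻¹ = xi (j - i) := by
      simp only [xi]
      rw [show e ^ j = e ^ i * e ^ (j - i) by rw [← pow_add]; congr 1; omega]; group
    rwa [e1, e2] at h
  have hne : ∀ i j, i ≠ j → i < p → j < p → ¬ Meet M (xi i) (xi j) := fun i j hij hi hj => by
    rcases lt_or_gt_of_ne hij with h | h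
    · exact hpair i j h hj
    · exact fun h' => hpair j i h hi h'.symm
  let θ : S →* MulAut M := MulAut.conjNormal
  let a : ℕ → MulAut M := fun i => θ (xi i)
  have hθ : ∀ g (m : M), ((θ g m : M) : S) = g * m * g⁻¹ := fun g m => MulAut.conjNormal_apply g m
  have hcube : ∀ i, a i ^ 3 = 1 := by
    intro i
    refine MulEquiv.ext fun m => Subtype.ext ?_
    rw [← map_pow, hθ, MulAut.one_apply, ← mem_centralizer_iff.1 (hgood i).cube m m.2, mul_inv_cancel_right]
  have hcomm : ∀ i j, i < p → j < p → a i * a j = a j * a i := by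
    intro i j hi hj
    by_cases hij : i = j
    · rw [hij]
    refine MulEquiv.ext fun m => Subtype.ext ?_
    rw [← map_mul, ← map_mul, hθ, hθ]
    have key : ∀ i j, ¬ Meet M (xi i) (xi j) → (xi i * xi j) * (m : S) * (xi i * xi j)⁻¹ = ⁅xi j, (m : S)⁆ * ⁅xi i, (m : S)⁆ * m := by
      intro i j h
      have hc := commute_of_not_meet hel hH (hgood i) (hgood j) h ⁅xi j, (m : S)⁆
        (commutator_mem_commutator (mem_zpowers _) m.2)
      calc (xi i * xi j) * (m : S) * (xi i * xi j)⁻¹ = (xi i * ⁅xi j, (m : S)⁆) * m * (xi i)⁻¹ := by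
            simp only [commutatorElement_def]; group
        _ = (⁅xi j, (m : S)⁆ * xi i) * m * (xi i)⁻¹ := by rw [hc]
        _ = _ := by simp only [commutatorElement_def]; group
    rw [key i j (hne i j hij hi hj), key j i (hne j i (Ne.symm hij) hj hi),
      hel.comm _ (comm_conj_mem m.2) _ (comm_conj_mem m.2)]
  -- the elementary image
  let As : ℕ → Subgroup (MulAut M) := fun k => closure (a '' {i | i < k})
  have hAc : ∀ k ≤ 4, IsMulCommutative (As k) := fun k hk => NoAbelianEight.comm_closure (by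
    rintro _ ⟨i, hi, rfl⟩ _ ⟨j, hj, rfl⟩
    simp only [Set.mem_setOf_eq] at hi hj
    exact hcomm i j (by omega) (by omega))
  have hAe : ∀ k ≤ 4, ∀ f ∈ As k, f ^ 3 = 1 := by
    intro k hk f hf
    have := hAc k hk
    induction hf using closure_induction with
    | mem f hf => obtain ⟨i, -, rfl⟩ := hf; exact hcube i
    | one => exact one_pow 3
    | mul u v hu hv iu iv =>
      rw [(show Commute u v from congrArg Subtype.val (this.is_comm.comm ⟨u, hu⟩ ⟨v, hv⟩)).mul_pow, iu, iv, mul_one]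
    | inv u _ iu => rw [inv_pow, iu, inv_one]
  have hgrow : ∀ k, k ≤ 4 → 3 ^ k ≤ Nat.card (As k) := by
    intro k
    induction k with
    | zero => intro _; exact Nat.one_le_iff_ne_zero.2 Nat.card_pos.ne'
    | succ k ih =>
      intro hk
      have hle : As k ≤ As (k + 1) := closure_mono (Set.image_mono fun i (hi : i < k) => Nat.lt_succ_of_lt hi)
      obtain ⟨w, hw, -, hw1⟩ := (hgood k).refl
      have hnot : a k ∉ As k := by
        intro hak
        let Fx : Subgroup (MulAut M) :=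
          { carrier := {f | f ⟨w, mv_le _ hw⟩ = ⟨w, mv_le _ hw⟩}
            one_mem' := rfl
            mul_mem' := fun {f g} (hf : f _ = _) (hg : g _ = _) => show (f * g) _ = _ by rw [MulAut.mul_apply, hg, hf]
            inv_mem' := fun {f} (hf : f _ = _) => show f⁻¹ _ = _ by
              nth_rw 1 [← hf]; exact f.symm_apply_apply _ }
        have hle' : As k ≤ Fx := by
          rw [closure_le]
          rintro _ ⟨i, hi, rfl⟩
          simp only [Set.mem_setOf_eq] at hi
          refine Subtype.ext ?_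
          show ((θ (xi i) ⟨w, _⟩ : M) : S) = w
          rw [hθ, commute_of_not_meet hel hH (hgood i) (hgood k) (hne i k (by omega) (by omega) (by omega)) w hw,
            mul_inv_cancel_right]
        have h := congrArg Subtype.val (hle' hak)
        change ((θ (xi k) ⟨w, _⟩ : M) : S) = w at h
        rw [hθ] at h
        exact hw1 (fixed_eq_one hel (hgood k).cube hw (mul_inv_eq_iff_eq_mul.1 h))
      have hmem : a k ∈ As (k + 1) := subset_closure ⟨k, Nat.lt_succ_self k, rfl⟩
      have h3 : IsPGroup 3 (As (k + 1)) := fun f => ⟨1, Subtype.ext (hAe (k + 1) hk f f.2)⟩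
      obtain ⟨u, hu⟩ := IsPGroup.iff_card.1 (h3.to_le hle)
      obtain ⟨v, hv⟩ := IsPGroup.iff_card.1 h3
      have huv : u < v := by
        by_contra hvu
        exact hnot (eq_of_le_of_card_ge hle (by rw [hu, hv]; exact Nat.pow_le_pow_right (by norm_num) (not_lt.1 hvu)) ▸ hmem)
      calc 3 ^ (k + 1) = 3 ^ k * 3 := pow_succ 3 k
        _ ≤ 3 ^ u * 3 := Nat.mul_le_mul_right 3 (hu ▸ ih (by omega))
        _ = 3 ^ (u + 1) := (pow_succ 3 u).symm
        _ ≤ _ := hv ▸ Nat.pow_le_pow_right (by norm_num) huv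
  -- lift to a Sylow subgroup of the preimage
  let L := closure (xi '' {i | i < 4})
  have hLH : L ≤ H := (closure_le _).2 (by rintro _ ⟨i, -, rfl⟩; exact (hgood i).mem)
  have hmapL : L.map θ = As 4 := by
    rw [MonoidHom.map_closure, ← Set.image_comp]; rfl
  let φ : L →* As 4 := (θ.comp L.subtype).codRestrict _ fun g => hmapL ▸ mem_map_of_mem θ g.2
  have hφ : Function.Surjective φ := fun f => by
    obtain ⟨g, hg, hgf⟩ := (hmapL.symm ▸ f.2 : (f : MulAut M) ∈ L.map θ)
    exact ⟨⟨g, hg⟩, Subtype.ext hgf⟩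
  obtain ⟨R⟩ : Nonempty (Sylow 3 L) := inferInstance
  have h34 : IsPGroup 3 (As 4) := fun f => ⟨1, Subtype.ext (hAe 4 le_rfl f f.2)⟩
  let ψ : (R : Subgroup L) →* As 4 := φ.comp (R : Subgroup L).subtype
  have hψ : Function.Surjective ψ := by
    intro f
    have h := (R.mapSurjective hφ).is_maximal' (h34.to_subgroup ⊤) le_top
    have hf : f ∈ ((R.mapSurjective hφ : Sylow 3 (As 4)) : Subgroup (As 4)) := by
      show f ∈ (R.mapSurjective hφ).toSubgroup
      rw [← h]; exact mem_top f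
    rw [Sylow.coe_mapSurjective] at hf
    obtain ⟨g, hg, rfl⟩ := hf
    exact ⟨⟨g, hg⟩, rfl⟩
  obtain ⟨F, hF, hF3⟩ := CfsgLib.FGStruct.exists_elementary_cube_of_quotient (p := 3) (by norm_num) R.isPGroup' ψ hψ
    (fun u v => (hAc 4 le_rfl).is_comm.comm u v) (fun u => Subtype.ext (hAe 4 le_rfl u u.2)) (hgrow 4 le_rfl)
  let ι : (R : Subgroup L) →* S := L.subtype.comp (R : Subgroup L).subtype
  have hι : Function.Injective ι := L.subtype_injective.comp (R : Subgroup L).subtype_injective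
  refine ⟨F.map ι, ?_, ⟨?_, ?_⟩, by rw [card_map_of_injective hι, hF3]⟩
  · rintro _ ⟨g, -, rfl⟩
    exact hLH g.1.2
  · exact ⟨⟨by
      rintro ⟨_, u, hu, rfl⟩ ⟨_, v, hv, rfl⟩
      refine Subtype.ext ?_
      show ι u * ι v = ι v * ι u
      rw [← map_mul, ← map_mul, show u * v = v * u from congrArg Subtype.val (hF.1.is_comm.comm ⟨u, hu⟩ ⟨v, hv⟩)]⟩⟩
  · rintro _ ⟨u, hu, rfl⟩
    rw [← map_pow, hF.2 u hu, map_one]

/-- For the prime three some conjugate of the rank three group fixes the block. -/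
theorem exists_three_meet (hel : El M) (hH : Odd (Nat.card H)) {x : S} (hx : Good H M x) (hxp : IsPGroup 3 (zpowers x))
    {A : Subgroup S} (hAH : A ≤ H) (hA : Cfsg.IsElementaryAbelian 3 A) (hA3 : Nat.card A = 3 ^ 3) :
    ∃ E : Subgroup S, E ≤ H ∧ Cfsg.IsElementaryAbelian 3 E ∧ Nat.card E = 3 ^ 3 ∧
      ∀ e ∈ E, Meet M x (e * x * e⁻¹) := by
  classical
  haveI : Fact (Nat.Prime 3) := ⟨Nat.prime_three⟩
  have hxH : zpowers x ≤ H := zpowers_le.2 hx.mem
  obtain ⟨P, hP⟩ := (hxp.comap_subtype (K := H)).exists_le_sylow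
  obtain ⟨P1, hP1⟩ := ((IsPGroup.of_card hA3).comap_subtype (K := H)).exists_le_sylow
  have hcP : Nat.card A ≤ Nat.card (P : Subgroup H) := by
    rw [← Nat.card_congr (subgroupOfEquivOfLe hAH).toEquiv]
    calc Nat.card (A.subgroupOf H) ≤ Nat.card (P1 : Subgroup H) := card_le_of_le hP1
      _ = _ := by rw [P1.card_eq_multiplicity, P.card_eq_multiplicity]
  obtain ⟨g, hg⟩ := MulAction.exists_smul_eq H P1 P
  have hnr : ¬ Cfsg.PRankLE 3 2 (P : Subgroup H) := by
    intro hr
    let f : A →* H := inclusion hAH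
    have hf : ∀ a : A, g * f a * g⁻¹ ∈ (P : Subgroup H) := fun a => by
      rw [← hg]
      show _ ∈ MulAut.conj g • (P1 : Subgroup H)
      exact smul_mem_pointwise_smul _ _ _ (hP1 a.2)
    let ψ : A →* (P : Subgroup H) := ((MulAut.conj g).toMonoidHom.comp f).codRestrict _ hf
    have hinj : Function.Injective ψ := fun a b h => inclusion_injective hAH
      ((MulAut.conj g).injective (congrArg Subtype.val h))
    have hc : IsMulCommutative ψ.range := ⟨⟨by
      rintro ⟨_, u, rfl⟩ ⟨_, v, rfl⟩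
      refine Subtype.ext ?_
      show ψ u * ψ v = ψ v * ψ u
      rw [← map_mul, ← map_mul, hA.1.is_comm.comm u v]⟩⟩
    have h := hr ψ.range hc (by rintro _ ⟨u, rfl⟩; rw [← map_pow, show u ^ 3 = 1 from Subtype.ext (hA.2 u u.2), map_one])
    rw [← Nat.card_congr (MonoidHom.ofInjective hinj).toEquiv, hA3] at h
    norm_num at h
  obtain ⟨E2, hE2n, hE2, hE2c⟩ := CfsgLib.OddOrder.exists_normal_elementary_two (by norm_num) P.isPGroup' hnr
  haveI := hE2n
  obtain ⟨N, hNn, -, hN, hN3⟩ := CfsgLib.OddOrder.exists_normal_elementary_three (by norm_num) P.isPGroup' hnr hE2 hE2c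
  let ι : (P : Subgroup H) →* S := H.subtype.comp (P : Subgroup H).subtype
  have hι : Function.Injective ι := H.subtype_injective.comp (P : Subgroup H).subtype_injective
  have hEel : Cfsg.IsElementaryAbelian 3 (N.map ι) := ⟨⟨⟨by
      rintro ⟨_, u, hu, rfl⟩ ⟨_, v, hv, rfl⟩
      refine Subtype.ext ?_
      show ι u * ι v = ι v * ι u
      rw [← map_mul, ← map_mul, show u * v = v * u from congrArg Subtype.val (hN.1.is_comm.comm ⟨u, hu⟩ ⟨v, hv⟩)]⟩⟩, by
    rintro _ ⟨u, hu, rfl⟩
    rw [← map_pow, hN.2 u hu, map_one]⟩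
  refine ⟨N.map ι, by rintro _ ⟨u, -, rfl⟩; exact u.1.2, hEel, by rw [card_map_of_injective hι, hN3], ?_⟩
  intro e he
  by_contra hmxy
  have heH : e ∈ H := by obtain ⟨u, -, rfl⟩ := he; exact u.1.2
  set y := e * x * e⁻¹ with hy'
  set z := e * y * e⁻¹ with hz'
  have hy : Good H M y := hx.conj heH
  have hz : Good H M z := hy.conj heH
  have he3 : e ^ 3 = 1 := hEel.2 e he
  have hmyz : ¬ Meet M y z := by
    intro h
    have h' := h.conj e⁻¹
    rw [hz', hy'] at h'
    exact hmxy (by simpa [mul_assoc, hy'] using h')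
  have hmxz : ¬ Meet M x z := by
    intro h
    have h' := h.conj e
    have e1 : e * z * e⁻¹ = x := by
      rw [hz', hy', show e * (e * (e * x * e⁻¹) * e⁻¹) * e⁻¹ = e ^ 3 * x * (e ^ 3)⁻¹ by rw [pow_three']; group, he3]
      simp
    rw [e1, ← hy'] at h'
    exact hmxy h'.symm
  -- `e₀ = [e, x]`
  set e0 := y * x⁻¹ with he0'
  have he0 : e0 ∈ N.map ι := by
    obtain ⟨u, hu, hue⟩ := he
    have hxP : (⟨x, hx.mem⟩ : H) ∈ (P : Subgroup H) := hP (mem_zpowers x)
    refine ⟨u * (⟨⟨x, hx.mem⟩, hxP⟩ * u⁻¹ * ⟨⟨x, hx.mem⟩, hxP⟩⁻¹), mul_mem hu (hNn.conj_mem _ (inv_mem hu) _), ?_⟩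
    rw [map_mul, map_mul, map_mul, map_inv, map_inv, hue]
    show e * (x * e⁻¹ * x⁻¹) = _
    rw [he0', hy']; group
  have hcom : e * e0 = e0 * e := congrArg Subtype.val (hEel.1.is_comm.comm ⟨e, he⟩ ⟨e0, he0⟩)
  have hxy_sub : mv M e0 ≤ mv M x ⊔ mv M y := by
    rw [← comm_pair hel]
    exact commutator_mono (zpowers_le.2 (mul_mem (subset_closure (by simp)) (inv_mem (subset_closure (by simp))))) le_rfl
  have hVle : mv M x ≤ mv M e0 := by
    intro w hw
    obtain ⟨v, hv, rfl⟩ := exists_inner hel hx.cube hw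
    -- use `x⁻¹` on `v`
    have hv' : x⁻¹ * v * x ∈ mv M x := by
      have := conj_mv x⁻¹ x hv
      simpa [mul_assoc] using this
    have hyfix : ∀ u ∈ mv M x, y * u = u * y :=
      commute_of_not_meet hel hH hy hx fun h => hmxy h.symm
    have h1 : ⁅e0, x * v * x⁻¹⁆ = v * (x * v * x⁻¹)⁻¹ := by
      rw [commutatorElement_def, he0',
        show y * x⁻¹ * (x * v * x⁻¹) * (y * x⁻¹)⁻¹ = y * v * y⁻¹ by group, hyfix v hv, mul_inv_cancel_right]
    have h2 : ⁅x, v⁆ = (v * (x * v * x⁻¹)⁻¹)⁻¹ := by rw [commutatorElement_def]; group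
    rw [h2, ← h1]
    exact inv_mem (commutator_mem_commutator (mem_zpowers e0) (hMn.conj_mem _ (mv_le x hv) x))
  have hstep : ∀ w, w ∈ mv M e0 → e * w * e⁻¹ ∈ mv M e0 := fun w hw => by
    have := conj_mv e e0 hw
    rwa [hcom, mul_inv_cancel_right] at this
  obtain ⟨w, hw, -, hw1⟩ := hz.refl
  have hwx : e⁻¹ * (e⁻¹ * w * e) * e ∈ mv M x := by
    have h1 := conj_mv e⁻¹ z hw
    have h2 := conj_mv e⁻¹ _ h1
    simpa [hz', hy', mul_assoc] using h2
  have hwU : w ∈ mv M x ⊔ mv M y := hxy_sub (by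
    have := hstep _ (hstep _ (hVle hwx))
    simpa [mul_assoc] using this)
  refine hw1 (fix_trivial hel (closure ({x, y} : Set S)) (Odd.of_dvd_nat hH (card_dvd_of_le
    ((closure_le _).2 (by rintro t (rfl | rfl); exacts [hx.mem, hy.mem])))) ((comm_pair hel).symm ▸ hwU) ?_)
  refine commute_closure ?_
  rintro t (rfl | rfl)
  · exact commute_of_not_meet hel hH hx hz hmxz w hw
  · exact commute_of_not_meet hel hH hy hz hmyz w hw

end CfsgLib.FGStruct.FourMover
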