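import Cfsg.Agent.Lib.OddOrder.OmegaFix
import Mathlib.Data.Nat.Choose.Dvd
import Mathlib.Tactic.Group

/-!
Coprime elements fixing `Ω` of a `p`-group, including `p = 2` (elements of order at most 4).
-/

set_option autoImplicit false

open scoped commutatorElement

namespace CfsgLib.FGStruct.OmegaFixAll

open CfsgLib.OddOrder

variable {G : Type*} [Group G]

/-- A `p'`-element normalising a `p`-group and centralising all its elements of exponent `e` centralises it,
where `p ∣ e` and `p ∣ e.choose 2` (so `e = p` for odd `p`, `e = 4` for `p = 2`). -/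
theorem commute_of_fix_pow [Finite G] {p : ℕ} [Fact p.Prime] (e : ℕ) (hpe : p ∣ e)
    (hpc : p ∣ e.choose 2) (H : Subgroup G)
    (hH : IsPGroup p H) {a : G} (haN : a ∈ Subgroup.normalizer (H : Set G))
    (hcop : (orderOf a).Coprime p) (hfix : ∀ x ∈ H, x ^ e = 1 → Commute a x) :
    ∀ x ∈ H, Commute a x := by
  rcases eq_or_ne H ⊥ with rfl | hne
  · intro x hx
    rw [Subgroup.mem_bot] at hx
    subst hx; exact Commute.one_right a
  obtain ⟨F, hFH, haF, hHF, hder, hpow⟩ := exists_proper_invariant_pow H hH hne haN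
  have hF : ∀ x ∈ F, Commute a x := commute_of_fix_pow e hpe hpc F (hH.to_le hFH.le) haF hcop
    (fun x hx => hfix x (hFH.le hx))
  let D : Subgroup G := ⁅H, Subgroup.zpowers a⁆
  have hazN : Subgroup.zpowers a ≤ Subgroup.normalizer (H : Set G) := Subgroup.zpowers_le.mpr haN
  have hDH : D ≤ H := Subgroup.le_normalizer_iff_commutator_le_left.mp hazN
  have hmemD : ∀ x ∈ H, a * x * a⁻¹ * x⁻¹ ∈ D := fun x hx => by
    rw [show D = ⁅Subgroup.zpowers a, H⁆ from Subgroup.commutator_comm _ _]
    exact Subgroup.commutator_mem_commutator (Subgroup.mem_zpowers a) hx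
  by_cases hD : D = H
  swap
  · have hlt : D < H := lt_of_le_of_ne hDH hD
    have haD : a ∈ Subgroup.normalizer (D : Set G) :=
      Subgroup.normalizer_commutator_ge_right _ _ (Subgroup.mem_zpowers a)
    have hDc : ∀ x ∈ D, Commute a x := commute_of_fix_pow e hpe hpc D (hH.to_le hDH) haD hcop
      (fun x hx => hfix x (hDH hx))
    intro x hx
    exact commute_of_conj_mem (hDc _ (hmemD x hx))
      (coprime_orderOf_of_isPGroup hH hcop (hDH (hmemD x hx)))
  have hFA : ⁅F, Subgroup.zpowers a⁆ = ⊥ := by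
    rw [Subgroup.commutator_eq_bot_iff_le_centralizer]
    intro x hx
    rw [Subgroup.mem_centralizer_iff]
    rintro y ⟨k, rfl⟩
    exact ((hF x hx).zpow_left k).eq
  have hcent : ∀ y ∈ H, ∀ f ∈ F, Commute y f := by
    have h1 : ⁅⁅H, F⁆, Subgroup.zpowers a⁆ = ⊥ := by
      refine le_bot_iff.mp (le_trans ?_ hFA.le)
      exact Subgroup.commutator_mono
        (Subgroup.le_normalizer_iff_commutator_le_right.mp hHF) le_rfl
    have h2 : ⁅⁅F, Subgroup.zpowers a⁆, H⁆ = ⊥ := by
      rw [hFA, Subgroup.commutator_bot_left]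
    have h3 : ⁅⁅Subgroup.zpowers a, H⁆, F⁆ = ⊥ :=
      Subgroup.commutator_commutator_eq_bot_of_rotate h1 h2
    rw [Subgroup.commutator_comm (Subgroup.zpowers a) H, show ⁅H, Subgroup.zpowers a⁆ = H from hD,
      Subgroup.commutator_eq_bot_iff_le_centralizer] at h3
    intro y hy f hf
    exact (Subgroup.mem_centralizer_iff.mp (h3 hy) f hf).symm
  intro x hx
  have hy : x⁻¹ * (a * x * a⁻¹) ∈ H :=
    mul_mem (inv_mem hx) ((Subgroup.mem_normalizer_iff.mp haN x).mp hx)
  generalize hyd : x⁻¹ * (a * x * a⁻¹) = y at hy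
  have hxy : a * x * a⁻¹ = x * y := by rw [← hyd]; group
  have hxpc : Commute a (x ^ p) := hF _ (hpow x hx)
  have hypF : y ^ p ∈ F := hpow y hy
  have hcF : ⁅y, x⁆ ∈ F := hder (Subgroup.commutator_mem_commutator hy hx)
  have hcomm : y * x = ⁅y, x⁆ * (x * y) := by rw [commutatorElement_def]; group
  generalize hcd : ⁅y, x⁆ = c at hcF hcomm
  have hcx : Commute c x := (hcent x hx c hcF).symm
  have hcy : Commute c y := (hcent y hy c hcF).symm
  have hcp : c ^ p = 1 := by
    have h1 : x * y * x⁻¹ = c⁻¹ * y := by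
      calc x * y * x⁻¹ = c⁻¹ * (c * (x * y)) * x⁻¹ := by group
        _ = c⁻¹ * y := by rw [← hcomm]; group
    have h2 : (x * y * x⁻¹) ^ p = (c⁻¹) ^ p * y ^ p := by rw [h1, hcy.inv_left.mul_pow]
    rw [conj_pow, (hcent x hx _ hypF).eq, mul_inv_cancel_right] at h2
    have := mul_eq_right.mp h2.symm
    rwa [inv_pow, inv_eq_one] at this
  have hye : y ^ e = 1 := by
    have hxec : Commute a (x ^ e) := by
      obtain ⟨t, rfl⟩ := hpe
      rw [pow_mul]; exact hxpc.pow_right t
    have h1 : (x * y) ^ e = x ^ e := by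
      rw [← hxy, conj_pow, hxec.eq, mul_inv_cancel_right]
    rw [mul_pow_of_central_commutator hcomm hcx hcy e] at h1
    obtain ⟨t, ht⟩ := hpc
    rw [ht, pow_mul, hcp, one_pow, one_mul] at h1
    exact mul_eq_left.mp h1
  have hya : Commute a y := hfix y hy hye
  have h2 : a * x⁻¹ * a⁻¹ = y⁻¹ * x⁻¹ := by
    rw [← mul_inv_rev, ← hxy]; group
  have h3 := eq_one_of_conj_eq_mul_left h2 hya.inv_right
    (by rw [orderOf_inv]; exact coprime_orderOf_of_isPGroup hH hcop hy)
  rw [inv_eq_one] at h3
  rw [h3, mul_one] at hxy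
  exact mul_inv_eq_iff_eq_mul.mp hxy
termination_by Nat.card H
decreasing_by
  all_goals
    first
      | exact Set.Finite.card_lt_card (Set.toFinite _) (SetLike.coe_strictMono hFH)
      | exact Set.Finite.card_lt_card (Set.toFinite _) (SetLike.coe_strictMono hlt)

/-- A `p'`-element fixing every element of order `p`, and of order 4 if `p = 2`, of a `p`-group it
normalises centralises that `p`-group. -/
theorem commute_of_fix_orderOf [Finite G] {p : ℕ} [Fact p.Prime] (H : Subgroup G) (hH : IsPGroup p H)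
    {a : G} (haN : a ∈ Subgroup.normalizer (H : Set G)) (hcop : (orderOf a).Coprime p)
    (hfix : ∀ x ∈ H, (orderOf x = p ∨ (p = 2 ∧ orderOf x = 4)) → Commute a x) :
    ∀ x ∈ H, Commute a x := by
  have hp : p.Prime := Fact.out
  by_cases h2 : p = 2
  · subst h2
    refine commute_of_fix_pow 4 (by norm_num) (by decide) H hH haN hcop fun x hx h4 => ?_
    obtain ⟨i, hi, hi'⟩ := (Nat.dvd_prime_pow Nat.prime_two).mp
      (show orderOf x ∣ 2 ^ 2 from orderOf_dvd_of_pow_eq_one h4)
    interval_cases i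
    · rw [pow_zero, orderOf_eq_one_iff] at hi'
      rw [hi']; exact Commute.one_right a
    · exact hfix x hx (Or.inl (by simpa using hi'))
    · exact hfix x hx (Or.inr ⟨rfl, by simpa using hi'⟩)
  · refine commute_of_fix_pow p dvd_rfl
      (hp.dvd_choose_self (by norm_num) (lt_of_le_of_ne hp.two_le (Ne.symm h2))) H hH haN hcop
      fun x hx hxp => ?_
    rcases (Nat.dvd_prime hp).mp (orderOf_dvd_of_pow_eq_one hxp) with h | h
    · rw [orderOf_eq_one_iff.mp h]; exact Commute.one_right a
    · exact hfix x hx (Or.inl h)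

end CfsgLib.FGStruct.OmegaFixAll
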