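import Mathlib
import Cfsg.Agent.Lib.TwoFusion.DihedralIso

/-!
`p`-by-cyclic subgroups and elementary facts on cyclic and dihedral groups.
-/

set_option autoImplicit false
set_option linter.style.haveILetI false

open scoped Pointwise

namespace CfsgLib.FGStruct.PByCyclic

variable {G : Type*} [Group G] [Finite G] {p : ℕ} [Fact p.Prime]

/-- For a `p`-subgroup `Q` and `y ∈ N(Q)`, the subgroup `Q ⊔ ⟨y⟩` is `p`-by-cyclic. -/
theorem isPByCyclic (Q : Subgroup G) (hQ : IsPGroup p Q) (y : G)
    (hy : y ∈ Subgroup.normalizer (Q : Set G)) :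
    (∀ S : Sylow p ↥(Q ⊔ Subgroup.zpowers y), (S : Subgroup ↥(Q ⊔ Subgroup.zpowers y)).Normal) ∧
      ∀ (S : Sylow p ↥(Q ⊔ Subgroup.zpowers y)) [(S : Subgroup ↥(Q ⊔ Subgroup.zpowers y)).Normal],
        IsCyclic (↥(Q ⊔ Subgroup.zpowers y) ⧸ (S : Subgroup ↥(Q ⊔ Subgroup.zpowers y))) := by
  set H := Q ⊔ Subgroup.zpowers y with hH
  haveI hn : (Q.subgroupOf H).Normal :=
    Subgroup.normal_subgroupOf_of_le_normalizer (sup_le Subgroup.le_normalizer (Subgroup.zpowers_le.mpr hy))
  set y' : H := ⟨y, (le_sup_right : Subgroup.zpowers y ≤ H) (Subgroup.mem_zpowers y)⟩ with hy'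
  have htop : Q.subgroupOf H ⊔ Subgroup.zpowers y' = ⊤ := by
    rw [eq_top_iff]
    apply le_of_le_of_eq le_rfl
    apply Subgroup.map_injective H.subtype_injective
    rw [Subgroup.map_sup, MonoidHom.map_zpowers, ← MonoidHom.range_eq_map, Subgroup.range_subtype,
      Subgroup.map_subgroupOf_eq_of_le le_sup_left]
    exact hH
  have hmem : ∀ h : H, ∃ q ∈ Q.subgroupOf H, ∃ i : ℤ, q * y' ^ i = h := by
    intro h
    obtain ⟨q, hq, _, ⟨i, rfl⟩, e⟩ := (Subgroup.mem_sup_of_normal_left (s := Q.subgroupOf H)).mp (htop ▸ Subgroup.mem_top h)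
    exact ⟨q, hq, i, e⟩
  have hQS : ∀ S : Sylow p H, Q.subgroupOf H ≤ S := fun S =>
    IsPGroup.le_sylow_of_normal (N := Q.subgroupOf H) (hQ.comap_subtype (K := H)) S
  have hcomm : ∀ a b : H, a * b * a⁻¹ * b⁻¹ ∈ Q.subgroupOf H := by
    intro a b
    obtain ⟨q, hq, i, rfl⟩ := hmem a
    obtain ⟨r, hr, j, rfl⟩ := hmem b
    rw [← QuotientGroup.eq_one_iff]
    simp only [QuotientGroup.mk_mul, QuotientGroup.mk_inv, QuotientGroup.mk_zpow,
      (QuotientGroup.eq_one_iff q).mpr hq, (QuotientGroup.eq_one_iff r).mpr hr, one_mul, mul_inv_rev,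
      inv_one, mul_one]
    rw [← zpow_neg, ← zpow_neg, ← zpow_add, ← zpow_add, ← zpow_add, ← zpow_zero]
    congr 1
    ring
  refine ⟨fun S => ⟨fun s hs h => ?_⟩, fun S hS => ?_⟩
  · have := (S : Subgroup H).mul_mem (hQS S (hcomm h s)) hs
    simpa using this
  · refine ⟨⟨(y' : H ⧸ (S : Subgroup H)), fun z => ?_⟩⟩
    obtain ⟨h, rfl⟩ := QuotientGroup.mk_surjective z
    obtain ⟨q, hq, i, rfl⟩ := hmem h
    refine ⟨i, ?_⟩
    simp [(QuotientGroup.eq_one_iff q).mpr (hQS S hq)]

omit [Finite G] [Fact p.Prime] in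
/-- An element normalising a finite cyclic subgroup, of order prime to `φ` of its order, centralises it. -/
theorem commute_of_cyclic (S : Subgroup G) [Finite S] (hS : IsCyclic S) {h : G}
    (hn : h ∈ Subgroup.normalizer (S : Set G)) (hcop : (orderOf h).Coprime (Nat.card S).totient)
    {s : G} (hs : s ∈ S) : h * s = s * h := by
  set φ := S.normalizerMonoidHom ⟨h, hn⟩ with hφ
  have h1 : orderOf φ ∣ orderOf h :=
    (orderOf_map_dvd _ _).trans (dvd_of_eq (Subgroup.orderOf_mk h hn))
  have h2 : orderOf φ ∣ (Nat.card S).totient :=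
    (IsCyclic.card_mulAut S) ▸ orderOf_dvd_natCard φ
  have h3 : φ = 1 := orderOf_eq_one_iff.mp (Nat.eq_one_of_dvd_coprimes hcop h1 h2)
  have h4 : h * s * h⁻¹ = s := congrArg Subtype.val (DFunLike.congr_fun h3 (⟨s, hs⟩ : S))
  exact mul_inv_eq_iff_eq_mul.mp h4

/-- A group with a cyclic central normal Sylow subgroup and cyclic quotient is cyclic. -/
theorem isCyclic_of_central {X : Type*} [Group X] [Finite X] (S : Sylow p X) [(S : Subgroup X).Normal]
    (hS : IsCyclic (S : Subgroup X)) (hc : (S : Subgroup X) ≤ Subgroup.center X)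
    (hq : IsCyclic (X ⧸ (S : Subgroup X))) : IsCyclic X := by
  obtain ⟨s, hs⟩ := hS.exists_generator
  obtain ⟨z, hz⟩ := hq.exists_generator
  obtain ⟨y, rfl⟩ := QuotientGroup.mk_surjective z
  have hso : orderOf (s : X) = Nat.card (S : Subgroup X) := by
    rw [Subgroup.orderOf_coe, orderOf_eq_card_of_forall_mem_zpowers hs]
  set n := Nat.card (S : Subgroup X) with hn
  set y' := y ^ n with hy'
  have hcop : n.Coprime (S : Subgroup X).index := S.card_coprime_index
  have hy1 : orderOf (y : X ⧸ (S : Subgroup X)) = (S : Subgroup X).index := by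
    rw [orderOf_eq_card_of_forall_mem_zpowers hz, Subgroup.index_eq_card]
  have hy2 : y' ^ (S : Subgroup X).index = 1 := by
    rw [hy', ← pow_mul, mul_comm, pow_mul]
    have h := Subgroup.pow_index_mem (S : Subgroup X) y
    exact congrArg Subtype.val (pow_card_eq_one' (x := (⟨_, h⟩ : (S : Subgroup X))))
  have hy3 : (S : Subgroup X).index ∣ orderOf y' := by
    have h := (orderOf_map_dvd (QuotientGroup.mk' (S : Subgroup X)) y')
    rw [hy', map_pow, Nat.Coprime.orderOf_pow] at h
    · rw [← hy1]; exact h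
    · show (orderOf (y : X ⧸ (S : Subgroup X))).Coprime n
      rw [hy1]; exact hcop.symm
  have hy4 : orderOf y' = (S : Subgroup X).index :=
    Nat.dvd_antisymm (orderOf_dvd_of_pow_eq_one hy2) hy3
  refine isCyclic_of_orderOf_eq_card ((s : X) * y') ?_
  have hcomm : Commute (s : X) y' := (Subgroup.mem_center_iff.mp (hc s.2) y').symm
  rw [hcomm.orderOf_mul_eq_mul_orderOf_of_coprime (by rw [hso, hy4]; exact hcop), hso, hy4,
    Subgroup.card_mul_index]

/-- In a dihedral group, an element of odd order is inverted by every element not commuting with it,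
and these are involutions. -/
theorem dihedral_odd_facts {m : ℕ} {D : Type*} [Group D] (e : D ≃* DihedralGroup m) {x y : D}
    (hx : Odd (orderOf x)) (hxy : y * x ≠ x * y) : orderOf y = 2 ∧ y * x * y⁻¹ = x⁻¹ := by
  cases hex : e x with
  | sr i =>
    exfalso
    have : orderOf x = 2 := by rw [← e.orderOf_eq x, hex, DihedralGroup.orderOf_sr]
    rw [this] at hx
    exact (Nat.not_odd_iff_even.mpr even_two) hx
  | r i =>
    cases hey : e y with
    | r j =>
      exfalso
      apply hxy
      apply e.injective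
      rw [map_mul, map_mul, hex, hey, DihedralGroup.r_mul_r, DihedralGroup.r_mul_r, add_comm]
    | sr j =>
      refine ⟨by rw [← e.orderOf_eq y, hey, DihedralGroup.orderOf_sr], ?_⟩
      apply e.injective
      rw [map_mul, map_mul, map_inv, map_inv, hex, hey, DihedralGroup.inv_sr, DihedralGroup.sr_mul_r,
        DihedralGroup.sr_mul_sr, DihedralGroup.inv_r]
      simp

end CfsgLib.FGStruct.PByCyclic
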