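import Mathlib
import Cfsg.Agent.Lib.FGStruct.MinNonNilpSylow
import Cfsg.Agent.Lib.FGStruct.FaithfulFrattini
import Cfsg.Agent.Lib.PLengthHH.Step
import Cfsg.Agent.Lib.Signalizer.Basic

/-!
A `p`-solvable group whose Sylow `p`-subgroup is that of a minimal non-nilpotent group has `p`-length
at most one.
-/

set_option autoImplicit false
set_option linter.style.haveILetI false

open Cfsg Subgroup
open scoped commutatorElement

namespace CfsgLib.FGStruct.PLengthSemi

universe u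

variable {K : Type u} [Group K] [Finite K] {p : ℕ} [hp : Fact p.Prime]

/-- The centre of a subgroup, inside the group. -/
def cen (S : Subgroup K) : Subgroup K := (Subgroup.center S).map S.subtype

omit [Finite K] in
theorem mem_cen {S : Subgroup K} {z : K} : z ∈ cen S ↔ z ∈ S ∧ ∀ s ∈ S, s * z = z * s := by
  constructor
  · rintro ⟨y, hy, rfl⟩
    exact ⟨y.2, fun s hs => congrArg Subtype.val (Subgroup.mem_center_iff.1 hy ⟨s, hs⟩)⟩
  · rintro ⟨hz, h⟩
    exact ⟨⟨z, hz⟩, Subgroup.mem_center_iff.2 fun s => Subtype.ext (h s s.2), rfl⟩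

/-- Class two gives `S ≤ O_p(K)` for `p ≥ 5`. -/
theorem le_pCore_of_class_two (hsol : IsPSolvable p K) (hO : pPrimeCore p K = ⊥) (hp5 : 5 ≤ p) (S : Sylow p K)
    (hcl : ∀ a ∈ (S : Subgroup K), ∀ b ∈ (S : Subgroup K), ⁅a, b⁆ ∈ cen (S : Subgroup K)) :
    (S : Subgroup K) ≤ pCore p K := by
  haveI hUn : (pCore p K).Normal := CfsgLib.Solvable.pCore_normal p K
  obtain ⟨R⟩ := CfsgLib.PLengthHH.exists_frattiniRep hsol hO
  obtain ⟨ρ, hρ, hρπ⟩ := R.exists_quotient
  have hsolH : IsPSolvable p (K ⧸ pCore p K) :=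
    CfsgLib.PLoc.isPSolvable_of_surjective (QuotientGroup.mk'_surjective _) hsol
  have hOp : pCore p (K ⧸ pCore p K) = ⊥ := CfsgLib.Solvable.pCore_quotient_eq_bot _ rfl
  have step : ∀ x ∈ (S : Subgroup K), x ^ p ∈ pCore p K → x ∈ pCore p K := by
    intro x hx hxp
    have hr : (ρ (QuotientGroup.mk' _ x) - 1) ^ 2 = 0 := by
      rw [hρπ]
      refine R.span _ fun v => ?_
      have hv : (v : K) ∈ (S : Subgroup K) := CfsgLib.Solvable.pCore_le_sylow S v.2
      have hc : ⁅x, (v : K)⁆ ∈ pCore p K := by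
        rw [commutatorElement_def]; exact mul_mem (hUn.conj_mem _ v.2 x) (inv_mem v.2)
      have h1 : ((1 : pCore p K) : K) = ⁅x, ((⟨_, hc⟩ : pCore p K) : K)⁆ :=
        (commutatorElement_eq_one_iff_mul_comm.2 ((mem_cen.1 (hcl x hx _ hv)).2 x hx)).symm
      rw [pow_two, Module.End.mul_apply, R.sub_one_apply x v ⟨_, hc⟩ rfl, R.sub_one_apply x _ 1 h1, R.map_one]
    have hxn : (QuotientGroup.mk' (pCore p K) x) ^ p ^ 1 = 1 := by
      rw [pow_one, ← map_pow]; exact (QuotientGroup.eq_one_iff _).2 hxp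
    have h := CfsgLib.PLengthHH.pow_eq_one_of_small_degree hsolH hOp hρ (by omega) le_rfl hxn hr
      (by simp; omega)
    rw [Nat.sub_self, pow_zero, pow_one] at h
    exact (QuotientGroup.eq_one_iff x).1 h
  have main : ∀ (k : ℕ), ∀ x ∈ (S : Subgroup K), x ^ p ^ k ∈ pCore p K → x ∈ pCore p K := by
    intro k
    induction k with
    | zero => intro x _ h; simpa using h
    | succ k ih =>
      intro x hx h
      exact step x hx (ih _ (pow_mem hx p) (by rwa [← pow_mul, ← pow_succ']))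
  intro x hx
  obtain ⟨k, hk⟩ := S.isPGroup' ⟨x, hx⟩
  refine main k x hx ?_
  have : x ^ p ^ k = 1 := congrArg Subtype.val hk
  rw [this]; exact one_mem _

/-- An element equal to a non-trivial power of an element of prime order generates it. -/
theorem mem_zpowers_of_pow_prime {W : Type*} [Group W] {g h : W} (hg : g ^ p = 1) (hh : h ∈ zpowers g)
    (h1 : h ≠ 1) : g ∈ zpowers h := by
  obtain ⟨i, rfl⟩ := hh
  have hni : ¬ (p : ℤ) ∣ i := by
    rintro ⟨j, rfl⟩
    exact h1 (by show g ^ _ = 1; rw [zpow_mul, zpow_natCast, hg, one_zpow])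
  obtain ⟨a, b, hab⟩ := (Prime.coprime_iff_not_dvd (Nat.prime_iff_prime_int.1 hp.out)).2 hni
  refine ⟨b, ?_⟩
  show (g ^ i) ^ b = g
  calc (g ^ i) ^ b = g ^ (i * b) := (zpow_mul g i b).symm
    _ = g ^ (i * b) * g ^ ((p : ℤ) * a) := by rw [zpow_mul g (p : ℤ), zpow_natCast, hg, one_zpow, mul_one]
    _ = g := by rw [← zpow_add, show i * b + (p : ℤ) * a = 1 by rw [← hab]; ring, zpow_one]

/-- The two small primes. -/
theorem le_pCore_of_semi (hsol : IsPSolvable p K) (hO : pPrimeCore p K = ⊥) (hp23 : p = 2 ∨ p = 3)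
    (S : Sylow p K) (hab : ¬ IsMulCommutative (S : Subgroup K))
    (hF : MinNonNilpSylow.Facts p (S : Subgroup K)) : (S : Subgroup K) ≤ pCore p K := by
  classical
  by_contra hSU
  set U := pCore p K with hUdef
  haveI hUn : U.Normal := CfsgLib.Solvable.pCore_normal p K
  have hUS : U ≤ (S : Subgroup K) := CfsgLib.Solvable.pCore_le_sylow S
  have hUp : IsPGroup p U := CfsgLib.Solvable.pCore_isPGroup p K
  have hCU : centralizer (U : Set K) ≤ U := CfsgLib.PLoc.centralizer_pCore_le_self hsol hO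
  set Z := cen (S : Subgroup K) with hZdef
  have hZS : Z ≤ (S : Subgroup K) := fun z hz => (mem_cen.1 hz).1
  have hZc : ∀ z ∈ Z, ∀ s ∈ (S : Subgroup K), s * z = z * s := fun z hz => (mem_cen.1 hz).2
  have hZU : Z ≤ U := fun z hz => hCU (mem_centralizer_iff.2 fun u hu => hZc z hz u (hUS hu))
  have hcomm : ∀ a ∈ (S : Subgroup K), ∀ b ∈ (S : Subgroup K), ⁅a, b⁆ ∈ Z := fun a ha b hb =>
    ⟨⁅(⟨a, ha⟩ : (S : Subgroup K)), ⟨b, hb⟩⁆, hF.comm_le (by
      rw [commutator_def]; exact commutator_mem_commutator (mem_top _) (mem_top _)), rfl⟩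
  have hpow : ∀ a ∈ (S : Subgroup K), a ^ p ∈ Z := fun a ha => ⟨_, hF.pow_mem ⟨a, ha⟩, rfl⟩
  have hsemi : ∀ v ∈ (S : Subgroup K), v ∉ Z → ∀ c ∈ Z, ∃ w ∈ (S : Subgroup K), ⁅v, w⁆ = c := by
    rintro v hv hvZ _ ⟨c, hc, rfl⟩
    obtain ⟨w, hw⟩ := hF.semi ⟨v, hv⟩ (fun h => hvZ ⟨_, h, rfl⟩) c (hF.center_le hab hc)
    exact ⟨w, w.2, congrArg Subtype.val hw⟩
  set F := frattiniCore p K with hFdef
  haveI hFn : F.Normal := ⟨fun y hy g => conj_mem_frattiniCore hy g⟩
  have hFZ : F ≤ Z := by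
    rintro _ ⟨y, hy, rfl⟩
    haveI : (Z.subgroupOf U).Normal := ⟨fun n hn g => by
      rw [mem_subgroupOf] at hn ⊢
      simp only [Subgroup.coe_mul, Subgroup.coe_inv]
      rw [hZc _ hn g (hUS g.2), mul_inv_cancel_right]
      exact hn⟩
    exact CfsgLib.PGroup.frattini_le_of_elementary (p := p) (N := Z.subgroupOf U)
      (fun a b => mem_subgroupOf.2 (hcomm a (hUS a.2) b (hUS b.2)))
      (fun a => mem_subgroupOf.2 (hpow a (hUS a.2))) hy
  have hFU : F ≤ U := hFZ.trans hZU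
  have hpowF : ∀ u ∈ U, u ^ p ∈ F := fun u hu => ⟨_, CfsgLib.PGroup.pow_mem_frattini hUp ⟨u, hu⟩, rfl⟩
  -- the quotient
  let π : K →* K ⧸ U := QuotientGroup.mk' U
  have hπ1 : ∀ a, π a = 1 ↔ a ∈ U := fun a => QuotientGroup.eq_one_iff a
  set N := pPrimeCore p (K ⧸ U) with hNdef
  haveI hNn : N.Normal := CfsgLib.Solvable.pPrimeCore_normal p _
  have hNcop : (Nat.card N).Coprime p := CfsgLib.Solvable.pPrimeCore_card_coprime p _
  have hCN : centralizer (N : Set (K ⧸ U)) ≤ N := CfsgLib.PLocal.centralizer_pPrimeCore_le_self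
    (CfsgLib.PLoc.isPSolvable_of_surjective (QuotientGroup.mk'_surjective _) hsol)
    (CfsgLib.Solvable.pCore_quotient_eq_bot _ hUdef)
  -- nothing moved by `S` normalizes `Z`
  have hchain : ∀ d x : K, π d ∈ N → x ∈ (S : Subgroup K) → π d * π x ≠ π x * π d →
      d ∉ normalizer (Z : Set K) := by
    intro d x hd hx hne hdn
    let Fx : K → Prop := fun g => ∀ z ∈ Z, g * z = z * g
    let T : K → Prop := fun g => ∀ u ∈ U, g * u * g⁻¹ * u⁻¹ ∈ Z
    have hTS : ∀ g ∈ (S : Subgroup K), Fx g ∧ T g := fun g hg =>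
      ⟨fun z hz => hZc z hz g hg, fun u hu => by
        have := hcomm g hg u (hUS hu)
        rwa [commutatorElement_def] at this⟩
    have hconj : ∀ g, Fx g ∧ T g → Fx (d * g * d⁻¹) ∧ T (d * g * d⁻¹) := by
      intro g hg
      have hin : ∀ z ∈ Z, d⁻¹ * z * d ∈ Z := fun z hz => (mem_normalizer_iff''.1 hdn z).1 hz
      refine ⟨fun z hz => ?_, fun u hu => ?_⟩
      · calc d * g * d⁻¹ * z = d * (g * (d⁻¹ * z * d)) * d⁻¹ := by group
          _ = d * ((d⁻¹ * z * d) * g) * d⁻¹ := by rw [hg.1 _ (hin z hz)]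
          _ = z * (d * g * d⁻¹) := by group
      · have hu' : d⁻¹ * u * d ∈ U := by simpa using hUn.conj_mem _ hu d⁻¹
        have h := (mem_normalizer_iff.1 hdn _).1 (hg.2 _ hu')
        convert h using 1
        group
    obtain ⟨h1, h2⟩ := hconj x (hTS x hx)
    obtain ⟨h3, h4⟩ := hTS x⁻¹ (inv_mem hx)
    set c := d * x * d⁻¹ * x⁻¹ with hc
    have hcF : Fx c := fun z hz => by
      rw [hc, mul_assoc, h3 z hz, ← mul_assoc, h1 z hz, mul_assoc]
    have hcT : T c := fun u hu => by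
      have hw := h4 u hu
      have e : c * u * c⁻¹ * u⁻¹ =
          (d * x * d⁻¹) * (x⁻¹ * u * (x⁻¹)⁻¹ * u⁻¹) * (d * x * d⁻¹)⁻¹ * ((d * x * d⁻¹) * u * (d * x * d⁻¹)⁻¹ * u⁻¹) := by
        rw [hc]; group
      rw [e, h1 _ hw, mul_inv_cancel_right]
      exact mul_mem hw (h2 u hu)
    have hcp : c ^ p ∈ U := by
      refine mem_pCore_of_trivial_on_frattini hCU fun u hu => ?_
      set w := c * u * c⁻¹ * u⁻¹ with hw
      have hcw : c * w = w * c := hcF w (hcT u hu)
      have hn : ∀ n : ℕ, c ^ n * u * (c ^ n)⁻¹ * u⁻¹ = w ^ n := by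
        intro n
        induction n with
        | zero => simp
        | succ n ih =>
          have e : c ^ (n + 1) * u * (c ^ (n + 1))⁻¹ * u⁻¹ = c * (c ^ n * u * (c ^ n)⁻¹ * u⁻¹) * c⁻¹ * w := by
            rw [hw, pow_succ']; group
          rw [e, ih, ((show Commute c w from hcw).pow_right n).eq, mul_inv_cancel_right, pow_succ]
      rw [hn]
      exact hpowF w (hZU (hcT u hu))
    have hcN : π c ∈ N := by
      rw [hc, show d * x * d⁻¹ * x⁻¹ = d * (x * d⁻¹ * x⁻¹) by group, map_mul]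
      refine mul_mem hd ?_
      rw [map_mul, map_mul, map_inv, map_inv]
      exact hNn.conj_mem _ (inv_mem hd) _
    have hc1 : π c = 1 := orderOf_eq_one_iff.1 (Nat.eq_one_of_dvd_coprimes hNcop
      (Subgroup.orderOf_dvd_natCard _ hcN)
      (orderOf_dvd_of_pow_eq_one (by rw [← map_pow]; exact (hπ1 _).2 hcp)))
    rw [hc, map_mul, map_mul, map_mul, map_inv, map_inv, mul_inv_eq_one, mul_inv_eq_iff_eq_mul] at hc1
    exact hne hc1
  -- a hyperplane of the image of `S`
  set A := (S : Subgroup K).map π with hAdef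
  have hA : IsElementaryAbelian p A := by
    refine ⟨⟨⟨?_⟩⟩, ?_⟩
    · rintro ⟨_, a, ha, rfl⟩ ⟨_, b, hb, rfl⟩
      refine Subtype.ext ?_
      show π a * π b = π b * π a
      rw [← commutatorElement_eq_one_iff_mul_comm, ← map_commutatorElement, hπ1]
      exact hZU (hcomm a ha b hb)
    · rintro _ ⟨a, ha, rfl⟩
      rw [← map_pow, hπ1]
      exact hZU (hpow a ha)
  have hAp : IsPGroup p A := S.isPGroup'.map π
  have hnle : ¬ N ≤ centralizer (A : Set (K ⧸ U)) := by
    intro h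
    refine hSU fun s hs => (hπ1 s).1 ?_
    have h1 : π s ∈ N := hCN (le_centralizer_iff.1 h ⟨s, hs, rfl⟩)
    refine orderOf_eq_one_iff.1 (Nat.eq_one_of_dvd_coprimes hNcop (Subgroup.orderOf_dvd_natCard _ h1) ?_)
    exact orderOf_dvd_of_pow_eq_one (hA.2 _ ⟨s, hs, rfl⟩)
  obtain ⟨B, hBA, hBcard, hBn⟩ := CfsgLib.Signalizer.exists_hyperplane_centralizer_not_le hA
    ((Nat.Prime.coprime_iff_not_dvd hp.out).1 hNcop.symm)
    (by rw [normalizer_eq_top_iff.2 hNn]; exact le_top) hnle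
  obtain ⟨q, ⟨hqN, hqB⟩, hqA⟩ := SetLike.not_le_iff_exists.1 hBn
  obtain ⟨_, ⟨x, hx, rfl⟩, hne⟩ : ∃ a ∈ A, a * q ≠ q * a := by
    rw [mem_centralizer_iff] at hqA
    push Not at hqA
    exact hqA
  obtain ⟨d, rfl⟩ := QuotientGroup.mk'_surjective U q
  have hdn : d ∉ normalizer (Z : Set K) := hchain d x hqN hx (Ne.symm hne)
  have hnorm : (∀ z ∈ Z, d * z * d⁻¹ ∈ Z) → False := fun h => hdn <| by
    rw [mem_normalizer_iff_map_conj_eq]
    refine eq_of_le_of_card_ge ?_ ?_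
    · rintro _ ⟨z, hz, rfl⟩; exact h z hz
    · exact (Nat.card_congr (Z.equivMapOfInjective (MulAut.conj d).toMonoidHom (MulAut.conj d).injective).toEquiv).le
  have hxB : π x ∉ B := fun h => hne (mem_centralizer_iff.1 hqB _ h)
  have hgen : B ⊔ zpowers (π x) = A := by
    have hle : B ⊔ zpowers (π x) ≤ A := sup_le hBA (zpowers_le.2 ⟨x, hx, rfl⟩)
    refine eq_of_le_of_card_ge hle ?_
    obtain ⟨j, hj⟩ := IsPGroup.iff_card.1 (hAp.to_le hle)
    obtain ⟨i, hi⟩ := IsPGroup.iff_card.1 (hAp.to_le hBA)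
    have hlt : i < j := by
      by_contra hji
      refine hxB ((eq_of_le_of_card_ge (show B ≤ B ⊔ zpowers (π x) from le_sup_left) ?_).symm ▸
        mem_sup_right (mem_zpowers _))
      rw [hi, hj]; exact Nat.pow_le_pow_right hp.out.pos (not_lt.1 hji)
    calc Nat.card A ≤ p * Nat.card B := hBcard
      _ = p ^ (i + 1) := by rw [hi, pow_succ']
      _ ≤ _ := by rw [hj]; exact Nat.pow_le_pow_right hp.out.pos hlt
  haveI := hA.1
  have hdec : ∀ w ∈ (S : Subgroup K), ∃ b ∈ (S : Subgroup K), ∃ i : ℤ, π b ∈ B ∧ w = b * x ^ i := by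
    intro w hw
    have hmem : π w ∈ B ⊔ zpowers (π x) := hgen.symm ▸ ⟨w, hw, rfl⟩
    have hBx : zpowers (π x) ≤ normalizer (B : Set (K ⧸ U)) := by
      refine le_trans ?_ (centralizer_le_normalizer _)
      rw [zpowers_le, mem_centralizer_iff]
      exact fun b hb => CfsgLib.Signalizer.elementary_commute hA (hBA hb) ⟨x, hx, rfl⟩
    rw [← SetLike.mem_coe, coe_mul_of_right_le_normalizer_left _ _ hBx] at hmem
    obtain ⟨b, hb, _, ⟨i, rfl⟩, hbe⟩ := hmem
    refine ⟨w * (x ^ i)⁻¹, mul_mem hw (inv_mem (zpow_mem hx i)), i, ?_, by group⟩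
    rw [map_mul, map_inv, map_zpow, ← hbe]
    simpa using hb
  -- elements whose commutators with the hyperplane lie in `F`
  let Pr : K → Prop := fun u => ∀ b ∈ (S : Subgroup K), π b ∈ B → ⁅u, b⁆ ∈ F
  have hZPr : ∀ z ∈ Z, Pr z := fun z hz b hb _ => by
    rw [commutatorElement_eq_one_iff_mul_comm.2 (hZc z hz b hb).symm]; exact one_mem F
  have hdb : ∀ b, π b ∈ B → d⁻¹ * b * d * b⁻¹ ∈ U ∧ d * b * d⁻¹ * b⁻¹ ∈ U := by
    intro b hb
    have h := mem_centralizer_iff.1 hqB _ hb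
    constructor <;> rw [← hπ1]
    · simp only [map_mul, map_inv]
      rw [mul_assoc (π d)⁻¹, h, inv_mul_cancel_left, mul_inv_cancel]
    · simp only [map_mul, map_inv]
      rw [← h, mul_inv_cancel_right, mul_inv_cancel]
  have hPrd : ∀ u ∈ U, Pr u → Pr (d * u * d⁻¹) := by
    intro u hu hPu b hb hbB
    set u' := d⁻¹ * b * d * b⁻¹
    have hu' : u' ∈ U := (hdb b hbB).1
    have e : ⁅d * u * d⁻¹, b⁆ = d * ((u * u' * u⁻¹ * u'⁻¹) * (u' * ⁅u, b⁆ * u'⁻¹)) * d⁻¹ := by
      simp only [commutatorElement_def, u']; group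
    rw [e]
    exact hFn.conj_mem _ (mul_mem (commutator_mem_frattiniCore hu hu') (hFn.conj_mem _ (hPu b hb hbB) u')) d
  obtain ⟨v, hvU, hvP, hvZ⟩ : ∃ v ∈ U, Pr v ∧ v ∉ Z := by
    by_contra hcon
    push Not at hcon
    exact hnorm fun z hz => hcon _ (hUn.conj_mem _ (hZU hz) d) (hPrd z (hZU hz) (hZPr z hz))
  -- commutator maps
  have hhom : ∀ y ∈ (S : Subgroup K), ∀ a ∈ (S : Subgroup K), ∀ b ∈ (S : Subgroup K),
      ⁅y, a * b⁆ = ⁅y, a⁆ * ⁅y, b⁆ := by
    intro y hy a ha b hb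
    have e : ⁅y, a * b⁆ = ⁅y, a⁆ * (a * ⁅y, b⁆ * a⁻¹) := by simp only [commutatorElement_def]; group
    rw [e, hZc _ (hcomm y hy b hb) a ha, mul_inv_cancel_right]
  have hzp : ∀ y ∈ (S : Subgroup K), ∀ i : ℤ, ⁅y, x ^ i⁆ = ⁅y, x⁆ ^ i := by
    intro y hy i
    let f : (S : Subgroup K) →* K :=
      { toFun := fun a => ⁅y, (a : K)⁆
        map_one' := by rw [OneMemClass.coe_one, commutatorElement_one_right]
        map_mul' := fun a b => by
          show ⁅y, ((a : K) * b)⁆ = _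
          exact hhom y hy a a.2 b b.2 }
    exact map_zpow f ⟨x, hx⟩ i
  set t := ⁅v, x⁆ with ht
  have hvS := hUS hvU
  have htZ : t ∈ Z := hcomm v hvS x hx
  let μ : K →* K ⧸ F := QuotientGroup.mk' F
  have hμ1 : ∀ a, μ a = 1 ↔ a ∈ F := fun a => QuotientGroup.eq_one_iff a
  have hμZ : ∀ c ∈ Z, μ c ∈ zpowers (μ t) := by
    intro c hc
    obtain ⟨w, hw, rfl⟩ := hsemi v hvS hvZ c hc
    obtain ⟨b, hb, i, hbB, rfl⟩ := hdec w hw
    rw [hhom v hvS b hb _ (zpow_mem hx i), hzp v hvS, map_mul, (hμ1 _).2 (hvP b hb hbB), one_mul, map_zpow, ← ht]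
    exact zpow_mem (mem_zpowers _) i
  -- the hyperplane is trivial
  have hBU : ∀ b ∈ (S : Subgroup K), π b ∈ B → b ∈ U := by
    intro b hb hbB
    by_contra hbU
    refine hbU (mem_pCore_of_trivial_on_frattini hCU fun u hu => ?_)
    by_contra hsF
    set s := b * u * b⁻¹ * u⁻¹ with hs
    have hsZ : s ∈ Z := by
      have := hcomm b hb u (hUS hu)
      rwa [commutatorElement_def] at this
    have hdu := hUn.conj_mem _ hu d
    have hdbS : d * b * d⁻¹ ∈ (S : Subgroup K) := by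
      rw [show d * b * d⁻¹ = (d * b * d⁻¹ * b⁻¹) * b by group]
      exact mul_mem (hUS (hdb b hbB).2) hb
    have hdsZ : d * s * d⁻¹ ∈ Z := by
      have := hcomm _ hdbS _ (hUS hdu)
      have e : ⁅d * b * d⁻¹, d * u * d⁻¹⁆ = d * s * d⁻¹ := by rw [hs, commutatorElement_def]; group
      rwa [e] at this
    have hts : μ t ∈ zpowers (μ s) := mem_zpowers_of_pow_prime (p := p)
      (by rw [← map_pow, hμ1]; exact hpowF t (hZU htZ)) (hμZ s hsZ) (fun h => hsF ((hμ1 s).1 h))
    refine hnorm fun z hz => ?_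
    obtain ⟨m, hm⟩ := zpowers_le.2 hts (hμZ z hz)
    have hzF : z * (s ^ m)⁻¹ ∈ F := by
      rw [← hμ1, map_mul, map_inv, map_zpow, mul_inv_eq_one]
      exact hm.symm
    rw [show d * z * d⁻¹ = (d * (z * (s ^ m)⁻¹) * d⁻¹) * (d * s ^ m * d⁻¹) by group]
    refine mul_mem (hFZ (hFn.conj_mem _ hzF d)) ?_
    rw [← conj_zpow]
    exact zpow_mem hdsZ m
  -- so `U` is generated by `v` and `Z`
  have hFne : ¬ Z ≤ F := fun h => hnorm fun z hz => hFZ (hFn.conj_mem _ (h hz) d)
  have htF : t ∉ F := fun h => hFne fun c hc => (hμ1 c).1 (by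
    have := hμZ c hc
    rwa [(hμ1 t).2 h, zpowers_one_eq_bot, mem_bot] at this)
  have hUZ : ∀ u ∈ U, ⁅u, x⁆ ∈ F → u ∈ Z := by
    intro u hu hux
    by_contra huZ
    refine hFne fun c hc => ?_
    obtain ⟨w, hw, rfl⟩ := hsemi u (hUS hu) huZ c hc
    obtain ⟨b, hb, i, hbB, rfl⟩ := hdec w hw
    rw [hhom u (hUS hu) b hb _ (zpow_mem hx i), hzp u (hUS hu)]
    refine mul_mem ?_ (zpow_mem hux i)
    rw [commutatorElement_def]
    exact commutator_mem_frattiniCore hu (hBU b hb hbB)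
  have hUdec : ∀ u ∈ U, ∃ i : ℤ, ∃ z ∈ Z, u = z * v ^ i := by
    intro u hu
    obtain ⟨i, hi⟩ := hμZ _ (hcomm u (hUS hu) x hx)
    refine ⟨i, u * (v ^ i)⁻¹, hUZ _ (mul_mem hu (inv_mem (zpow_mem hvU i))) ?_, by group⟩
    rw [← hμ1, map_commutatorElement, map_mul, map_inv, map_zpow]
    have hl : ∀ a ∈ (S : Subgroup K), ∀ b ∈ (S : Subgroup K), ⁅μ a * μ b, μ x⁆ = ⁅μ a, μ x⁆ * ⁅μ b, μ x⁆ := by
      intro a ha b hb
      have e : ⁅a * b, x⁆ = a * ⁅b, x⁆ * a⁻¹ * ⁅a, x⁆ := by simp only [commutatorElement_def]; group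
      rw [← map_mul, ← map_commutatorElement, e, hZc _ (hcomm b hb x hx) a ha, mul_inv_cancel_right,
        hZc _ (hcomm a ha x hx) _ (hZS (hcomm b hb x hx)), map_mul, map_commutatorElement, map_commutatorElement]
    let f : (S : Subgroup K) →* K ⧸ F :=
      { toFun := fun a => ⁅μ a, μ x⁆
        map_one' := by simp
        map_mul' := fun a b => by rw [Subgroup.coe_mul, map_mul]; exact hl a a.2 b b.2 }
    have h1 : f ⟨u, hUS hu⟩ = f ⟨v, hvS⟩ ^ i := by
      show ⁅μ u, μ x⁆ = ⁅μ v, μ x⁆ ^ i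
      rw [← map_commutatorElement, ← map_commutatorElement, ← ht]
      exact hi.symm
    have h2 : f (⟨u, hUS hu⟩ * (⟨v, hvS⟩ ^ i)⁻¹) = 1 := by
      rw [map_mul, map_inv, map_zpow, h1, mul_inv_cancel]
    exact h2
  -- `U` is abelian, `Z` has order `p`
  have hvu : ∀ u ∈ U, v * u = u * v := by
    intro u hu
    obtain ⟨i, z, hz, rfl⟩ := hUdec u hu
    rw [← mul_assoc, hZc z hz v hvS, mul_assoc, ((Commute.refl v).zpow_right i).eq, mul_assoc]
  have hZt : Z = zpowers t := by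
    refine le_antisymm (fun c hc => ?_) (zpowers_le.2 htZ)
    obtain ⟨w, hw, rfl⟩ := hsemi v hvS hvZ c hc
    obtain ⟨b, hb, i, hbB, rfl⟩ := hdec w hw
    rw [hhom v hvS b hb _ (zpow_mem hx i), hzp v hvS,
      commutatorElement_eq_one_iff_mul_comm.2 (hvu b (hBU b hb hbB)), one_mul, ← ht]
    exact zpow_mem (mem_zpowers _) i
  have ht1 : t ≠ 1 := fun h => htF (h ▸ one_mem F)
  have htp : t ^ p = 1 := by
    have h := hzp v hvS (p : ℤ)
    rw [zpow_natCast, zpow_natCast, ← ht] at h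
    rw [← h, commutatorElement_eq_one_iff_mul_comm]
    exact hZc _ (hpow x hx) v hvS
  have hZcard : Nat.card Z = p := by
    rw [hZt, Nat.card_zpowers]
    exact orderOf_eq_prime htp ht1
  have hFbot : F = ⊥ := by
    obtain ⟨k, hk, hk'⟩ := (Nat.dvd_prime_pow hp.out).1 (show Nat.card F ∣ p ^ 1 by
      rw [pow_one, ← hZcard]; exact card_dvd_of_le hFZ)
    have hk0 : k = 0 := by
      by_contra h0
      refine hFne (eq_of_le_of_card_ge hFZ ?_).ge
      rw [hZcard, hk', show k = 1 by omega, pow_one]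
    exact card_eq_one.1 (by rw [hk', hk0, pow_zero])
  have hvp : v ^ p = 1 := by
    have := hpowF v hvU
    rwa [hFbot, mem_bot] at this
  have hvord : orderOf v = p := orderOf_eq_prime hvp fun h => hvZ (h ▸ one_mem Z)
  have hUcard : Nat.card U = p * p := by
    have hsup : Z ⊔ zpowers v = U := by
      refine le_antisymm (sup_le hZU (zpowers_le.2 hvU)) fun u hu => ?_
      obtain ⟨i, z, hz, rfl⟩ := hUdec u hu
      exact mul_mem (mem_sup_left hz) (mem_sup_right (zpow_mem (mem_zpowers v) i))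
    have hvn : zpowers v ≤ normalizer (Z : Set K) := by
      refine le_trans ?_ (centralizer_le_normalizer _)
      rw [zpowers_le, mem_centralizer_iff]
      exact fun z hz => (hZc z hz v hvS).symm
    have hdis : Disjoint Z (zpowers v) := by
      rw [disjoint_iff, eq_bot_iff]
      rintro a ⟨haZ, hav⟩
      refine mem_bot.2 (by_contra fun ha1 => hvZ ?_)
      exact zpowers_le.2 haZ (mem_zpowers_of_pow_prime (p := p) hvp hav ha1)
    rw [← hsup, CfsgLib.Solvable.card_sup_of_disjoint hvn hdis, hZcard, Nat.card_zpowers, hvord]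
  have hBbot : B = ⊥ := by
    rw [eq_bot_iff]
    intro a ha
    obtain ⟨b, hb, rfl⟩ := hBA ha
    exact mem_bot.2 ((hπ1 b).2 (hBU b hb ha))
  have hAcard : Nat.card A = p := by
    rw [← hgen, hBbot, bot_sup_eq, Nat.card_zpowers]
    exact orderOf_eq_prime (hA.2 _ ⟨x, hx, rfl⟩) fun h => hxB (h ▸ one_mem B)
  have hScard : Nat.card (S : Subgroup K) = p ^ 3 := by
    have h1 : U.relIndex (S : Subgroup K) = p := by
      have := relIndex_ker (S : Subgroup K) π
      rw [QuotientGroup.ker_mk'] at this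
      rw [this]; exact hAcard
    have h2 := card_mul_index (U.subgroupOf (S : Subgroup K))
    rw [Nat.card_congr (subgroupOfEquivOfLe hUS).toEquiv, hUcard,
      show (U.subgroupOf (S : Subgroup K)).index = p from h1] at h2
    rw [← h2]; ring
  exact hvZ ⟨_, hF.small hp23 hab hScard ⟨v, hvS⟩ (Subtype.ext hvp), rfl⟩

/-- The Sylow `p`-subgroup lies in `O_p(K)`. -/
theorem le_pCore (hsol : IsPSolvable p K) (hO : pPrimeCore p K = ⊥) (S : Sylow p K)
    (hS : IsMulCommutative (S : Subgroup K) ∨ MinNonNilpSylow.Facts p (S : Subgroup K)) :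
    (S : Subgroup K) ≤ pCore p K := by
  by_cases hab : IsMulCommutative (S : Subgroup K)
  · exact (le_centralizer_iff.1 ((CfsgLib.Solvable.pCore_le_sylow S).trans
      (le_centralizer_iff_isMulCommutative.2 hab))).trans (CfsgLib.PLoc.centralizer_pCore_le_self hsol hO)
  · have hF := hS.resolve_left hab
    rcases le_or_gt 5 p with h5 | h5
    · refine le_pCore_of_class_two hsol hO h5 S fun a ha b hb =>
        ⟨⁅(⟨a, ha⟩ : (S : Subgroup K)), ⟨b, hb⟩⁆, hF.comm_le (by
          rw [commutator_def]; exact commutator_mem_commutator (mem_top _) (mem_top _)), rfl⟩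
    · refine le_pCore_of_semi hsol hO ?_ S hab hF
      have := hp.out.two_le
      have h4 : p ≠ 4 := fun h => by
        have h' := hp.out
        rw [h] at h'
        norm_num at h'
      omega

omit hp in
theorem facts_congr {P Q : Type*} [Group P] [Group Q] (e : P ≃* Q) (h : MinNonNilpSylow.Facts p P) :
    MinNonNilpSylow.Facts p Q := by
  have hcen : ∀ a : P, a ∈ Subgroup.center P → e a ∈ Subgroup.center Q := fun a ha =>
    Subgroup.mem_center_iff.2 fun b => e.symm.injective (by simpa using Subgroup.mem_center_iff.1 ha (e.symm b))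
  have hcen' : ∀ a : P, e a ∈ Subgroup.center Q → a ∈ Subgroup.center P := fun a ha =>
    Subgroup.mem_center_iff.2 fun b => e.injective (by simpa using Subgroup.mem_center_iff.1 ha (e b))
  have hcm : commutator Q = (commutator P).map e.toMonoidHom := by
    rw [commutator_def, commutator_def, map_commutator, map_top_of_surjective _ e.surjective]
  have hnab : ¬ IsMulCommutative Q → ¬ IsMulCommutative P := fun h hP => h ⟨⟨fun a b =>
    e.symm.injective (by rw [map_mul, map_mul]; exact hP.is_comm.comm _ _)⟩⟩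
  refine ⟨?_, fun v => ?_, ?_, fun hQ c hc => ?_, fun hp hQ hcard v hv => ?_⟩
  · rw [hcm]; rintro _ ⟨a, ha, rfl⟩; exact hcen a (h.comm_le ha)
  · obtain ⟨u, rfl⟩ := e.surjective v
    rw [← map_pow]; exact hcen _ (h.pow_mem u)
  · intro v hv c hc
    obtain ⟨u, rfl⟩ := e.surjective v
    rw [hcm] at hc
    obtain ⟨a, ha, rfl⟩ := hc
    obtain ⟨w, hw⟩ := h.semi u (fun hu => hv (hcen u hu)) a ha
    exact ⟨e w, by rw [← map_commutatorElement, hw]; rfl⟩
  · obtain ⟨a, rfl⟩ := e.surjective c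
    rw [hcm]
    exact ⟨a, h.center_le (hnab hQ) (hcen' a hc), rfl⟩
  · obtain ⟨u, rfl⟩ := e.surjective v
    exact hcen u (h.small hp (hnab hQ) ((Nat.card_congr e.toEquiv).trans hcard) u
      (e.injective (by rw [map_pow, hv, map_one])))

end CfsgLib.FGStruct.PLengthSemi
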