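import Mathlib
import Cfsg.Prelude
import Cfsg.Agent.Lib.FGStruct.HallPQ
import Cfsg.Agent.Lib.LocalEven.ThompsonA
import Cfsg.Agent.Lib.PNilpotent.Basic

/-!
A prime dividing some `p`-automizer divides the automizer of a normal subgroup of a Sylow
`p`-subgroup, when all `p`-automizers are `p`-solvable.
-/

set_option autoImplicit false

universe u

namespace CfsgLib.FGStruct.PQAutomizer

open CfsgLib.PLoc (joinMaxAb interMaxAb)
open scoped commutatorElement

/-- All `p`-automizers are `p`-solvable. -/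
def AllSolvable (p : ℕ) (G : Type*) [Group G] : Prop :=
  ∀ H : Subgroup G, IsPGroup p H →
    Cfsg.IsPSolvable p (Subgroup.normalizer (H : Set G) ⧸
      (Subgroup.centralizer (H : Set G)).subgroupOf (Subgroup.normalizer (H : Set G)))

/-- Some `q`-element acts nontrivially on `H`. -/
def Act (q : ℕ) {G : Type*} [Group G] (H : Subgroup G) : Prop :=
  ∃ x ∈ Subgroup.normalizer (H : Set G), (∃ k, orderOf x = q ^ k) ∧ x ∉ Subgroup.centralizer (H : Set G)

variable {G : Type*} [Group G]

theorem mem_normalizer_map {X : Type*} [Group X] (f : G →* X) (H : Subgroup G) {x : G}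
    (hx : x ∈ Subgroup.normalizer (H : Set G)) :
    f x ∈ Subgroup.normalizer ((H.map f : Subgroup X) : Set X) := by
  rw [Subgroup.mem_normalizer_iff]
  intro y
  constructor
  · rintro ⟨h, hh, rfl⟩
    exact ⟨x * h * x⁻¹, (Subgroup.mem_normalizer_iff.1 hx h).1 hh, by simp⟩
  · rintro ⟨h, hh, he⟩
    refine ⟨x⁻¹ * h * x, (Subgroup.mem_normalizer_iff''.1 hx h).1 hh, ?_⟩
    rw [map_mul, map_mul, he, map_inv]; group

theorem act_map {X : Type*} [Group X] (f : G →* X) (hf : Function.Injective f) {q : ℕ} {H : Subgroup G}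
    (h : Act q H) : Act q (H.map f) := by
  obtain ⟨x, hx, ⟨k, hk⟩, hxc⟩ := h
  refine ⟨f x, mem_normalizer_map f H hx, ⟨k, by rw [orderOf_injective f hf, hk]⟩, fun h => hxc ?_⟩
  rw [Subgroup.mem_centralizer_iff] at h ⊢
  exact fun y hy => hf (by rw [map_mul, map_mul]; exact h (f y) (Subgroup.mem_map_of_mem f hy))

theorem allSolvable_subgroup {p : ℕ} [Fact p.Prime] (h : AllSolvable p G) (M : Subgroup G) :
    AllSolvable p M := by
  intro H hH
  set H' := H.map M.subtype
  let i : Subgroup.normalizer (H : Set M) →* Subgroup.normalizer (H' : Set G) :=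
    (M.subtype.comp (Subgroup.normalizer (H : Set M)).subtype).codRestrict _
      fun x => mem_normalizer_map M.subtype H x.2
  haveI := CfsgLib.PNilpotent.centralizer_subgroupOf_normal H'
  haveI := CfsgLib.PNilpotent.centralizer_subgroupOf_normal H
  let g := (QuotientGroup.mk' ((Subgroup.centralizer (H' : Set G)).subgroupOf (Subgroup.normalizer (H' : Set G)))).comp i
  have hker : g.ker = (Subgroup.centralizer (H : Set M)).subgroupOf (Subgroup.normalizer (H : Set M)) := by
    ext x
    rw [MonoidHom.mem_ker, MonoidHom.comp_apply, QuotientGroup.mk'_apply, QuotientGroup.eq_one_iff,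
      Subgroup.mem_subgroupOf, Subgroup.mem_subgroupOf, Subgroup.mem_centralizer_iff,
      Subgroup.mem_centralizer_iff]
    constructor
    · intro hc y hy
      exact Subtype.ext (hc y.1 (Subgroup.mem_map_of_mem M.subtype hy))
    · rintro hc _ ⟨y, hy, rfl⟩
      exact congrArg Subtype.val (hc y hy)
  refine CfsgLib.PLocal.isPSolvable_of_injective (f := (QuotientGroup.kerLift g).comp
    (QuotientGroup.quotientMulEquivOfEq hker.symm).toMonoidHom) ?_ (h H' (hH.map _))
  exact (QuotientGroup.kerLift_injective g).comp (MulEquiv.injective _)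

theorem allSolvable_quotient [Finite G] {p : ℕ} [Fact p.Prime] (h : AllSolvable p G) (Z : Subgroup G)
    [Z.Normal] (hZ : IsPGroup p Z) : AllSolvable p (G ⧸ Z) := by
  intro K hK
  set π := QuotientGroup.mk' Z
  have hπ := QuotientGroup.mk'_surjective Z
  set K₀ := K.comap π
  have hK₀ : IsPGroup p K₀ := hK.comap_of_ker_isPGroup π (by rw [QuotientGroup.ker_mk']; exact hZ)
  have hmap : K₀.map π = K := Subgroup.map_comap_eq_self_of_surjective hπ K
  let i : Subgroup.normalizer (K₀ : Set G) →* Subgroup.normalizer (K : Set (G ⧸ Z)) :=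
    (π.comp (Subgroup.normalizer (K₀ : Set G)).subtype).codRestrict _ fun x => by
      have := mem_normalizer_map π K₀ x.2
      rwa [hmap] at this
  have hi : Function.Surjective i := by
    rintro ⟨y, hy⟩
    obtain ⟨x, rfl⟩ := hπ y
    refine ⟨⟨x, Subgroup.mem_normalizer_iff.2 fun z => ?_⟩, rfl⟩
    show π z ∈ K ↔ π (x * z * x⁻¹) ∈ K
    rw [map_mul, map_mul, map_inv]
    exact Subgroup.mem_normalizer_iff.1 hy (π z)
  haveI := CfsgLib.PNilpotent.centralizer_subgroupOf_normal K₀
  haveI := CfsgLib.PNilpotent.centralizer_subgroupOf_normal K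
  let g := (QuotientGroup.mk' ((Subgroup.centralizer (K : Set (G ⧸ Z))).subgroupOf
    (Subgroup.normalizer (K : Set (G ⧸ Z))))).comp i
  have hle : (Subgroup.centralizer (K₀ : Set G)).subgroupOf (Subgroup.normalizer (K₀ : Set G)) ≤ g.ker := by
    intro x hx
    rw [MonoidHom.mem_ker, MonoidHom.comp_apply, QuotientGroup.mk'_apply, QuotientGroup.eq_one_iff,
      Subgroup.mem_subgroupOf, Subgroup.mem_centralizer_iff]
    intro y hy
    obtain ⟨y, rfl⟩ := hπ y
    show π y * π x.1 = π x.1 * π y
    rw [← map_mul, ← map_mul]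
    exact congrArg π (Subgroup.mem_centralizer_iff.1 (Subgroup.mem_subgroupOf.1 hx) y hy)
  refine CfsgLib.PLoc.isPSolvable_of_surjective (f := QuotientGroup.lift _ g hle) ?_ (h K₀ hK₀)
  exact QuotientGroup.lift_surjective_of_surjective _ g ((QuotientGroup.mk'_surjective _).comp hi) hle

/-- A `q`-part of an element. -/
theorem exists_q_lift {X : Type*} [Group X] [Finite G] {q : ℕ} [hq : Fact q.Prime] (f : G →* X) (g : G)
    (hg : ∃ k, orderOf (f g) = q ^ k) : ∃ y ∈ Subgroup.zpowers g, (∃ k, orderOf y = q ^ k) ∧ f y = f g := by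
  obtain ⟨a, b, hab, ha, hb⟩ := CfsgLib.PNilpotent.exists_pPart_decomp (p := q) g
  obtain ⟨k, hk⟩ := hg
  refine ⟨g ^ a, Subgroup.pow_mem _ (Subgroup.mem_zpowers g) _, ha, ?_⟩
  have h1 : f (g ^ b) = 1 := by
    rw [← orderOf_eq_one_iff]
    refine Nat.eq_one_of_dvd_coprimes ((hb.pow_right k)) (orderOf_map_dvd f _) ?_
    rw [← hk, map_pow]
    exact orderOf_pow_dvd b
  conv_rhs => rw [← hab, map_mul, h1, mul_one]

/-- The quotient step: a nontrivial coprime action survives modulo a centralized subgroup. -/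
theorem act_quotient [Finite G] {p q : ℕ} [hp : Fact p.Prime] [hq : Fact q.Prime] (hpq : p ≠ q)
    (Z : Subgroup G) [Z.Normal] (hZ : IsPGroup p Z) {H : Subgroup G} {x : G}
    (hx : x ∈ Subgroup.normalizer (H : Set G)) (hxo : ∃ k, orderOf x = q ^ k)
    (hxH : x ∉ Subgroup.centralizer (H : Set G)) (hxZ : x ∈ Subgroup.centralizer (Z : Set G)) :
    Act q (H.map (QuotientGroup.mk' Z)) := by
  obtain ⟨k, hk⟩ := hxo
  refine ⟨QuotientGroup.mk' Z x, mem_normalizer_map _ H hx, ?_, fun hc => hxH ?_⟩
  · obtain ⟨j, -, hj⟩ := (Nat.dvd_prime_pow hq.out).1 (hk ▸ orderOf_map_dvd (QuotientGroup.mk' Z) x)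
    exact ⟨j, hj⟩
  rw [Subgroup.mem_centralizer_iff]
  intro u hu
  have hz : ⁅x, u⁆ ∈ Z := by
    rw [← QuotientGroup.eq_one_iff, commutatorElement_def]
    have := Subgroup.mem_centralizer_iff.1 hc _ (Subgroup.mem_map_of_mem (QuotientGroup.mk' Z) hu)
    rw [QuotientGroup.mk'_apply, QuotientGroup.mk'_apply] at this
    rw [QuotientGroup.mk_mul, QuotientGroup.mk_mul, QuotientGroup.mk_mul, QuotientGroup.mk_inv,
      QuotientGroup.mk_inv, ← this]
    group
  have hxz : x * ⁅x, u⁆ = ⁅x, u⁆ * x := (Subgroup.mem_centralizer_iff.1 hxZ _ hz).symm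
  have key : ∀ n : ℕ, x ^ n * u * (x ^ n)⁻¹ = ⁅x, u⁆ ^ n * u := by
    intro n
    induction n with
    | zero => simp
    | succ n ih =>
      calc x ^ (n + 1) * u * (x ^ (n + 1))⁻¹ = x * (x ^ n * u * (x ^ n)⁻¹) * x⁻¹ := by
            rw [pow_succ']; group
        _ = (x * ⁅x, u⁆ ^ n) * u * x⁻¹ := by rw [ih]; group
        _ = ⁅x, u⁆ ^ n * (x * u * x⁻¹) := by rw [((show Commute x ⁅x, u⁆ from hxz).pow_right n).eq]; group
        _ = ⁅x, u⁆ ^ n * (⁅x, u⁆ * u) := by rw [commutatorElement_def]; group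
        _ = _ := by rw [pow_succ, mul_assoc]
  have h1 := key (q ^ k)
  rw [← hk, pow_orderOf_eq_one, one_mul, inv_one, mul_one, right_eq_mul] at h1
  obtain ⟨j, hj⟩ := IsPGroup.iff_orderOf.1 hZ ⟨_, hz⟩
  rw [Subgroup.orderOf_mk] at hj
  have h2 : orderOf ⁅x, u⁆ = 1 := Nat.eq_one_of_dvd_coprimes
    (Nat.Coprime.pow j k ((Nat.coprime_primes hp.out hq.out).2 hpq))
    hj.dvd (hk ▸ orderOf_dvd_of_pow_eq_one h1)
  exact (commutatorElement_eq_one_iff_mul_comm.1 (orderOf_eq_one_iff.1 h2)).symm

theorem normalizer_le_normalizer_inter (R : Subgroup G) :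
    Subgroup.normalizer (R : Set G) ≤
      Subgroup.normalizer ((R ⊓ Subgroup.centralizer (R : Set G) : Subgroup G) : Set G) := by
  have key : ∀ n ∈ Subgroup.normalizer (R : Set G), ∀ h ∈ R ⊓ Subgroup.centralizer (R : Set G),
      n * h * n⁻¹ ∈ R ⊓ Subgroup.centralizer (R : Set G) := by
    intro n hn h hh
    refine ⟨(Subgroup.mem_normalizer_iff.1 hn h).1 hh.1, Subgroup.mem_centralizer_iff.2 fun r hr => ?_⟩
    have := Subgroup.mem_centralizer_iff.1 hh.2 _ ((Subgroup.mem_normalizer_iff''.1 hn r).1 hr)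
    calc r * (n * h * n⁻¹) = n * (n⁻¹ * r * n * h) * n⁻¹ := by group
      _ = n * (h * (n⁻¹ * r * n)) * n⁻¹ := by rw [this]
      _ = _ := by group
  intro n hn
  rw [Subgroup.mem_normalizer_iff]
  refine fun h => ⟨key n hn h, fun hh => ?_⟩
  have := key n⁻¹ (inv_mem hn) _ hh
  simpa [mul_assoc] using this

theorem normalizer_le_normalizer_join [Finite G] (R : Subgroup G) :
    Subgroup.normalizer (R : Set G) ≤ Subgroup.normalizer ((joinMaxAb 0 R : Subgroup G) : Set G) := by
  intro n hn
  have h1 := CfsgLib.PLoc.joinMaxAb_map (MulAut.conj n).toMonoidHom (MulAut.conj n).injective 0 R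
  have e : R.map (MulAut.conj n).toMonoidHom = R := Subgroup.mem_normalizer_iff_map_conj_eq.1 hn
  rw [e] at h1
  exact Subgroup.mem_normalizer_iff_map_conj_eq.2 h1.symm

/-- The induction. -/
theorem exists_full {p q : ℕ} [hp : Fact p.Prime] [hq : Fact q.Prime] (hpq : p ≠ q) (h23 : p = 2 → q ≠ 3) :
    ∀ (n : ℕ) (G : Type u) [Group G] [Finite G], Nat.card G = n → AllSolvable p G →
      ∀ H : Subgroup G, IsPGroup p H → Act q H →
        ∃ K : Subgroup G, IsPGroup p K ∧ Act q K ∧
          (Nat.card (Subgroup.normalizer (K : Set G))).factorization p = (Nat.card G).factorization p := by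
  intro n
  induction n using Nat.strong_induction_on with
  | _ n ih =>
  intro G _ _ hn hsol H₀ hH₀ hA₀
  haveI : Nonempty {H : Subgroup G // IsPGroup p H ∧ Act q H} := ⟨⟨H₀, hH₀, hA₀⟩⟩
  obtain ⟨⟨H, hH, hA⟩, hmax⟩ := Finite.exists_max
    (fun H : {H : Subgroup G // IsPGroup p H ∧ Act q H} =>
      (Nat.card (Subgroup.normalizer (H.1 : Set G))).factorization p)
  refine ⟨H, hH, hA, ?_⟩
  by_contra hfull
  set N := Subgroup.normalizer (H : Set G) with hN
  obtain ⟨S⟩ : Nonempty (Sylow p N) := inferInstance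
  set R := (S : Subgroup N).map N.subtype with hR
  have hRp : IsPGroup p R := S.isPGroup'.map _
  have hRN : R ≤ N := Subgroup.map_subtype_le _
  have hRc : Nat.card R = p ^ (Nat.card N).factorization p := by
    rw [hR, Subgroup.card_map_of_injective N.subtype_injective, S.card_eq_multiplicity]
  -- subgroups with a larger normalizer cannot occur
  have hbig : ∀ K : Subgroup G, IsPGroup p K → Act q K →
      Subgroup.normalizer (R : Set G) ≤ Subgroup.normalizer (K : Set G) → False := by
    intro K hK hKA hle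
    obtain ⟨P, hP⟩ := hRp.exists_le_sylow
    have hne : R ≠ (P : Subgroup G) := fun h => hfull (by
      have h1 := P.card_eq_multiplicity
      rw [show Nat.card (P : Subgroup G) = Nat.card R by rw [h], hRc] at h1
      exact Nat.pow_right_injective hp.out.two_le h1)
    haveI : Group.IsNilpotent (P : Subgroup G) := P.isPGroup'.isNilpotent
    have hlt : R.subgroupOf P < ⊤ := lt_top_iff_ne_top.2 fun h =>
      hne (le_antisymm hP (Subgroup.subgroupOf_eq_top.1 h))
    obtain ⟨y, hy, hy'⟩ := SetLike.exists_of_lt (Group.normalizerCondition_of_isNilpotent _ hlt)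
    have hyn : (y : G) ∈ Subgroup.normalizer (R : Set G) := by
      have h1 := mem_normalizer_map (P : Subgroup G).subtype _ hy
      rwa [Subgroup.subgroupOf_map_subtype, inf_of_le_left hP] at h1
    set T := (P : Subgroup G) ⊓ Subgroup.normalizer (K : Set G)
    have hRT : R < T := by
      refine lt_of_le_of_ne (le_inf hP (Subgroup.le_normalizer.trans hle)) fun h => hy' ?_
      show (y : G) ∈ R
      rw [h]
      exact ⟨y.2, hle hyn⟩
    have hTp : IsPGroup p T := P.isPGroup'.to_le inf_le_left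
    obtain ⟨t, ht⟩ := IsPGroup.iff_card.1 hTp
    have h1 : p ^ (Nat.card N).factorization p < p ^ t := by
      rw [← hRc, ← ht]
      exact lt_of_le_of_ne (Subgroup.card_le_of_le hRT.le) fun h =>
        hRT.ne (Subgroup.eq_of_le_of_card_ge hRT.le h.ge)
    have h2 : t ≤ (Nat.card (Subgroup.normalizer (K : Set G))).factorization p :=
      (hp.out.pow_dvd_iff_le_factorization Nat.card_pos.ne').1 (ht ▸ Subgroup.card_dvd_of_le inf_le_right)
    have h3 := hmax ⟨K, hK, hKA⟩
    have h4 := (Nat.pow_lt_pow_iff_right hp.out.one_lt).1 h1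
    have h5 : (Nat.card (Subgroup.normalizer (K : Set G))).factorization p ≤ (Nat.card N).factorization p := h3
    omega
  -- the group `T₁`
  haveI := CfsgLib.PNilpotent.centralizer_subgroupOf_normal H
  set C := (Subgroup.centralizer (H : Set G)).subgroupOf N with hC
  obtain ⟨D, hD⟩ := CfsgLib.PNilpotent.sylow_subgroupOf_card S C
  set D' := (D : Subgroup C).map C.subtype with hD'
  have hD'eq : D' = (S : Subgroup N) ⊓ C := by rw [hD', hD, Subgroup.subgroupOf_map_subtype]
  set T₁ := Subgroup.normalizer (D' : Set N) with hT₁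
  have hfrat : T₁ ⊔ C = ⊤ := Sylow.normalizer_sup_eq_top D
  have hST : (S : Subgroup N) ≤ T₁ := by
    intro s hs
    have hCn : C.Normal := inferInstance
    rw [hT₁, Subgroup.mem_normalizer_iff, hD'eq]
    intro y
    constructor
    · intro hy
      exact ⟨(S : Subgroup N).mul_mem ((S : Subgroup N).mul_mem hs hy.1) ((S : Subgroup N).inv_mem hs),
        hCn.conj_mem y hy.2 s⟩
    · intro hy
      refine ⟨?_, ?_⟩
      · have := (S : Subgroup N).mul_mem ((S : Subgroup N).mul_mem ((S : Subgroup N).inv_mem hs) hy.1) hs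
        rw [show s⁻¹ * (s * y * s⁻¹) * s = y by group] at this
        exact this
      · have := hCn.conj_mem _ hy.2 s⁻¹
        simpa [mul_assoc] using this
  set C₁ := C.subgroupOf T₁ with hC₁
  haveI : C₁.Normal := inferInstance
  set S₁ := D'.subgroupOf T₁ with hS₁
  haveI : S₁.Normal := Subgroup.normal_in_normalizer
  have hD'C : D' ≤ C := hD'eq ▸ inf_le_right
  have hS₁C₁ : S₁ ≤ C₁ := fun x hx => hD'C hx
  have hsolT : Cfsg.IsPSolvable p T₁ := by
    refine CfsgLib.FGStruct.HallPQ.isPSolvable_of_extension S₁ (Or.inl ?_) ?_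
    · exact IsPGroup.iff_card.1 ((D.isPGroup'.map C.subtype).comap_of_injective _ T₁.subtype_injective)
    · haveI : (C₁.map (QuotientGroup.mk' S₁)).Normal :=
        Subgroup.Normal.map inferInstance _ (QuotientGroup.mk'_surjective S₁)
      refine CfsgLib.FGStruct.HallPQ.isPSolvable_of_extension (C₁.map (QuotientGroup.mk' S₁)) (Or.inr ?_) ?_
      · rw [← Subgroup.relIndex_ker, QuotientGroup.ker_mk']
        have h1 : S₁.relIndex C₁ ∣ (D : Subgroup C).index := by
          rw [hS₁, hC₁, show D'.subgroupOf T₁ = D'.comap T₁.subtype from rfl, Subgroup.relIndex_comap,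
            Subgroup.subgroupOf_map_subtype]
          have h2 : (D : Subgroup C).index = D'.relIndex C := by
            rw [hD', Subgroup.relIndex, ← Subgroup.comap_subtype,
              Subgroup.comap_map_eq_self_of_injective C.subtype_injective]
          rw [h2]
          have hle : D' ≤ C ⊓ T₁ := le_inf hD'C Subgroup.le_normalizer
          exact ⟨_, (Subgroup.relIndex_mul_relIndex D' (C ⊓ T₁) C hle inf_le_left).symm⟩
        exact Nat.Coprime.coprime_dvd_left h1 (hp.out.coprime_iff_not_dvd.2 D.not_dvd_index).symm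
      · let g : T₁ →* N ⧸ C := (QuotientGroup.mk' C).comp T₁.subtype
        have hker : g.ker = C₁ := by
          ext x
          rw [MonoidHom.mem_ker, MonoidHom.comp_apply, QuotientGroup.mk'_apply, QuotientGroup.eq_one_iff]
          rfl
        refine CfsgLib.PLocal.isPSolvable_of_injective (f := (QuotientGroup.kerLift g).comp
          ((QuotientGroup.quotientQuotientEquivQuotient S₁ C₁ hS₁C₁).trans
            (QuotientGroup.quotientMulEquivOfEq hker.symm)).toMonoidHom) ?_ (hsol H hH)
        exact (QuotientGroup.kerLift_injective g).comp (MulEquiv.injective _)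
  -- the Hall subgroup
  let S' : Sylow p T₁ := S.subtype hST
  obtain ⟨W, hSW, hWc⟩ := CfsgLib.FGStruct.HallPQ.exists_hall hpq _ T₁ rfl hsolT S'
  set f := N.subtype.comp T₁.subtype with hf
  have hfi : Function.Injective f := N.subtype_injective.comp T₁.subtype_injective
  set W' := W.map f with hW'
  have hW'c : Nat.card W' = Nat.card W := Subgroup.card_map_of_injective hfi
  have hW'N : W' ≤ N := by
    rintro _ ⟨w, -, rfl⟩
    exact (w : N).2
  have hRW : R ≤ W' := by
    rintro _ ⟨r, hr, rfl⟩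
    exact ⟨⟨r, hST hr⟩, hSW hr, rfl⟩
  have hHR : H ≤ R := by
    have hHN : H.subgroupOf N ≤ (S : Subgroup N) := by
      haveI : (H.comap N.subtype).Normal := Subgroup.normal_in_normalizer
      have h1 := IsPGroup.to_sup_of_normal_left (hH.comap_of_injective N.subtype N.subtype_injective) S.isPGroup'
      exact le_trans le_sup_left (S.is_maximal' h1 le_sup_right).le
    intro x hx
    exact ⟨⟨x, Subgroup.le_normalizer hx⟩, hHN hx, rfl⟩
  -- a `q`-element of `W'` outside `C(H)`
  have hqW : ∃ x ∈ W', (∃ k, orderOf x = q ^ k) ∧ x ∉ Subgroup.centralizer (H : Set G) := by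
    obtain ⟨x, hxN, ⟨k, hk⟩, hxC⟩ := hA
    have hqC₁ : q ∣ C₁.index := by
      have e : C₁.index = C.index := by
        rw [hC₁, ← Subgroup.relIndex]
        rw [← Subgroup.relIndex_sup_right (H := T₁) (K := C), hfrat, Subgroup.relIndex_top_right]
      rw [e]
      have hx1 : (QuotientGroup.mk (⟨x, hxN⟩ : N) : N ⧸ C) ≠ 1 := fun h =>
        hxC (Subgroup.mem_subgroupOf.1 ((QuotientGroup.eq_one_iff (⟨x, hxN⟩ : N)).1 h) :)
      have hd : orderOf (QuotientGroup.mk (⟨x, hxN⟩ : N) : N ⧸ C) ∣ q ^ k := by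
        rw [← hk, ← Subgroup.orderOf_mk x hxN]
        exact orderOf_map_dvd (QuotientGroup.mk' C) _
      obtain ⟨j, -, hj⟩ := (Nat.dvd_prime_pow hq.out).1 hd
      refine dvd_trans ?_ (orderOf_dvd_natCard (QuotientGroup.mk (⟨x, hxN⟩ : N) : N ⧸ C))
      rw [hj]
      refine dvd_pow_self q fun h0 => hx1 ?_
      rw [← orderOf_eq_one_iff, hj, h0, pow_zero]
    obtain ⟨Q⟩ : Nonempty (Sylow q W) := inferInstance
    by_contra hall
    push Not at hall
    have hQC : (Q : Subgroup W).map W.subtype ≤ C₁ := by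
      rintro _ ⟨w, hw, rfl⟩
      obtain ⟨j, hj⟩ := IsPGroup.iff_orderOf.1 Q.isPGroup' ⟨w, hw⟩
      rw [Subgroup.orderOf_mk, ← Subgroup.orderOf_coe] at hj
      exact hall _ (Subgroup.mem_map_of_mem f w.2) ⟨j, (orderOf_injective f hfi (w : T₁)).trans hj⟩
    have h1 := Subgroup.card_dvd_of_le hQC
    rw [Subgroup.card_map_of_injective W.subtype_injective, Q.card_eq_multiplicity, hWc,
      Nat.factorization_mul (pow_ne_zero _ hp.out.ne_zero) (pow_ne_zero _ hq.out.ne_zero),
      Nat.Prime.factorization_pow hp.out, Nat.Prime.factorization_pow hq.out, Finsupp.add_apply,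
      Finsupp.single_eq_same, Finsupp.single_eq_of_ne hpq.symm, zero_add] at h1
    have h2 := (hq.out.pow_dvd_iff_le_factorization Nat.card_pos.ne').1 h1
    exact CfsgLib.FGStruct.HallPQ.not_dvd_index_of_factorization_eq C₁ (le_antisymm
      ((Nat.factorization_le_iff_dvd Nat.card_pos.ne' Nat.card_pos.ne').2 (Subgroup.card_subgroup_dvd_card _) q) h2) hqC₁
  obtain ⟨x, hxW, ⟨kx, hkx⟩, hxC⟩ := hqW
  -- `W'` is a `{p, q}`-group with Sylow `R` and no normal `p`-complement
  have hpord : ∀ g : W', (orderOf g).Coprime p → ∃ j, orderOf (g : G) = q ^ j := by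
    intro g hg
    have hd : orderOf g ∣ Nat.card W' := orderOf_dvd_natCard g
    rw [hW'c, hWc] at hd
    obtain ⟨j, -, hj⟩ := (Nat.dvd_prime_pow hq.out).1 ((hg.pow_right _).dvd_of_dvd_mul_left hd)
    exact ⟨j, (Subgroup.orderOf_coe g).trans hj⟩
  have hRidx : ¬ p ∣ (R.subgroupOf W').index := by
    refine CfsgLib.FGStruct.HallPQ.not_dvd_index_of_factorization_eq _ ?_
    rw [Nat.card_congr (Subgroup.subgroupOfEquivOfLe hRW).toEquiv, hW'c]
    have hle : (Nat.card W).factorization p ≤ (Nat.card N).factorization p :=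
      (Nat.factorization_le_iff_dvd Nat.card_pos.ne' Nat.card_pos.ne').2 (hW'c ▸ Subgroup.card_dvd_of_le hW'N) p
    have hge : (Nat.card R).factorization p ≤ (Nat.card W).factorization p :=
      (Nat.factorization_le_iff_dvd Nat.card_pos.ne' Nat.card_pos.ne').2 (hW'c ▸ Subgroup.card_dvd_of_le hRW) p
    rw [hRc, Nat.Prime.factorization_pow hp.out, Finsupp.single_eq_same] at hge ⊢
    omega
  let RW : Sylow p W' := (hRp.comap_of_injective W'.subtype W'.subtype_injective).toSylow hRidx
  have hRWmap : ((RW : Subgroup W')).map W'.subtype = R := by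
    show (R.subgroupOf W').map W'.subtype = R
    rw [Subgroup.subgroupOf_map_subtype, inf_of_le_left hRW]
  have hnot : ¬ Cfsg.HasNormalPComplement p W' := by
    rintro ⟨P', M, hM, hMc⟩
    refine hxC (Subgroup.mem_centralizer_iff.2 fun u hu => ?_)
    haveI : (H.subgroupOf W').Normal := Subgroup.normal_subgroupOf_of_le_normalizer hW'N
    have hpg : IsPGroup p (W' ⧸ M) := by
      obtain ⟨i, hi⟩ := IsPGroup.iff_card.1 P'.isPGroup'
      refine IsPGroup.of_card (n := i) ?_
      rw [← hi, ← Subgroup.index_eq_card, hMc.symm.index_eq_card]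
    have hxM : (⟨x, hxW⟩ : W') ∈ M := by
      refine CfsgLib.PNilpotent.mem_of_coprime_of_isPGroup_quotient hpg ?_
      rw [Subgroup.orderOf_mk, hkx]
      exact Nat.Coprime.pow_left _ ((Nat.coprime_primes hq.out hp.out).2 hpq.symm)
    have hdisj : H.subgroupOf W' ⊓ M = ⊥ := by
      refine Subgroup.inf_eq_bot_of_coprime ?_
      obtain ⟨i, hi⟩ := IsPGroup.iff_card.1 (hH.comap_of_injective W'.subtype W'.subtype_injective)
      rw [show Nat.card (H.subgroupOf W') = p ^ i from hi, ← hMc.index_eq_card]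
      exact Nat.Coprime.pow_left i (hp.out.coprime_iff_not_dvd.2 P'.not_dvd_index)
    exact congrArg Subtype.val (Subgroup.commute_of_normal_of_disjoint _ _ inferInstance hM
      (disjoint_iff.2 hdisj) ⟨u, hRW (hHR hu)⟩ ⟨x, hxW⟩ hu hxM).eq
  have hS4 : p ≠ 2 ∨ ¬ Cfsg.Involves (Equiv.Perm (Fin 4)) W' := by
    by_cases hp2 : p = 2
    · refine Or.inr ?_
      rintro ⟨A, B, hB, ⟨e⟩⟩
      have h24 : 3 ∣ Nat.card W' := by
        refine dvd_trans ?_ (Subgroup.card_subgroup_dvd_card A)
        refine dvd_trans ?_ (Subgroup.card_quotient_dvd_card (B.subgroupOf A))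
        rw [Nat.card_congr e.toEquiv, Nat.card_eq_fintype_card, Fintype.card_perm, Fintype.card_fin]
        decide
      rw [hW'c, hWc] at h24
      rcases Nat.prime_three.dvd_mul.1 h24 with h | h
      · have := (Nat.prime_dvd_prime_iff_eq Nat.prime_three hp.out).1 (Nat.prime_three.dvd_of_dvd_pow h)
        omega
      · exact h23 hp2 ((Nat.prime_dvd_prime_iff_eq Nat.prime_three hq.out).1 (Nat.prime_three.dvd_of_dvd_pow h)).symm
    · exact Or.inl hp2
  have hhyp : ¬ CfsgLib.LocalEven.ThompsonA.HypA p (RW : Subgroup W') := fun h =>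
    hnot (CfsgLib.LocalEven.ThompsonA.hasNormalPComplement_of_hypA hS4 RW h)
  set Z := R ⊓ Subgroup.centralizer (R : Set G) with hZ
  have hZW : Z ≤ W' := inf_le_left.trans hRW
  -- an element centralizing `Z` acting nontrivially
  have hcase : ∃ (Q : Subgroup G) (g : G), Q ≤ R ∧ g ∈ Subgroup.normalizer (Q : Set G) ∧
      (∃ j, orderOf g = q ^ j) ∧ g ∉ Subgroup.centralizer (Q : Set G) ∧
      g ∈ Subgroup.centralizer (Z : Set G) := by
    have extract : ∀ M : Subgroup W', ¬ Cfsg.HasNormalPComplement p M → (RW : Subgroup W') ≤ M →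
        ∃ (Q : Subgroup G) (g : M), Q ≤ R ∧ ((g : W') : G) ∈ Subgroup.normalizer (Q : Set G) ∧
          (∃ j, orderOf ((g : W') : G) = q ^ j) ∧ ((g : W') : G) ∉ Subgroup.centralizer (Q : Set G) := by
      intro M hM hle
      obtain ⟨Q, hQ, -, g, hg, hgo, hgc⟩ := CfsgLib.PNilpotent.exists_nontrivial_action (RW.subtype hle)
        fun ⟨N', h1, h2⟩ => hM ⟨_, N', h1, h2⟩
      let e := W'.subtype.comp M.subtype
      have he : Function.Injective e := W'.subtype_injective.comp M.subtype_injective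
      refine ⟨Q.map e, g, ?_, mem_normalizer_map e Q hg, ?_, fun h => hgc ?_⟩
      · rintro _ ⟨w, hw, rfl⟩
        rw [← hRWmap]
        exact Subgroup.mem_map_of_mem W'.subtype (hQ hw : (w : W') ∈ (RW : Subgroup W'))
      · exact hpord _ (by rwa [Subgroup.orderOf_coe])
      · rw [Subgroup.mem_centralizer_iff] at h ⊢
        exact fun y hy => he (by rw [map_mul, map_mul]; exact h _ (Subgroup.mem_map_of_mem e hy))
    by_cases hCZ : Cfsg.HasNormalPComplement p (Subgroup.centralizer
        (((RW : Subgroup W') ⊓ Subgroup.centralizer ((RW : Subgroup W') : Set W') : Subgroup W') : Set W'))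
    · have hJn : ¬ Cfsg.HasNormalPComplement p
          (Subgroup.normalizer ((joinMaxAb 0 (RW : Subgroup W') : Subgroup W') : Set W')) :=
        fun h => hhyp ⟨h, hCZ⟩
      obtain ⟨Q, g, hQR, hg1, hg2, hg3⟩ := extract _ hJn (le_trans Subgroup.le_normalizer
        (normalizer_le_normalizer_join _))
      refine ⟨Q, _, hQR, hg1, hg2, hg3, ?_⟩
      have hJ : (joinMaxAb 0 (RW : Subgroup W')).map W'.subtype = joinMaxAb 0 R := by
        rw [← CfsgLib.PLoc.joinMaxAb_map W'.subtype W'.subtype_injective, hRWmap]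
      have hgn : ((g : W') : G) ∈ Subgroup.normalizer ((joinMaxAb 0 R : Subgroup G) : Set G) := by
        rw [← hJ]; exact mem_normalizer_map W'.subtype _ g.2
      have hgc : ((g : W') : G) ∈ Subgroup.centralizer ((joinMaxAb 0 R : Subgroup G) : Set G) := by
        by_contra hgc
        exact hbig _ (hRp.to_le (CfsgLib.PLoc.joinMaxAb_le 0 R)) ⟨_, hgn, hg2, hgc⟩
          (normalizer_le_normalizer_join R)
      obtain ⟨A, hA'⟩ := CfsgLib.PLoc.exists_isMaxAb 0 R
      exact Subgroup.centralizer_le ((CfsgLib.LocalEven.ThompsonA.center_le_interMaxAb R).trans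
        ((CfsgLib.PLoc.interMaxAb_le hA').trans (CfsgLib.PLoc.le_joinMaxAb hA'))) hgc
    · obtain ⟨Q, g, hQR, hg1, hg2, hg3⟩ := extract _ hCZ (by
        rw [Subgroup.le_centralizer_iff]
        exact inf_le_right)
      refine ⟨Q, _, hQR, hg1, hg2, hg3, Subgroup.mem_centralizer_iff.2 fun z hz => ?_⟩
      have h1 : (⟨z, hZW hz⟩ : W') ∈ (RW : Subgroup W') ⊓ Subgroup.centralizer ((RW : Subgroup W') : Set W') :=
        ⟨hz.1, Subgroup.mem_centralizer_iff.2 fun r hr => Subtype.ext
          (Subgroup.mem_centralizer_iff.1 hz.2 r.1 hr)⟩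
      exact congrArg Subtype.val (Subgroup.mem_centralizer_iff.1 g.2 _ h1)
  obtain ⟨Q, g, hQR, hgQ, hgo, hgQc, hgZ⟩ := hcase
  have hZp : IsPGroup p Z := hRp.to_le inf_le_left
  have hNRZ : Subgroup.normalizer (R : Set G) ≤ Subgroup.normalizer (Z : Set G) :=
    normalizer_le_normalizer_inter R
  by_cases hM : Subgroup.normalizer (Z : Set G) = ⊤
  · haveI : Z.Normal := Subgroup.normalizer_eq_top_iff.1 hM
    have hZ1 : Z ≠ ⊥ := by
      refine CfsgLib.ThompsonComplement.center_ne_bot hRp fun h => ?_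
      obtain ⟨y, hy, -, hyc⟩ := hA
      refine hyc (Subgroup.mem_centralizer_iff.2 fun u hu => ?_)
      have : u ∈ (⊥ : Subgroup G) := h ▸ hHR hu
      rw [Subgroup.mem_bot] at this
      simp [this]
    have hlt : Nat.card (G ⧸ Z) < n := by
      rw [← hn, ← Z.card_mul_index]
      exact lt_mul_left Nat.card_pos (Subgroup.one_lt_card_iff_ne_bot Z |>.2 hZ1)
    obtain ⟨K, hK, ⟨y, hy, hyo, hyc⟩, hKf⟩ := ih _ hlt (G ⧸ Z) rfl (allSolvable_quotient hsol Z hZp)
      (Q.map (QuotientGroup.mk' Z)) ((hRp.to_le hQR).map _) (act_quotient hpq Z hZp hgQ hgo hgQc hgZ)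
    set π := QuotientGroup.mk' Z
    have hπ := QuotientGroup.mk'_surjective Z
    have hK₀ : IsPGroup p (K.comap π) := hK.comap_of_ker_isPGroup π (by rw [QuotientGroup.ker_mk']; exact hZp)
    have hnorm : Subgroup.normalizer ((K.comap π : Subgroup G) : Set G) = (Subgroup.normalizer (K : Set (G ⧸ Z))).comap π := by
      ext z
      simp only [Subgroup.mem_normalizer_iff, Subgroup.mem_comap]
      constructor
      · intro h w
        obtain ⟨w, rfl⟩ := hπ w
        have := h w
        rw [map_mul, map_mul, map_inv] at this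
        exact this
      · intro h w
        rw [map_mul, map_mul, map_inv]
        exact h (π w)
    obtain ⟨y₀, rfl⟩ := hπ y
    obtain ⟨y', hy', hy'o, hy'e⟩ := exists_q_lift (q := q) π y₀ hyo
    have hAct : Act q (K.comap π) := by
      refine ⟨y', ?_, hy'o, fun hc => hyc ?_⟩
      · rw [hnorm, Subgroup.mem_comap, hy'e]; exact hy
      · rw [← hy'e, Subgroup.mem_centralizer_iff]
        intro w hw
        obtain ⟨w, rfl⟩ := hπ w
        rw [← map_mul, ← map_mul, Subgroup.mem_centralizer_iff.1 hc w hw]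
    have hfull' : (Nat.card (Subgroup.normalizer ((K.comap π : Subgroup G) : Set G))).factorization p =
        (Nat.card G).factorization p := by
      refine CfsgLib.FGStruct.HallPQ.factorization_eq_of_relIndex _ ?_
      rw [hnorm, Subgroup.index_comap_of_surjective _ hπ]
      exact CfsgLib.FGStruct.HallPQ.not_dvd_index_of_factorization_eq _ hKf
    have h1 : (Nat.card (Subgroup.normalizer ((K.comap π : Subgroup G) : Set G))).factorization p ≤
        (Nat.card N).factorization p := hmax ⟨_, hK₀, hAct⟩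
    have h2 := (Nat.factorization_le_iff_dvd (Nat.card_pos (α := N)).ne' (Nat.card_pos (α := G)).ne').2
      (Subgroup.card_subgroup_dvd_card N) p
    exact hfull (le_antisymm h2 (hfull' ▸ h1))
  · set M := Subgroup.normalizer (Z : Set G) with hMdef
    have hlt : Nat.card M < n := by
      rw [← hn]
      exact lt_of_le_of_ne (Subgroup.card_le_card_group _) fun h => hM (Subgroup.eq_top_of_card_eq _ h)
    have hQM : Q ≤ M := hQR.trans (Subgroup.le_normalizer.trans hNRZ)
    have hgM : g ∈ M := Subgroup.centralizer_le_normalizer _ hgZ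
    obtain ⟨j, hj⟩ := hgo
    obtain ⟨K, hK, hKA, hKf⟩ := ih _ hlt M rfl (allSolvable_subgroup hsol M) (Q.subgroupOf M)
      ((hRp.to_le hQR).comap_of_injective _ M.subtype_injective)
      ⟨⟨g, hgM⟩, Subgroup.mem_normalizer_iff.2 fun z => Subgroup.mem_normalizer_iff.1 hgQ z.1,
        ⟨j, by rw [Subgroup.orderOf_mk, hj]⟩, fun h => hgQc (Subgroup.mem_centralizer_iff.2 fun u hu =>
          congrArg Subtype.val (Subgroup.mem_centralizer_iff.1 h ⟨u, hQM hu⟩ hu))⟩
    have h1 : (Nat.card (Subgroup.normalizer ((K.map M.subtype : Subgroup G) : Set G))).factorization p ≤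
        (Nat.card N).factorization p := hmax ⟨K.map M.subtype, hK.map _, act_map _ M.subtype_injective hKA⟩
    -- the normalizer of `Z` has a larger `p`-part
    obtain ⟨P, hP⟩ := hRp.exists_le_sylow
    have h2 : (Nat.card M).factorization p ≤
        (Nat.card (Subgroup.normalizer ((K.map M.subtype : Subgroup G) : Set G))).factorization p := by
      rw [← hKf]
      refine (Nat.factorization_le_iff_dvd Nat.card_pos.ne' Nat.card_pos.ne').2 ?_ p
      rw [← Subgroup.card_map_of_injective M.subtype_injective]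
      refine Subgroup.card_dvd_of_le ?_
      rintro _ ⟨z, hz, rfl⟩
      exact mem_normalizer_map M.subtype K hz
    haveI : Group.IsNilpotent (P : Subgroup G) := P.isPGroup'.isNilpotent
    have hne : R ≠ (P : Subgroup G) := fun h => hfull (by
      have h1 := P.card_eq_multiplicity
      rw [show Nat.card (P : Subgroup G) = Nat.card R by rw [h], hRc] at h1
      exact Nat.pow_right_injective hp.out.two_le h1)
    have hlt' : R.subgroupOf P < ⊤ := lt_top_iff_ne_top.2 fun h =>
      hne (le_antisymm hP (Subgroup.subgroupOf_eq_top.1 h))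
    obtain ⟨y, hy, hy'⟩ := SetLike.exists_of_lt (Group.normalizerCondition_of_isNilpotent _ hlt')
    have hyn : (y : G) ∈ M := hNRZ (by
      have h1 := mem_normalizer_map (P : Subgroup G).subtype _ hy
      rwa [Subgroup.subgroupOf_map_subtype, inf_of_le_left hP] at h1)
    have hRT : R < (P : Subgroup G) ⊓ M := by
      refine lt_of_le_of_ne (le_inf hP (Subgroup.le_normalizer.trans hNRZ)) fun h => hy' ?_
      show (y : G) ∈ R
      rw [h]
      exact ⟨y.2, hyn⟩
    obtain ⟨t, ht⟩ := IsPGroup.iff_card.1 (P.isPGroup'.to_le (inf_le_left : (P : Subgroup G) ⊓ M ≤ _))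
    have h3 : p ^ (Nat.card N).factorization p < p ^ t := by
      rw [← hRc, ← ht]
      exact lt_of_le_of_ne (Subgroup.card_le_of_le hRT.le) fun h =>
        hRT.ne (Subgroup.eq_of_le_of_card_ge hRT.le h.ge)
    have h4 : t ≤ (Nat.card M).factorization p :=
      (hp.out.pow_dvd_iff_le_factorization Nat.card_pos.ne').1 (ht ▸ Subgroup.card_dvd_of_le inf_le_right)
    have h5 := (Nat.pow_lt_pow_iff_right hp.out.one_lt).1 h3
    omega

/-- Back to indices. -/
theorem act_iff_dvd_index {G : Type*} [Group G] [Finite G] {q : ℕ} [hq : Fact q.Prime] (H : Subgroup G) :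
    Act q H ↔ q ∣ ((Subgroup.centralizer (H : Set G)).subgroupOf (Subgroup.normalizer (H : Set G))).index := by
  haveI := CfsgLib.PNilpotent.centralizer_subgroupOf_normal H
  set N := Subgroup.normalizer (H : Set G)
  set C := (Subgroup.centralizer (H : Set G)).subgroupOf N
  constructor
  · rintro ⟨x, hx, ⟨k, hk⟩, hxc⟩
    have h1 : (QuotientGroup.mk (⟨x, hx⟩ : N) : N ⧸ C) ≠ 1 := fun h =>
      hxc (Subgroup.mem_subgroupOf.1 ((QuotientGroup.eq_one_iff (⟨x, hx⟩ : N)).1 h) :)
    obtain ⟨j, -, hj⟩ := (Nat.dvd_prime_pow hq.out).1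
      (hk ▸ Subgroup.orderOf_mk x hx ▸ orderOf_map_dvd (QuotientGroup.mk' C) (⟨x, hx⟩ : N))
    refine dvd_trans ?_ (orderOf_dvd_natCard (QuotientGroup.mk' C (⟨x, hx⟩ : N)))
    rw [hj]
    refine dvd_pow_self q fun h0 => h1 ?_
    rw [← QuotientGroup.mk'_apply, ← orderOf_eq_one_iff, hj, h0, pow_zero]
  · intro h
    obtain ⟨v, hv⟩ := exists_prime_orderOf_dvd_card' (G := N ⧸ C) q h
    obtain ⟨g, rfl⟩ := QuotientGroup.mk'_surjective C v
    obtain ⟨y, -, ⟨k, hk⟩, hye⟩ := exists_q_lift (q := q) (QuotientGroup.mk' C) g ⟨1, by rw [hv, pow_one]⟩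
    refine ⟨y, y.2, ⟨k, by rw [Subgroup.orderOf_coe, hk]⟩, fun hc => hq.out.ne_one ?_⟩
    rw [← hv, ← hye, orderOf_eq_one_iff, QuotientGroup.mk'_apply, QuotientGroup.eq_one_iff]
    exact hc

end CfsgLib.FGStruct.PQAutomizer
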