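import Cfsg.Agent.Lib.Aschbacher.Center
import Cfsg.Prelude.Def_GeometricClasses

/-!
# Fixed spaces of elements of primitive solvable linear groups

A non-identity element of an abelian normal subgroup of a primitive group fixes no non-zero vector, and
a commutator `z` of `g` fixes at least `2 dim fix(g) - n` dimensions; this gives `dim fix(g) ≤ 3n/4`.
-/

set_option autoImplicit false

namespace CfsgLib.FGStruct.PrimFix

open Matrix Cfsg.Geo CfsgLib.Asch
open scoped MatrixGroups commutatorElement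

variable {ι : Type} [Fintype ι] [DecidableEq ι] {F : Type*} [Field F]

/-- the fixed space of a matrix -/
noncomputable def fixSp (g : GL ι F) : Submodule F (ι → F) :=
  Module.End.eigenspace (Matrix.toLin' (g : Matrix ι ι F)) 1

lemma mem_fixSp {g : GL ι F} {v : ι → F} : v ∈ fixSp g ↔ (g : Matrix ι ι F) *ᵥ v = v := by
  rw [fixSp, Module.End.mem_eigenspace_iff, one_smul, Matrix.toLin'_apply]

/-- a non-identity element of an abelian normal subgroup fixes nothing -/
lemma fixSp_eq_bot [Finite F] [Nonempty ι] {G N : Subgroup (GL ι F)} (hG : ActsIrreducibly (matrixSet G))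
    (hn : Norms G N) (hprim : ¬ InImprim G) (hab : ∀ x ∈ N, ∀ y ∈ N, x * y = y * x)
    {a : GL ι F} (ha : a ∈ N) (ha1 : a ≠ 1) : fixSp a = ⊥ := by
  have hz : (a : Matrix ι ι F) - 1 ∈ ctr N := by
    refine sub_mem (mem_ctr.mpr ⟨coe_mem_alg ha, fun g hg => ?_⟩) (one_mem _)
    rw [← Units.val_mul, ← Units.val_mul, hab a ha g hg]
  have hz0 : (a : Matrix ι ι F) - 1 ≠ 0 := fun h => ha1 (Units.ext (sub_eq_zero.mp h))
  have htriv : ∀ f, IdemIn (ctr N) f → f = 0 ∨ f = 1 := by
    intro f hf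
    by_contra hc
    push Not at hc
    exact hprim (inImprim_of_idem hG hn ⟨f, hf, hc.1, hc.2⟩)
  obtain ⟨y, hy, hzy⟩ := (invComm_ctr hn).inv hG htriv hz hz0
  rw [ctr_comm hz hy] at hzy
  rw [Submodule.eq_bot_iff]
  intro v hv
  rw [mem_fixSp] at hv
  rw [← one_mulVec v, ← hzy, ← mulVec_mulVec, sub_mulVec, one_mulVec, hv, sub_self, mulVec_zero]

/-- the commutator trick -/
lemma two_mul_finrank_fixSp_le (g h : GL ι F) :
    2 * Module.finrank F (fixSp g) ≤ Fintype.card ι + Module.finrank F (fixSp ⁅g, h⁆) := by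
  let e : (ι → F) ≃ₗ[F] (ι → F) := LinearMap.GeneralLinearGroup.generalLinearEquiv F (ι → F)
    (Units.map (Matrix.toLinAlgEquiv' (R := F) (n := ι)).toMonoidHom h)
  let M : Submodule F (ι → F) := (fixSp g).map (e : (ι → F) →ₗ[F] (ι → F))
  have hM : Module.finrank F M = Module.finrank F (fixSp g) := (e.submoduleMap (fixSp g)).finrank_eq.symm
  have hle : fixSp g ⊓ M ≤ fixSp ⁅g, h⁆ := by
    rintro v ⟨hv, u, hu, rfl⟩
    rw [SetLike.mem_coe, mem_fixSp] at hu hv
    rw [mem_fixSp]
    have he : e u = (h : Matrix ι ι F) *ᵥ u := rfl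
    rw [LinearEquiv.coe_coe, he] at hv ⊢
    have hg' : ((g⁻¹ : GL ι F) : Matrix ι ι F) *ᵥ u = u := by
      conv_lhs => rw [← hu]
      rw [mulVec_mulVec, ← Units.val_mul, inv_mul_cancel, Units.val_one, one_mulVec]
    have hh : ((h⁻¹ : GL ι F) : Matrix ι ι F) *ᵥ ((h : Matrix ι ι F) *ᵥ u) = u := by
      rw [mulVec_mulVec, ← Units.val_mul, inv_mul_cancel, Units.val_one, one_mulVec]
    simp only [commutatorElement_def, Units.val_mul, ← mulVec_mulVec, hh, hg', hv]
  have h1 := Submodule.finrank_sup_add_finrank_inf_eq (fixSp g) M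
  have h2 : Module.finrank F ↥(fixSp g ⊔ M) ≤ Fintype.card ι :=
    (Submodule.finrank_le _).trans (Module.finrank_fintype_fun_eq_card F).le
  have h3 := Submodule.finrank_mono hle
  omega

theorem four_mul_finrank_fixSp_le [Finite F] [Nonempty ι] (G : Subgroup (GL ι F))
    (hsol : Group.IsSolvable G) (hG : ActsIrreducibly (matrixSet G)) (hprim : ¬ InImprim G)
    (g : GL ι F) (hg : g ∈ G) (hg1 : g ≠ 1) :
    4 * Module.finrank F (fixSp g) ≤ 3 * Fintype.card ι := by
  classical
  -- fixed-point-freeness for abelian normal subgroups of `G`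
  have hfpf : ∀ A : Subgroup G, A.Normal → IsMulCommutative A → ∀ a ∈ A, a ≠ 1 →
      Module.finrank F (fixSp (a : GL ι F)) = 0 := by
    intro A hA hAc a ha ha1
    rw [fixSp_eq_bot (N := A.map G.subtype) hG ?_ hprim ?_ (a := (a : GL ι F)) (Subgroup.mem_map_of_mem _ ha)
      (fun h => ha1 (Subtype.ext h))]
    · simp
    · intro x hx w hw
      obtain ⟨y, hy, hyw⟩ := Subgroup.mem_map.mp hw
      have h1 := Subgroup.mem_map_of_mem G.subtype (hA.conj_mem y hy ⟨x, hx⟩)
      rwa [map_mul, map_mul, map_inv, hyw, Subgroup.subtype_apply] at h1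
    · intro v hv w hw
      obtain ⟨x, hx, hxv⟩ := Subgroup.mem_map.mp hv
      obtain ⟨y, hy, hyw⟩ := Subgroup.mem_map.mp hw
      rw [← hxv, ← hyw, ← map_mul, ← map_mul]
      exact congrArg _ (setLike_mul_comm hx hy)
  obtain ⟨A, hA⟩ := (Set.toFinite {A : Subgroup G | A.Normal ∧ IsMulCommutative A}).exists_maximal
    ⟨⊥, Subgroup.normal_of_characteristic _, inferInstance⟩
  obtain ⟨⟨hAn, hAc⟩, hAmax⟩ := hA
  let C : Subgroup G := Subgroup.centralizer (A : Set G)
  have hCn : C.Normal := inferInstance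
  have hAC : A ≤ C := fun a ha b hb => setLike_mul_comm hb ha
  set x : G := ⟨g, hg⟩ with hx
  have hx1 : x ≠ 1 := fun h => hg1 (congrArg Subtype.val h)
  have hcomm : ∀ a b : G, ((⁅a, b⁆ : G) : GL ι F) = ⁅(a : GL ι F), (b : GL ι F)⁆ := fun a b =>
    map_commutatorElement G.subtype a b
  have htwo : ∀ a b : G, ⁅a, b⁆ ∈ A → ⁅a, b⁆ ≠ 1 →
      2 * Module.finrank F (fixSp (a : GL ι F)) ≤ Fintype.card ι := by
    intro a b hm hne
    have h1 := two_mul_finrank_fixSp_le (a : GL ι F) (b : GL ι F)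
    rw [← hcomm, hfpf A hAn hAc _ hm hne] at h1
    simpa using h1
  by_cases hxA : x ∈ A
  · have h0 : Module.finrank F (fixSp g) = 0 := hfpf A hAn hAc x hxA hx1
    omega
  by_cases hxC : x ∈ C
  swap
  · obtain ⟨a, ha, hne⟩ : ∃ a ∈ A, a * x ≠ x * a := by
      simpa [C, Subgroup.mem_centralizer_iff] using hxC
    have hm : ⁅x, a⁆ ∈ A := mul_mem (hAn.conj_mem a ha x) (inv_mem ha)
    have h1 : 2 * Module.finrank F (fixSp g) ≤ Fintype.card ι :=
      htwo x a hm (fun h => hne (commutatorElement_eq_one_iff_mul_comm.mp h).symm)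
    omega
  -- a maximal class two normal subgroup of `C`
  obtain ⟨T, hT⟩ := (Set.toFinite {T : Subgroup G | T.Normal ∧ T ≤ C ∧ ⁅T, T⁆ ≤ A}).exists_maximal
    ⟨A, hAn, hAC, Subgroup.commutator_le_left A A⟩
  obtain ⟨⟨hTn, hTC, hTA⟩, hTmax⟩ := hT
  let K : Subgroup G := C ⊓ Subgroup.centralizer (T : Set G)
  have hKA : K ≤ A := by
    let D : ℕ → Subgroup G := fun k => Nat.rec K (fun _ H => ⁅H, H⁆) k
    have hDn : ∀ k, (D k).Normal := by
      intro k
      induction k with
      | zero => exact inferInstanceAs (C ⊓ Subgroup.centralizer (T : Set G)).Normal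
      | succ k ih => exact @Subgroup.commutator_normal _ _ (D k) (D k) ih ih
    have hDle : ∀ k, D k ≤ derivedSeries G k := by
      intro k
      induction k with
      | zero => exact le_top
      | succ k ih => exact Subgroup.commutator_mono ih ih
    obtain ⟨n, hn⟩ := hsol.solvable
    have hDK : ∀ k, D k ≤ K := by
      intro k
      induction k with
      | zero => exact le_rfl
      | succ k ih =>
        exact (@Subgroup.commutator_le_left _ _ (D k) (D k) (hDn k)).trans ih
    suffices hstep : ∀ k, D (k + 1) ≤ A → D k ≤ A by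
      have : ∀ j, j ≤ n → D (n - j) ≤ A := by
        intro j
        induction j with
        | zero => exact fun _ => (hDle n).trans (by rw [hn]; exact bot_le)
        | succ j ih =>
          intro hj
          refine hstep _ ?_
          rw [show n - (j + 1) + 1 = n - j by omega]
          exact ih (by omega)
      simpa [D] using this n le_rfl
    intro k hk
    obtain ⟨B, hBdef⟩ : ∃ B, D k = B := ⟨_, rfl⟩
    rw [hBdef]
    haveI hB : B.Normal := hBdef ▸ hDn k
    have hBK : B ≤ K := hBdef ▸ hDK k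
    have hBB : ∀ b ∈ B, ∀ b' ∈ B, ⁅b, b'⁆ ∈ A := fun b hb b' hb' => by
      subst hBdef
      exact hk (Subgroup.commutator_mem_commutator hb hb')
    have hTT : ∀ t ∈ T, ∀ t' ∈ T, ⁅t, t'⁆ ∈ A := fun t ht t' ht' =>
      hTA (Subgroup.commutator_mem_commutator ht ht')
    have hBT : B ≤ T := by
      have hle : T ≤ T ⊔ B := le_sup_left
      refine le_sup_right.trans (hTmax (y := T ⊔ B) ⟨Subgroup.sup_normal T B,
        sup_le hTC (hBK.trans inf_le_left), ?_⟩ hle)
      rw [Subgroup.commutator_le]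
      intro u hu v hv
      obtain ⟨t, ht, b, hb, rfl⟩ := Subgroup.mem_sup_of_normal_right.mp hu
      obtain ⟨t', ht', b', hb', rfl⟩ := Subgroup.mem_sup_of_normal_right.mp hv
      have c1 : t' * b = b * t' := (hBK hb).2 t' ht'
      have c2 : t * b' = b' * t := (hBK hb').2 t ht
      have c3 : ⁅t, t'⁆ * (b * b' * b⁻¹ * b'⁻¹) = (b * b' * b⁻¹ * b'⁻¹) * ⁅t, t'⁆ :=
        ((hBK.trans inf_le_left) (mul_mem (mul_mem (mul_mem hb hb') (inv_mem hb)) (inv_mem hb')))
          _ (hTT t ht t' ht')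
      have e1 : ⁅t * b, t' * b'⁆ = ⁅t, t'⁆ * (b * b' * b⁻¹ * b'⁻¹) := by
        have d1 : Commute t' b := c1
        have d2 : Commute t b' := c2
        have d3 : Commute t b := (hBK hb).2 t ht
        have d4 : Commute t' b' := (hBK hb').2 t' ht'
        simp only [commutatorElement_def, _root_.mul_inv_rev]
        have e := (d2.inv_left).inv_right
        have f := (d1.inv_left).inv_right
        calc t * b * (t' * b') * (b⁻¹ * t⁻¹) * (b'⁻¹ * t'⁻¹)
            = t * (b * t') * (b' * b⁻¹) * (t⁻¹ * b'⁻¹) * t'⁻¹ := by group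
          _ = t * (t' * b) * (b' * b⁻¹) * (b'⁻¹ * t⁻¹) * t'⁻¹ := by rw [d1.eq, e.eq]
          _ = t * t' * (b * b' * b⁻¹ * b'⁻¹) * (t⁻¹ * t'⁻¹) := by group
          _ = t * t' * ((t⁻¹ * t'⁻¹) * (b * b' * b⁻¹ * b'⁻¹)) := by
              have g1 : Commute (t⁻¹ * t'⁻¹) (b * b' * b⁻¹ * b'⁻¹) := by
                refine Commute.mul_left ?_ ?_
                · exact ((((d3.mul_right d2).mul_right d3.inv_right).mul_right d2.inv_right)).inv_left
                · exact ((((d1.mul_right d4).mul_right d1.inv_right).mul_right d4.inv_right)).inv_left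
              rw [g1.eq]; group
          _ = _ := by group
      rw [e1]
      exact mul_mem (hTT t ht t' ht') (hBB b hb b' hb')
    have hBc : IsMulCommutative ↥(A ⊔ B) := by
      have hab : ∀ a ∈ A, ∀ b ∈ B, a * b = b * a := fun a ha b hb => (hBK hb).1 a ha
      have hbb : ∀ b ∈ B, ∀ b' ∈ B, b * b' = b' * b := fun b hb b' hb' => ((hBK hb').2 b (hBT hb))
      have hle : A ⊔ B ≤ Subgroup.centralizer ((A ⊔ B : Subgroup G) : Set G) := by
        refine sup_le ?_ ?_
        · rw [Subgroup.le_centralizer_iff]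
          exact sup_le hAC (fun b hb a ha => hab a ha b hb)
        · rw [Subgroup.le_centralizer_iff]
          exact sup_le (fun a ha b hb => (hab a ha b hb).symm) (fun b hb b' hb' => hbb b' hb' b hb)
      exact ⟨⟨fun u v => Subtype.ext (hle v.2 u u.2)⟩⟩
    exact le_sup_right.trans (hAmax (y := A ⊔ B) ⟨Subgroup.sup_normal A B, hBc⟩ le_sup_left)
  obtain ⟨t, ht, hne⟩ : ∃ t ∈ T, t * x ≠ x * t := by
    by_contra hc
    push Not at hc
    exact hxA (hKA ⟨hxC, fun t ht => hc t ht⟩)
  set z : G := ⁅x, t⁆ with hz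
  have hz1 : z ≠ 1 := fun h => hne (commutatorElement_eq_one_iff_mul_comm.mp h).symm
  have hzT : z ∈ T := mul_mem (hTn.conj_mem t ht x) (inv_mem ht)
  have hzb : 2 * Module.finrank F (fixSp (z : GL ι F)) ≤ Fintype.card ι := by
    by_cases hzA : z ∈ A
    · rw [hfpf A hAn hAc z hzA hz1]; simp
    obtain ⟨t', ht', hne'⟩ : ∃ t' ∈ T, t' * z ≠ z * t' := by
      by_contra hc
      push Not at hc
      exact hzA (hKA ⟨hTC hzT, fun s hs => hc s hs⟩)
    exact htwo z t' (hTA (Subgroup.commutator_mem_commutator hzT ht'))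
      (fun h => hne' (commutatorElement_eq_one_iff_mul_comm.mp h).symm)
  have h1 := two_mul_finrank_fixSp_le g (t : GL ι F)
  have h2 : fixSp (z : GL ι F) = fixSp ⁅g, (t : GL ι F)⁆ := rfl
  rw [← h2] at h1
  omega

end CfsgLib.FGStruct.PrimFix
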