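import Cfsg.Agent.Lib.Zsigmondy.Basic
import Mathlib

/-!
Primitive parts of `q ^ e - 1`: a lower bound `q ^ φ(e) ≤ 4 Φ_e(q)` and the size of the primitive part.
-/

set_option autoImplicit false

namespace CfsgLib.FGStruct.PrimitivePart

open CfsgLib.Zsigmondy Polynomial

/-- `∏_{d ∣ n} (a ^ d - 1)`. -/
def divProd (a n : ℕ) : ℕ := ∏ d ∈ n.divisors, (a ^ d - 1)

/-- `∑_{d ∣ n} d`. -/
def divSum (n : ℕ) : ℕ := ∑ d ∈ n.divisors, d

theorem divProd_mul_of_not_dvd {m p : ℕ} (hp : p.Prime) (h : ¬ p ∣ m) (hm : m ≠ 0) (a : ℕ) :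
    divProd a (m * p) = divProd a m * divProd (a ^ p) m ∧ divSum (m * p) = divSum m + p * divSum m := by
  have hdiv : (m * p).divisors = m.divisors ∪ m.divisors.image (p * ·) := by
    ext d
    simp only [Finset.mem_union, Finset.mem_image, Nat.mem_divisors, ne_eq, mul_eq_zero, hm,
      hp.ne_zero, or_self, not_false_eq_true, and_true]
    constructor
    · intro hd
      by_cases hpd : p ∣ d
      · right
        obtain ⟨c, rfl⟩ := hpd
        rw [mul_comm m p] at hd
        exact ⟨c, Nat.dvd_of_mul_dvd_mul_left hp.pos hd, rfl⟩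
      · left
        exact ((hp.coprime_iff_not_dvd.2 hpd).symm).dvd_of_dvd_mul_right hd
    · rintro (hd | ⟨c, hc, rfl⟩)
      · exact hd.mul_right p
      · rw [mul_comm m p]; exact Nat.mul_dvd_mul_left p hc
  have hdisj : Disjoint m.divisors (m.divisors.image (p * ·)) := by
    rw [Finset.disjoint_left]
    intro d hd hd'
    obtain ⟨c, -, rfl⟩ := Finset.mem_image.1 hd'
    exact h ((Dvd.intro c rfl).trans (Nat.dvd_of_mem_divisors hd))
  have hinj : ∀ x ∈ m.divisors, ∀ y ∈ m.divisors, p * x = p * y → x = y :=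
    fun x _ y _ hxy => Nat.eq_of_mul_eq_mul_left hp.pos hxy
  constructor
  · rw [divProd, hdiv, Finset.prod_union hdisj, Finset.prod_image hinj]
    simp [divProd, ← pow_mul]
  · rw [divSum, hdiv, Finset.sum_union hdisj, Finset.sum_image hinj, ← Finset.mul_sum]
    rfl

theorem one_le_cyclotomicValue {a m : ℕ} (ha : 1 < a) : 1 ≤ cyclotomicValue a m := by
  rcases Nat.eq_zero_or_pos m with rfl | hm
  · simp [cyclotomicValue]
  rcases (show m = 1 ∨ 1 < m by omega) with rfl | hm1
  · simp [cyclotomicValue, cyclotomic_one]; omega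
  · exact (one_lt_cyclotomicValue ha hm1).le

theorem divProd_pos {a m : ℕ} (ha : 1 < a) : 0 < divProd a m :=
  Finset.prod_pos fun d hd => by
    have := Nat.pos_of_mem_divisors hd
    have := Nat.one_lt_pow this.ne' ha
    omega

theorem bound : ∀ (n : ℕ), 0 < n → ∀ a : ℕ, 1 < a →
    divProd a n * a ^ n.totient ≤ cyclotomicValue a n * a ^ divSum n ∧
      cyclotomicValue a n * divProd a n ≤ a ^ (n.totient + divSum n) := by
  intro n
  induction n using Nat.strong_induction_on with
  | _ n ih =>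
  intro hn a ha
  rcases (show n = 1 ∨ 1 < n by omega) with rfl | hn1
  · have hv : cyclotomicValue a 1 = a - 1 := by
      simp [cyclotomicValue, cyclotomic_one]; omega
    rw [hv, divProd, divSum]
    simp only [Nat.divisors_one, Finset.prod_singleton, Finset.sum_singleton, pow_one, Nat.totient_one]
    refine ⟨le_refl _, ?_⟩
    rw [show (1 + 1 : ℕ) = 2 from rfl, pow_two]
    exact Nat.mul_le_mul (Nat.sub_le a 1) (Nat.sub_le a 1)
  obtain ⟨p, hp, m, rfl⟩ : ∃ p, p.Prime ∧ ∃ m, n = m * p := by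
    obtain ⟨p, hp, m, hm⟩ := Nat.exists_prime_and_dvd (show n ≠ 1 by omega)
    exact ⟨p, hp, m, by rw [hm, mul_comm]⟩
  have hm0 : 0 < m := Nat.pos_of_mul_pos_right hn
  have hlt : m < m * p := lt_mul_of_one_lt_right hm0 hp.one_lt
  have hA : 1 < a ^ p := Nat.one_lt_pow hp.ne_zero ha
  obtain ⟨hlA, huA⟩ := ih m hlt hm0 (a ^ p) hA
  by_cases hpm : p ∣ m
  · -- the same value at `a ^ p`
    have hv := cyclotomicValue_mul_of_dvd a hp hpm
    have ht : (m * p).totient = p * m.totient := by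
      rw [mul_comm m p]; exact Nat.totient_mul_of_prime_of_dvd hp hpm
    have hsub : m.divisors.image (p * ·) ⊆ (m * p).divisors := by
      intro d hd
      obtain ⟨c, hc, rfl⟩ := Finset.mem_image.1 hd
      rw [Nat.mem_divisors]
      exact ⟨mul_comm m p ▸ Nat.mul_dvd_mul_left p (Nat.dvd_of_mem_divisors hc), by positivity⟩
    have hinj : ∀ x ∈ m.divisors, ∀ y ∈ m.divisors, p * x = p * y → x = y :=
      fun x _ y _ hxy => Nat.eq_of_mul_eq_mul_left hp.pos hxy
    set R := (m * p).divisors \ m.divisors.image (p * ·)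
    have hD : divProd a (m * p) = (∏ d ∈ R, (a ^ d - 1)) * divProd (a ^ p) m := by
      rw [divProd, ← Finset.prod_sdiff hsub, Finset.prod_image hinj]
      simp [R, divProd, ← pow_mul]
    have hS : divSum (m * p) = (∑ d ∈ R, d) + p * divSum m := by
      rw [divSum, ← Finset.sum_sdiff hsub, Finset.sum_image hinj, ← Finset.mul_sum]
      rfl
    have hR : ∏ d ∈ R, (a ^ d - 1) ≤ a ^ ∑ d ∈ R, d := by
      rw [← Finset.prod_pow_eq_pow_sum]
      exact Finset.prod_le_prod' fun d _ => Nat.sub_le _ _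
    rw [hv, ht, hD, hS]
    constructor
    · calc (∏ d ∈ R, (a ^ d - 1)) * divProd (a ^ p) m * a ^ (p * m.totient)
          = (∏ d ∈ R, (a ^ d - 1)) * (divProd (a ^ p) m * (a ^ p) ^ m.totient) := by rw [← pow_mul]; ring
        _ ≤ a ^ (∑ d ∈ R, d) * (cyclotomicValue (a ^ p) m * (a ^ p) ^ divSum m) := Nat.mul_le_mul hR hlA
        _ = _ := by rw [← pow_mul, pow_add]; ring
    · calc cyclotomicValue (a ^ p) m * ((∏ d ∈ R, (a ^ d - 1)) * divProd (a ^ p) m)
          = (∏ d ∈ R, (a ^ d - 1)) * (cyclotomicValue (a ^ p) m * divProd (a ^ p) m) := by ring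
        _ ≤ a ^ (∑ d ∈ R, d) * (a ^ p) ^ (m.totient + divSum m) := Nat.mul_le_mul hR huA
        _ = _ := by rw [← pow_mul, ← pow_add]; ring_nf
  · obtain ⟨hla, hua⟩ := ih m hlt hm0 a ha
    obtain ⟨hD, hS⟩ := divProd_mul_of_not_dvd hp hpm hm0.ne' a
    have ht : (m * p).totient + m.totient = p * m.totient := by
      rw [Nat.totient_mul ((hp.coprime_iff_not_dvd.2 hpm).symm), Nat.totient_prime hp]
      obtain ⟨j, rfl⟩ : ∃ j, p = j + 1 := ⟨p - 1, by have := hp.pos; omega⟩
      simp; ring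
    have hv := cyclotomicValue_mul_of_not_dvd a hp hpm
    have hpos : 0 < cyclotomicValue a m := one_le_cyclotomicValue ha
    have hap : 0 < a ^ m.totient := Nat.pow_pos (by omega)
    rw [← hv] at hlA huA
    rw [hD, hS]
    constructor
    · refine Nat.le_of_mul_le_mul_right ?_ (Nat.mul_pos hpos hap)
      calc divProd a m * divProd (a ^ p) m * a ^ (m * p).totient * (cyclotomicValue a m * a ^ m.totient)
          = (cyclotomicValue a m * divProd a m) * (divProd (a ^ p) m * (a ^ p) ^ m.totient) := by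
            rw [← pow_mul, ← ht, pow_add]; ring
        _ ≤ a ^ (m.totient + divSum m) * (cyclotomicValue a (m * p) * cyclotomicValue a m * (a ^ p) ^ divSum m) :=
            Nat.mul_le_mul hua hlA
        _ = _ := by rw [← pow_mul, pow_add, pow_add]; ring
    · refine Nat.le_of_mul_le_mul_right ?_ (Nat.mul_pos hpos hap)
      calc cyclotomicValue a (m * p) * (divProd a m * divProd (a ^ p) m) * (cyclotomicValue a m * a ^ m.totient)
          = (cyclotomicValue a (m * p) * cyclotomicValue a m * divProd (a ^ p) m) * (divProd a m * a ^ m.totient) := by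
            ring
        _ ≤ (a ^ p) ^ (m.totient + divSum m) * (cyclotomicValue a m * a ^ divSum m) :=
            Nat.mul_le_mul huA hla
        _ = _ := by rw [← pow_mul, mul_add, ← ht, pow_add, pow_add, pow_add, pow_add]; ring

/-- Products `∏ (a ^ d - 1)` over distinct positive exponents lose at most a factor 4. -/
theorem prod_bound {a : ℕ} (ha : 2 ≤ a) : ∀ (N : ℕ), 1 ≤ N → ∀ S : Finset ℕ, (∀ d ∈ S, 1 ≤ d ∧ d ≤ N) →
    a ^ (∑ d ∈ S, d) * (2 ^ N + 2) ≤ 4 * 2 ^ N * ∏ d ∈ S, (a ^ d - 1) := by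
  intro N hN
  induction N, hN using Nat.le_induction with
  | base =>
    intro S hS
    rcases Finset.subset_singleton_iff.1 (show S ⊆ {1} from fun d hd => by
      have := hS d hd; simp; omega) with rfl | rfl
    · simp
    · simp; omega
  | succ N hN ih =>
    intro S hS
    have h1 := ih (S.erase (N + 1)) fun d hd => by
      rw [Finset.mem_erase] at hd
      have := hS d hd.2
      omega
    have hP : 2 ≤ 2 ^ N := Nat.le_self_pow (by omega) 2
    have h2N : (2 : ℕ) ^ (N + 1) = 2 * 2 ^ N := pow_succ' 2 N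
    by_cases hmem : N + 1 ∈ S
    · rw [← Finset.add_sum_erase S _ hmem, ← Finset.mul_prod_erase S _ hmem]
      set σ := ∑ d ∈ S.erase (N + 1), d
      set π := ∏ d ∈ S.erase (N + 1), (a ^ d - 1)
      set A := a ^ (N + 1) with hA
      have hA2 : 2 ^ (N + 1) ≤ A := Nat.pow_le_pow_left ha _
      obtain ⟨B, hB⟩ : ∃ B, A = B + 1 := ⟨A - 1, by omega⟩
      have key : (2 * 2 ^ N + 2) * A ≤ 2 * (A - 1) * (2 ^ N + 2) := by
        rw [hB, Nat.add_sub_cancel]
        nlinarith
      rw [pow_add, h2N]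
      refine Nat.le_of_mul_le_mul_right ?_ (show 0 < 2 ^ N + 2 by omega)
      calc A * a ^ σ * (2 * 2 ^ N + 2) * (2 ^ N + 2)
          = ((2 * 2 ^ N + 2) * A) * (a ^ σ * (2 ^ N + 2)) := by ring
        _ ≤ (2 * (A - 1) * (2 ^ N + 2)) * (4 * 2 ^ N * π) := Nat.mul_le_mul key h1
        _ = _ := by ring
    · rw [Finset.erase_eq_of_notMem hmem] at h1
      rw [h2N]
      nlinarith [Nat.zero_le (a ^ ∑ d ∈ S, d)]

theorem pow_totient_le {a n : ℕ} (ha : 1 < a) (hn : 0 < n) :
    a ^ n.totient ≤ 4 * cyclotomicValue a n := by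
  have h1 := (bound n hn a ha).1
  have h2 := prod_bound (a := a) ha n hn n.divisors fun d hd =>
    ⟨Nat.pos_of_mem_divisors hd, Nat.le_of_dvd hn (Nat.dvd_of_mem_divisors hd)⟩
  have h3 : a ^ divSum n ≤ 4 * divProd a n := by
    refine Nat.le_of_mul_le_mul_right ?_ (show 0 < 2 ^ n by positivity)
    calc a ^ divSum n * 2 ^ n ≤ a ^ divSum n * (2 ^ n + 2) := Nat.mul_le_mul_left _ (by omega)
      _ ≤ 4 * 2 ^ n * divProd a n := h2
      _ = _ := by ring
  refine Nat.le_of_mul_le_mul_left ?_ (divProd_pos (m := n) ha)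
  calc divProd a n * a ^ n.totient ≤ cyclotomicValue a n * a ^ divSum n := h1
    _ ≤ cyclotomicValue a n * (4 * divProd a n) := Nat.mul_le_mul_left _ h3
    _ = _ := by ring

theorem le_two_mul_totient_sq (n : ℕ) :
    n ≤ 2 * n.totient ^ 2 ∧ (Odd n → n ≤ n.totient ^ 2) := by
  induction n using Nat.recOnPosPrimePosCoprime with
  | zero => simp
  | one => simp
  | prime_pow p k hp hk =>
    rw [Nat.totient_prime_pow hp hk]
    obtain ⟨j, rfl⟩ : ∃ j, k = j + 1 := ⟨k - 1, by omega⟩
    simp only [Nat.add_sub_cancel]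
    have h1 : 1 ≤ p ^ j := Nat.one_le_pow _ _ hp.pos
    have h2 : p ^ j ≤ p ^ j * p ^ j := Nat.le_mul_of_pos_left _ h1
    rcases (show p = 2 ∨ 3 ≤ p by have := hp.two_le; omega) with rfl | hp3
    · refine ⟨by rw [pow_succ]; nlinarith, fun hodd => absurd hodd ?_⟩
      rw [Nat.not_odd_iff_even]
      exact ⟨2 ^ j, by rw [pow_succ]; ring⟩
    · obtain ⟨q, rfl⟩ : ∃ q, p = q + 1 := ⟨p - 1, by omega⟩
      simp only [Nat.add_sub_cancel]
      have h3 : q + 1 ≤ q ^ 2 := by nlinarith
      have h4 : (q + 1) ^ (j + 1) ≤ ((q + 1) ^ j * q) ^ 2 := by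
        rw [pow_succ, mul_pow, pow_two ((q + 1) ^ j)]
        exact Nat.mul_le_mul h2 h3
      exact ⟨by omega, fun _ => h4⟩
  | coprime a b ha hb hab iha ihb =>
    rw [Nat.totient_mul hab, mul_pow]
    have hodd : Odd a ∨ Odd b := by
      rcases Nat.even_or_odd a with h | h
      · right
        by_contra hb'
        rw [Nat.not_odd_iff_even] at hb'
        have := Nat.dvd_gcd h.two_dvd hb'.two_dvd
        rw [hab] at this
        omega
      · exact Or.inl h
    refine ⟨?_, fun h => ?_⟩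
    · rcases hodd with h | h
      · calc a * b ≤ a.totient ^ 2 * (2 * b.totient ^ 2) := Nat.mul_le_mul (iha.2 h) ihb.1
          _ = _ := by ring
      · calc a * b ≤ (2 * a.totient ^ 2) * b.totient ^ 2 := Nat.mul_le_mul iha.1 (ihb.2 h)
          _ = _ := by ring
    · rw [Nat.odd_mul] at h
      exact Nat.mul_le_mul (iha.2 h.1) (ihb.2 h.2)

theorem modEq_one_of_forall_prime {e : ℕ} (m : ℕ) (hm : 0 < m)
    (h : ∀ r : ℕ, r.Prime → r ∣ m → e ∣ r - 1) : m ≡ 1 [MOD e] := by
  induction m using Nat.recOnMul with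
  | zero => omega
  | one => rfl
  | prime p hp =>
    exact ((Nat.modEq_iff_dvd' hp.one_lt.le).2 (h p hp dvd_rfl)).symm
  | mul a b iha ihb =>
    have := iha (Nat.pos_of_mul_pos_right hm) fun r hr hra => h r hr (hra.mul_right b)
    have h2 := ihb (Nat.pos_of_mul_pos_left hm) fun r hr hrb => h r hr (hrb.mul_left a)
    simpa using this.mul h2

/-- The primitive part. -/
theorem exists_primitive {q e : ℕ} (hq : 2 ≤ q) (he : 3 ≤ e)
    (hbig : 4 * (2 * e + 1) * (e.totient + 1) < q ^ e.totient) :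
    ∃ m : ℕ, m ∣ q ^ e - 1 ∧ (∀ i : ℕ, 1 ≤ i → i < e → Nat.Coprime m (q ^ i - 1)) ∧ 3 * e + 1 ≤ m := by
  set E := cyclotomicValue q e with hE
  have hEd : E ∣ q ^ e - 1 := cyclotomicValue_dvd_pow_sub_one (by omega) e
  have hq4 : q ^ e.totient ≤ 4 * E := pow_totient_le (by omega) (by omega)
  have hEbig : (2 * e + 1) * (e.totient + 1) < E := by nlinarith
  obtain ⟨m, hmE, hmpos, hgood, hsize⟩ : ∃ m, m ∣ E ∧ 0 < m ∧ (∀ r : ℕ, r.Prime → r ∣ m → ¬ r ∣ e) ∧
      2 * e + 1 < m := by
    by_cases hex : ∃ r : ℕ, r.Prime ∧ r ∣ E ∧ r ∣ e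
    · obtain ⟨r, hr, ⟨c, hc⟩, hre⟩ := hex
      haveI := Fact.mk hr
      have hc0 : 0 < c := by
        rcases Nat.eq_zero_or_pos c with h | h
        · rw [h, mul_zero] at hc; omega
        · exact h
      refine ⟨c, ⟨r, by rw [hc, mul_comm]⟩, hc0, fun s hs hsc hse => ?_, ?_⟩
      · haveI := Fact.mk hs
        have hsE : s ∣ E := hc ▸ hsc.mul_left r
        have hsr : s = r := le_antisymm (le_of_dvd_both (by omega) ⟨c, hc⟩ hre hs hse)
          (le_of_dvd_both (by omega) hsE hse hr hre)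
        refine sq_not_dvd (a := q) (by omega) (by omega) hre ⟨c, hc⟩ ?_
        show r ^ 2 ∣ E
        rw [hc, pow_two]
        exact Nat.mul_dvd_mul_left r (hsr ▸ hsc)
      · have hr1 : r ≤ e.totient + 1 := by
          have h := Nat.le_of_dvd (Nat.totient_pos.2 (by omega)) (Nat.totient_dvd_of_dvd hre)
          rw [Nat.totient_prime hr] at h
          omega
        by_contra hle
        push Not at hle
        have : r * c ≤ (e.totient + 1) * (2 * e + 1) := Nat.mul_le_mul hr1 hle
        rw [← hc, mul_comm] at this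
        omega
    · push Not at hex
      refine ⟨E, dvd_rfl, by omega, fun r hr hrE => hex r hr hrE, ?_⟩
      have : 2 * e + 1 ≤ (2 * e + 1) * (e.totient + 1) := Nat.le_mul_of_pos_right _ (by omega)
      omega
  have hord : ∀ r : ℕ, r.Prime → r ∣ m → orderOf (q : ZMod r) = e := by
    intro r hr hrm
    haveI := Fact.mk hr
    obtain ⟨k, m', hem, -, hord, -⟩ := orderOf_of_dvd (by omega) (hrm.trans hmE)
    rcases k with _ | k
    · rw [hord]; simpa using hem.symm
    · exact absurd (hem ▸ (dvd_pow_self r (Nat.succ_ne_zero k)).mul_right m') (hgood r hr hrm)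
  refine ⟨m, hmE.trans hEd, fun i hi hie => ?_, ?_⟩
  · refine Nat.coprime_of_dvd fun r hr hrm hri => ?_
    exact (primitive_of_orderOf (by omega) (hord r hr hrm)).2 i hi hie hri
  · have hmod := modEq_one_of_forall_prime (e := e) m hmpos fun r hr hrm => by
      haveI := Fact.mk hr
      obtain ⟨h1, h2⟩ := primitive_of_orderOf (a := q) (by omega) (hord r hr hrm)
      exact (dvd_sub_one_of_primitive (by omega) (by omega) h1 h2).2
    obtain ⟨k, hk⟩ := (Nat.modEq_iff_dvd' hmpos).1 hmod.symm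
    have hk3 : 3 ≤ k := by
      by_contra hk3
      push Not at hk3
      interval_cases k <;> omega
    have : e * 3 ≤ e * k := Nat.mul_le_mul_left e hk3
    omega

end CfsgLib.FGStruct.PrimitivePart
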