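import Mathlib
import Cfsg.Prelude
import Cfsg.Agent.Lib.PGroup.Basic

/-!
Two-groups of sectional rank at most four: bounds from elementary abelian sections and the
behaviour of pairs of normal non-abelian subgroups with centres of order two.
-/

set_option autoImplicit false

namespace CfsgLib.FGStruct.SectionalFour

open scoped commutatorElement

/-- An elementary abelian section bounds its order. -/
theorem card_le_of_section {S T A : Type*} [Group S] [Group T] [Group A] {p k : ℕ}
    (hr : Cfsg.SectionalPRankLE p k S) (i : T →* S) (hi : Function.Injective i) (g : T →* A)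
    (hg : Function.Surjective g) (hcomm : ∀ a b : A, a * b = b * a) (hexp : ∀ a : A, a ^ p = 1) :
    Nat.card A ≤ p ^ k := by
  let e : T ≃* i.range := MonoidHom.ofInjective hi
  let g' : i.range →* A := g.comp e.symm.toMonoidHom
  have hg' : Function.Surjective g' := hg.comp e.symm.surjective
  let e' := QuotientGroup.quotientKerEquivOfSurjective g' hg'
  have h1 := hr i.range g'.ker ⊤ ⟨⟨fun x y => Subtype.ext (e'.injective (by
    rw [Subgroup.coe_mul, Subgroup.coe_mul, map_mul, map_mul]
    exact hcomm _ _))⟩⟩ fun x _ => e'.injective (by rw [map_pow, map_one]; exact hexp _)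
  rwa [Subgroup.card_top, Nat.card_congr e'.toEquiv] at h1

/-- Consequences of being non-abelian with centre of order two. -/
theorem frattini_facts {P : Type*} [Group P] [Finite P] (h2 : IsPGroup 2 P)
    (hP : ¬ IsMulCommutative P) (hZ : Nat.card (Subgroup.center P) = 2) :
    Subgroup.center P ≤ frattini P ∧ 4 * Nat.card (frattini P) ≤ Nat.card P := by
  classical
  haveI := Fact.mk Nat.prime_two
  constructor
  · have hne : commutator P ≠ ⊥ := by
      intro h
      refine hP ⟨⟨fun a b => ?_⟩⟩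
      have hc : ⁅a, b⁆ = 1 := by
        have h' := Subgroup.commutator_mem_commutator (Subgroup.mem_top a) (Subgroup.mem_top b)
        rw [← commutator_def, h, Subgroup.mem_bot] at h'
        exact h'
      exact commutatorElement_eq_one_iff_mul_comm.1 hc
    obtain ⟨z, hzC, hzZ, hzo⟩ := CfsgLib.PGroup.exists_central_orderOf_eq h2 (commutator P) hne
    refine le_trans ?_ (CfsgLib.PGroup.commutator_le_frattini h2)
    have h1 : Subgroup.zpowers z = Subgroup.center P :=
      Subgroup.eq_of_le_of_card_ge (Subgroup.zpowers_le.2 hzZ) (by rw [hZ, Nat.card_zpowers, hzo])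
    rw [← h1]
    exact Subgroup.zpowers_le.2 hzC
  · haveI : Nontrivial P := by
      by_contra h
      rw [not_nontrivial_iff_subsingleton] at h
      exact hP ⟨⟨fun a b => Subsingleton.elim _ _⟩⟩
    obtain ⟨j, hj⟩ := IsPGroup.iff_card.1 (h2.to_quotient (frattini P))
    rw [← (frattini P).card_mul_index, Subgroup.index, hj, mul_comm]
    refine Nat.mul_le_mul le_rfl ?_
    by_contra hlt
    have hj1 : j ≤ 1 := by
      by_contra h
      exact hlt (le_trans (by norm_num) (Nat.pow_le_pow_right (show 2 > 0 by norm_num) (show 2 ≤ j by omega)))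
    obtain ⟨x, hx⟩ : ∃ x : P, ∀ y : P ⧸ frattini P,
        y = 1 ∨ y = (x : P ⧸ frattini P) := by
      interval_cases j
      · refine ⟨1, fun y => Or.inl ?_⟩
        haveI : Subsingleton (P ⧸ frattini P) := (Nat.card_eq_one_iff_unique.1 (by simpa using hj)).1
        exact Subsingleton.elim _ _
      · obtain ⟨q, hq, hu⟩ := (Nat.card_eq_two_iff' (1 : P ⧸ frattini P)).1 (by simpa using hj)
        obtain ⟨x, rfl⟩ := QuotientGroup.mk'_surjective _ q
        exact ⟨x, fun y => or_iff_not_imp_left.2 fun hy => hu y hy⟩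
    have htop : Subgroup.zpowers x ⊔ frattini P = ⊤ := by
      rw [eq_top_iff]
      intro y _
      rcases hx y with h | h
      · exact Subgroup.mem_sup_right ((QuotientGroup.eq_one_iff y).1 h)
      · rw [eq_comm, QuotientGroup.eq] at h
        have := Subgroup.mul_mem_sup (Subgroup.mem_zpowers x) h
        simpa using this
    refine hP ⟨⟨fun a b => ?_⟩⟩
    have hcyc : Subgroup.zpowers x = ⊤ := frattini_nongenerating htop
    obtain ⟨m, rfl⟩ := (hcyc ▸ Subgroup.mem_top a : a ∈ Subgroup.zpowers x)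
    obtain ⟨n, rfl⟩ := (hcyc ▸ Subgroup.mem_top b : b ∈ Subgroup.zpowers x)
    exact (Commute.refl x).zpow_zpow m n

variable {S : Type*} [Group S]

theorem mem_center_map {P : Subgroup S} {x : S} (hx : x ∈ P) (h : ∀ y ∈ P, y * x = x * y) :
    x ∈ (Subgroup.center P).map P.subtype :=
  ⟨⟨x, hx⟩, Subgroup.mem_center_iff.2 fun y => Subtype.ext (h y.1 y.2), rfl⟩

theorem map_center_le_centralizer (P : Subgroup S) :
    (Subgroup.center P).map P.subtype ≤ Subgroup.centralizer (P : Set S) := by
  rintro _ ⟨z, hz, rfl⟩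
  exact Subgroup.mem_centralizer_iff.2 fun y hy =>
    congrArg Subtype.val (Subgroup.mem_center_iff.1 hz ⟨y, hy⟩)

/-- Two normal non-abelian subgroups with different centres of order two commute, meet trivially,
and their join contains its centralizer. -/
theorem pair [Finite S] (h2 : IsPGroup 2 S) (hr : Cfsg.SectionalPRankLE 2 4 S)
    (P Q : Subgroup S) [P.Normal] [Q.Normal] (hP : ¬ IsMulCommutative P) (hQ : ¬ IsMulCommutative Q)
    (hZP : Nat.card (Subgroup.center P) = 2) (hZQ : Nat.card (Subgroup.center Q) = 2)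
    (hne : (Subgroup.center P).map P.subtype ≠ (Subgroup.center Q).map Q.subtype) :
    ⁅P, Q⁆ = ⊥ ∧ P ⊓ Q = ⊥ ∧
      Subgroup.centralizer ((P ⊔ Q : Subgroup S) : Set S) ≤ P ⊔ Q := by
  classical
  haveI := Fact.mk Nat.prime_two
  have hinf : P ⊓ Q = ⊥ := by
    by_contra h
    obtain ⟨z, hz, hzc, hzo⟩ := CfsgLib.PGroup.exists_central_orderOf_eq h2 (P ⊓ Q) h
    have hcard : ∀ R : Subgroup S, Nat.card (Subgroup.center R) = 2 → z ∈ R →
        Subgroup.zpowers z = (Subgroup.center R).map R.subtype := by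
      intro R hR hzR
      refine Subgroup.eq_of_le_of_card_ge (Subgroup.zpowers_le.2 (mem_center_map hzR fun y _ => ?_))
        (by rw [Subgroup.card_map_of_injective R.subtype_injective, hR, Nat.card_zpowers, hzo])
      exact Subgroup.mem_center_iff.1 hzc y
    exact hne ((hcard P hZP hz.1).symm.trans (hcard Q hZQ hz.2))
  have hcom : ⁅P, Q⁆ = ⊥ := le_bot_iff.1 ((Subgroup.commutator_le_inf P Q).trans hinf.le)
  refine ⟨hcom, hinf, ?_⟩
  set C := Subgroup.centralizer ((P ⊔ Q : Subgroup S) : Set S) with hC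
  by_contra hCle
  -- an element of `C` outside `PQ` with square inside
  obtain ⟨c, hcC, hcPQ, hc2⟩ : ∃ c ∈ C, c ∉ P ⊔ Q ∧ c ^ 2 ∈ P ⊔ Q := by
    obtain ⟨c, hcC, hcPQ⟩ := SetLike.not_le_iff_exists.1 hCle
    obtain ⟨n, hn⟩ := h2 c
    induction n generalizing c with
    | zero =>
      rw [pow_zero, pow_one] at hn
      exact absurd (hn ▸ (P ⊔ Q).one_mem) hcPQ
    | succ n ih =>
      by_cases h : c ^ 2 ∈ P ⊔ Q
      · exact ⟨c, hcC, hcPQ, h⟩
      · exact ih (c ^ 2) (pow_mem hcC 2) h (by rw [← pow_mul, ← pow_succ']; exact hn)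
  have hPQcomm : ∀ x ∈ P, ∀ y ∈ Q, x * y = y * x := fun x hx y hy => by
    have := Subgroup.commutator_mem_commutator hx hy
    rw [hcom, Subgroup.mem_bot] at this
    exact commutatorElement_eq_one_iff_mul_comm.1 this
  have hcc : ∀ y ∈ P ⊔ Q, y * c = c * y := fun y hy => Subgroup.mem_centralizer_iff.1 hcC y hy
  set ΦP := (frattini P).map P.subtype with hΦP
  set ΦQ := (frattini Q).map Q.subtype with hΦQ
  obtain ⟨hZPle, hΦPc⟩ := frattini_facts (h2.to_subgroup P) hP hZP
  obtain ⟨hZQle, hΦQc⟩ := frattini_facts (h2.to_subgroup Q) hQ hZQ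
  set N := ΦP ⊔ ΦQ with hN
  have hmemP : ∀ (f : S →* S ⧸ N) (x y : S), x ∈ P → y ∈ P → f = QuotientGroup.mk' N →
      f ⁅x, y⁆ = 1 := fun f x y hx hy hf => by
    subst hf
    refine (QuotientGroup.eq_one_iff _).2 (Subgroup.mem_sup_left ⟨⁅(⟨x, hx⟩ : P), ⟨y, hy⟩⁆,
      CfsgLib.PGroup.commutator_le_frattini (h2.to_subgroup P) ?_, rfl⟩)
    rw [commutator_def]
    exact Subgroup.commutator_mem_commutator (Subgroup.mem_top _) (Subgroup.mem_top _)
  set f := QuotientGroup.mk' N with hf
  have hc2N : c ^ 2 ∈ N := by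
    obtain ⟨x, hx, y, hy, hxy⟩ := Subgroup.mem_sup_of_normal_left.1 hc2
    have hcx : ∀ w ∈ P, w * x = x * w := fun w hw => by
      have h1 : w * c ^ 2 = c ^ 2 * w :=
        ((show Commute w c from hcc w (Subgroup.mem_sup_left hw)).pow_right 2).eq
      rw [← hxy, mul_assoc x, ← hPQcomm w hw y hy, ← mul_assoc, ← mul_assoc] at h1
      exact mul_right_cancel h1
    have hcy : ∀ w ∈ Q, w * y = y * w := fun w hw => by
      have h1 : w * c ^ 2 = c ^ 2 * w :=
        ((show Commute w c from hcc w (Subgroup.mem_sup_right hw)).pow_right 2).eq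
      rw [← hxy, ← mul_assoc, ← hPQcomm x hx w hw, mul_assoc, mul_assoc] at h1
      exact mul_left_cancel h1
    rw [← hxy]
    exact Subgroup.mul_mem_sup (Subgroup.map_mono hZPle (mem_center_map hx hcx))
      (Subgroup.map_mono hZQle (mem_center_map hy hcy))
  set H := P ⊔ Q ⊔ Subgroup.zpowers c with hH
  let g : H →* H.map f := f.subgroupMap H
  have hg : Function.Surjective g := f.subgroupMap_surjective H
  have hgen : H.map f = Subgroup.closure (f '' ((P : Set S) ∪ Q ∪ {c})) := by
    rw [← MonoidHom.map_closure, hH, Subgroup.closure_union, Subgroup.closure_union,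
      Subgroup.closure_eq, Subgroup.closure_eq, Subgroup.zpowers_eq_closure]
  have hmemQ : ∀ x y : S, x ∈ Q → y ∈ Q → f ⁅x, y⁆ = 1 := fun x y hx hy => by
    refine (QuotientGroup.eq_one_iff _).2 (Subgroup.mem_sup_right ⟨⁅(⟨x, hx⟩ : Q), ⟨y, hy⟩⁆,
      CfsgLib.PGroup.commutator_le_frattini (h2.to_subgroup Q) ?_, rfl⟩)
    rw [commutator_def]
    exact Subgroup.commutator_mem_commutator (Subgroup.mem_top _) (Subgroup.mem_top _)
  have hcommgen : ∀ a ∈ f '' ((P : Set S) ∪ Q ∪ {c}), ∀ b ∈ f '' ((P : Set S) ∪ Q ∪ {c}),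
      a * b = b * a := by
    rintro _ ⟨a, ha, rfl⟩ _ ⟨b, hb, rfl⟩
    have hc' : ∀ w ∈ (P : Set S) ∪ Q ∪ {c}, w * c = c * w := by
      rintro w ((h | h) | h)
      · exact hcc w (Subgroup.mem_sup_left h)
      · exact hcc w (Subgroup.mem_sup_right h)
      · cases h; rfl
    rcases ha with (ha | ha) | ha
    · rcases hb with (hb | hb) | hb
      · rw [← commutatorElement_eq_one_iff_mul_comm, ← map_commutatorElement]
        exact hmemP f a b ha hb hf
      · rw [← map_mul, ← map_mul, hPQcomm a ha b hb]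
      · cases hb; rw [← map_mul, ← map_mul, hc' a (Or.inl (Or.inl ha))]
    · rcases hb with (hb | hb) | hb
      · rw [← map_mul, ← map_mul, hPQcomm b hb a ha]
      · rw [← commutatorElement_eq_one_iff_mul_comm, ← map_commutatorElement]
        exact hmemQ a b ha hb
      · cases hb; rw [← map_mul, ← map_mul, hc' a (Or.inl (Or.inr ha))]
    · cases ha; rw [← map_mul, ← map_mul, hc' b hb]
  have hcomm : ∀ a ∈ H.map f, ∀ b ∈ H.map f, a * b = b * a := by
    have h1 : H.map f ≤ Subgroup.centralizer ((H.map f : Subgroup (S ⧸ N)) : Set (S ⧸ N)) := by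
      rw [hgen, Subgroup.centralizer_closure, Subgroup.closure_le]
      exact fun a ha b hb => hcommgen b hb a ha
    exact fun a ha b hb => Subgroup.mem_centralizer_iff.1 (h1 hb) a ha
  have hexp : ∀ a ∈ H.map f, a ^ 2 = 1 := by
    intro a ha
    rw [hgen] at ha
    induction ha using Subgroup.closure_induction with
    | mem a ha =>
      obtain ⟨w, hw, rfl⟩ := ha
      rw [← map_pow]
      refine (QuotientGroup.eq_one_iff _).2 ?_
      rcases hw with (hw | hw) | hw
      · exact Subgroup.mem_sup_left ⟨(⟨w, hw⟩ : P) ^ 2,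
          CfsgLib.PGroup.pow_mem_frattini (h2.to_subgroup P) _, rfl⟩
      · exact Subgroup.mem_sup_right ⟨(⟨w, hw⟩ : Q) ^ 2,
          CfsgLib.PGroup.pow_mem_frattini (h2.to_subgroup Q) _, rfl⟩
      · cases hw; exact hc2N
    | one => exact one_pow 2
    | mul x y hx hy ihx ihy =>
      rw [(show Commute x y from hcomm x (hgen ▸ hx) y (hgen ▸ hy)).mul_pow, ihx, ihy, mul_one]
    | inv x _ ih => rw [inv_pow, ih, inv_one]
  have hle := card_le_of_section hr H.subtype H.subtype_injective g hg
    (fun a b => Subtype.ext (hcomm a.1 a.2 b.1 b.2)) fun a => Subtype.ext (hexp a.1 a.2)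
  -- the image has at least 32 elements
  have hNle : N ≤ H := sup_le ((Subgroup.map_subtype_le _).trans (le_sup_left.trans le_sup_left))
    ((Subgroup.map_subtype_le _).trans (le_sup_right.trans le_sup_left))
  have hlt : P ⊔ Q < H := by
    refine lt_of_le_of_ne le_sup_left fun h => hcPQ ?_
    rw [h]
    exact Subgroup.mem_sup_right (Subgroup.mem_zpowers c)
  have hH2 : 2 * Nat.card (P ⊔ Q : Subgroup S) ≤ Nat.card H := by
    obtain ⟨t, ht⟩ := Subgroup.card_dvd_of_le hlt.le
    have hne1 : t ≠ 1 := fun h1 => hlt.ne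
      (Subgroup.eq_of_le_of_card_ge hlt.le (by rw [ht, h1, mul_one]))
    have hne0 : t ≠ 0 := fun h0 => by
      rw [h0, mul_zero] at ht; exact Nat.card_pos.ne' ht
    rw [ht, mul_comm (Nat.card _) t]
    exact Nat.mul_le_mul (by omega) le_rfl
  have hPQcard : Nat.card P * Nat.card Q ≤ Nat.card (P ⊔ Q : Subgroup S) := by
    rw [← Nat.card_prod]
    refine Nat.card_le_card_of_injective (fun w : P × Q =>
      (⟨(w.1 : S) * w.2, Subgroup.mul_mem_sup w.1.2 w.2.2⟩ : (P ⊔ Q : Subgroup S))) ?_
    exact fun a b h => Subgroup.mul_injective_of_disjoint (disjoint_iff.2 hinf) (congrArg Subtype.val h)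
  have hNcard : Nat.card N ≤ Nat.card ΦP * Nat.card ΦQ := by
    rw [← SetLike.coe_sort_coe, Subgroup.normal_mul ΦP ΦQ]
    exact Set.natCard_mul_le
  rw [Subgroup.card_map_of_injective P.subtype_injective,
    Subgroup.card_map_of_injective Q.subtype_injective] at hNcard
  have hidx : Nat.card (H.map f) * Nat.card N = Nat.card H := by
    rw [← (N.subgroupOf H).index_mul_card,
      Nat.card_congr (Subgroup.subgroupOfEquivOfLe hNle).toEquiv]
    congr 1
    have h5 := Subgroup.relIndex_ker (K := H) f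
    rw [hf, QuotientGroup.ker_mk'] at h5
    exact h5.symm
  have h3 : 2 * (4 * Nat.card (frattini P) * (4 * Nat.card (frattini Q))) ≤
      Nat.card (H.map f) * (Nat.card (frattini P) * Nat.card (frattini Q)) := by
    calc 2 * (4 * Nat.card (frattini P) * (4 * Nat.card (frattini Q)))
        ≤ 2 * (Nat.card P * Nat.card Q) := Nat.mul_le_mul le_rfl (Nat.mul_le_mul hΦPc hΦQc)
      _ ≤ 2 * Nat.card (P ⊔ Q : Subgroup S) := Nat.mul_le_mul le_rfl hPQcard
      _ ≤ Nat.card H := hH2
      _ ≤ _ := hidx ▸ Nat.mul_le_mul le_rfl hNcard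
  have hp1 : 0 < Nat.card (frattini P) * Nat.card (frattini Q) := Nat.mul_pos Nat.card_pos Nat.card_pos
  nlinarith [hle, h3, hp1]

end CfsgLib.FGStruct.SectionalFour
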