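import Mathlib
import Cfsg.Prelude
import Cfsg.Agent.Lib.PGroup.Basic

/-!
Two-groups all of whose sections have 2-rank at most two: they are metacyclic.
-/

set_option autoImplicit false

namespace CfsgLib.FGStruct.SectionalTwo

open scoped commutatorElement

universe u

/-- No elementary abelian section of order 8, in the form used below. -/
def NoE8 (S : Type u) [Group S] : Prop :=
  ∀ (Q : Type u) [Group Q] (f : S →* Q), Function.Surjective f →
    ∀ A : Subgroup Q, IsMulCommutative A → (∀ a ∈ A, a ^ 2 = 1) → Nat.card A ≤ 4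

theorem noE8_of_sectional {S : Type u} [Group S] (hr : Cfsg.SectionalPRankLE 2 2 S) : NoE8 S := by
  intro Q _ f hf A hA hAp
  let H := A.comap f
  let g : H →* A := (f.comp H.subtype).codRestrict A fun x => x.2
  have hg : Function.Surjective g := fun a => by
    obtain ⟨x, hx⟩ := hf a
    exact ⟨⟨x, show f x ∈ A by rw [hx]; exact a.2⟩, Subtype.ext hx⟩
  let e := QuotientGroup.quotientKerEquivOfSurjective g hg
  have h1 := hr H g.ker ⊤ ⟨⟨fun x y => Subtype.ext (e.injective (by
    rw [Subgroup.coe_mul, Subgroup.coe_mul, map_mul, map_mul]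
    exact hA.is_comm.comm _ _))⟩⟩ fun x _ => e.injective (by
      rw [map_pow, map_one]
      exact Subtype.ext (hAp _ (e x).2))
  rw [Subgroup.card_top, Nat.card_congr e.toEquiv] at h1
  simpa using h1

theorem NoE8.quotient {S : Type u} [Group S] (h : NoE8 S) (Z : Subgroup S) [Z.Normal] :
    NoE8 (S ⧸ Z) :=
  fun Q _ f hf A hA hAp =>
    h Q (f.comp (QuotientGroup.mk' Z)) (hf.comp (QuotientGroup.mk'_surjective Z)) A hA hAp

theorem NoE8.card_le {S Q : Type u} [Group S] [Group Q] [Finite Q] (h : NoE8 S) (f : S →* Q)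
    (hf : Function.Surjective f) (s : Finset Q) (hcomm : ∀ a ∈ s, ∀ b ∈ s, a * b = b * a)
    (hsq : ∀ a ∈ s, a ^ 2 = 1) : s.card ≤ 4 := by
  classical
  have hA : IsMulCommutative (Subgroup.closure (s : Set Q)) :=
    (Subgroup.le_centralizer_iff_isMulCommutative).1 (by
      rw [Subgroup.centralizer_closure, Subgroup.closure_le]
      exact fun a ha b hb => hcomm b hb a ha)
  have hexp : ∀ a ∈ Subgroup.closure (s : Set Q), a ^ 2 = 1 := by
    intro a ha
    induction ha using Subgroup.closure_induction with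
    | mem x hx => exact hsq x hx
    | one => exact one_pow 2
    | mul x y hx hy ihx ihy =>
      rw [(show Commute x y from congrArg Subtype.val (hA.is_comm.comm ⟨x, hx⟩ ⟨y, hy⟩)).mul_pow, ihx,
        ihy, mul_one]
    | inv x _ ih => rw [inv_pow, ih, inv_one]
  refine le_trans ?_ (h Q f hf _ hA hexp)
  rw [← Nat.card_eq_finsetCard]
  exact Nat.card_le_card_of_injective
    (fun x : s => (⟨x.1, Subgroup.subset_closure x.2⟩ : Subgroup.closure (s : Set Q)))
    fun x y hxy => Subtype.ext (congrArg (fun t : Subgroup.closure (s : Set Q) => t.1) hxy)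

theorem isMetacyclic_of_sup {S : Type u} [Group S] (N : Subgroup S) [hN : N.Normal] (hc : IsCyclic N)
    (g : S) (hg : N ⊔ Subgroup.zpowers g = ⊤) : Cfsg.IsMetacyclic S := by
  refine ⟨N, hN, hc, isCyclic_iff_exists_zpowers_eq_top.2 ⟨QuotientGroup.mk' N g, ?_⟩⟩
  have h1 := congrArg (Subgroup.map (QuotientGroup.mk' N)) hg
  rwa [Subgroup.map_sup, QuotientGroup.map_mk'_self, bot_sup_eq, MonoidHom.map_zpowers,
    ← MonoidHom.range_eq_map, MonoidHom.range_eq_top.2 (QuotientGroup.mk'_surjective N)] at h1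

theorem normal_of_commutator_le {S : Type u} [Group S] (N : Subgroup S) (h : commutator S ≤ N) :
    N.Normal := ⟨fun x hx g => by
  have h1 : g * x * g⁻¹ * x⁻¹ ∈ N :=
    h (Subgroup.commutator_mem_commutator (Subgroup.mem_top g) (Subgroup.mem_top x))
  simpa using N.mul_mem h1 hx⟩

/-- The case where the derived group has order at most two. -/
theorem metacyclic_of_central_commutator {S : Type u} [Group S] [Finite S] (h2 : IsPGroup 2 S)
    (hE : NoE8 S) (z : S) (hz1 : z ≠ 1) (hzz : z * z = 1) (hzc : ∀ g, Commute z g)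
    [hZn : (Subgroup.zpowers z).Normal]
    (hcom : commutator S ≤ Subgroup.zpowers z) (x0 y0 : S)
    (hgen : Subgroup.closure {x0, y0, z} = (⊤ : Subgroup S)) : Cfsg.IsMetacyclic S := by
  classical
  haveI : Fact (Nat.Prime 2) := ⟨Nat.prime_two⟩
  set π := QuotientGroup.mk' (Subgroup.zpowers z) with hπ
  have hzmem : ∀ w, w ∈ Subgroup.zpowers z → w = 1 ∨ w = z := by
    rintro w ⟨i, rfl⟩
    show z ^ i = 1 ∨ z ^ i = z
    rcases Int.even_or_odd i with ⟨j, hj⟩ | ⟨j, hj⟩
    · left; rw [hj, ← two_mul, zpow_mul, show z ^ (2 : ℤ) = 1 by rw [zpow_two, hzz], one_zpow]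
    · right
      rw [hj, zpow_add_one, zpow_mul, show z ^ (2 : ℤ) = 1 by rw [zpow_two, hzz], one_zpow, one_mul]
  have hker : ∀ w, π w = 1 → w = 1 ∨ w = z := fun w hw =>
    hzmem w ((QuotientGroup.eq_one_iff w).1 hw)
  have hπz : π z = 1 := (QuotientGroup.eq_one_iff z).2 (Subgroup.mem_zpowers z)
  have hπc : ∀ a b, π a * π b = π b * π a := fun a b => by
    rw [← commutatorElement_eq_one_iff_mul_comm, ← map_commutatorElement, QuotientGroup.mk'_apply,
      QuotientGroup.eq_one_iff]
    exact hcom (Subgroup.commutator_mem_commutator (Subgroup.mem_top a) (Subgroup.mem_top b))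
  -- generators of least orders
  have hexp : ∃ N x y, Subgroup.closure {x, y, z} = (⊤ : Subgroup S) ∧ orderOf (π x) * orderOf (π y) = N :=
    ⟨_, x0, y0, hgen, rfl⟩
  obtain ⟨x, y, hxy, hN⟩ := Nat.find_spec hexp
  have hpos : ∀ w, 0 < orderOf (π w) := fun w => orderOf_pos _
  -- the two cyclic subgroups meet trivially
  have hindep : ∀ u v : S, Subgroup.closure {u, v, z} = (⊤ : Subgroup S) →
      orderOf (π u) * orderOf (π v) = Nat.find hexp → orderOf (π v) ≤ orderOf (π u) →
      ∀ q, q ∈ Subgroup.zpowers (π u) → q ∈ Subgroup.zpowers (π v) → q = 1 := by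
    intro u v huv hprod hle q hqu hqv
    by_contra hq
    obtain ⟨i, hi⟩ := IsPGroup.iff_orderOf.1 (h2.to_quotient (Subgroup.zpowers z)) (π u)
    obtain ⟨j, hj⟩ := IsPGroup.iff_orderOf.1 (h2.to_quotient (Subgroup.zpowers z)) (π v)
    obtain ⟨m, hm⟩ := IsPGroup.iff_orderOf.1 (h2.to_quotient (Subgroup.zpowers z)) q
    rcases m with _ | m
    · exact hq (orderOf_eq_one_iff.1 (by simpa using hm))
    have hij : j ≤ i := by
      rw [hi, hj] at hle
      exact (Nat.pow_le_pow_iff_right one_lt_two).1 hle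
    -- the involution in both
    set r := q ^ (2 ^ m) with hr
    have hr1 : orderOf r = 2 := by
      rw [hr, orderOf_pow' _ (pow_ne_zero _ two_ne_zero), hm, pow_succ]
      rw [Nat.gcd_eq_right (dvd_mul_right _ _), Nat.mul_div_cancel_left _ (by positivity)]
    have huniq : ∀ (w : S) (k : ℕ), orderOf (π w) = 2 ^ k → r ∈ Subgroup.zpowers (π w) →
        ∃ k', k = k' + 1 ∧ r = π w ^ (2 ^ k') := by
      intro w k hk hrw
      rcases k with _ | k
      · rw [pow_zero, orderOf_eq_one_iff] at hk
        rw [hk, Subgroup.zpowers_one_eq_bot, Subgroup.mem_bot] at hrw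
        rw [hrw, orderOf_one] at hr1
        omega
      refine ⟨k, rfl, ?_⟩
      obtain ⟨e, he⟩ := (mem_powers_iff_mem_zpowers.2 hrw : r ∈ Submonoid.powers (π w))
      have h2e : π w ^ (e * 2) = 1 := by
        rw [pow_mul, show π w ^ e = r from he, ← hr1, pow_orderOf_eq_one]
      rw [← orderOf_dvd_iff_pow_eq_one, hk, pow_succ] at h2e
      obtain ⟨d, hd⟩ := Nat.dvd_of_mul_dvd_mul_right two_pos h2e
      have hodd : ¬ 2 ∣ d := by
        rintro ⟨c, rfl⟩
        have h1 : r = 1 := by
          rw [← show π w ^ e = r from he, hd, ← mul_assoc, ← pow_succ, ← hk, pow_mul, pow_orderOf_eq_one,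
            one_pow]
        rw [h1, orderOf_one] at hr1
        omega
      obtain ⟨c, rfl⟩ : ∃ c, d = 2 * c + 1 := ⟨d / 2, by omega⟩
      rw [← show π w ^ e = r from he, hd, mul_add, mul_one, pow_add, ← mul_assoc, ← pow_succ, ← hk,
        pow_mul, pow_orderOf_eq_one, one_pow, one_mul]
    obtain ⟨i', hi', hru⟩ := huniq u i hi (Subgroup.pow_mem _ hqu _)
    obtain ⟨j', hj', hrv⟩ := huniq v j hj (Subgroup.pow_mem _ hqv _)
    -- replace `v`
    set v' := v * (u ^ (2 ^ (i' - j')))⁻¹ with hv'
    have hle' : orderOf (π v') ∣ 2 ^ j' := by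
      apply orderOf_dvd_of_pow_eq_one
      rw [hv', map_mul, map_inv, map_pow, (show Commute (π v) ((π u ^ 2 ^ (i' - j'))⁻¹) from
        (Commute.pow_right (hπc v u) _).inv_right).mul_pow, inv_pow, ← pow_mul, ← pow_add,
        Nat.sub_add_cancel (show j' ≤ i' by omega), ← hru, ← hrv, mul_inv_cancel]
    have hclos : Subgroup.closure {u, v', z} = (⊤ : Subgroup S) := by
      rw [eq_top_iff, ← huv, Subgroup.closure_le]
      intro w hw
      have hu : u ∈ Subgroup.closure ({u, v', z} : Set S) := Subgroup.subset_closure (Or.inl rfl)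
      rcases hw with rfl | rfl | rfl
      · exact hu
      · have h1 : v' ∈ Subgroup.closure ({u, v', z} : Set S) := Subgroup.subset_closure (Or.inr (Or.inl rfl))
        have h3 := mul_mem h1 (Subgroup.pow_mem _ hu (2 ^ (i' - j')))
        simpa [hv'] using h3
      · exact Subgroup.subset_closure (Or.inr (Or.inr rfl))
    have hlt : orderOf (π u) * orderOf (π v') < Nat.find hexp := by
      rw [← hprod]
      refine Nat.mul_lt_mul_of_pos_left ?_ (hpos u)
      refine lt_of_le_of_lt (Nat.le_of_dvd (by positivity) hle') ?_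
      rw [hj, hj']
      exact Nat.pow_lt_pow_right one_lt_two (Nat.lt_succ_self _)
    exact Nat.find_min hexp hlt ⟨u, v', hclos, rfl⟩
  have hdisj : ∀ q, q ∈ Subgroup.zpowers (π x) → q ∈ Subgroup.zpowers (π y) → q = 1 := by
    rcases le_total (orderOf (π y)) (orderOf (π x)) with h | h
    · exact hindep x y hxy hN h
    · exact fun q h1 h3 => hindep y x (by rwa [Set.insert_comm] at hxy) (by rwa [mul_comm] at hN) h q h3 h1
  have hmeta : ∀ g w : S, z ∈ Subgroup.zpowers g → Subgroup.closure {g, w, z} = (⊤ : Subgroup S) →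
      Cfsg.IsMetacyclic S := by
    intro g w hg hcl
    haveI := normal_of_commutator_le (Subgroup.zpowers g) (hcom.trans (Subgroup.zpowers_le.2 hg))
    refine isMetacyclic_of_sup (Subgroup.zpowers g) inferInstance w (eq_top_iff.2 ?_)
    rw [← hcl, Subgroup.closure_le]
    rintro s (rfl | rfl | rfl)
    · exact Subgroup.mem_sup_left (Subgroup.mem_zpowers _)
    · exact Subgroup.mem_sup_right (Subgroup.mem_zpowers _)
    · exact Subgroup.mem_sup_left hg
  by_cases hzx : z ∈ Subgroup.zpowers x
  · exact hmeta x y hzx hxy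
  by_cases hzy : z ∈ Subgroup.zpowers y
  · exact hmeta y x hzy (by rwa [Set.insert_comm] at hxy)
  have hord : ∀ w : S, z ∉ Subgroup.zpowers w → w ^ orderOf (π w) = 1 := by
    intro w hw
    rcases hker (w ^ orderOf (π w)) (by rw [map_pow, pow_orderOf_eq_one]) with h | h
    · exact h
    · exact absurd (h ▸ Subgroup.pow_mem _ (Subgroup.mem_zpowers w) _) hw
  have hox := hord x hzx
  have hoy := hord y hzy
  obtain ⟨i, hi⟩ := IsPGroup.iff_orderOf.1 (h2.to_quotient (Subgroup.zpowers z)) (π x)
  obtain ⟨j, hj⟩ := IsPGroup.iff_orderOf.1 (h2.to_quotient (Subgroup.zpowers z)) (π y)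
  have hzcyc : ∀ g : S, Subgroup.closure {g, g, z} = (⊤ : Subgroup S) → Cfsg.IsMetacyclic S := by
    intro g hg
    refine isMetacyclic_of_sup (Subgroup.zpowers z) inferInstance g (eq_top_iff.2 ?_)
    rw [← hg, Subgroup.closure_le]
    rintro s (rfl | rfl | rfl)
    · exact Subgroup.mem_sup_right (Subgroup.mem_zpowers _)
    · exact Subgroup.mem_sup_right (Subgroup.mem_zpowers _)
    · exact Subgroup.mem_sup_left (Subgroup.mem_zpowers _)
  rcases i with _ | i
  · refine hzcyc y (eq_top_iff.2 ?_)
    rw [hi, pow_zero, pow_one] at hox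
    rw [← hxy, Subgroup.closure_le]
    rintro s (rfl | rfl | rfl)
    · rw [hox]; exact Subgroup.one_mem _
    · exact Subgroup.subset_closure (Or.inl rfl)
    · exact Subgroup.subset_closure (Or.inr (Or.inr rfl))
  rcases j with _ | j
  · refine hzcyc x (eq_top_iff.2 ?_)
    rw [hj, pow_zero, pow_one] at hoy
    rw [← hxy, Subgroup.closure_le]
    rintro s (rfl | rfl | rfl)
    · exact Subgroup.subset_closure (Or.inl rfl)
    · rw [hoy]; exact Subgroup.one_mem _
    · exact Subgroup.subset_closure (Or.inr (Or.inr rfl))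
  set x1 := x ^ (2 ^ i) with hx1
  set y1 := y ^ (2 ^ j) with hy1
  by_cases hc1 : Commute x1 y1
  · exfalso
    have hx1s : x1 ^ 2 = 1 := by rw [hx1, ← pow_mul, ← pow_succ, ← hi]; exact hox
    have hy1s : y1 ^ 2 = 1 := by rw [hy1, ← pow_mul, ← pow_succ, ← hj]; exact hoy
    have hpx : π x1 ≠ 1 := by
      rw [hx1, map_pow]
      exact pow_ne_one_of_lt_orderOf (by positivity) (by rw [hi]; exact Nat.pow_lt_pow_right one_lt_two (Nat.lt_succ_self _))
    have hpy : π y1 ≠ 1 := by
      rw [hy1, map_pow]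
      exact pow_ne_one_of_lt_orderOf (by positivity) (by rw [hj]; exact Nat.pow_lt_pow_right one_lt_two (Nat.lt_succ_self _))
    have hpxy : π x1 ≠ π y1 := fun h => hpx (hdisj _
      (by rw [hx1, map_pow]; exact Subgroup.pow_mem _ (Subgroup.mem_zpowers _) _)
      (by rw [h, hy1, map_pow]; exact Subgroup.pow_mem _ (Subgroup.mem_zpowers _) _))
    have hne : ([1, z, x1, y1, x1 * y1] : List S).Nodup := by
      simp only [List.nodup_cons, List.mem_cons, List.not_mem_nil, or_false, not_or, List.nodup_nil,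
        and_true, not_false_eq_true]
      refine ⟨⟨hz1.symm, ?_, ?_, ?_⟩, ⟨?_, ?_, ?_⟩, ⟨?_, ?_⟩, ?_⟩
      · exact fun h => hpx (by rw [← h, map_one])
      · exact fun h => hpy (by rw [← h, map_one])
      · intro h
        refine hpxy ?_
        rw [eq_inv_of_mul_eq_one_left h.symm, map_inv, inv_eq_of_mul_eq_one_right]
        rw [← map_mul, ← sq, hy1s, map_one]
      · exact fun h => hpx (by rw [← h, hπz])
      · exact fun h => hpy (by rw [← h, hπz])
      · intro h
        refine hpxy ?_
        have h' : π x1 * π y1 = 1 := by rw [← map_mul, ← h, hπz]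
        rw [eq_inv_of_mul_eq_one_left h', inv_eq_of_mul_eq_one_right]
        rw [← map_mul, ← sq, hy1s, map_one]
      · exact fun h => hpxy (by rw [h])
      · exact fun h => hpy (by rw [left_eq_mul.1 h, map_one])
      · exact fun h => hpx (by rw [right_eq_mul.1 h, map_one])
    have h5 := NoE8.card_le hE (MonoidHom.id S) Function.surjective_id [1, z, x1, y1, x1 * y1].toFinset
      (fun a ha b hb => by
        simp only [List.mem_toFinset, List.mem_cons, List.not_mem_nil, or_false] at ha hb
        have hcc : ∀ w ∈ [1, z, x1, y1, x1 * y1], Commute w x1 ∧ Commute w y1 := by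
          intro w hw
          simp only [List.mem_cons, List.not_mem_nil, or_false] at hw
          rcases hw with rfl | rfl | rfl | rfl | rfl
          · exact ⟨Commute.one_left _, Commute.one_left _⟩
          · exact ⟨hzc _, hzc _⟩
          · exact ⟨Commute.refl _, hc1⟩
          · exact ⟨hc1.symm, Commute.refl _⟩
          · exact ⟨(Commute.refl _).mul_left hc1.symm, hc1.mul_left (Commute.refl _)⟩
        obtain ⟨h1, h3⟩ := hcc a (by simpa using ha)
        rcases hb with rfl | rfl | rfl | rfl | rfl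
        · simp
        · exact (hzc a).symm.eq
        · exact h1.eq
        · exact h3.eq
        · exact (h1.mul_right h3).eq)
      (fun a ha => by
        simp only [List.mem_toFinset, List.mem_cons, List.not_mem_nil, or_false] at ha
        rcases ha with rfl | rfl | rfl | rfl | rfl
        · exact one_pow 2
        · rw [sq, hzz]
        · exact hx1s
        · exact hy1s
        · rw [hc1.mul_pow, hx1s, hy1s, one_mul])
    rw [List.toFinset_card_of_nodup hne] at h5
    simp at h5
  · -- both generators are involutions and their commutator is `z`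
    have hcz : ⁅x1, y1⁆ = z :=
      (hzmem _ (hcom (Subgroup.commutator_mem_commutator (Subgroup.mem_top _) (Subgroup.mem_top _)))).resolve_left
        fun h => hc1 (commutatorElement_eq_one_iff_mul_comm.1 h)
    have hsqc : ∀ a b : S, Commute (a * a) b := by
      intro a b
      rcases hzmem _ (hcom (Subgroup.commutator_mem_commutator (Subgroup.mem_top a) (Subgroup.mem_top b))) with h | h
      · exact (show Commute a b from commutatorElement_eq_one_iff_mul_comm.1 h).mul_left
          (commutatorElement_eq_one_iff_mul_comm.1 h)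
      · have h1 : a * b = z * (b * a) := by rw [← h, commutatorElement_def]; group
        show a * a * b = b * (a * a)
        calc a * a * b = a * (a * b) := mul_assoc _ _ _
          _ = a * (z * (b * a)) := by rw [h1]
          _ = z * (a * b) * a := by rw [← mul_assoc a z, ← (hzc a).eq]; simp only [mul_assoc]
          _ = (z * z) * (b * (a * a)) := by rw [h1]; simp only [mul_assoc]
          _ = _ := by rw [hzz, one_mul]
    have hi0 : i = 0 := by
      by_contra h
      apply hc1
      obtain ⟨e, rfl⟩ : ∃ e, i = e + 1 := ⟨i - 1, by omega⟩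
      rw [hx1, pow_succ, pow_mul, sq]
      exact hsqc _ _
    have hj0 : j = 0 := by
      by_contra h
      apply hc1
      obtain ⟨e, rfl⟩ : ∃ e, j = e + 1 := ⟨j - 1, by omega⟩
      rw [hy1, pow_succ, pow_mul, sq]
      exact (hsqc _ _).symm
    subst hi0 hj0
    rw [hx1, hy1, pow_zero, pow_one, pow_one] at hcz
    rw [hi, zero_add, pow_one, sq] at hox
    rw [hj, zero_add, pow_one, sq] at hoy
    have hzmul : z = (x * y) ^ 2 := by
      rw [← hcz, commutatorElement_def, inv_eq_of_mul_eq_one_right hox, inv_eq_of_mul_eq_one_right hoy, sq]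
      simp only [mul_assoc]
    refine hmeta (x * y) y (hzmul ▸ Subgroup.pow_mem _ (Subgroup.mem_zpowers _) _) ?_
    rw [eq_top_iff, ← hxy, Subgroup.closure_le]
    have hy' : y ∈ Subgroup.closure ({x * y, y, z} : Set S) := Subgroup.subset_closure (Or.inr (Or.inl rfl))
    rintro s (rfl | rfl | rfl)
    · have h1 := mul_mem (Subgroup.subset_closure (show s * y ∈ ({s * y, y, z} : Set S) from Or.inl rfl)) (inv_mem hy')
      simpa using h1
    · exact hy'
    · exact Subgroup.subset_closure (Or.inr (Or.inr rfl))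

/-- A 2-group without elementary abelian sections of order 8 is metacyclic. -/
theorem isMetacyclic_of_noE8 : ∀ (n : ℕ) (S : Type u) [Group S] [Finite S], Nat.card S = n →
    IsPGroup 2 S → NoE8 S → Cfsg.IsMetacyclic S := by
  classical
  intro n
  induction n using Nat.strong_induction_on with
  | _ n ih =>
  intro S _ _ hn h2 hE
  haveI : Fact (Nat.Prime 2) := ⟨Nat.prime_two⟩
  rcases subsingleton_or_nontrivial S with hS | hS
  · exact isMetacyclic_of_sup ⊥ inferInstance 1 (Subsingleton.elim _ _)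
  -- a central involution, inside the derived group if possible
  obtain ⟨z, hzc, hzo, hzin⟩ : ∃ z : S, z ∈ Subgroup.center S ∧ orderOf z = 2 ∧
      (commutator S ≠ ⊥ → z ∈ commutator S) := by
    by_cases h : commutator S = ⊥
    · obtain ⟨z, -, hzc, hzo⟩ := CfsgLib.PGroup.exists_central_orderOf_eq h2 (⊤ : Subgroup S) top_ne_bot
      exact ⟨z, hzc, hzo, fun h' => absurd h h'⟩
    · obtain ⟨z, hz, hzc, hzo⟩ := CfsgLib.PGroup.exists_central_orderOf_eq h2 (commutator S) h
      exact ⟨z, hzc, hzo, fun _ => hz⟩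
  have hz1 : z ≠ 1 := fun h => by rw [h, orderOf_one] at hzo; omega
  have hzz : z * z = 1 := by
    have h := pow_orderOf_eq_one z
    rwa [hzo, sq] at h
  have hzcomm : ∀ g, Commute z g := fun g => (Subgroup.mem_center_iff.1 hzc g).symm
  haveI hZn : (Subgroup.zpowers z).Normal := ⟨fun w hw g => by
    obtain ⟨e, rfl⟩ := hw
    show g * z ^ e * g⁻¹ ∈ _
    rw [((hzcomm g).zpow_left e).symm.eq, mul_inv_cancel_right]
    exact Subgroup.zpow_mem _ (Subgroup.mem_zpowers z) e⟩
  have hlt : Nat.card (S ⧸ Subgroup.zpowers z) < n := by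
    have h1 := Subgroup.card_eq_card_quotient_mul_card_subgroup (Subgroup.zpowers z)
    rw [hn, Nat.card_zpowers, hzo] at h1
    have : 0 < Nat.card (S ⧸ Subgroup.zpowers z) := Nat.card_pos
    omega
  obtain ⟨Nb, hNn, hNc, hQc⟩ := ih _ hlt (S ⧸ Subgroup.zpowers z) rfl (h2.to_quotient _) (hE.quotient _)
  obtain ⟨abar, hab⟩ := isCyclic_iff_exists_zpowers_eq_top.1 hNc
  obtain ⟨q, hq⟩ := isCyclic_iff_exists_zpowers_eq_top.1 hQc
  set π := QuotientGroup.mk' (Subgroup.zpowers z) with hπ
  obtain ⟨a, ha⟩ := QuotientGroup.mk'_surjective (Subgroup.zpowers z) abar.1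
  obtain ⟨bbar, hb0⟩ := QuotientGroup.mk'_surjective Nb q
  obtain ⟨b, hb⟩ := QuotientGroup.mk'_surjective (Subgroup.zpowers z) bbar
  have hNb : Nb = Subgroup.zpowers (π a) := by
    rw [ha]
    have h1 := congrArg (Subgroup.map Nb.subtype) hab
    rw [MonoidHom.map_zpowers, ← MonoidHom.range_eq_map, Subgroup.range_subtype] at h1
    exact h1.symm
  have hcl : Subgroup.closure {a, b, z} = (⊤ : Subgroup S) := by
    rw [eq_top_iff]
    intro g _
    obtain ⟨e, he⟩ := Subgroup.mem_zpowers_iff.1
      (show QuotientGroup.mk' Nb (π g) ∈ Subgroup.zpowers q by rw [hq]; exact Subgroup.mem_top _)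
    rw [← hb0, ← hb, ← map_zpow, ← map_zpow, QuotientGroup.mk'_eq_mk'] at he
    obtain ⟨w, hw, hw'⟩ := he
    rw [hNb] at hw
    obtain ⟨f, rfl⟩ := Subgroup.mem_zpowers_iff.1 hw
    rw [← map_zpow, ← map_mul, QuotientGroup.mk'_eq_mk'] at hw'
    obtain ⟨u, hu, rfl⟩ := hw'
    obtain ⟨e', rfl⟩ := Subgroup.mem_zpowers_iff.1 hu
    exact mul_mem (mul_mem
      (Subgroup.zpow_mem _ (Subgroup.subset_closure (show b ∈ ({a, b, z} : Set S) from Or.inr (Or.inl rfl))) e)
      (Subgroup.zpow_mem _ (Subgroup.subset_closure (show a ∈ ({a, b, z} : Set S) from Or.inl rfl)) f))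
      (Subgroup.zpow_mem _ (Subgroup.subset_closure (show z ∈ ({a, b, z} : Set S) from Or.inr (Or.inr rfl))) e')
  by_cases hcom : commutator S ≤ Subgroup.zpowers z
  · exact metacyclic_of_central_commutator h2 hE z hz1 hzz hzcomm hcom a b hcl
  -- now `z` lies in a cyclic derived group
  have hzS' : z ∈ commutator S := hzin fun h => hcom (h ▸ bot_le)
  set A := (Subgroup.zpowers (π a)).comap π with hA
  haveI : (Subgroup.zpowers (π a)).Normal := hNb ▸ hNn
  haveI hAn : A.Normal := Subgroup.Normal.comap inferInstance π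
  have hAmem : ∀ w ∈ A, ∃ (e f : ℤ), w = a ^ e * z ^ f := by
    intro w hw
    obtain ⟨e, he⟩ := Subgroup.mem_zpowers_iff.1 (Subgroup.mem_comap.1 hw)
    rw [← map_zpow, QuotientGroup.mk'_eq_mk'] at he
    obtain ⟨u, hu, rfl⟩ := he
    obtain ⟨f, rfl⟩ := Subgroup.mem_zpowers_iff.1 hu
    exact ⟨e, f, rfl⟩
  have haA : a ∈ A := Subgroup.mem_comap.2 (Subgroup.mem_zpowers _)
  have hzA : z ∈ A := by
    rw [hA, Subgroup.mem_comap, show π z = 1 from (QuotientGroup.eq_one_iff z).2 (Subgroup.mem_zpowers z)]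
    exact Subgroup.one_mem _
  set c := b * a * b⁻¹ * a⁻¹ with hc
  have hcA : c ∈ A := A.mul_mem (hAn.conj_mem a haA b) (A.inv_mem haA)
  obtain ⟨e, f, hce⟩ := hAmem c hcA
  have hca : Commute c a := by
    rw [hce]; exact ((Commute.refl a).zpow_left e).mul_left ((hzcomm a).zpow_left f)
  have hcb : b * c * b⁻¹ = c ^ (e + 1) := by
    have h1 : b * a * b⁻¹ = c * a := by rw [hc]; group
    have h3 : b * z ^ f * b⁻¹ = z ^ f := by
      rw [((hzcomm b).zpow_left f).symm.eq, mul_inv_cancel_right]
    conv_lhs => rw [hce, ← conj_mul, h3, ← conj_zpow, h1, hca.mul_zpow, mul_assoc, ← hce, ← zpow_add_one]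
  haveI hcn : (Subgroup.zpowers c).Normal := by
    refine Subgroup.normalizer_eq_top_iff.1 (eq_top_iff.2 ?_)
    rw [← hcl, Subgroup.closure_le]
    intro s hs
    rw [SetLike.mem_coe, Subgroup.mem_normalizer_iff_map_conj_eq]
    refine Subgroup.eq_of_le_of_card_ge ?_
      (Subgroup.card_map_of_injective (MulEquiv.injective (MulAut.conj s))).ge
    rw [MonoidHom.map_zpowers, Subgroup.zpowers_le, MonoidHom.coe_coe, MulAut.conj_apply]
    rcases hs with rfl | rfl | rfl
    · rw [hca.symm.eq, mul_inv_cancel_right]; exact Subgroup.mem_zpowers c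
    · rw [hcb]; exact Subgroup.zpow_mem _ (Subgroup.mem_zpowers c) _
    · rw [(hzcomm c).eq, mul_inv_cancel_right]; exact Subgroup.mem_zpowers c
  have hder : commutator S ≤ Subgroup.zpowers c := by
    set ρ := QuotientGroup.mk' (Subgroup.zpowers c)
    rw [← QuotientGroup.ker_mk' (Subgroup.zpowers c), ← Subgroup.map_eq_bot_iff, commutator_def,
      Subgroup.map_commutator, Subgroup.commutator_eq_bot_iff_le_centralizer, ← hcl,
      MonoidHom.map_closure, Subgroup.centralizer_closure, Subgroup.closure_le]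
    have hab' : ρ b * ρ a = ρ a * ρ b := by
      rw [← commutatorElement_eq_one_iff_mul_comm, ← map_commutatorElement, QuotientGroup.mk'_apply,
        QuotientGroup.eq_one_iff, commutatorElement_def]
      exact Subgroup.mem_zpowers c
    rintro _ ⟨s, hs, rfl⟩ _ ⟨t, ht, rfl⟩
    rcases hs with rfl | rfl | rfl <;> rcases ht with rfl | rfl | rfl
    all_goals first
      | rfl
      | exact hab'
      | exact hab'.symm
      | (rw [← map_mul, ← map_mul, (hzcomm _).eq])
  obtain ⟨k, hk⟩ := Subgroup.mem_zpowers_iff.1 (hder hzS')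
  by_cases hza : z ∈ Subgroup.zpowers a
  · haveI : (Subgroup.zpowers a).Normal := by
      have hAa : A = Subgroup.zpowers a := le_antisymm (fun w hw => by
          obtain ⟨i, j, rfl⟩ := hAmem w hw
          exact mul_mem (Subgroup.zpow_mem _ (Subgroup.mem_zpowers a) _) (Subgroup.zpow_mem _ hza _))
        (Subgroup.zpowers_le.2 haA)
      exact hAa ▸ hAn
    refine isMetacyclic_of_sup (Subgroup.zpowers a) inferInstance b (eq_top_iff.2 ?_)
    rw [← hcl, Subgroup.closure_le]
    rintro s (rfl | rfl | rfl)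
    · exact Subgroup.mem_sup_left (Subgroup.mem_zpowers _)
    · exact Subgroup.mem_sup_right (Subgroup.mem_zpowers _)
    · exact Subgroup.mem_sup_left hza
  exfalso
  -- then `a ^ e = 1`, so the derived group is generated by `z`
  have hzf : ∀ i : ℤ, z ^ i = 1 ∨ z ^ i = z := by
    intro i
    have hz2 : z ^ (2 : ℤ) = 1 := by rw [zpow_two, hzz]
    rcases Int.even_or_odd i with ⟨j, hj⟩ | ⟨j, hj⟩
    · left; rw [hj, ← two_mul, zpow_mul, hz2, one_zpow]
    · right; rw [hj, zpow_add_one, zpow_mul, hz2, one_zpow, one_mul]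
  rw [hce, (((hzcomm a).zpow_left f).zpow_right e).symm.mul_zpow, ← zpow_mul, ← zpow_mul] at hk
  have hodd : Odd k := by
    by_contra hev
    rw [Int.not_odd_iff_even] at hev
    obtain ⟨k', rfl⟩ := hev
    rw [show f * (k' + k') = 2 * (f * k') by ring, zpow_mul z 2, show z ^ (2 : ℤ) = 1 by rw [zpow_two, hzz],
      one_zpow, mul_one] at hk
    exact hza (hk ▸ Subgroup.zpow_mem _ (Subgroup.mem_zpowers a) _)
  have hae : a ^ (e * k) = 1 := by
    rcases hzf (f * k) with h | h
    · rw [h, mul_one] at hk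
      exact absurd (hk ▸ Subgroup.zpow_mem _ (Subgroup.mem_zpowers a) _) hza
    · rw [h] at hk
      exact mul_eq_right.1 hk
  obtain ⟨d, hd⟩ := IsPGroup.iff_orderOf.1 h2 a
  have hcop : IsCoprime ((2 ^ d : ℕ) : ℤ) k := by
    push_cast
    refine IsCoprime.pow_left ?_
    obtain ⟨k', rfl⟩ := hodd
    exact ⟨-k', 1, by ring⟩
  have hae1 : a ^ e = 1 := by
    rw [← orderOf_dvd_iff_zpow_eq_one, hd] at hae ⊢
    exact hcop.dvd_of_dvd_mul_right hae
  apply hcom
  refine hder.trans (Subgroup.zpowers_le.2 ?_)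
  rw [hce, hae1, one_mul]
  exact Subgroup.zpow_mem _ (Subgroup.mem_zpowers z) f

end CfsgLib.FGStruct.SectionalTwo
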