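import Mathlib

/-!
An elementary abelian 2-group acting on a nilpotent group of odd order: common "eigen-elements"
(fixed or inverted by every involution), commuting and independent, in number equal to the rank.
-/

set_option autoImplicit false

universe v

namespace CfsgLib.SignedEigen

theorem inv_ne_self_of_odd {C : Type*} [Group C] [Finite C] (hC : Odd (Nat.card C)) {x : C} (h : x⁻¹ = x) :
    x = 1 := by
  by_contra hne
  have h2 : orderOf x = 2 := orderOf_eq_prime (by rw [pow_two]; exact inv_eq_iff_mul_eq_one.1 h) hne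
  have := orderOf_dvd_natCard x
  rw [h2] at this
  exact Nat.not_even_iff_odd.2 hC (even_iff_two_dvd.2 this)

/-- If an involutory automorphism of a group of odd order fixes the centre and is trivial on the central
quotient, then it is trivial. -/
theorem trivial_of_central {C : Type*} [Group C] [Finite C] (hC : Odd (Nat.card C)) (α : MulAut C)
    (hα : α * α = 1) (hz : ∀ z ∈ Subgroup.center C, α z = z) (hq : ∀ c : C, c⁻¹ * α c ∈ Subgroup.center C) :
    α = 1 := by
  ext c
  have h1 := hz _ (hq c)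
  have h2 : α (α c) = c := by rw [← MulAut.mul_apply, hα, MulAut.one_apply]
  rw [map_mul, map_inv, h2] at h1
  have h3 : (c⁻¹ * α c)⁻¹ = c⁻¹ * α c := by
    conv_rhs => rw [← h1]
    group
  have := inv_ne_self_of_odd hC h3
  exact (inv_mul_eq_one.1 this).symm

/-- The signed action of `J × ℤˣ` on a group. -/
def signedPerm {C J : Type*} [Group C] [Group J] (φ : J →* MulAut C) : J × ℤˣ →* Equiv.Perm C where
  toFun p :=
    { toFun := fun y => (φ p.1 y) ^ (p.2 : ℤ)
      invFun := fun y => (φ p.1)⁻¹ (y ^ (p.2 : ℤ))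
      left_inv := fun y => by
        rcases Int.units_eq_one_or p.2 with h | h <;> simp [h]
      right_inv := fun y => by
        rcases Int.units_eq_one_or p.2 with h | h <;> simp [h] }
  map_one' := by ext y; simp
  map_mul' p q := by
    ext y
    simp only [Equiv.coe_fn_mk, Equiv.Perm.mul_apply, Prod.fst_mul, Prod.snd_mul, Units.val_mul,
      map_mul, MulAut.mul_apply, map_zpow, ← zpow_mul]
    rw [mul_comm]

theorem signedPerm_apply {C J : Type*} [Group C] [Group J] (φ : J →* MulAut C) (j : J) (u : ℤˣ) (y : C) :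
    signedPerm φ (j, u) y = (φ j y) ^ (u : ℤ) := rfl

/-- If a 2-group permutes-or-inverts a coset of a central subgroup of odd order, some element of the coset
is fixed-or-inverted by each element. -/
theorem exists_lift {C J : Type*} [Group C] [Finite C] [Group J] [Finite J] (hJ : IsPGroup 2 J)
    (hC : Odd (Nat.card C)) (φ : J →* MulAut C) (x₀ : C)
    (h : ∀ j, x₀⁻¹ * φ j x₀ ∈ Subgroup.center C ∨ x₀ * φ j x₀ ∈ Subgroup.center C) :
    ∃ x : C, x₀⁻¹ * x ∈ Subgroup.center C ∧
      ∀ j, (x₀⁻¹ * φ j x₀ ∈ Subgroup.center C → φ j x = x) ∧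
        (x₀ * φ j x₀ ∈ Subgroup.center C → φ j x = x⁻¹) := by
  classical
  let ψ := signedPerm φ
  let T : Set C := {y | x₀⁻¹ * y ∈ Subgroup.center C}
  let Γ : Subgroup (J × ℤˣ) :=
    { carrier := {g | ∀ y, y ∈ T ↔ ψ g y ∈ T}
      one_mem' := by intro y; rw [map_one]; rfl
      mul_mem' := by
        intro a b ha hb y
        rw [map_mul, Equiv.Perm.mul_apply]
        exact (hb y).trans (ha _)
      inv_mem' := by
        intro a ha y
        have h1 := ha (ψ a⁻¹ y)
        rw [← Equiv.Perm.mul_apply, ← map_mul, mul_inv_cancel, map_one, Equiv.Perm.one_apply] at h1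
        exact h1.symm }
  have hphiZ : ∀ j, ∀ z ∈ Subgroup.center C, φ j z ∈ Subgroup.center C := fun j z hz =>
    (Subgroup.characteristic_iff_le_comap.1 Subgroup.centerCharacteristic (φ j)) hz
  have hphiZ' : ∀ j, ∀ z, φ j z ∈ Subgroup.center C → z ∈ Subgroup.center C := fun j z hz => by
    have := hphiZ j⁻¹ _ hz
    rwa [← MulAut.mul_apply, ← map_mul, inv_mul_cancel, map_one, MulAut.one_apply] at this
  have hp : IsPGroup 2 (J × ℤˣ) := by
    obtain ⟨n, hn⟩ := IsPGroup.iff_card.1 hJ
    refine IsPGroup.of_card (n := n + 1) ?_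
    rw [Nat.card_prod, hn, pow_succ, Nat.card_eq_fintype_card (α := ℤˣ)]
    rfl
  have mem : ∀ j, (x₀⁻¹ * φ j x₀ ∈ Subgroup.center C → (j, (1 : ℤˣ)) ∈ Γ) ∧
      (x₀ * φ j x₀ ∈ Subgroup.center C → (j, (-1 : ℤˣ)) ∈ Γ) := by
    intro j
    constructor
    · intro h1 y
      show x₀⁻¹ * y ∈ Subgroup.center C ↔ x₀⁻¹ * (φ j y) ^ ((1 : ℤˣ) : ℤ) ∈ Subgroup.center C
      rw [Units.val_one, zpow_one]
      have e : x₀⁻¹ * φ j y = (x₀⁻¹ * φ j x₀) * φ j (x₀⁻¹ * y) := by
        rw [map_mul, map_inv]; group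
      rw [e, Subgroup.mul_mem_cancel_left _ h1]
      exact ⟨hphiZ j _, hphiZ' j _⟩
    · intro h1 y
      show x₀⁻¹ * y ∈ Subgroup.center C ↔ x₀⁻¹ * (φ j y) ^ ((-1 : ℤˣ) : ℤ) ∈ Subgroup.center C
      rw [Units.val_neg, Units.val_one, zpow_neg, zpow_one]
      have e : x₀⁻¹ * (φ j y)⁻¹ = (x₀⁻¹ * (φ j (x₀⁻¹ * y))⁻¹ * x₀) * (x₀⁻¹ * (φ j x₀)⁻¹) := by
        rw [map_mul, map_inv]; group
      have h2 : x₀⁻¹ * (φ j x₀)⁻¹ ∈ Subgroup.center C := by
        have h3 : φ j x₀ * x₀ ∈ Subgroup.center C :=
          (inferInstance : (Subgroup.center C).Normal).mem_comm h1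
        rw [← mul_inv_rev]; exact Subgroup.inv_mem _ h3
      rw [e, Subgroup.mul_mem_cancel_right _ h2]
      have hn : (Subgroup.center C).Normal := inferInstance
      constructor
      · intro hy
        have := hn.conj_mem _ (Subgroup.inv_mem _ (hphiZ j _ hy)) x₀⁻¹
        rwa [inv_inv] at this
      · intro hy
        refine hphiZ' j _ ((Subgroup.inv_mem_iff _).1 ?_)
        have := hn.conj_mem _ hy x₀
        convert this using 1
        group
  letI : MulAction ↥Γ ↥T :=
    { smul := fun g y => ⟨ψ g.1 y.1, (g.2 y.1).1 y.2⟩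
      one_smul := fun y => Subtype.ext (by show ψ 1 y.1 = y.1; rw [map_one]; rfl)
      mul_smul := fun a b y => Subtype.ext (by
        show ψ (a.1 * b.1) y.1 = ψ a.1 (ψ b.1 y.1)
        rw [map_mul]; rfl) }
  have hT : ¬ 2 ∣ Nat.card ↥T := by
    have e : ↥T ≃ ↥(Subgroup.center C) :=
      { toFun := fun y => ⟨x₀⁻¹ * y.1, y.2⟩
        invFun := fun z => ⟨x₀ * z.1, by show x₀⁻¹ * (x₀ * z.1) ∈ Subgroup.center C; rw [inv_mul_cancel_left]; exact z.2⟩
        left_inv := fun y => Subtype.ext (mul_inv_cancel_left _ _)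
        right_inv := fun z => Subtype.ext (inv_mul_cancel_left _ _) }
    rw [Nat.card_congr e, ← even_iff_two_dvd, Nat.not_even_iff_odd]
    exact hC.of_dvd_nat (Subgroup.card_subgroup_dvd_card _)
  obtain ⟨x, hx⟩ := (hp.to_subgroup Γ).nonempty_fixed_point_of_prime_not_dvd_card ↥T hT
  refine ⟨x.1, x.2, fun j => ⟨fun hj => ?_, fun hj => ?_⟩⟩
  · have := congrArg Subtype.val (hx ⟨_, (mem j).1 hj⟩)
    change (φ j x.1) ^ ((1 : ℤˣ) : ℤ) = x.1 at this
    simpa using this
  · have := congrArg Subtype.val (hx ⟨_, (mem j).2 hj⟩)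
    change (φ j x.1) ^ ((-1 : ℤˣ) : ℤ) = x.1 at this
    rw [Units.val_neg, Units.val_one, zpow_neg, zpow_one, inv_eq_iff_eq_inv] at this
    exact this

/-- In an abelian invariant subgroup: an element inverted by `i` and fixed or inverted by all of a finite
set of involutory automorphisms. -/
theorem exists_eigen_abelian {C J : Type*} [Group C] [CommGroup J] [Finite J] (φ : J →* MulAut C)
    (hinv : ∀ j : J, j * j = 1) (A : Subgroup C) (hA : ∀ a ∈ A, ∀ b ∈ A, a * b = b * a)
    (hAinv : ∀ j, ∀ a ∈ A, φ j a ∈ A) (i : J) (hi : ∃ a ∈ A, φ i a ≠ a) :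
    ∃ x ∈ A, x ≠ 1 ∧ φ i x = x⁻¹ ∧ ∀ j, φ j x = x ∨ φ j x = x⁻¹ := by
  classical
  have h2 : ∀ j c, φ j (φ j c) = c := fun j c => by
    rw [← MulAut.mul_apply, ← map_mul, hinv, map_one, MulAut.one_apply]
  suffices H : ∀ s : Finset J, ∃ x ∈ A, x ≠ 1 ∧ φ i x = x⁻¹ ∧ ∀ j ∈ s, φ j x = x ∨ φ j x = x⁻¹ by
    have := Fintype.ofFinite J
    obtain ⟨x, h1, h3, h4, h5⟩ := H Finset.univ
    exact ⟨x, h1, h3, h4, fun j => h5 j (Finset.mem_univ _)⟩
  intro s
  induction s using Finset.induction_on with
  | empty =>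
    obtain ⟨a, ha, hne⟩ := hi
    refine ⟨a⁻¹ * φ i a, A.mul_mem (A.inv_mem ha) (hAinv i a ha), fun h => hne (inv_mul_eq_one.1 h).symm, ?_,
      by simp⟩
    rw [map_mul, map_inv, h2, mul_inv_rev, inv_inv]
  | insert t s _ ih =>
    obtain ⟨x, hxA, hx1, hxi, hxs⟩ := ih
    by_cases hzero : x * φ t x = 1
    · refine ⟨x, hxA, hx1, hxi, fun j hj => ?_⟩
      rcases Finset.mem_insert.1 hj with rfl | hj
      · exact Or.inr (eq_inv_of_mul_eq_one_right hzero)
      · exact hxs j hj
    · have hcomm := hA x hxA _ (hAinv t x hxA)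
      have hjt : ∀ j, φ j (φ t x) = φ t (φ j x) := fun j => by
        rw [← MulAut.mul_apply, ← map_mul, mul_comm, map_mul, MulAut.mul_apply]
      refine ⟨x * φ t x, A.mul_mem hxA (hAinv t x hxA), hzero, ?_, fun j hj => ?_⟩
      · rw [map_mul, hjt, hxi, map_inv, ← mul_inv_rev, hcomm]
      · rcases Finset.mem_insert.1 hj with rfl | hj
        · exact Or.inl (by rw [map_mul, h2, hcomm])
        · rcases hxs j hj with h | h
          · exact Or.inl (by rw [map_mul, hjt, h])
          · exact Or.inr (by rw [map_mul, hjt, h, map_inv, ← mul_inv_rev, hcomm])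

/-- An involutory automorphism of a nilpotent group of odd order which is nontrivial inverts some
nontrivial element that every element of an elementary abelian 2-group of automorphisms fixes or inverts. -/
theorem exists_eigen {C : Type*} [Group C] [Group.IsNilpotent C] :
    ∀ {J : Type v} [CommGroup J] [Finite J] [Finite C], Odd (Nat.card C) → ∀ (φ : J →* MulAut C),
      (∀ j : J, j * j = 1) → ∀ i : J, φ i ≠ 1 →
      ∃ x : C, x ≠ 1 ∧ φ i x = x⁻¹ ∧ ∀ j, φ j x = x ∨ φ j x = x⁻¹ := by
  refine Group.nilpotent_center_quotient_ind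
    (P := fun C _ _ => ∀ {J : Type v} [CommGroup J] [Finite J] [Finite C], Odd (Nat.card C) → ∀ (φ : J →* MulAut C),
      (∀ j : J, j * j = 1) → ∀ i : J, φ i ≠ 1 →
      ∃ x : C, x ≠ 1 ∧ φ i x = x⁻¹ ∧ ∀ j, φ j x = x ∨ φ j x = x⁻¹) C ?_ ?_
  · intro C _ _ J _ _ _ _ φ _ i hi
    exact absurd (MulEquiv.ext fun c => Subsingleton.elim _ _) hi
  · intro C _ _ ih J _ _ _ hC φ hinv i hi
    have hphiZ : ∀ j, ∀ z ∈ Subgroup.center C, φ j z ∈ Subgroup.center C := fun j z hz =>
      (Subgroup.characteristic_iff_le_comap.1 Subgroup.centerCharacteristic (φ j)) hz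
    by_cases hz : ∃ a ∈ Subgroup.center C, φ i a ≠ a
    · obtain ⟨x, -, h1, h2, h3⟩ := exists_eigen_abelian φ hinv (Subgroup.center C)
        (fun a ha b _ => (Subgroup.mem_center_iff.1 ha b).symm) hphiZ i hz
      exact ⟨x, h1, h2, h3⟩
    · push Not at hz
      have hmap : ∀ j, (Subgroup.center C).map (φ j).toMonoidHom = Subgroup.center C :=
        fun j => Subgroup.characteristic_iff_map_eq.1 Subgroup.centerCharacteristic (φ j)
      let ψ : J →* MulAut (C ⧸ Subgroup.center C) :=
        { toFun := fun j => QuotientGroup.congr _ _ (φ j) (hmap j)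
          map_one' := by
            ext y
            induction y using QuotientGroup.induction_on with
            | _ y => simp
          map_mul' := fun a b => by
            ext y
            induction y using QuotientGroup.induction_on with
            | _ y => simp only [map_mul, MulAut.mul_apply]; rfl }
      have hψ : ∀ j (c : C), ψ j (c : C ⧸ Subgroup.center C) = ((φ j c : C) : C ⧸ Subgroup.center C) :=
        fun j c => rfl
      have hψi : ψ i ≠ 1 := by
        intro h
        refine hi (trivial_of_central hC (φ i) (by rw [← map_mul, hinv, map_one]) hz fun c => ?_)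
        have := DFunLike.congr_fun h (c : C ⧸ Subgroup.center C)
        rw [hψ, MulAut.one_apply] at this
        exact QuotientGroup.eq.1 this.symm
      have hCq : Odd (Nat.card (C ⧸ Subgroup.center C)) :=
        hC.of_dvd_nat (Subgroup.card_quotient_dvd_card _)
      obtain ⟨xb, hxb1, hxbi, hxb⟩ := ih hCq ψ hinv i hψi
      obtain ⟨x₀, rfl⟩ := QuotientGroup.mk_surjective xb
      have c1 : ∀ j, ψ j (x₀ : C ⧸ Subgroup.center C) = x₀ → x₀⁻¹ * φ j x₀ ∈ Subgroup.center C :=
        fun j h => by rw [hψ] at h; exact QuotientGroup.eq.1 h.symm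
      have c2 : ∀ j, ψ j (x₀ : C ⧸ Subgroup.center C) = (x₀ : C ⧸ Subgroup.center C)⁻¹ →
          x₀ * φ j x₀ ∈ Subgroup.center C := fun j h => by
        rw [hψ] at h
        have := QuotientGroup.eq (s := Subgroup.center C) (a := x₀⁻¹) (b := φ j x₀)
        rw [inv_inv] at this
        exact this.1 (by rw [h, QuotientGroup.mk_inv])
      have hJ : IsPGroup 2 J := fun j => ⟨1, by rw [pow_one, pow_two, hinv]⟩
      obtain ⟨x, hx0, hx⟩ := exists_lift hJ hC φ x₀ fun j => (hxb j).imp (c1 j) (c2 j)
      refine ⟨x, fun h => hxb1 ?_, (hx i).2 (c2 i hxbi), fun j => (hxb j).imp (fun h => (hx j).1 (c1 j h))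
        (fun h => (hx j).2 (c2 j h))⟩
      subst h
      rw [mul_one] at hx0
      exact (QuotientGroup.eq_one_iff x₀).2 ((Subgroup.inv_mem_iff _).1 hx0)

/-- An involutory automorphism of a nilpotent group of odd order fixing the centralizer of a fixed element
is trivial. -/
theorem trivial_of_fix_centralizer {C : Type*} [Group C] [Finite C] [Group.IsNilpotent C]
    (hC : Odd (Nat.card C)) (α : MulAut C) (hα : α * α = 1) (x : C)
    (hfix : ∀ c, c * x = x * c → α c = c) : α = 1 := by
  let H : Subgroup C :=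
    { carrier := {c | α c = c}
      one_mem' := map_one α
      mul_mem' := fun {a b} ha hb => by show α (a * b) = a * b; rw [map_mul, ha, hb]
      inv_mem' := fun {a} ha => by show α a⁻¹ = a⁻¹; rw [map_inv, ha] }
  have hx : x ∈ H := hfix x rfl
  by_cases hH : H = ⊤
  · ext c
    have : c ∈ H := hH ▸ Subgroup.mem_top c
    exact this
  · exfalso
    obtain ⟨n, hn, hnH⟩ := SetLike.exists_of_lt (Group.normalizerCondition_of_isNilpotent H (lt_top_iff_ne_top.2 hH))
    have h1 : α (n * x * n⁻¹) = n * x * n⁻¹ := (Subgroup.mem_normalizer_iff.1 hn x).1 hx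
    rw [map_mul, map_mul, map_inv, show α x = x from hx] at h1
    have hc : (n⁻¹ * α n) * x = x * (n⁻¹ * α n) := by
      calc (n⁻¹ * α n) * x = n⁻¹ * (α n * x * (α n)⁻¹) * α n := by group
        _ = n⁻¹ * (n * x * n⁻¹) * α n := by rw [h1]
        _ = x * (n⁻¹ * α n) := by group
    have hcf := hfix _ hc
    have h2 : α (α n) = n := by rw [← MulAut.mul_apply, hα, MulAut.one_apply]
    rw [map_mul, map_inv, h2] at hcf
    have h3 : (n⁻¹ * α n)⁻¹ = n⁻¹ * α n := by
      conv_rhs => rw [← hcf]
      group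
    exact hnH (inv_mul_eq_one.1 (inv_ne_self_of_odd hC h3)).symm

/-- Commuting independent eigen-elements of prime order on which a given subgroup acts faithfully. -/
theorem exists_family {J : Type v} [CommGroup J] [Finite J] (hinv : ∀ j : J, j * j = 1) :
    ∀ (n : ℕ) {C : Type*} [Group C] [Finite C] [Group.IsNilpotent C], Odd (Nat.card C) →
      ∀ (φ : J →* MulAut C) (K : Subgroup J), Nat.card ↥K = 2 ^ n → (∀ k ∈ K, φ k = 1 → k = 1) →
      ∃ x : Fin n → C, (∀ a, (orderOf (x a)).Prime) ∧ (∀ a b, Commute (x a) (x b)) ∧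
        (∀ a j, φ j (x a) = x a ∨ φ j (x a) = (x a)⁻¹) ∧
        (∀ k ∈ K, (∀ a, φ k (x a) = x a) → k = 1) ∧
        Nat.card ↥(⨆ a, Subgroup.zpowers (x a)) = ∏ a, orderOf (x a) ∧
        (∀ y ∈ ⨆ a, Subgroup.zpowers (x a), (∀ k ∈ K, φ k y = y) → y = 1) := by
  intro n
  induction n with
  | zero =>
    intro C _ _ _ _ φ K hK _
    refine ⟨Fin.elim0, fun a => a.elim0, fun a => a.elim0, fun a => a.elim0, fun k hk _ => ?_, ?_, ?_⟩
    · rw [pow_zero, Subgroup.card_eq_one] at hK
      rw [hK] at hk
      exact hk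
    · simp
    · intro y hy _
      rw [iSup_of_empty, Subgroup.mem_bot] at hy
      exact hy
  | succ n ih =>
    intro C _ _ _ hC φ K hK hfaith
    classical
    have hK1 : K ≠ ⊥ := by
      intro h
      rw [h, Subgroup.card_bot, pow_succ] at hK
      omega
    obtain ⟨i, hiK, hi1⟩ := (Subgroup.bot_or_exists_ne_one K).resolve_left hK1
    obtain ⟨x₁, hx₁1, hx₁i, hx₁⟩ := exists_eigen hC φ hinv i fun h => hi1 (hfaith i hiK h)
    -- pass to an element of prime order
    have hord : orderOf x₁ ≠ 1 := fun h => hx₁1 (orderOf_eq_one_iff.1 h)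
    obtain ⟨r, hr, hrd⟩ := Nat.exists_prime_and_dvd hord
    set x := x₁ ^ (orderOf x₁ / r) with hxdef
    have hxr : orderOf x = r := by
      rw [hxdef, orderOf_pow_orderOf_div (orderOf_pos x₁).ne' hrd]
    have hxeig : ∀ j, φ j x = x ∨ φ j x = x⁻¹ := fun j => (hx₁ j).imp
      (fun h => by rw [hxdef, map_pow, h]) (fun h => by rw [hxdef, map_pow, h, inv_pow])
    have hxi : φ i x = x⁻¹ := by rw [hxdef, map_pow, hx₁i, inv_pow]
    have hx1 : x ≠ 1 := fun h => by
      rw [h, orderOf_one] at hxr; exact hr.one_lt.ne hxr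
    have hxfix : φ i x ≠ x := fun h => hx1 (inv_ne_self_of_odd hC (hxi ▸ h))
    let K' : Subgroup J :=
      { carrier := {k | k ∈ K ∧ φ k x = x}
        one_mem' := ⟨K.one_mem, by rw [map_one]; rfl⟩
        mul_mem' := fun {a b} ha hb => ⟨K.mul_mem ha.1 hb.1, by rw [map_mul, MulAut.mul_apply, hb.2, ha.2]⟩
        inv_mem' := fun {a} ha => ⟨K.inv_mem ha.1, by
          rw [inv_eq_of_mul_eq_one_right (hinv a)]; exact ha.2⟩ }
    have hle : K' ≤ K := fun k hk => hk.1
    have hrel : K'.relIndex K = 2 := by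
      refine Subgroup.index_eq_two_iff'.2 ⟨⟨i, hiK⟩, fun b => ?_⟩
      rcases hxeig b.1 with h | h
      · refine Or.inr ⟨⟨b.2, h⟩, fun h' => ?_⟩
        have h2 : φ (i * b.1) x = x := h'.2
        rw [map_mul, MulAut.mul_apply, h] at h2
        exact hxfix h2
      · refine Or.inl ⟨⟨K.mul_mem hiK b.2, ?_⟩, fun h' => ?_⟩
        · show φ (i * b.1) x = x
          rw [map_mul, MulAut.mul_apply, h, map_inv, hxi, inv_inv]
        · have h2 : φ b.1 x = x := h'.2
          exact hx1 (inv_ne_self_of_odd hC (h ▸ h2))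
    have hK' : Nat.card ↥K' = 2 ^ n := by
      have := Subgroup.relIndex_mul_relIndex ⊥ K' K bot_le hle
      rw [Subgroup.relIndex_bot_left, Subgroup.relIndex_bot_left, hrel, hK, pow_succ] at this
      omega
    let C' : Subgroup C := Subgroup.centralizer {x}
    have hC'mem : ∀ c, c ∈ C' ↔ c * x = x * c := fun c => by
      simp only [C', Subgroup.mem_centralizer_singleton_iff]
    have hinvC' : ∀ j, ∀ c ∈ C', φ j c ∈ C' := by
      intro j c hc
      rw [hC'mem] at hc ⊢
      have h := congrArg (φ j) hc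
      rw [map_mul, map_mul] at h
      rcases hxeig j with h' | h' <;> rw [h'] at h
      · exact h
      · exact (Commute.inv_right_iff.1 (h : Commute (φ j c) x⁻¹))
    let φ' : J →* MulAut ↥C' :=
      { toFun := fun j =>
          { toFun := fun c => ⟨φ j c, hinvC' j c c.2⟩
            invFun := fun c => ⟨φ j⁻¹ c, hinvC' _ c c.2⟩
            left_inv := fun c => Subtype.ext (by
              show φ j⁻¹ (φ j c.1) = c.1
              rw [← MulAut.mul_apply, ← map_mul, inv_mul_cancel, map_one, MulAut.one_apply])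
            right_inv := fun c => Subtype.ext (by
              show φ j (φ j⁻¹ c.1) = c.1
              rw [← MulAut.mul_apply, ← map_mul, mul_inv_cancel, map_one, MulAut.one_apply])
            map_mul' := fun a b => Subtype.ext (map_mul (φ j) a.1 b.1) }
        map_one' := by ext c; show φ 1 c.1 = c.1; rw [map_one]; rfl
        map_mul' := fun a b => by ext c; show φ (a * b) c.1 = φ a (φ b c.1); rw [map_mul]; rfl }
    have hfaith' : ∀ k ∈ K', φ' k = 1 → k = 1 := by
      intro k hk h
      refine hfaith k hk.1 (trivial_of_fix_centralizer hC (φ k) (by rw [← map_mul, hinv, map_one]) x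
        fun c hc => ?_)
      exact congrArg Subtype.val (DFunLike.congr_fun h ⟨c, (hC'mem c).2 hc⟩)
    obtain ⟨y, hy1, hy2, hy3, hy4, hy5, hy6⟩ :=
      ih (C := ↥C') (hC.of_dvd_nat (Subgroup.card_subgroup_dvd_card _)) φ' K' hK' hfaith'
    let z : Fin (n + 1) → C := Fin.cases x fun a => (y a : C)
    set Y : Subgroup C := (⨆ a, Subgroup.zpowers (y a)).map C'.subtype with hY
    have hsup : (⨆ a, Subgroup.zpowers (z a)) = Subgroup.zpowers x ⊔ Y := by
      rw [hY, Subgroup.map_iSup]
      simp only [MonoidHom.map_zpowers]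
      apply le_antisymm
      · refine iSup_le fun a => ?_
        induction a using Fin.cases with
        | zero => exact le_sup_left
        | succ a => exact le_sup_of_le_right (le_iSup_of_le a le_rfl)
      · refine sup_le (le_iSup_of_le 0 le_rfl) (iSup_le fun a => le_iSup_of_le a.succ le_rfl)
    have hYfix : ∀ w ∈ Y, (∀ k ∈ K', φ k w = w) → w = 1 := by
      rintro w ⟨w', hw', rfl⟩ hfix
      rw [hy6 w' hw' fun k hk => Subtype.ext (hfix k hk), map_one]
    have hxY : ∀ w ∈ Y, Commute x w := by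
      rintro w ⟨w', -, rfl⟩
      exact ((hC'mem _).1 w'.2).symm
    have hXfix : ∀ w ∈ Subgroup.zpowers x, ∀ k ∈ K', φ k w = w := by
      intro w hw k hk
      obtain ⟨m, rfl⟩ := hw
      show φ k (x ^ m) = x ^ m
      rw [map_zpow, hk.2]
    have hdisj : ∀ w ∈ Subgroup.zpowers x, w ∈ Y → w = 1 := fun w hw hwY => hYfix w hwY (hXfix w hw)
    have hcomm : ∀ (a : ↥(Subgroup.zpowers x)) (b : ↥Y),
        Commute ((Subgroup.zpowers x).subtype a) (Y.subtype b) := by
      rintro ⟨_, m, rfl⟩ b
      exact ((hxY b.1 b.2).zpow_left m)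
    let f := MonoidHom.noncommCoprod (Subgroup.zpowers x).subtype Y.subtype hcomm
    have hfr : f.range = Subgroup.zpowers x ⊔ Y := by
      rw [MonoidHom.noncommCoprod_range, Subgroup.range_subtype, Subgroup.range_subtype]
    have hfi : Function.Injective f := by
      rw [injective_iff_map_eq_one]
      rintro ⟨a, b⟩ h
      change a.1 * b.1 = 1 at h
      have hb : b.1 = (a.1)⁻¹ := eq_inv_of_mul_eq_one_right h
      have ha := hdisj a.1 a.2 (by rw [← inv_inv a.1, ← hb]; exact Y.inv_mem b.2)
      rw [ha, one_mul] at h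
      exact Prod.ext (Subtype.ext ha) (Subtype.ext h)
    refine ⟨z, ?_, ?_, ?_, ?_, ?_, ?_⟩
    · intro a
      induction a using Fin.cases with
      | zero => show (orderOf x).Prime; rw [hxr]; exact hr
      | succ a => show (orderOf (y a : C)).Prime; rw [Subgroup.orderOf_coe]; exact hy1 a
    · intro a b
      induction a using Fin.cases with
      | zero =>
        induction b using Fin.cases with
        | zero => exact Commute.refl x
        | succ b => exact ((hC'mem _).1 (y b).2).symm
      | succ a =>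
        induction b using Fin.cases with
        | zero => exact (hC'mem _).1 (y a).2
        | succ b => exact congrArg Subtype.val (hy2 a b)
    · intro a j
      induction a using Fin.cases with
      | zero => exact hxeig j
      | succ a => exact (hy3 a j).imp (congrArg Subtype.val) (congrArg Subtype.val)
    · intro k hk hfix
      exact hy4 k ⟨hk, hfix 0⟩ fun a => Subtype.ext (hfix a.succ)
    · rw [hsup, ← hfr, ← Nat.card_congr (MonoidHom.ofInjective hfi).toEquiv, Nat.card_prod,
        Nat.card_zpowers, Fin.prod_univ_succ]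
      congr 1
      rw [hY, Subgroup.card_map_of_injective C'.subtype_injective, hy5]
      exact Finset.prod_congr rfl fun a _ => (Subgroup.orderOf_coe _).symm
    · intro w hw hfix
      rw [hsup, ← hfr] at hw
      obtain ⟨⟨a, b⟩, rfl⟩ := hw
      change ∀ k ∈ K, φ k (a.1 * b.1) = a.1 * b.1 at hfix
      have hb : b.1 = 1 := hYfix b.1 b.2 fun k hk => by
        have := hfix k hk.1
        rw [map_mul, hXfix a.1 a.2 k hk] at this
        exact mul_left_cancel this
      have ha := hfix i hiK
      rw [hb, mul_one] at ha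
      obtain ⟨m, hm⟩ : a.1 ∈ Subgroup.zpowers x := a.2
      rw [← hm] at ha
      show a.1 * b.1 = 1
      rw [hb, mul_one, ← hm]
      refine inv_ne_self_of_odd hC ?_
      simp only at ha ⊢
      rw [map_zpow, hxi, inv_zpow] at ha
      exact ha

end CfsgLib.SignedEigen
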