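import Cfsg.Agent.Lib.Solvable.FixedPointFree
import Cfsg.Agent.Lib.Solvable.Hall
import Cfsg.Agent.Lib.ConjAbelian.Basic

/-!
# Splitting automorphisms of prime order
-/

set_option autoImplicit false

open Subgroup
open scoped Pointwise
open CfsgLib.Solvable

namespace CfsgLib.FGStruct

universe u

variable {G : Type u} [Group G]

/-- `x · φ x ⋯ φ^(i-1) x`. -/
def twistPow (φ : MulAut G) (x : G) : ℕ → G
  | 0 => 1
  | i + 1 => x * φ (twistPow φ x i)

theorem twistPow_add (φ : MulAut G) (x : G) (i j : ℕ) :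
    twistPow φ x (i + j) = twistPow φ x i * (φ ^ i) (twistPow φ x j) := by
  induction i with
  | zero => simp [twistPow]
  | succ i ih =>
    rw [Nat.succ_add, twistPow, twistPow, ih, map_mul, pow_succ', MulAut.mul_apply, mul_assoc]

theorem twistPow_one (φ : MulAut G) (x : G) : twistPow φ x 1 = x := by
  simp [twistPow]

/-- `φ` is splitting of order dividing `p`. -/
def Split (φ : MulAut G) (p : ℕ) : Prop :=
  φ ^ p = 1 ∧ ∀ x : G, twistPow φ x p = 1

theorem split_of_list {φ : MulAut G} {p : ℕ} (hord : φ ^ p = 1)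
    (h : ∀ x : G, (((List.range p).map (fun i : ℕ => (φ ^ i) x)).prod = 1)) : Split φ p := by
  refine ⟨hord, fun x => ?_⟩
  have key : ∀ k, ((List.range k).map (fun i : ℕ => (φ ^ i) x)).prod = twistPow φ x k := by
    intro k
    induction k with
    | zero => rfl
    | succ k ih =>
      rw [List.range_succ, List.map_append, List.prod_append, ih, List.map_singleton,
        List.prod_singleton, twistPow_add φ x k 1, twistPow_one]
  rw [← key]
  exact h x

theorem Split.twist {φ : MulAut G} {p : ℕ} (h : Split φ p) (g : G) :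
    Split (MulAut.conj g * φ) p := by
  have key : ∀ (i : ℕ), (∀ y : G, ((MulAut.conj g * φ) ^ i) y =
      twistPow φ g i * (φ ^ i) y * (twistPow φ g i)⁻¹) ∧ ∀ x : G,
      twistPow (MulAut.conj g * φ) x i = twistPow φ (x * g) i * (twistPow φ g i)⁻¹ := by
    intro i
    induction i with
    | zero => simp [twistPow]
    | succ i ih =>
      constructor
      · intro y
        rw [pow_succ', MulAut.mul_apply, ih.1, MulAut.mul_apply, MulAut.conj_apply, map_mul,
          map_mul, map_inv, twistPow, pow_succ' φ, MulAut.mul_apply]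
        group
      · intro x
        rw [twistPow, ih.2, MulAut.mul_apply, MulAut.conj_apply, map_mul, map_inv, twistPow,
          twistPow]
        group
  refine ⟨MulEquiv.ext fun y => ?_, fun x => ?_⟩
  · rw [(key p).1, h.2 g, h.1]
    simp
  · rw [(key p).2, h.2, h.2, inv_one, one_mul]

theorem Split.restrict {φ : MulAut G} {p : ℕ} (h : Split φ p) {H : Subgroup G} {ψ : MulAut H}
    (hψ : ∀ x : H, (ψ x : G) = φ x) : Split ψ p := by
  refine ⟨MulEquiv.ext fun x => Subtype.ext (by rw [restrict_pow' hψ, h.1]; rfl), fun x => ?_⟩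
  apply Subtype.ext
  have key : ∀ i, ((twistPow ψ x i : H) : G) = twistPow φ (x : G) i := by
    intro i
    induction i with
    | zero => rfl
    | succ i ih => rw [twistPow, twistPow, Subgroup.coe_mul, hψ, ih]
  rw [key, h.2]
  rfl
where
  restrict_pow' {φ : MulAut G} {H : Subgroup G} {ψ : MulAut H}
      (hψ : ∀ x : H, (ψ x : G) = φ x) {k : ℕ} {x : H} : ((ψ ^ k) x : G) = (φ ^ k) x := by
    induction k generalizing x with
    | zero => rfl
    | succ k ih => rw [pow_succ, pow_succ, MulAut.mul_apply, MulAut.mul_apply, ih, hψ]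

variable [Finite G]

theorem Split.exists_quotient {φ : MulAut G} {p : ℕ} (h : Split φ p) (N : Subgroup G) [N.Normal]
    (hN : ∀ x ∈ N, φ x ∈ N) : ∃ ψ : MulAut (G ⧸ N), Split ψ p := by
  have hmap : N.map φ.toMonoidHom = N :=
    eq_of_le_of_card_ge (map_le_iff_le_comap.mpr hN)
      (Subgroup.card_map_of_injective (f := φ.toMonoidHom) φ.injective).ge
  set ψ : MulAut (G ⧸ N) := QuotientGroup.congr N N φ hmap with hψdef
  have hψ : ∀ g : G, ψ (g : G ⧸ N) = ((φ g : G) : G ⧸ N) := fun g => rfl
  have hpow : ∀ (k : ℕ) (g : G), (ψ ^ k) (g : G ⧸ N) = (((φ ^ k) g : G) : G ⧸ N) := by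
    intro k
    induction k with
    | zero => intro g; rfl
    | succ k ih => intro g; rw [pow_succ, pow_succ, MulAut.mul_apply, MulAut.mul_apply, hψ, ih]
  have key : ∀ (g : G) (i : ℕ), twistPow ψ (g : G ⧸ N) i = ((twistPow φ g i : G) : G ⧸ N) := by
    intro g i
    induction i with
    | zero => rfl
    | succ i ih => rw [twistPow, twistPow, ih, hψ, QuotientGroup.mk_mul]
  refine ⟨ψ, MulEquiv.ext fun g => ?_, fun g => ?_⟩
  · obtain ⟨g, rfl⟩ := QuotientGroup.mk_surjective g
    rw [hpow, h.1]; rfl
  · obtain ⟨g, rfl⟩ := QuotientGroup.mk_surjective g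
    rw [key, h.2]; rfl

/-- A twisted automorphism normalising a given Sylow subgroup. -/
theorem exists_twist_fix (φ : MulAut G) {q : ℕ} [Fact q.Prime] (P : Sylow q G) :
    ∃ g : G, ∀ x ∈ (P : Subgroup G), (MulAut.conj g * φ) x ∈ (P : Subgroup G) := by
  obtain ⟨g, hg⟩ := MulAction.exists_smul_eq G (P.mapSurjective (f := φ.toMonoidHom) φ.surjective) P
  refine ⟨g, fun x hx => ?_⟩
  rw [← hg, Sylow.coe_subgroup_smul, MulAut.mul_apply]
  exact smul_mem_pointwise_smul (φ x) (MulAut.conj g) _ (mem_map_of_mem φ.toMonoidHom hx)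

/-- A coprime invariant pair with no fixed points in the abelian part. -/
theorem eq_bot_of_split {φ : MulAut G} {p : ℕ} (hp : p.Prime) (h : Split φ p)
    {V R : Subgroup G} [V.Normal] [IsMulCommutative V] (hV : ∀ x ∈ V, φ x ∈ V)
    (hR : ∀ x ∈ R, φ x ∈ R) (hcop : (Nat.card R).Coprime (Nat.card V))
    (hfix : V ⊓ centralizer (R : Set G) = ⊥) : V = ⊥ := by
  classical
  let _ : CommGroup V :=
    { (inferInstance : Group V) with mul_comm := (inferInstance : IsMulCommutative V).is_comm.comm }
  have := Fintype.ofFinite R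
  have hVpow : ∀ (i : ℕ) (x : G), x ∈ V → (φ ^ i) x ∈ V := fun i x hx => pow_mem_of_invariant hV i hx
  have hRP : ∀ s ∈ R, ∀ i, twistPow φ s i ∈ R := fun s hs i => by
    induction i with
    | zero => exact one_mem R
    | succ i ih => exact mul_mem hs (hR _ ih)
  rw [eq_bot_iff]
  intro v hv
  let term : R → ℕ → V := fun s i =>
    ⟨twistPow φ (s : G) i * (φ ^ i) v * (twistPow φ (s : G) i)⁻¹,
      (inferInstance : V.Normal).conj_mem _ (hVpow i v hv) _⟩
  have hexp : ∀ (s : R) (k : ℕ), twistPow φ (v * s) k =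
      ((∏ i ∈ Finset.range k, term s i : V) : G) * twistPow φ (s : G) k := by
    intro s k
    induction k with
    | zero => simp [twistPow]
    | succ k ih =>
      rw [Finset.prod_range_succ, twistPow_add, twistPow_one, ih, Subgroup.coe_mul,
        twistPow_add φ (s : G) k 1, twistPow_one, map_mul]
      simp only [term, mul_assoc, inv_mul_cancel_left]
  have hone : ∀ s : R, (∏ i ∈ Finset.range p, term s i : V) = 1 := by
    intro s
    have h1 := hexp s p
    rw [h.2, h.2, mul_one] at h1
    exact Subtype.ext h1.symm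
  -- averaging over `R` kills everything
  have havg : ∀ w : V, (∏ u : R, (⟨(u : G) * (w : G) * (u : G)⁻¹,
      (inferInstance : V.Normal).conj_mem _ w.2 _⟩ : V)) = 1 := by
    intro w
    set z := ∏ u : R, (⟨(u : G) * (w : G) * (u : G)⁻¹,
      (inferInstance : V.Normal).conj_mem _ w.2 _⟩ : V) with hz
    apply Subtype.ext
    have hmem : (z : G) ∈ V ⊓ centralizer (R : Set G) := by
      refine ⟨z.2, mem_centralizer_iff.mpr fun r hr => ?_⟩
      let c : V →* V :=
        { toFun := fun x => ⟨r * x * r⁻¹, (inferInstance : V.Normal).conj_mem _ x.2 _⟩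
          map_one' := Subtype.ext (by simp)
          map_mul' := fun a b => Subtype.ext (by simp [mul_assoc]) }
      have h1 : c z = z := by
        rw [hz, map_prod]
        refine Fintype.prod_equiv (Equiv.mulLeft ⟨r, hr⟩) _ _ fun u => Subtype.ext ?_
        simp [c, mul_assoc]
      exact mul_inv_eq_iff_eq_mul.mp (congrArg Subtype.val h1)
    rw [hfix, mem_bot] at hmem
    exact hmem
  have hprod : (∏ i ∈ Finset.range p, ∏ s : R, term s i : V) = 1 := by
    rw [Finset.prod_comm]
    exact Finset.prod_eq_one fun s _ => hone s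
  have hrest : ∀ i ∈ Finset.range p, i ≠ 0 → (∏ s : R, term s i : V) = 1 := by
    intro i hi hi0
    rw [Finset.mem_range] at hi
    have hinj : Function.Injective (fun s : R => (⟨twistPow φ (s : G) i, hRP _ s.2 i⟩ : R)) := by
      intro s t hst
      have hst' : twistPow φ (s : G) i = twistPow φ (t : G) i := congrArg Subtype.val hst
      obtain ⟨j, hj⟩ : ∃ j : ℕ, i * j ≡ 1 [MOD p] := by
        obtain ⟨a, -, ha⟩ := Nat.exists_mul_mod_eq_one_of_coprime
          ((hp.coprime_iff_not_dvd.mpr (Nat.not_dvd_of_pos_of_lt (Nat.pos_of_ne_zero hi0) hi)).symm)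
          hp.one_lt
        exact ⟨a, by rw [Nat.ModEq, ha, Nat.one_mod_eq_one.mpr hp.one_lt.ne']⟩
      have hmul : ∀ k : ℕ, twistPow φ (s : G) (i * k) = twistPow φ (t : G) (i * k) := by
        intro k
        induction k with
        | zero => rfl
        | succ k ih => rw [Nat.mul_succ, Nat.add_comm, twistPow_add, twistPow_add, ih, hst']
      have hper : ∀ (x : G) (k : ℕ), twistPow φ x (p * k + 1) = x := by
        intro x k
        induction k with
        | zero => rw [Nat.mul_zero, Nat.zero_add, twistPow_one]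
        | succ k ih =>
          rw [Nat.mul_succ, Nat.add_comm (p * k) p, Nat.add_assoc, twistPow_add, ih, h.2, h.1]
          simp
      have hk : p * (i * j / p) + 1 = i * j := by
        have h1 := Nat.div_add_mod (i * j) p
        rw [hj, Nat.one_mod_eq_one.mpr hp.one_lt.ne'] at h1
        exact h1
      apply Subtype.ext
      rw [← hper (s : G) (i * j / p), ← hper (t : G) (i * j / p), hk]
      exact hmul j
    refine Eq.trans (Fintype.prod_bijective _ (Finite.injective_iff_bijective.mp hinj) _
      (fun u : R => (⟨(u : G) * (φ ^ i) v * (u : G)⁻¹,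
        (inferInstance : V.Normal).conj_mem _ (hVpow i v hv) _⟩ : V)) fun s => rfl) ?_
    exact havg ⟨(φ ^ i) v, hVpow i v hv⟩
  rw [Finset.prod_eq_single 0 hrest (fun h0 => absurd (Finset.mem_range.mpr hp.pos) h0)] at hprod
  have hterm : ∀ s : R, term s 0 = ⟨v, hv⟩ := fun s => Subtype.ext (by simp [term, twistPow])
  rw [Finset.prod_congr rfl (fun s _ => hterm s), Finset.prod_const, Finset.card_univ] at hprod
  have h2 := orderOf_dvd_of_pow_eq_one hprod
  rw [← Nat.card_eq_fintype_card] at h2
  have h3 := orderOf_dvd_natCard (⟨v, hv⟩ : V)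
  have h4 := orderOf_eq_one_iff.mp (Nat.eq_one_of_dvd_coprimes hcop h2 h3)
  exact mem_bot.mpr (congrArg Subtype.val h4)

/-- A solvable group with a splitting automorphism of prime order is nilpotent. -/
theorem isNilpotent_of_split_solvable {p : ℕ} (hp : p.Prime) :
    ∀ (n : ℕ) (G : Type u) [Group G] [Finite G], Group.IsSolvable G → ∀ φ : MulAut G,
      Nat.card G = n → Split φ p → Group.IsNilpotent G := by
  intro n
  induction n using Nat.strong_induction_on with
  | _ n ih =>
  intro G _ _ hsol φ hn h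
  rcases subsingleton_or_nontrivial G with hs | hnt
  · exact CfsgLib.Solvable.isNilpotent_of_comm fun a b => Subsingleton.elim _ _
  have hquot : ∀ W : Subgroup G, ∀ [W.Normal], W ≠ ⊥ → (∀ x ∈ W, φ x ∈ W) →
      Group.IsNilpotent (G ⧸ W) := by
    intro W _ hW hinv
    obtain ⟨ψ, hψ⟩ := h.exists_quotient W hinv
    have hlt : Nat.card (G ⧸ W) < n := by
      rw [← hn, ← index_eq_card, ← card_mul_index W]
      exact lt_mul_of_one_lt_left (Nat.pos_of_ne_zero index_ne_zero_of_finite)
        (W.one_lt_card_iff_ne_bot.mpr hW)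
    exact ih _ hlt (G ⧸ W) (Group.isSolvable_of_surjective (QuotientGroup.mk'_surjective W)) ψ rfl hψ
  have hsub : ∀ (W : Subgroup G) (g : G), W ≠ ⊤ → (∀ x ∈ W, (MulAut.conj g * φ) x ∈ W) →
      Group.IsNilpotent W := by
    intro W g hW hinv
    obtain ⟨ψ, hψ⟩ := exists_restrict (MulAut.conj g * φ) W hinv
    have hlt : Nat.card W < n := by
      rw [← hn]
      refine lt_of_le_of_ne (Nat.le_of_dvd Nat.card_pos (card_subgroup_dvd_card W)) fun e => hW ?_
      exact eq_top_of_card_eq W e
    exact ih _ hlt W inferInstance ψ rfl ((h.twist g).restrict hψ)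
  obtain ⟨q, N0, hq, hN0n, hN0p, hN0⟩ := exists_normal_pgroup_ne_bot (G := G)
  have := Fact.mk hq
  set O := Cfsg.pCore q G with hO
  have hOne : O ≠ ⊥ := fun e => hN0 (le_bot_iff.mp ((le_pCore hN0n hN0p).trans e.le))
  have hOn := pCore_normal (p := q) G
  have hOp : IsPGroup q O := pCore_isPGroup q G
  have hOchar := pCore_characteristic q G
  have hOinv : ∀ x ∈ O, φ x ∈ O := fun x hx => apply_mem_of_characteristic φ O hx
  by_cases hone : ∃ r : ℕ, r.Prime ∧ r ≠ q ∧ Cfsg.pCore r G ≠ ⊥
  · obtain ⟨r, hr, hrq, hR⟩ := hone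
    have := Fact.mk hr
    have hRn := pCore_normal (p := r) G
    have hRchar := pCore_characteristic r G
    have h1 := hquot O hOne hOinv
    have h2 := hquot (Cfsg.pCore r G) hR fun x hx => apply_mem_of_characteristic φ _ hx
    let f : G →* (G ⧸ O) × (G ⧸ Cfsg.pCore r G) :=
      (QuotientGroup.mk' O).prod (QuotientGroup.mk' (Cfsg.pCore r G))
    have hf : Function.Injective f := by
      rw [injective_iff_map_eq_one]
      intro x hx
      have hx1 : x ∈ O := (QuotientGroup.eq_one_iff x).mp (congrArg Prod.fst hx)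
      have hx2 : x ∈ Cfsg.pCore r G := (QuotientGroup.eq_one_iff x).mp (congrArg Prod.snd hx)
      exact disjoint_def.mp (IsPGroup.disjoint_of_ne q r (Ne.symm hrq) O _ hOp (pCore_isPGroup r G))
        hx1 hx2
    exact Group.nilpotent_of_mulEquiv (MonoidHom.ofInjective hf).symm
  push Not at hone
  have hCO : centralizer (O : Set G) ≤ O := by
    have hFO : Cfsg.fittingSubgroup G ≤ O := by
      rw [fittingSubgroup_eq_iSup_pCore]
      refine iSup_le fun r => ?_
      by_cases hrq : (r : ℕ) = q
      · rw [hrq]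
      · rw [hone r (Nat.mem_primeFactors.1 r.2).1 hrq]; exact bot_le
    exact (centralizer_le hFO).trans (centralizer_fittingSubgroup_le.trans hFO)
  have hQnil := hquot O hOne hOinv
  by_cases hr : ∃ r : ℕ, r.Prime ∧ r ≠ q ∧ r ∣ Nat.card G
  swap
  · push Not at hr
    have hG : IsPGroup q G := by
      refine IsPGroup.of_card (n := (Nat.card G).primeFactorsList.length) ?_
      exact Nat.eq_prime_pow_of_unique_prime_dvd Nat.card_pos.ne' fun {d} hd hdG => by
        by_contra hne
        exact hr d hd hne hdG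
    exact hG.isNilpotent
  obtain ⟨r, hr, hrq, hrG⟩ := hr
  have := Fact.mk hr
  exfalso
  obtain ⟨R⟩ : Nonempty (Sylow r G) := inferInstance
  have hdisR : ∀ x ∈ O, x ∈ (R : Subgroup G) → x = 1 := fun x hx hx' =>
    disjoint_def.mp (IsPGroup.disjoint_of_ne q r (Ne.symm hrq) O _ hOp R.isPGroup') hx hx'
  have hRne : (R : Subgroup G) ≠ ⊥ := R.ne_bot_of_dvd_card hrG
  have hRnotO : ¬ (R : Subgroup G) ≤ O := fun hle => hRne (eq_bot_iff.mpr fun x hx =>
    mem_bot.mpr (hdisR x (hle hx) hx))
  have hcop : ∀ W : Subgroup G, W ≤ O → (Nat.card (R : Subgroup G)).Coprime (Nat.card W) := by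
    intro W hW
    obtain ⟨i, hi⟩ := R.isPGroup'.exists_card_eq
    obtain ⟨j, hj⟩ := (hOp.to_le hW).exists_card_eq
    rw [hi, hj]
    exact ((Nat.coprime_primes hr hq).mpr hrq).pow i j
  have hcomm : ∀ (W : Subgroup G), Group.IsNilpotent W → (R : Subgroup G) ≤ W → ∀ U : Subgroup G,
      U ≤ W → U ≤ O → ∀ u ∈ U, ∀ a ∈ (R : Subgroup G), u * a = a * u := by
    intro W hW hRW U hUW hUO u hu a ha
    have hUp : IsPGroup r ((R : Subgroup G).subgroupOf W) :=
      R.isPGroup'.comap_subtype
    have h1 := CfsgLib.ConjAbelian.le_centralizer_of_nilpotent (G := W) hUp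
      (K := U.subgroupOf W) (by
        rw [Nat.card_congr (subgroupOfEquivOfLe hUW).toEquiv]
        obtain ⟨j, hj⟩ := (hOp.to_le hUO).exists_card_eq
        rw [hj]
        exact ((Nat.coprime_primes hq hr).mpr (Ne.symm hrq)).pow_left j)
      (show (⟨u, hUW hu⟩ : W) ∈ U.subgroupOf W from hu)
    exact (congrArg Subtype.val (mem_centralizer_iff.mp h1 ⟨a, hRW ha⟩ ha)).symm
  set T := (R : Subgroup G) ⊔ O with hTdef
  have hTimg : ∀ S : Sylow r G, (S : Subgroup G) ⊔ O = T := by
    intro S
    let S' := S.mapSurjective (QuotientGroup.mk'_surjective O)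
    let R' := R.mapSurjective (QuotientGroup.mk'_surjective O)
    have hR'n : (R' : Subgroup (G ⧸ O)).Normal :=
      (Group.isNilpotent_of_finite_tfae.out 0 3 rfl rfl).mp hQnil r inferInstance R'
    have := R'.unique_of_normal hR'n
    have h1 : (S : Subgroup G).map (QuotientGroup.mk' O) = (R : Subgroup G).map (QuotientGroup.mk' O) :=
      congrArg Sylow.toSubgroup (Subsingleton.elim S' R')
    have h2 := congrArg (comap (QuotientGroup.mk' O)) h1
    rwa [comap_map_eq, comap_map_eq, QuotientGroup.ker_mk'] at h2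
  have hTtop : T = ⊤ := by
    by_contra hT
    have hTinv : ∀ x ∈ T, (MulAut.conj (1 : G) * φ) x ∈ T := by
      have h1 : T.map φ.toMonoidHom = T := by
        rw [hTdef, Subgroup.map_sup, eq_of_le_of_card_ge (map_le_iff_le_comap.mpr hOinv)
          (Subgroup.card_map_of_injective (f := φ.toMonoidHom) φ.injective).ge]
        exact hTimg (R.mapSurjective (f := φ.toMonoidHom) φ.surjective)
      intro x hx
      have h2 : φ x ∈ T.map φ.toMonoidHom := mem_map_of_mem φ.toMonoidHom hx
      rw [h1] at h2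
      simpa using h2
    have hTnil := hsub T 1 hT hTinv
    refine hRnotO (fun a ha => hCO (mem_centralizer_iff.mpr fun u hu => ?_))
    exact hcomm T hTnil le_sup_left O le_sup_right le_rfl u hu a ha
  obtain ⟨g, hg⟩ := exists_twist_fix φ R
  have hW : ∀ W : Subgroup G, W.Normal → W ≤ O → (∀ x ∈ W, φ x ∈ W) → W ≠ ⊥ → W = O := by
    intro W hWn hWO hWinv hWne
    by_contra hne
    have hWinv' : ∀ x ∈ W, (MulAut.conj g * φ) x ∈ W := fun x hx => by
      rw [MulAut.mul_apply, MulAut.conj_apply]
      exact hWn.conj_mem _ (hWinv x hx) g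
    have hWR : W ⊔ (R : Subgroup G) ≠ ⊤ := by
      intro e
      apply hne
      refine le_antisymm hWO fun o ho => ?_
      obtain ⟨w, hw, a, ha, rfl⟩ := (mem_sup_of_le_normalizer
        (show (R : Subgroup G) ≤ normalizer (W : Set G) by rw [normalizer_eq_top]; exact le_top)).mp
          (show o ∈ W ⊔ (R : Subgroup G) by rw [e]; exact mem_top o)
      have ha1 : a = 1 := hdisR a (by simpa using mul_mem (inv_mem (hWO hw)) ho) ha
      rw [ha1, mul_one]; exact hw
    have hinv : ∀ x ∈ W ⊔ (R : Subgroup G), (MulAut.conj g * φ) x ∈ W ⊔ (R : Subgroup G) :=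
      (sup_le (fun x hx => mem_sup_left (hWinv' x hx)) (fun x hx => mem_sup_right (hg x hx)) :
        W ⊔ (R : Subgroup G) ≤ (W ⊔ (R : Subgroup G)).comap (MulAut.conj g * φ).toMonoidHom)
    have hWRnil := hsub _ g hWR hinv
    have hWfix : ∀ w ∈ W, ∀ a ∈ (R : Subgroup G), w * a = a * w :=
      hcomm _ hWRnil le_sup_right W le_sup_left hWO
    have hQW := hquot W hWne hWinv
    refine hRnotO (fun a ha => hCO (mem_centralizer_iff.mpr fun o ho => ?_))
    set w := a * o * a⁻¹ * o⁻¹ with hw
    have hwW : w ∈ W := by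
      rw [← QuotientGroup.eq_one_iff]
      obtain ⟨i, hi⟩ := R.isPGroup'.exists_orderOf_eq_pow ⟨a, ha⟩
      rw [Subgroup.orderOf_mk] at hi
      have h1 := CfsgLib.ConjAbelian.le_centralizer_of_nilpotent (G := G ⧸ W)
        (S := O.map (QuotientGroup.mk' W)) (hOp.map _)
        (K := zpowers (QuotientGroup.mk' W a)) (by
          rw [Nat.card_zpowers]
          refine Nat.Coprime.coprime_dvd_left ((orderOf_map_dvd _ a).trans hi.dvd) ?_
          exact ((Nat.coprime_primes hr hq).mpr hrq).pow_left i) (mem_zpowers _)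
      have h2 := mem_centralizer_iff.mp h1 _ (mem_map_of_mem (QuotientGroup.mk' W) ho)
      show QuotientGroup.mk' W w = 1
      rw [hw, map_mul, map_mul, map_mul, map_inv, map_inv, ← h2, mul_inv_cancel_right, mul_inv_cancel]
    have hwa : w * a = a * w := hWfix w hwW a ha
    have hk : ∀ k : ℕ, a ^ k * o * (a ^ k)⁻¹ = w ^ k * o := by
      intro k
      induction k with
      | zero => simp
      | succ k ih =>
        calc a ^ (k + 1) * o * (a ^ (k + 1))⁻¹ = a * (a ^ k * o * (a ^ k)⁻¹) * a⁻¹ := by
              rw [pow_succ']; group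
          _ = (a * w ^ k) * o * a⁻¹ := by rw [ih]; group
          _ = (w ^ k * a) * o * a⁻¹ := by
              rw [((show Commute w a from hwa).pow_left k).eq]
          _ = w ^ k * (w * o) := by rw [hw]; group
          _ = w ^ (k + 1) * o := by rw [pow_succ]; group
    have h3 := hk (orderOf a)
    rw [pow_orderOf_eq_one, one_mul, inv_one, mul_one] at h3
    have h4 : w ^ orderOf a = 1 := mul_eq_right.mp h3.symm
    have h5 : w = 1 := orderOf_eq_one_iff.mp (Nat.eq_one_of_dvd_coprimes
      ((hcop W hWO).coprime_dvd_left (Subgroup.orderOf_dvd_natCard _ ha))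
      (orderOf_dvd_of_pow_eq_one h4) (Subgroup.orderOf_dvd_natCard W hwW))
    rw [hw, mul_inv_eq_one, mul_inv_eq_iff_eq_mul] at h5
    exact h5.symm
  have hOc : IsMulCommutative O := by
    have : Nontrivial O := (Subgroup.nontrivial_iff_ne_bot O).mpr hOne
    have hc := hOp.center_nontrivial
    have hZ := hW ((center O).map O.subtype) (normal_map_subtype_of_characteristic O (center O))
      (map_subtype_le _) (fun x ⟨y, hy, hyx⟩ => by
        subst hyx
        refine ⟨⟨φ y, hOinv _ y.2⟩, mem_center_iff.mpr fun z => ?_, rfl⟩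
        obtain ⟨z', hz'⟩ : ∃ z' : O, φ z' = z := by
          obtain ⟨w, hw, hwz⟩ := (eq_of_le_of_card_ge (map_le_iff_le_comap.mpr hOinv)
            (Subgroup.card_map_of_injective (f := φ.toMonoidHom) φ.injective).ge).ge z.2
          exact ⟨⟨w, hw⟩, hwz⟩
        apply Subtype.ext
        show (z : G) * φ y = φ y * z
        rw [← hz', ← map_mul, ← map_mul]
        exact congrArg φ (congrArg Subtype.val (mem_center_iff.mp hy z')))
      (fun e => by
        rw [map_eq_bot_iff_of_injective _ O.subtype_injective] at e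
        exact absurd e ((Subgroup.nontrivial_iff_ne_bot _).mp hc))
    refine ⟨⟨fun a b => ?_⟩⟩
    have ha : (a : G) ∈ (center O).map O.subtype := hZ.ge a.2
    obtain ⟨a', ha', haa⟩ := ha
    rw [show a = a' from Subtype.ext haa.symm]
    exact (mem_center_iff.mp ha' b).symm
  have hfix : O ⊓ centralizer ((R : Subgroup G) : Set G) = ⊥ := by
    by_contra hne
    set W := O ⊓ centralizer ((R : Subgroup G) : Set G) with hWdef
    have hWn : W.Normal := by
      rw [← normalizer_eq_top_iff, eq_top_iff, ← hTtop, hTdef]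
      refine sup_le (fun a ha => mem_normalizer_iff.mpr fun x => ?_)
        (fun o ho => mem_normalizer_iff.mpr fun x => ?_)
      · constructor
        · rintro ⟨h1, h2⟩
          have hax : a * x = x * a := mem_centralizer_iff.mp h2 a ha
          rw [hax, mul_inv_cancel_right]
          exact ⟨h1, h2⟩
        · rintro ⟨h1, h2⟩
          have hax : a * (a * x * a⁻¹) = a * x * a⁻¹ * a := mem_centralizer_iff.mp h2 a ha
          rw [inv_mul_cancel_right] at hax
          have h3 : a * x * a⁻¹ = x := mul_left_cancel hax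
          rw [h3] at h1 h2
          exact ⟨h1, h2⟩
      · constructor
        · intro hx
          rwa [show o * x = x * o from congrArg Subtype.val (hOc.is_comm.comm ⟨o, ho⟩ ⟨x, hx.1⟩),
            mul_inv_cancel_right]
        · intro hx
          have h1 : o * (o * x * o⁻¹) = o * x * o⁻¹ * o :=
            congrArg Subtype.val (hOc.is_comm.comm ⟨o, ho⟩ ⟨_, hx.1⟩)
          rw [inv_mul_cancel_right] at h1
          rwa [mul_left_cancel h1] at hx
    have hRmap : (R : Subgroup G).map (MulAut.conj g * φ).toMonoidHom = R :=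
      eq_of_le_of_card_ge (map_le_iff_le_comap.mpr hg)
        (Subgroup.card_map_of_injective (f := (MulAut.conj g * φ).toMonoidHom) (MulEquiv.injective _)).ge
    have hWinv : ∀ x ∈ W, φ x ∈ W := by
      intro x hx
      have h1 : (MulAut.conj g * φ) x ∈ W := by
        refine ⟨?_, mem_centralizer_iff.mpr fun a ha => ?_⟩
        · rw [MulAut.mul_apply, MulAut.conj_apply]
          exact hOn.conj_mem _ (hOinv x hx.1) g
        · rw [← hRmap] at ha
          obtain ⟨a', ha', rfl⟩ := ha
          rw [MulEquiv.coe_toMonoidHom, ← map_mul, ← map_mul, mem_centralizer_iff.mp hx.2 a' ha']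
      rw [MulAut.mul_apply, MulAut.conj_apply] at h1
      simpa [mul_assoc] using hWn.conj_mem _ h1 g⁻¹
    have hWO := hW W hWn inf_le_left hWinv hne
    refine hRnotO (fun a ha => hCO (mem_centralizer_iff.mpr fun o ho => ?_))
    exact (mem_centralizer_iff.mp (hWO.ge ho).2 a ha).symm
  have hOinv' : ∀ x ∈ O, (MulAut.conj g * φ) x ∈ O := fun x hx => by
    rw [MulAut.mul_apply, MulAut.conj_apply]
    exact hOn.conj_mem _ (hOinv x hx) g
  exact hOne (eq_bot_of_split hp (h.twist g) hOinv' hg (hcop O le_rfl) hfix)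

/-- Reduction of nilpotency for splitting automorphisms to the odd normal complement criterion. -/
theorem isNilpotent_of_split_of_criterion {p : ℕ} (hp : p.Prime)
    (hcrit : ∀ (G : Type u) [Group G] [Finite G] (q : ℕ) [Fact q.Prime], q ≠ 2 →
      ∀ P : Sylow q G,
      Cfsg.HasNormalPComplement q
        (normalizer (Cfsg.centerThompsonOf q (P : Subgroup G) : Set G)) →
      Cfsg.HasNormalPComplement q G) :
    ∀ (n : ℕ) (G : Type u) [Group G] [Finite G] (φ : MulAut G),
      Nat.card G = n → Split φ p → Group.IsNilpotent G := by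
  intro n
  induction n using Nat.strong_induction_on with
  | _ n ih =>
  intro G _ _ φ₀ hn h₀
  suffices hsol : Group.IsSolvable G from isNilpotent_of_split_solvable hp n G hsol φ₀ hn h₀
  by_cases hodd : ∃ q, q.Prime ∧ q ≠ 2 ∧ q ∣ Nat.card G
  swap
  · push Not at hodd
    have : Fact (Nat.Prime 2) := ⟨Nat.prime_two⟩
    have h2 : IsPGroup 2 G := by
      refine IsPGroup.of_card (n := (Nat.card G).primeFactorsList.length) ?_
      exact Nat.eq_prime_pow_of_unique_prime_dvd Nat.card_pos.ne' fun {d} hd hdG => by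
        by_contra hne
        exact hodd d hd hne hdG
    have := h2.isNilpotent
    infer_instance
  obtain ⟨q, hq, hq2, hqG⟩ := hodd
  have : Fact q.Prime := ⟨hq⟩
  obtain ⟨P⟩ : Nonempty (Sylow q G) := inferInstance
  obtain ⟨g, hP⟩ := exists_twist_fix φ₀ P
  have h := h₀.twist g
  generalize MulAut.conj g * φ₀ = φ at hP h
  clear h₀
  set X := Cfsg.centerThompsonOf q (P : Subgroup G) with hX
  have hXP : X ≤ P := inf_le_left.trans (map_subtype_le _)
  have hXp : IsPGroup q X := P.2.to_le hXP
  have hmapP : (P : Subgroup G).map φ.toMonoidHom = P :=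
    eq_of_le_of_card_ge (map_le_iff_le_comap.mpr hP)
      (Subgroup.card_map_of_injective (f := φ.toMonoidHom) φ.injective).ge
  have hXinv : ∀ x ∈ X, φ x ∈ X := by
    intro x hx
    obtain ⟨h1, h2⟩ := mem_inf.mp hx
    have hJ := CfsgLib.PLocal.thompsonSubgroupOf_map (p := q) (f := φ.toMonoidHom) φ.injective
      (P : Subgroup G)
    rw [hmapP] at hJ
    refine mem_inf.mpr ⟨hJ ▸ mem_map_of_mem φ.toMonoidHom h1, fun y hy => ?_⟩
    rw [SetLike.mem_coe, ← hJ] at hy
    obtain ⟨z, hz, rfl⟩ := mem_map.mp hy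
    exact (map_mul φ z x).symm.trans ((congr_arg φ (h2 z hz)).trans (map_mul φ x z))
  have hX1 : X ≠ ⊥ := by
    intro h
    have hPne : q ∣ Nat.card (P : Subgroup G) := P.dvd_card_of_dvd_card hqG
    have hJne := CfsgLib.PLocal.thompsonSubgroup_ne_bot (G := (P : Subgroup G)) (p := q) hPne
    have : Nontrivial (Cfsg.thompsonSubgroup q (P : Subgroup G)) :=
      (nontrivial_iff_ne_bot _).mpr hJne
    have hc := (P.2.to_subgroup (Cfsg.thompsonSubgroup q (P : Subgroup G))).bot_lt_center
    obtain ⟨z, hz, hz1⟩ := (bot_or_exists_ne_one _).resolve_left hc.ne'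
    have hzX : ((z : (P : Subgroup G)) : G) ∈ X := by
      refine mem_inf.mpr ⟨mem_map_of_mem _ z.2, ?_⟩
      rintro _ ⟨y, hy, rfl⟩
      exact congr_arg (fun t : Cfsg.thompsonSubgroup q (P : Subgroup G) =>
        ((t : (P : Subgroup G)) : G)) (mem_center_iff.mp hz ⟨y, hy⟩)
    rw [h, mem_bot] at hzX
    exact hz1 (Subtype.ext (Subtype.ext hzX))
  set H := normalizer (X : Set G) with hH
  have hmapX : X.map φ.toMonoidHom = X :=
    eq_of_le_of_card_ge (map_le_iff_le_comap.mpr hXinv)
      (Subgroup.card_map_of_injective (f := φ.toMonoidHom) φ.injective).ge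
  have hHinv : ∀ x ∈ H, φ x ∈ H := by
    intro x hx
    rw [hH, ← conj_smul_eq_self_iff] at hx ⊢
    calc MulAut.conj (φ x) • X = MulAut.conj (φ x) • X.map φ.toMonoidHom := by rw [hmapX]
      _ = (MulAut.conj x • X).map φ.toMonoidHom := (map_conj_smul φ.toMonoidHom x X).symm
      _ = X := by rw [hx, hmapX]
  by_cases hHtop : H = ⊤
  · -- `X` is normal
    have : X.Normal := normalizer_eq_top_iff.mp hHtop
    obtain ⟨ψ, hψ⟩ := h.exists_quotient X hXinv
    have hlt : Nat.card (G ⧸ X) < n := by
      rw [← hn, ← index_eq_card, ← card_mul_index X]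
      exact lt_mul_of_one_lt_left (Nat.pos_of_ne_zero index_ne_zero_of_finite)
        (X.one_lt_card_iff_ne_bot.mpr hX1)
    have := ih _ hlt (G ⧸ X) ψ rfl hψ
    have := hXp.isNilpotent
    exact (Group.isSolvable_iff_subgroup_quotient X).mpr ⟨inferInstance, inferInstance⟩
  -- the normaliser is proper, hence nilpotent
  obtain ⟨θ, hθ⟩ := exists_restrict φ H hHinv
  have hHlt : Nat.card H < n := by
    rw [← hn]
    refine lt_of_le_of_ne (Nat.le_of_dvd Nat.card_pos (card_subgroup_dvd_card H)) fun h => hHtop ?_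
    exact eq_top_of_card_eq H h
  have hHnil : Group.IsNilpotent H := ih _ hHlt H θ rfl (h.restrict hθ)
  have hcompH : Cfsg.HasNormalPComplement q H := by
    obtain ⟨Q⟩ : Nonempty (Sylow q H) := inferInstance
    have hall := ((Group.isNilpotent_of_finite_tfae (G := H)).out 0 3).mp hHnil
    have hK : ∀ r : ℕ, r.Prime → r ≠ q → ∀ S : Sylow r H,
        (S : Subgroup H) ≤ Cfsg.pPrimeCore q H := by
      intro r hr hrq S
      have : Fact r.Prime := ⟨hr⟩
      obtain ⟨e, he⟩ := S.2.exists_card_eq
      exact le_pPrimeCore (hall r inferInstance S)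
        (by rw [he]; exact Nat.Coprime.pow_left e ((Nat.coprime_primes hr hq).mpr hrq))
    have hco : (Nat.card (Cfsg.pPrimeCore q H)).Coprime (Nat.card (Q : Subgroup H)) := by
      obtain ⟨e, he⟩ := Q.2.exists_card_eq
      rw [he]
      exact Nat.Coprime.pow_right e (pPrimeCore_card_coprime q H)
    refine ⟨Q, Cfsg.pPrimeCore q H, pPrimeCore_normal q H, isComplement'_of_coprime
      (Nat.dvd_antisymm (hco.mul_dvd_of_dvd_of_dvd (card_subgroup_dvd_card _)
        (card_subgroup_dvd_card _)) ?_) hco⟩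
    rw [← Nat.factorization_prime_le_iff_dvd Nat.card_pos.ne'
      (Nat.mul_ne_zero Nat.card_pos.ne' Nat.card_pos.ne')]
    intro r hr
    have : Fact r.Prime := ⟨hr⟩
    refine (hr.pow_dvd_iff_le_factorization (Nat.mul_ne_zero Nat.card_pos.ne' Nat.card_pos.ne')).mp ?_
    by_cases hrq : r = q
    · subst hrq
      rw [← Q.card_eq_multiplicity]
      exact Dvd.intro_left _ rfl
    · obtain ⟨S⟩ : Nonempty (Sylow r H) := inferInstance
      rw [← S.card_eq_multiplicity]
      exact (card_dvd_of_le (hK r hr hrq S)).trans (Dvd.intro _ rfl)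
  obtain ⟨Q, N, hNn, hN⟩ := hcrit G q hq2 P hcompH
  have hKc := pPrimeCore_characteristic q G
  set K := Cfsg.pPrimeCore q G with hK
  have hNK : N ≤ K := le_pPrimeCore hNn (by
    have h1 : (Nat.card N).Coprime (Nat.card (Q : Subgroup G)) := by
      rw [← hN.index_eq_card]
      exact Q.card_coprime_index.symm
    have h2 : q ∣ Nat.card (Q : Subgroup G) := Q.dvd_card_of_dvd_card hqG
    exact h1.coprime_dvd_right h2)
  have hKtop : K ≠ ⊤ := fun h => by
    have := pPrimeCore_card_coprime q G
    rw [← hK, h, card_top] at this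
    exact hq.ne_one (Nat.eq_one_of_dvd_coprimes this hqG dvd_rfl)
  obtain ⟨η, hη⟩ := exists_restrict φ K (fun x hx => apply_mem_of_characteristic φ K hx)
  have hKlt : Nat.card K < n := by
    rw [← hn]
    refine lt_of_le_of_ne (Nat.le_of_dvd Nat.card_pos (card_subgroup_dvd_card K)) fun h => hKtop ?_
    exact eq_top_of_card_eq K h
  have hKnil : Group.IsNilpotent K := ih _ hKlt K η rfl (h.restrict hη)
  have hquot : IsPGroup q (G ⧸ K) := by
    obtain ⟨e, he⟩ := Q.2.exists_card_eq
    have h1 : K.index ∣ q ^ e := by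
      rw [← he, ← hN.symm.index_eq_card]
      exact index_dvd_of_le hNK
    obtain ⟨j, -, hj⟩ := (Nat.dvd_prime_pow hq).mp h1
    exact IsPGroup.of_card ((index_eq_card (H := K)).symm.trans hj)
  have := hquot.isNilpotent
  exact (Group.isSolvable_iff_subgroup_quotient K).mpr ⟨inferInstance, inferInstance⟩

end CfsgLib.FGStruct
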