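import Cfsg.Agent.Lib.FGStruct.ClassPSq
import Cfsg.Agent.Lib.Solvable.Core
import Cfsg.Agent.Lib.Solvable.CoprimeAction
import Cfsg.Agent.Lib.Supersolvable.Basic
import Mathlib.GroupTheory.SpecificGroups.ZGroup

/-!
Structure of groups with square-free conjugacy class sizes (Chillag–Herzog), elementary proof.
-/

set_option autoImplicit false
set_option linter.style.haveILetI false
set_option linter.unusedSectionVars false

open Cfsg
open CfsgLib.FGStruct.ClassPSq
open scoped commutatorElement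

namespace CfsgLib.FGStruct.SquareFreeClass

universe u

section Detector

variable {G : Type*} [Group G] [Finite G] {r : ℕ} [hr : Fact r.Prime]

/-- For a normal `r`-subgroup the index of a centralizer in it divides `r` if the class size is
square-free. -/
theorem relIndex_centralizer_dvd (R : Subgroup G) [R.Normal] (hR : IsPGroup r R) (g : G)
    (h : Squarefree (Subgroup.centralizer ({g} : Set G)).index) :
    (Subgroup.centralizer ({g} : Set G)).relIndex R ∣ r := by
  obtain ⟨n, hn⟩ := IsPGroup.iff_card.1 hR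
  obtain ⟨k, -, hk⟩ := (Nat.dvd_prime_pow hr.out).1
    (hn ▸ Subgroup.relIndex_dvd_card (Subgroup.centralizer ({g} : Set G)) R)
  have hsq := h.squarefree_of_dvd (relIndex_dvd_index_of_normal' (Subgroup.centralizer ({g} : Set G)) R)
  rw [hk] at hsq ⊢
  rcases k with _ | _ | k
  · simp
  · simp
  · exfalso
    have h2 : r * r ∣ r ^ (k + 1 + 1) := ⟨r ^ k, by ring⟩
    exact hr.out.ne_one (Nat.isUnit_iff.1 (hsq r h2))

variable {R : Subgroup G} [R.Normal]

theorem conj_mem_of_normal {n : G} (hn : n ∈ R) (x : G) : x * n * x⁻¹ ∈ R :=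
  (inferInstance : R.Normal).conj_mem n hn x

/-- A commutator `[x, n]` fixed by `x` is trivial when some power of `x` prime to `r` centralizes `R`. -/
theorem comm_eq_one (hR : IsPGroup r R)
    (hr' : ∀ g : G, (∃ k, orderOf g = r ^ k) → g ∈ Subgroup.centralizer (R : Set G))
    {x n : G} (hn : n ∈ R) (hfix : x * (x * n * x⁻¹ * n⁻¹) = (x * n * x⁻¹ * n⁻¹) * x) :
    x * n * x⁻¹ * n⁻¹ = 1 := by
  set l := x * n * x⁻¹ * n⁻¹ with hl
  obtain ⟨a, b, hab, ha, hb⟩ := CfsgLib.PNilpotent.exists_pPart_decomp (p := r) x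
  have hlR : l ∈ R := R.mul_mem (conj_mem_of_normal hn x) (R.inv_mem hn)
  have hpow : ∀ j : ℕ, x ^ j * n * (x ^ j)⁻¹ = l ^ j * n := by
    intro j
    induction j with
    | zero => simp
    | succ j ih =>
      calc x ^ (j + 1) * n * (x ^ (j + 1))⁻¹ = x * (x ^ j * n * (x ^ j)⁻¹) * x⁻¹ := by
            rw [pow_succ']; group
        _ = x * l ^ j * (n * x⁻¹) := by rw [ih]; group
        _ = l ^ j * x * (n * x⁻¹) := by rw [(Commute.pow_right (show Commute x l from hfix) j).eq]
        _ = l ^ j * (x * n * x⁻¹ * n⁻¹) * n := by group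
        _ = l ^ (j + 1) * n := by rw [← hl, pow_succ]
  have hk : x ^ orderOf (x ^ b) ∈ Subgroup.centralizer (R : Set G) := by
    have hc : Commute (x ^ a) (x ^ b) := Commute.pow_pow_self x a b
    have h0 : x ^ orderOf (x ^ b) = (x ^ a) ^ orderOf (x ^ b) * (x ^ b) ^ orderOf (x ^ b) := by
      rw [← hc.mul_pow, hab]
    rw [h0, pow_orderOf_eq_one, mul_one]
    exact Subgroup.pow_mem _ (hr' _ ha) _
  have h1 := hpow (orderOf (x ^ b))
  rw [← Subgroup.mem_centralizer_iff.1 hk n hn, mul_inv_cancel_right, right_eq_mul] at h1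
  obtain ⟨j, hj⟩ := IsPGroup.iff_orderOf.1 hR ⟨l, hlR⟩
  rw [Subgroup.orderOf_mk] at hj
  exact orderOf_eq_one_iff.1 (Nat.eq_one_of_dvd_coprimes (hb.symm.pow_left j) (hj ▸ dvd_rfl)
    (orderOf_dvd_of_pow_eq_one h1))

/-- With trivial action of the commutator subgroup and of the `r`-elements, all elements moving the
abelian subgroup `R` fix the same hyperplane. -/
theorem inf_centralizer_eq (hR : IsPGroup r R) (hab : ∀ a ∈ R, ∀ b ∈ R, a * b = b * a)
    (hidx : ∀ g : G, (Subgroup.centralizer ({g} : Set G)).relIndex R ∣ r)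
    (hcomm : ∀ g k : G, g * k * g⁻¹ * k⁻¹ ∈ Subgroup.centralizer (R : Set G))
    (hr' : ∀ g : G, (∃ k, orderOf g = r ^ k) → g ∈ Subgroup.centralizer (R : Set G))
    {x y : G} (hx : x ∉ Subgroup.centralizer (R : Set G)) (hy : y ∉ Subgroup.centralizer (R : Set G)) :
    Subgroup.centralizer ({x} : Set G) ⊓ R = Subgroup.centralizer ({y} : Set G) ⊓ R := by
  by_contra hne
  set C := fun g : G => Subgroup.centralizer ({g} : Set G) with hC
  have hrel : ∀ g, g ∉ Subgroup.centralizer (R : Set G) → (C g).relIndex R = r := by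
    intro g hg
    refine ((Nat.dvd_prime hr.out).1 (hidx g)).resolve_left fun e => hg ?_
    rw [Subgroup.mem_centralizer_iff]
    intro n hn
    exact Subgroup.mem_centralizer_singleton_iff.1 (Subgroup.relIndex_eq_one.1 e hn)
  have hcard : Nat.card ↥(C x ⊓ R) = Nat.card ↥(C y ⊓ R) := by
    have h1 := CfsgLib.Solvable.card_inf_mul_relIndex (C x) R
    have h2 := CfsgLib.Solvable.card_inf_mul_relIndex (C y) R
    rw [hrel x hx] at h1
    rw [hrel y hy] at h2
    exact Nat.eq_of_mul_eq_mul_right hr.out.pos (h1.trans h2.symm)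
  have hnle : ∀ a b : G, C a ⊓ R ≠ C b ⊓ R → Nat.card ↥(C a ⊓ R) = Nat.card ↥(C b ⊓ R) →
      ∃ w ∈ C b ⊓ R, w ∉ C a := by
    intro a b hab' hc
    by_contra hcon
    push Not at hcon
    exact hab' (Subgroup.eq_of_le_of_card_ge (fun w hw => ⟨hcon w hw, hw.2⟩ : C b ⊓ R ≤ C a ⊓ R) hc.le).symm
  -- `y` maps the fixed points of `x` to themselves
  have hinv : ∀ a b w : G, w ∈ C a ⊓ R → b * w * b⁻¹ ∈ C a ⊓ R := by
    intro a b w hw
    refine ⟨Subgroup.mem_centralizer_singleton_iff.2 ?_, conj_mem_of_normal hw.2 b⟩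
    have h2 := Subgroup.mem_centralizer_singleton_iff.1 hw.1
    have h3 := Subgroup.mem_centralizer_iff.1 (hcomm a b) _ (conj_mem_of_normal hw.2 b)
    calc b * w * b⁻¹ * a = b * w * b⁻¹ * (a * b * a⁻¹ * b⁻¹) * (b * a * b⁻¹) := by group
      _ = a * b * a⁻¹ * b⁻¹ * (b * w * b⁻¹) * (b * a * b⁻¹) := by rw [h3]
      _ = a * b * a⁻¹ * (w * a) * b⁻¹ := by group
      _ = a * (b * w * b⁻¹) := by rw [h2]; group
  obtain ⟨w1, hw1, hw1x⟩ := hnle x y hne hcard
  obtain ⟨w2, hw2, hw2y⟩ := hnle y x (Ne.symm hne) hcard.symm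
  set l1 := x * w1 * x⁻¹ * w1⁻¹ with hl1
  set l2 := y * w2 * y⁻¹ * w2⁻¹ with hl2
  have hl1y : l1 ∈ C y ⊓ R := mul_mem (hinv y x w1 hw1) (inv_mem hw1)
  have hl2x : l2 ∈ C x ⊓ R := mul_mem (hinv x y w2 hw2) (inv_mem hw2)
  have hl1ne : l1 ≠ 1 := fun e => hw1x (Subgroup.mem_centralizer_singleton_iff.2 (by
    rw [hl1, mul_inv_eq_one, mul_inv_eq_iff_eq_mul] at e
    exact e.symm))
  have hl2ny : l2 ∉ C y := fun e => hw2y (Subgroup.mem_centralizer_singleton_iff.2 (by
    have h := comm_eq_one hR hr' hw2.2 (Subgroup.mem_centralizer_singleton_iff.1 e).symm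
    rw [mul_inv_eq_one, mul_inv_eq_iff_eq_mul] at h
    exact h.symm))
  -- the commutator map of `x * y`
  let φ : R →* R := MonoidHom.mk' (fun n => ⟨x * y * n * (x * y)⁻¹ * (n : G)⁻¹,
      R.mul_mem (conj_mem_of_normal n.2 _) (R.inv_mem n.2)⟩) (by
    intro a b
    apply Subtype.ext
    simp only [Subgroup.coe_mul]
    have h1 := hab _ (R.mul_mem (conj_mem_of_normal b.2 (x * y)) (R.inv_mem b.2)) _ (R.inv_mem a.2)
    calc x * y * ((a : G) * b) * (x * y)⁻¹ * ((a : G) * b)⁻¹
        = x * y * a * (x * y)⁻¹ * ((x * y * b * (x * y)⁻¹ * (b : G)⁻¹) * (a : G)⁻¹) := by group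
      _ = x * y * a * (x * y)⁻¹ * ((a : G)⁻¹ * (x * y * b * (x * y)⁻¹ * (b : G)⁻¹)) := by rw [h1]
      _ = _ := by group)
  have hrange : Nat.card φ.range ∣ r := by
    rw [← Subgroup.index_ker]
    have hker : φ.ker = (C (x * y)).subgroupOf R := by
      ext n
      rw [MonoidHom.mem_ker, Subgroup.mem_subgroupOf, Subgroup.mem_centralizer_singleton_iff]
      simp only [φ, MonoidHom.mk'_apply, Subtype.ext_iff, Subgroup.coe_one,
        mul_inv_eq_iff_eq_mul, one_mul]
      exact eq_comm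
    rw [hker]
    exact hidx (x * y)
  have hw1f : (φ ⟨w1, hw1.2⟩ : G) = l1 := by
    show x * y * w1 * (x * y)⁻¹ * w1⁻¹ = l1
    calc x * y * w1 * (x * y)⁻¹ * w1⁻¹ = x * (y * w1) * y⁻¹ * x⁻¹ * w1⁻¹ := by group
      _ = x * (w1 * y) * y⁻¹ * x⁻¹ * w1⁻¹ := by rw [← Subgroup.mem_centralizer_singleton_iff.1 hw1.1]
      _ = l1 := by rw [hl1]; group
  have hw2f : (φ ⟨w2, hw2.2⟩ : G) = l2 := by
    show x * y * w2 * (x * y)⁻¹ * w2⁻¹ = l2
    have h1 : (l2 * w2) * x = x * (l2 * w2) :=
      Subgroup.mem_centralizer_singleton_iff.1 (mul_mem hl2x.1 hw2.1)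
    calc x * y * w2 * (x * y)⁻¹ * w2⁻¹ = x * (y * w2 * y⁻¹ * w2⁻¹ * w2) * x⁻¹ * w2⁻¹ := by group
      _ = l2 * w2 * x * x⁻¹ * w2⁻¹ := by rw [← hl2, ← h1]
      _ = l2 := by group
  have hle : Subgroup.zpowers l1 ≤ φ.range.map R.subtype :=
    Subgroup.zpowers_le.2 ⟨_, ⟨⟨w1, hw1.2⟩, rfl⟩, hw1f⟩
  have heq : φ.range.map R.subtype = Subgroup.zpowers l1 := by
    refine (Subgroup.eq_of_le_of_card_ge hle ?_).symm
    rw [Subgroup.card_map_of_injective R.subtype_injective, Nat.card_zpowers]
    rcases (Nat.dvd_prime hr.out).1 hrange with e | e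
    · rw [e]; exact orderOf_pos l1
    · rw [e]
      obtain ⟨j, hj⟩ := IsPGroup.iff_orderOf.1 hR ⟨l1, hl1y.2⟩
      rw [Subgroup.orderOf_mk] at hj
      rw [hj]
      rcases j with _ | j
      · exact absurd (orderOf_eq_one_iff.1 (by simpa using hj)) hl1ne
      · exact Nat.le_self_pow (Nat.succ_ne_zero j) r
  have hl2mem : l2 ∈ Subgroup.zpowers l1 := heq ▸ ⟨_, ⟨⟨w2, hw2.2⟩, rfl⟩, hw2f⟩
  exact hl2ny ((Subgroup.zpowers_le.2 hl1y.1) hl2mem)

/-- An element detecting the action. -/
theorem exists_detector (hR : IsPGroup r R) (hab : ∀ a ∈ R, ∀ b ∈ R, a * b = b * a)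
    (hidx : ∀ g : G, (Subgroup.centralizer ({g} : Set G)).relIndex R ∣ r)
    (hcomm : ∀ g k : G, g * k * g⁻¹ * k⁻¹ ∈ Subgroup.centralizer (R : Set G))
    (hr' : ∀ g : G, (∃ k, orderOf g = r ^ k) → g ∈ Subgroup.centralizer (R : Set G)) :
    ∃ v ∈ R, ∀ g : G, g * v = v * g → g ∈ Subgroup.centralizer (R : Set G) := by
  by_cases hall : ∀ g : G, g ∈ Subgroup.centralizer (R : Set G)
  · exact ⟨1, R.one_mem, fun g _ => hall g⟩
  push Not at hall
  obtain ⟨x, hx⟩ := hall
  obtain ⟨v, hv, hvx⟩ : ∃ v ∈ R, v ∉ Subgroup.centralizer ({x} : Set G) := by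
    by_contra hcon
    push Not at hcon
    exact hx (Subgroup.mem_centralizer_iff.2 fun n hn =>
      Subgroup.mem_centralizer_singleton_iff.1 (hcon n hn))
  refine ⟨v, hv, fun g hg => by_contra fun hgR => hvx ?_⟩
  have : v ∈ Subgroup.centralizer ({g} : Set G) ⊓ R :=
    ⟨Subgroup.mem_centralizer_singleton_iff.2 hg.symm, hv⟩
  rw [inf_centralizer_eq hR hab hidx hcomm hr' hgR hx] at this
  exact this.1

end Detector

section Supersolvable

/-- Groups with square-free class sizes are supersolvable. -/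
theorem isSupersolvable {G : Type u} [Group G] [Finite G]
    (h : ∀ x : G, Squarefree (Subgroup.centralizer ({x} : Set G)).index) : IsSupersolvable G := by
  revert h
  refine CfsgLib.Supersolvable.groupInduction (P := fun G _ _ =>
    (∀ x : G, Squarefree (Subgroup.centralizer ({x} : Set G)).index) → IsSupersolvable G)
    (fun G _ _ ih h => ?_) G
  cases subsingleton_or_nontrivial G with
  | inl hs => exact CfsgLib.Supersolvable.of_subsingleton
  | inr hnt =>
    haveI := isSolvable_of_squarefree h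
    obtain ⟨N, ⟨hNn, hN1⟩, hNmin⟩ := Set.Finite.exists_minimal
      (Set.toFinite {N : Subgroup G | N.Normal ∧ N ≠ ⊥}) ⟨⊤, inferInstance, top_ne_bot⟩
    haveI := hNn
    have hmin : ∀ M : Subgroup G, M.Normal → M ≤ N → M = ⊥ ∨ M = N := fun M hM hMN =>
      or_iff_not_imp_left.2 fun hM1 => le_antisymm hMN (hNmin ⟨hM, hM1⟩ hMN)
    obtain ⟨hNab, q, hq, hexp⟩ := CfsgLib.Solvable.minimal_normal_elementary_abelian N hN1 hmin
    haveI : Fact q.Prime := ⟨hq⟩
    have hab : ∀ a ∈ N, ∀ b ∈ N, a * b = b * a := fun a ha b hb =>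
      congrArg Subtype.val (hNab.is_comm.comm ⟨a, ha⟩ ⟨b, hb⟩)
    have hNp : IsPGroup q N := fun x => ⟨1, Subtype.ext (by simpa using hexp x x.2)⟩
    have hidx : ∀ g, (Subgroup.centralizer ({g} : Set G)).relIndex N ∣ q :=
      fun g => relIndex_centralizer_dvd N hNp g (h g)
    suffices hcard : Nat.card N = q by
      refine CfsgLib.Supersolvable.of_quotient_prime N (hcard ▸ hq) (ih _
        (CfsgLib.Supersolvable.card_quotient_lt hN1) fun x => ?_)
      obtain ⟨y, rfl⟩ := QuotientGroup.mk'_surjective N x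
      exact (h y).squarefree_of_dvd
        (index_centralizer_dvd_of_surjective _ (QuotientGroup.mk'_surjective N) y)
    set C := Subgroup.centralizer (N : Set G) with hC
    haveI hCn : C.Normal := ⟨fun c hc g => Subgroup.mem_centralizer_iff.2 fun n hn => by
      have h1 := Subgroup.mem_centralizer_iff.1 hc _ (conj_mem_of_normal hn g⁻¹)
      calc n * (g * c * g⁻¹) = g * ((g⁻¹ * n * g⁻¹⁻¹) * c) * g⁻¹ := by group
        _ = g * (c * (g⁻¹ * n * g⁻¹⁻¹)) * g⁻¹ := by rw [h1]
        _ = g * c * g⁻¹ * n := by group⟩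
    by_cases hCtop : C = ⊤
    · obtain ⟨n, hn, hn1⟩ := (Subgroup.bot_or_exists_ne_one N).resolve_left hN1
      have hcen : n ∈ Subgroup.center G := Subgroup.mem_center_iff.2 fun g =>
        (Subgroup.mem_centralizer_iff.1 (hCtop.symm.le (Subgroup.mem_top g)) n hn).symm
      have hZ : (Subgroup.zpowers n).Normal := ⟨fun y hy g => by
        rw [Subgroup.mem_center_iff.1 (Subgroup.zpowers_le.2 hcen hy) g, mul_inv_cancel_right]
        exact hy⟩
      have hzN := (hmin _ hZ (Subgroup.zpowers_le.2 hn)).resolve_left (by simpa using hn1)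
      rw [← hzN, Nat.card_zpowers, orderOf_eq_prime (hexp n hn) hn1]
    -- a minimal normal subgroup of `G / C`
    haveI : Nontrivial (G ⧸ C) := by
      rw [← Finite.one_lt_card_iff_nontrivial, ← Subgroup.index_eq_card]
      have h0 := Subgroup.index_ne_zero_of_finite (H := C)
      have h1 : C.index ≠ 1 := fun e => hCtop (Subgroup.index_eq_one.1 e)
      omega
    obtain ⟨Mb, ⟨hMbn, hMb1⟩, hMbmin⟩ := Set.Finite.exists_minimal
      (Set.toFinite {M : Subgroup (G ⧸ C) | M.Normal ∧ M ≠ ⊥}) ⟨⊤, inferInstance, top_ne_bot⟩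
    haveI := hMbn
    obtain ⟨hMab, s, hs, hsexp⟩ := CfsgLib.Solvable.minimal_normal_elementary_abelian Mb hMb1
      (fun X hX hXle => or_iff_not_imp_left.2 fun hX1 => le_antisymm hXle (hMbmin ⟨hX, hX1⟩ hXle))
    set M := Mb.comap (QuotientGroup.mk' C) with hMdef
    haveI : M.Normal := hMbn.comap _
    have hMC : ¬ M ≤ C := by
      intro hle
      apply hMb1
      rw [eq_bot_iff]
      intro z hz
      obtain ⟨g, rfl⟩ := QuotientGroup.mk'_surjective C z
      exact Subgroup.mem_bot.2 ((QuotientGroup.eq_one_iff g).2 (hle hz))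
    have hMcomm : ∀ g ∈ M, ∀ k ∈ M, g * k * g⁻¹ * k⁻¹ ∈ C := by
      intro g hg k hk
      rw [← QuotientGroup.eq_one_iff, QuotientGroup.mk_mul, QuotientGroup.mk_mul, QuotientGroup.mk_mul,
        QuotientGroup.mk_inv, QuotientGroup.mk_inv,
        show (g : G ⧸ C) * (k : G ⧸ C) = (k : G ⧸ C) * (g : G ⧸ C) from
          congrArg Subtype.val (hMab.is_comm.comm ⟨_, hg⟩ ⟨_, hk⟩)]
      group
    have hMs : ∀ g ∈ M, ∀ k : ℕ, (orderOf (g ^ k)).Coprime s → g ^ k ∈ C := by
      intro g hg k hk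
      rw [← QuotientGroup.eq_one_iff, ← orderOf_eq_one_iff]
      refine Nat.eq_one_of_dvd_coprimes hk (orderOf_map_dvd (QuotientGroup.mk' C) _) ?_
      exact orderOf_dvd_of_pow_eq_one (hsexp _ (Mb.pow_mem hg k))
    -- the fixed points of `M` on `N`
    set W := N ⊓ Subgroup.centralizer (M : Set G) with hW
    haveI : (Subgroup.centralizer (M : Set G)).Normal := ⟨fun c hc g => Subgroup.mem_centralizer_iff.2 fun n hn => by
      have h1 := Subgroup.mem_centralizer_iff.1 hc _ (conj_mem_of_normal (R := M) hn g⁻¹)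
      calc n * (g * c * g⁻¹) = g * ((g⁻¹ * n * g⁻¹⁻¹) * c) * g⁻¹ := by group
        _ = g * (c * (g⁻¹ * n * g⁻¹⁻¹)) * g⁻¹ := by rw [h1]
        _ = g * c * g⁻¹ * n := by group⟩
    have hWbot : W = ⊥ := by
      refine (hmin W inferInstance inf_le_left).resolve_right fun e => hMC fun m hm => ?_
      rw [hC, Subgroup.mem_centralizer_iff]
      intro n hn
      exact (Subgroup.mem_centralizer_iff.1 (e.symm.le hn).2 m hm).symm
    by_cases hsq : s = q
    · exfalso
      subst hsq
      obtain ⟨T⟩ : Nonempty (Sylow s M) := inferInstance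
      set T' := (T : Subgroup M).map M.subtype with hT'
      set P := N ⊔ T' with hP
      haveI : (N.subgroupOf P).Normal := hNn.subgroupOf P
      have hPp : IsPGroup s P := hNp.to_sup_of_normal_left (T.isPGroup'.map _)
      obtain ⟨n₀, hn₀, hn₀1⟩ := (Subgroup.bot_or_exists_ne_one N).resolve_left hN1
      obtain ⟨z, hz, hz1, hzc⟩ : ∃ z : P, (z : G) ∈ N ∧ z ≠ 1 ∧ z ∈ Subgroup.center P := by
        obtain ⟨z, h1, h2⟩ := CfsgLib.Solvable.exists_ne_one_mem_inf_center_of_normal hPp
          (N := N.subgroupOf P) (by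
            rw [Ne, Subgroup.subgroupOf_eq_bot, Subgroup.disjoint_def]
            exact fun hd => hn₀1 (hd hn₀ (le_sup_left (b := T') hn₀)))
        exact ⟨z, h1.1, h2, h1.2⟩
      refine hz1 (Subtype.ext ((Subgroup.mem_bot).1 (hWbot ▸ ⟨hz, ?_⟩)))
      show (z : G) ∈ Subgroup.centralizer (M : Set G)
      rw [Subgroup.mem_centralizer_iff]
      intro m hm
      -- `m` is, modulo `C`, an element of `T'`
      obtain ⟨a, b, hab', ⟨k, hk⟩, hb⟩ := CfsgLib.PNilpotent.exists_pPart_decomp (p := s) m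
      obtain ⟨T₂, hT₂⟩ := (IsPGroup.of_card (p := s) (n := k) (G := Subgroup.zpowers (⟨m ^ a, M.pow_mem hm a⟩ : M))
        (by rw [Nat.card_zpowers, Subgroup.orderOf_mk, hk])).exists_le_sylow
      obtain ⟨g, hg⟩ := MulAction.exists_smul_eq M T T₂
      have hmem : (g : G)⁻¹ * m ^ a * g ∈ T' := by
        have h1 := hT₂ (Subgroup.mem_zpowers _)
        rw [← hg, Sylow.coe_subgroup_smul, CfsgLib.Solvable.mem_conj_smul] at h1
        exact ⟨_, h1, rfl⟩
      have hcT : ∀ t ∈ T', t * (z : G) = z * t := fun t ht =>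
        congrArg Subtype.val (Subgroup.mem_center_iff.1 hzc ⟨t, le_sup_right (a := N) ht⟩)
      have hcC : ∀ c ∈ C, c * (z : G) = z * c := fun c hc =>
        (Subgroup.mem_centralizer_iff.1 hc z hz).symm
      have hma : m ^ a * z = z * m ^ a := by
        have hc1 : m ^ a * ((g : G)⁻¹ * m ^ a * g)⁻¹ ∈ C := by
          have := hMcomm (m ^ a) (M.pow_mem hm a) (g : G)⁻¹ (M.inv_mem g.2)
          simpa [mul_assoc] using this
        have h1 := Commute.mul_left (show Commute _ (z : G) from hcC _ hc1)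
          (show Commute _ (z : G) from hcT _ hmem)
        rwa [inv_mul_cancel_right] at h1
      have h2 : Commute (m ^ a * m ^ b) (z : G) :=
        Commute.mul_left hma (hcC _ (hMs m hm b hb))
      rw [hab'] at h2
      exact h2.eq
    · obtain ⟨x, hxM, hxC⟩ := SetLike.not_le_iff_exists.1 hMC
      set R := N.subgroupOf M with hRdef
      have hNM : ∀ n ∈ N, n ∈ M := fun n hn => by
        rw [hMdef, Subgroup.mem_comap, QuotientGroup.mk'_apply,
          (QuotientGroup.eq_one_iff n).2 (Subgroup.mem_centralizer_iff.2 fun m hm => hab m hm n hn)]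
        exact Mb.one_mem
      haveI : R.Normal := hNn.subgroupOf M
      have hidxM : ∀ g : M, (Subgroup.centralizer ({g} : Set M)).relIndex R ∣ q := fun g => by
        rw [centralizer_subtype g, Subgroup.relIndex_subgroupOf hNM]
        exact hidx g
      have hCR : ∀ g : M, g ∈ Subgroup.centralizer (R : Set M) ↔ (g : G) ∈ C := by
        intro g
        rw [Subgroup.mem_centralizer_iff, hC, Subgroup.mem_centralizer_iff]
        exact ⟨fun hg n hn => congrArg Subtype.val (hg ⟨n, hNM n hn⟩ hn),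
          fun hg n hn => Subtype.ext (hg n hn)⟩
      have hconst : ∀ g : M, (g : G) ∉ C →
          Subgroup.centralizer ({g} : Set M) ⊓ R = Subgroup.centralizer ({(⟨x, hxM⟩ : M)} : Set M) ⊓ R := by
        intro g hg
        refine inf_centralizer_eq (hNp.comap_of_injective M.subtype M.subtype_injective)
          (fun a ha b hb => Subtype.ext (hab a ha b hb)) hidxM
          (fun g k => (hCR _).2 (hMcomm g g.2 k k.2)) ?_ (fun e => hg ((hCR _).1 e))
          (fun e => hxC ((hCR _).1 e))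
        rintro g ⟨k, hk⟩
        refine (hCR g).2 ?_
        have := hMs g g.2 1 (by
          rw [pow_one, Subgroup.orderOf_coe, hk]
          exact ((Nat.coprime_primes hq hs).2 (Ne.symm hsq)).pow_left k)
        simpa using this
      have hbot : Subgroup.centralizer ({x} : Set G) ⊓ N = ⊥ := by
        rw [eq_bot_iff, ← hWbot]
        rintro n ⟨hn1, hn2⟩
        refine ⟨hn2, Subgroup.mem_centralizer_iff.2 fun m hm => ?_⟩
        by_cases hmC : m ∈ C
        · exact (Subgroup.mem_centralizer_iff.1 hmC n hn2).symm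
        have h1 : (⟨n, hNM n hn2⟩ : M) ∈ Subgroup.centralizer ({(⟨x, hxM⟩ : M)} : Set M) ⊓ R :=
          ⟨Subgroup.mem_centralizer_singleton_iff.2
            (Subtype.ext (Subgroup.mem_centralizer_singleton_iff.1 hn1)), hn2⟩
        rw [← hconst ⟨m, hm⟩ hmC] at h1
        exact (congrArg Subtype.val (Subgroup.mem_centralizer_singleton_iff.1 h1.1)).symm
      have h1 := CfsgLib.Solvable.card_inf_mul_relIndex (Subgroup.centralizer ({x} : Set G)) N
      rw [hbot, Subgroup.card_bot, one_mul] at h1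
      exact ((Nat.dvd_prime hq).1 (h1 ▸ hidx x)).resolve_left fun e => hN1 (Subgroup.card_eq_one.1 e)

end Supersolvable

section Fitting

variable {G : Type*} [Group G] [Finite G]

/-- A finite nilpotent group with abelian Sylow subgroups is abelian. -/
theorem comm_of_nilpotent {K : Type*} [Group K] [Finite K] [Group.IsNilpotent K]
    (h : ∀ q : ℕ, q.Prime → ∀ P : Sylow q K, IsMulCommutative (P : Subgroup K)) (a b : K) :
    a * b = b * a := by
  classical
  let S : (Nat.card K).primeFactors → Subgroup K := fun q =>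
    haveI : Fact (q : ℕ).Prime := ⟨(Nat.mem_primeFactors.1 q.2).1⟩
    ((default : Sylow (q : ℕ) K) : Subgroup K)
  have htop : (⨆ q, S q) = ⊤ := by
    refine Subgroup.eq_top_of_card_eq _ (Nat.dvd_antisymm (Subgroup.card_subgroup_dvd_card _) ?_)
    rw [← Nat.factorization_le_iff_dvd Nat.card_pos.ne' Nat.card_pos.ne']
    intro q
    by_cases hq : q ∈ (Nat.card K).primeFactors
    swap
    · rw [← Nat.support_factorization, Finsupp.notMem_support_iff] at hq
      simp [hq]
    have hqp := (Nat.mem_primeFactors.1 hq).1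
    haveI : Fact q.Prime := ⟨hqp⟩
    refine (hqp.pow_dvd_iff_le_factorization Nat.card_pos.ne').1 ?_
    rw [← Sylow.card_eq_multiplicity (default : Sylow q K)]
    exact Subgroup.card_dvd_of_le (le_iSup S ⟨q, hq⟩)
  have hpair : ∀ q r, S q ≤ Subgroup.centralizer (S r : Set K) := by
    intro q r
    haveI : Fact (q : ℕ).Prime := ⟨(Nat.mem_primeFactors.1 q.2).1⟩
    haveI : Fact (r : ℕ).Prime := ⟨(Nat.mem_primeFactors.1 r.2).1⟩
    intro x hx
    rw [Subgroup.mem_centralizer_iff]
    intro y hy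
    by_cases hqr : q = r
    · subst hqr
      exact congrArg Subtype.val ((h q Fact.out _).is_comm.comm ⟨y, hy⟩ ⟨x, hx⟩)
    · exact (Subgroup.commute_of_normal_of_disjoint _ _ inferInstance inferInstance
        (IsPGroup.disjoint_of_ne (r : ℕ) (q : ℕ) (fun e => hqr (Subtype.ext e.symm)) _ _
          (default : Sylow (r : ℕ) K).isPGroup' (default : Sylow (q : ℕ) K).isPGroup') y x hy hx).eq
  have hcen : (⊤ : Subgroup K) ≤ Subgroup.centralizer ((⊤ : Subgroup K) : Set K) := by
    conv_lhs => rw [← htop]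
    refine iSup_le fun q => ?_
    rw [Subgroup.le_centralizer_iff, ← htop]
    exact iSup_le fun r => hpair r q
  exact Subgroup.mem_centralizer_iff.1 (hcen (Subgroup.mem_top b)) a (Subgroup.mem_top a)

variable (h : ∀ x : G, Squarefree (Subgroup.centralizer ({x} : Set G)).index)

include h in
theorem sq_not_dvd (p : ℕ) [hp : Fact p.Prime] (x : G) :
    ¬ p ^ 2 ∣ (Subgroup.centralizer ({x} : Set G)).index := fun hd => by
  rw [pow_two] at hd
  exact hp.out.ne_one (Nat.isUnit_iff.1 (h x p hd))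

include h in
/-- Commutators inside the Fitting subgroup are central. -/
theorem fitting_comm_mem_center {a b : G} (ha : a ∈ fittingSubgroup G) (hb : b ∈ fittingSubgroup G) :
    a * b * a⁻¹ * b⁻¹ ∈ Subgroup.center G := by
  haveI := CfsgLib.Solvable.fittingSubgroup_isNilpotent G
  set q := QuotientGroup.mk' (Subgroup.center G) with hq
  set Fb := (fittingSubgroup G).map q with hFb
  haveI : Group.IsNilpotent Fb :=
    Group.nilpotent_of_surjective (q.subgroupMap _) (q.subgroupMap_surjective _)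
  have hsyl : ∀ r : ℕ, r.Prime → ∀ P : Sylow r Fb, IsMulCommutative (P : Subgroup Fb) := by
    intro r hr P
    haveI : Fact r.Prime := ⟨hr⟩
    obtain ⟨P₀, hP₀⟩ := Sylow.mapSurjective_surjective (f := q.subgroupMap (fittingSubgroup G))
      (q.subgroupMap_surjective _) r P
    obtain ⟨S, hS⟩ := (P₀.isPGroup'.map (fittingSubgroup G).subtype).exists_le_sylow
    subst hP₀
    refine ⟨⟨?_⟩⟩
    rintro ⟨_, ⟨u, hu, rfl⟩⟩ ⟨_, ⟨w, hw, rfl⟩⟩
    apply Subtype.ext
    apply Subtype.ext
    have h1 := (pow_and_commutator_central (sq_not_dvd h r) S (hS ⟨u, hu, rfl⟩) (hS ⟨w, hw, rfl⟩)).2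
    have h2 := (QuotientGroup.eq_one_iff _).2 h1
    show q (u : G) * q (w : G) = q (w : G) * q (u : G)
    rw [← mul_inv_eq_one, mul_inv_rev, ← mul_assoc]
    simpa [hq] using h2
  have h1 := comm_of_nilpotent hsyl (⟨q a, ⟨a, ha, rfl⟩⟩ : Fb) ⟨q b, ⟨b, hb, rfl⟩⟩
  have h2 : q a * q b = q b * q a := congrArg Subtype.val h1
  rw [← QuotientGroup.eq_one_iff]
  show q (a * b * a⁻¹ * b⁻¹) = 1
  rw [map_mul, map_mul, map_mul, h2, map_inv, map_inv]
  group

include h in
/-- The derived subgroup lies in the Fitting subgroup. -/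
theorem commutator_le_fitting : commutator G ≤ fittingSubgroup G :=
  CfsgLib.Solvable.le_fittingSubgroup inferInstance
    (CfsgLib.Supersolvable.commutator_nilpotent (isSupersolvable h))

theorem comm_mem_commutator (g k : G) : g * k * g⁻¹ * k⁻¹ ∈ commutator G := by
  rw [← commutatorElement_def, commutator_def]
  exact Subgroup.commutator_mem_commutator (Subgroup.mem_top g) (Subgroup.mem_top k)

include h in
/-- In each `r`-core an element detects the elements not acting trivially modulo the centre. -/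
theorem exists_pCore_detector (r : ℕ) [Fact r.Prime] :
    ∃ v ∈ pCore r G, ∀ g : G, g * v = v * g →
      ∀ n ∈ pCore r G, g * n * g⁻¹ * n⁻¹ ∈ Subgroup.center G := by
  haveI : (pCore r G).Normal := CfsgLib.Solvable.pCore_normal r G
  set q := QuotientGroup.mk' (Subgroup.center G) with hq
  have hqs : Function.Surjective q := QuotientGroup.mk'_surjective _
  set R := (pCore r G).map q with hR
  haveI : R.Normal := Subgroup.Normal.map inferInstance q hqs
  have hmem : ∀ g k : G, g * k * g⁻¹ * k⁻¹ ∈ Subgroup.center G → q g * q k = q k * q g := fun g k hc => by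
    have h2 : q (g * k * g⁻¹ * k⁻¹) = 1 := (QuotientGroup.eq_one_iff _).2 hc
    rw [map_mul, map_mul, map_mul, map_inv, map_inv, mul_inv_eq_one, mul_inv_eq_iff_eq_mul] at h2
    exact h2
  have hle := CfsgLib.Solvable.pCore_le_fittingSubgroup (p := r) (G := G)
  obtain ⟨v', hv', hdet⟩ := exists_detector (R := R) (r := r)
    ((CfsgLib.Solvable.pCore_isPGroup r G).map q)
    (by rintro _ ⟨a, ha, rfl⟩ _ ⟨b, hb, rfl⟩; exact hmem a b (fitting_comm_mem_center h (hle ha) (hle hb)))
    (fun g => by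
      obtain ⟨y, rfl⟩ := hqs g
      exact relIndex_centralizer_dvd R ((CfsgLib.Solvable.pCore_isPGroup r G).map q) _
        ((h y).squarefree_of_dvd (index_centralizer_dvd_of_surjective q hqs y)))
    (fun g k => by
      obtain ⟨g, rfl⟩ := hqs g
      obtain ⟨k, rfl⟩ := hqs k
      rw [Subgroup.mem_centralizer_iff]
      rintro _ ⟨n, hn, rfl⟩
      rw [← map_inv, ← map_inv, ← map_mul, ← map_mul, ← map_mul]
      exact (hmem _ n (fitting_comm_mem_center h (commutator_le_fitting h (comm_mem_commutator g k))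
        (hle hn))).symm)
    (fun g ⟨k, hk⟩ => by
      obtain ⟨S, hS⟩ := (IsPGroup.of_card (p := r) (G := Subgroup.zpowers g) (n := k)
        (by rw [Nat.card_zpowers, hk])).exists_le_sylow
      obtain ⟨S₀, hS₀⟩ := Sylow.mapSurjective_surjective (f := q) hqs r S
      have hg : g ∈ (S₀.mapSurjective hqs : Sylow r _) := hS₀.symm ▸ hS (Subgroup.mem_zpowers g)
      obtain ⟨u, hu, rfl⟩ := hg
      rw [Subgroup.mem_centralizer_iff]
      rintro _ ⟨n, hn, rfl⟩
      exact (hmem u n (pow_and_commutator_central (sq_not_dvd h r) S₀ hu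
        (CfsgLib.Solvable.pCore_le_sylow S₀ hn)).2).symm)
  obtain ⟨v, hv, rfl⟩ := hv'
  refine ⟨v, hv, fun g hg n hn => ?_⟩
  have h1 := hdet (q g) (by rw [← map_mul, ← map_mul, hg])
  rw [Subgroup.mem_centralizer_iff] at h1
  rw [← QuotientGroup.eq_one_iff]
  show q (g * n * g⁻¹ * n⁻¹) = 1
  rw [map_mul, map_mul, map_mul, ← h1 _ ⟨n, hn, rfl⟩, map_inv, map_inv]
  group

include h in
/-- Some element of the Fitting subgroup has its centralizer inside the Fitting subgroup. -/
theorem exists_centralizer_le_fitting :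
    ∃ v : G, Subgroup.centralizer ({v} : Set G) ≤ fittingSubgroup G := by
  classical
  haveI := CfsgLib.Solvable.fittingSubgroup_normal G
  have key : ∀ s : Finset ℕ, (∀ r ∈ s, r.Prime) → ∃ (A : Subgroup G) (v : G), A.Normal ∧ v ∈ A ∧
      (∀ q : ℕ, q.Prime → q ∣ Nat.card A → q ∈ s) ∧
      ∀ g : G, g * v = v * g → ∀ r ∈ s, ∀ n ∈ pCore r G, g * n * g⁻¹ * n⁻¹ ∈ Subgroup.center G := by
    intro s
    induction s using Finset.induction_on with
    | empty =>
      exact fun _ => ⟨⊥, 1, inferInstance, one_mem _, fun q hq hd => absurd (by simpa using hd) hq.ne_one,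
        fun g _ r hr => absurd hr (Finset.notMem_empty r)⟩
    | @insert r s hrs ih =>
      intro hs
      obtain ⟨A, v, hA, hv, hAs, hdet⟩ := ih fun x hx => hs x (Finset.mem_insert_of_mem hx)
      have hr := hs r (Finset.mem_insert_self r s)
      haveI : Fact r.Prime := ⟨hr⟩
      obtain ⟨w, hw, hwdet⟩ := exists_pCore_detector h r
      haveI := hA
      haveI : (pCore r G).Normal := CfsgLib.Solvable.pCore_normal r G
      obtain ⟨m, hm⟩ := IsPGroup.iff_card.1 (CfsgLib.Solvable.pCore_isPGroup r G)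
      have hcop : (Nat.card A).Coprime (Nat.card (pCore r G)) := by
        rw [hm]
        exact Nat.Coprime.pow_right m ((Nat.Prime.coprime_iff_not_dvd hr).2 fun hd => hrs (hAs r hr hd)).symm
      have hdisj : Disjoint A (pCore r G) := disjoint_iff.2 (Subgroup.inf_eq_bot_of_coprime hcop)
      have hc : Commute v w := Subgroup.commute_of_normal_of_disjoint A _ hA inferInstance hdisj v w hv hw
      refine ⟨A ⊔ pCore r G, v * w, inferInstance,
        mul_mem (le_sup_left (b := pCore r G) hv) (le_sup_right (a := A) hw), ?_, ?_⟩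
      · intro q hq hd
        have h1 := hd.trans (CfsgLib.Solvable.card_sup_dvd (N := A) (H := pCore r G)
          (by rw [Subgroup.normalizer_eq_top]; exact le_top))
        rcases hq.dvd_mul.1 h1 with h2 | h2
        · exact Finset.mem_insert_of_mem (hAs q hq h2)
        · rw [hm] at h2
          rw [(Nat.prime_dvd_prime_iff_eq hq hr).1 (hq.dvd_of_dvd_pow h2)]
          exact Finset.mem_insert_self r s
      · intro g hg x hx n hn
        have hcop' : (orderOf v).Coprime (orderOf w) :=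
          (hcop.coprime_dvd_left (Subgroup.orderOf_dvd_natCard A hv)).coprime_dvd_right
            (Subgroup.orderOf_dvd_natCard _ hw)
        have hgc : Commute g (v * w) := hg
        obtain ⟨e, he1, he2⟩ := Nat.chineseRemainder hcop' 1 0
        have hv' : (v * w) ^ e = v := by
          rw [hc.mul_pow, ← pow_mod_orderOf v, he1, pow_mod_orderOf, pow_one,
            ← pow_mod_orderOf w, he2, pow_mod_orderOf, pow_zero, mul_one]
        have hgv : Commute g v := hv' ▸ hgc.pow_right e
        have hgw : Commute g w := by simpa using hgv.inv_right.mul_right hgc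
        rcases Finset.mem_insert.1 hx with rfl | hx
        · exact hwdet g hgw.eq n hn
        · exact hdet g hgv.eq x hx n hn
  obtain ⟨A, v, -, -, -, hdet⟩ :=
    key (Nat.card G).primeFactors fun r hr => (Nat.mem_primeFactors.1 hr).1
  refine ⟨v, fun g hg => ?_⟩
  -- the stabilizer of the series `G ≥ F ≥ Z(G) ⊓ F`
  set q := QuotientGroup.mk' (Subgroup.center G) with hq
  haveI : ((fittingSubgroup G).map q).Normal :=
    Subgroup.Normal.map inferInstance q (QuotientGroup.mk'_surjective _)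
  set M := (Subgroup.centralizer (((fittingSubgroup G).map q : Subgroup _) : Set _)).comap q with hM
  haveI : M.Normal := by
    haveI := Subgroup.normal_centralizer (H := (fittingSubgroup G).map q)
    exact Subgroup.Normal.comap inferInstance q
  have hmemM : ∀ g : G, g ∈ M ↔ ∀ n ∈ fittingSubgroup G, g * n * g⁻¹ * n⁻¹ ∈ Subgroup.center G := by
    intro g
    rw [hM, Subgroup.mem_comap, Subgroup.mem_centralizer_iff]
    simp only [Subgroup.coe_map, Set.forall_mem_image, SetLike.mem_coe]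
    refine forall_congr' fun n => forall_congr' fun _ => ?_
    rw [← QuotientGroup.eq_one_iff, show ((g * n * g⁻¹ * n⁻¹ : G) : G ⧸ Subgroup.center G) =
      q g * q n * (q g)⁻¹ * (q n)⁻¹ from by simp [hq], mul_inv_eq_one, mul_inv_eq_iff_eq_mul]
    exact eq_comm
  have hgM : g ∈ M := by
    rw [hM, Subgroup.mem_comap, Subgroup.mem_centralizer_iff]
    have hle : fittingSubgroup G ≤ (Subgroup.centralizer ({q g} : Set _)).comap q := by
      rw [CfsgLib.Solvable.fittingSubgroup_eq_iSup_pCore]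
      refine iSup_le fun r n hn => ?_
      have h1 : q (g * n * g⁻¹ * n⁻¹) = 1 := (QuotientGroup.eq_one_iff _).2
        (hdet g (Subgroup.mem_centralizer_singleton_iff.1 hg) r r.2 n hn)
      rw [map_mul, map_mul, map_mul, map_inv, map_inv, mul_inv_eq_one, mul_inv_eq_iff_eq_mul] at h1
      exact Subgroup.mem_centralizer_singleton_iff.2 h1.symm
    rintro _ ⟨n, hn, rfl⟩
    exact Subgroup.mem_centralizer_singleton_iff.1 (hle hn)
  refine CfsgLib.Solvable.le_fittingSubgroup (N := M) inferInstance ?_ hgM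
  have hl : ∀ {A B : Subgroup M} (C : Subgroup G), (∀ a ∈ A, ∀ b ∈ B, ⁅(a : G), (b : G)⁆ ∈ C) →
      ⁅A, B⁆ ≤ C.subgroupOf M := fun C hc => Subgroup.commutator_le.2 fun a ha b hb => by
    rw [Subgroup.mem_subgroupOf]
    exact hc a ha b hb
  refine Group.isNilpotent_top.1 ((Subgroup.isNilpotent_iff_lowerCentralSeries (⊤ : Subgroup M)).2 ⟨3, ?_⟩)
  have h1 : (⊤ : Subgroup M).lowerCentralSeries 1 ≤ (fittingSubgroup G).subgroupOf M := by
    rw [Subgroup.top_lowerCentralSeries_one, commutator_def]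
    exact hl _ fun a _ b _ => commutator_le_fitting h (comm_mem_commutator (a : G) (b : G))
  have h2 : (⊤ : Subgroup M).lowerCentralSeries 2 ≤ (Subgroup.center G).subgroupOf M := by
    rw [Subgroup.lowerCentralSeries_succ]
    refine (Subgroup.commutator_mono h1 le_rfl).trans (hl _ fun a ha b _ => ?_)
    have h3 := (hmemM (b : G)).1 b.2 (a : G) ha
    have e : ⁅(a : G), (b : G)⁆ = ((b : G) * a * (b : G)⁻¹ * (a : G)⁻¹)⁻¹ := by
      rw [commutatorElement_def]; group
    rw [e]
    exact inv_mem h3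
  rw [Subgroup.lowerCentralSeries_succ, eq_bot_iff]
  refine (Subgroup.commutator_mono h2 le_rfl).trans ((hl ⊥ fun a ha b _ => ?_).trans ?_)
  · rw [Subgroup.mem_bot, commutatorElement_eq_one_iff_mul_comm]
    exact (Subgroup.mem_center_iff.1 ha (b : G)).symm
  · rw [Subgroup.bot_subgroupOf]

end Fitting

section Derived

variable {G : Type*} [Group G] [Finite G] {r : ℕ} [hr : Fact r.Prime]

/-- If the Sylow `r`-subgroup `R` contains the derived subgroup, `R` has central commutators and the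
indices of the centralizers in `R` divide `r`, then the derived subgroup has order dividing `r`. -/
theorem card_commutator_dvd (R : Subgroup G) [R.Normal] (hR : IsPGroup r R)
    (h : G) (hh : (orderOf h).Coprime r) (hgen : R ⊔ Subgroup.zpowers h = ⊤)
    (hcen : ∀ a ∈ R, ∀ b ∈ R, a * b * a⁻¹ * b⁻¹ ∈ Subgroup.center G)
    (hidx : ∀ g : G, (Subgroup.centralizer ({g} : Set G)).relIndex R ∣ r) :
    Nat.card (commutator G) ∣ r := by
  classical
  -- reduction to a small normal subgroup `L` with abelian quotient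
  suffices hL : ∃ L : Subgroup G, L ≤ R ∧ L.Normal ∧ Nat.card L ∣ r ∧
      (∀ a ∈ R, ∀ b ∈ R, a * b * a⁻¹ * b⁻¹ ∈ L) ∧ ∀ n ∈ R, h * n * h⁻¹ * n⁻¹ ∈ L by
    obtain ⟨L, -, hLn, hLr, hRR, hhR⟩ := hL
    refine (Subgroup.card_dvd_of_le ?_).trans hLr
    set q := QuotientGroup.mk' L with hq
    have hmem : ∀ g k : G, g * k * g⁻¹ * k⁻¹ ∈ L → q g * q k = q k * q g := fun g k hc => by
      have h2 : q (g * k * g⁻¹ * k⁻¹) = 1 := (QuotientGroup.eq_one_iff _).2 hc
      rw [map_mul, map_mul, map_mul, map_inv, map_inv, mul_inv_eq_one, mul_inv_eq_iff_eq_mul] at h2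
      exact h2
    have hcentral : ∀ g : G, R ⊔ Subgroup.zpowers h ≤ (Subgroup.centralizer ({q g} : Set _)).comap q := by
      have hR' : ∀ n ∈ R, R ⊔ Subgroup.zpowers h ≤ (Subgroup.centralizer ({q n} : Set _)).comap q := by
        intro n hn
        refine sup_le (fun a ha => Subgroup.mem_centralizer_singleton_iff.2 (hmem a n (hRR a ha n hn)))
          (Subgroup.zpowers_le.2 (Subgroup.mem_centralizer_singleton_iff.2 (hmem h n (hhR n hn))))
      intro g
      refine sup_le (fun a ha => ?_) (Subgroup.zpowers_le.2 ?_)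
      · have := hR' a ha (hgen.symm.le (Subgroup.mem_top g))
        exact Subgroup.mem_centralizer_singleton_iff.2 (Subgroup.mem_centralizer_singleton_iff.1 this).symm
      · have hg : R ⊔ Subgroup.zpowers h ≤ (Subgroup.centralizer ({q h} : Set _)).comap q :=
          sup_le (fun a ha => Subgroup.mem_centralizer_singleton_iff.2 (hmem h a (hhR a ha)).symm)
            (Subgroup.zpowers_le.2 (Subgroup.mem_centralizer_singleton_iff.2 rfl))
        exact Subgroup.mem_centralizer_singleton_iff.2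
          (Subgroup.mem_centralizer_singleton_iff.1 (hg (hgen.symm.le (Subgroup.mem_top g)))).symm
    rw [commutator_def, Subgroup.commutator_le]
    intro a _ b _
    rw [← QuotientGroup.eq_one_iff]
    show q ⁅a, b⁆ = 1
    rw [commutatorElement_def, map_mul, map_mul, map_mul, map_inv, map_inv, mul_inv_eq_one,
      mul_inv_eq_iff_eq_mul]
    exact Subgroup.mem_centralizer_singleton_iff.1 (hcentral b (hgen.symm.le (Subgroup.mem_top a)))
  have hC : ∀ g : G, ∀ n, n ∈ Subgroup.centralizer ({g} : Set G) ↔ n * g = g * n := fun g n =>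
    Subgroup.mem_centralizer_singleton_iff
  by_cases hfix : ∀ n ∈ R, h * n = n * h
  · -- `h` centralizes `R`; the commutator map of one element
    by_cases habR : ∀ a ∈ R, ∀ b ∈ R, a * b = b * a
    · exact ⟨⊥, bot_le, inferInstance, by simp, fun a ha b hb => by simp [habR a ha b hb],
        fun n hn => by simp [hfix n hn]⟩
    push Not at habR
    obtain ⟨x₀, hx₀, y₀, hy₀, hne⟩ := habR
    let φ : G → R →* Subgroup.center G := fun g =>
      if hg : g ∈ R then MonoidHom.mk' (fun n => ⟨g * (n : G) * g⁻¹ * (n : G)⁻¹, hcen g hg n n.2⟩) (by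
        intro a b
        apply Subtype.ext
        simp only [Subgroup.coe_mul]
        have hz := Subgroup.mem_center_iff.1 (hcen g hg b b.2) (a : G)⁻¹
        calc g * ((a : G) * b) * g⁻¹ * ((a : G) * b)⁻¹
            = g * a * g⁻¹ * ((g * b * g⁻¹ * (b : G)⁻¹) * (a : G)⁻¹) := by group
          _ = g * a * g⁻¹ * ((a : G)⁻¹ * (g * b * g⁻¹ * (b : G)⁻¹)) := by rw [hz]
          _ = _ := by group) else 1
    let A : G → Subgroup G := fun g => (φ g).range.map (Subgroup.center G).subtype
    have hA : ∀ g ∈ R, ∀ n ∈ R, g * n * g⁻¹ * n⁻¹ ∈ A g := fun g hg n hn =>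
      ⟨_, ⟨⟨n, hn⟩, rfl⟩, by simp [φ, hg]⟩
    have hAr : ∀ g ∈ R, Nat.card (A g) ∣ r := by
      intro g hg
      rw [Subgroup.card_map_of_injective (Subgroup.center G).subtype_injective, ← Subgroup.index_ker]
      have hker : (φ g).ker = (Subgroup.centralizer ({g} : Set G)).subgroupOf R := by
        ext n
        simp only [MonoidHom.mem_ker, φ, dif_pos hg, MonoidHom.mk'_apply, Subgroup.mem_subgroupOf, hC,
          Subtype.ext_iff, Subgroup.coe_one, mul_inv_eq_iff_eq_mul, one_mul]
        exact eq_comm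
      rw [hker]
      exact hidx g
    have hAeq : ∀ g ∈ R, ∀ w ∈ R, g * w ≠ w * g → A g = A w := by
      intro g hg w hw hgw
      have key : ∀ a ∈ R, ∀ b ∈ R, a * b ≠ b * a → Subgroup.zpowers (a * b * a⁻¹ * b⁻¹) = A a := by
        intro a ha b hb hab
        refine Subgroup.eq_of_le_of_card_ge (Subgroup.zpowers_le.2 (hA a ha b hb)) ?_
        rcases (Nat.dvd_prime hr.out).1 (hAr a ha) with e | e
        · rw [e]; exact Nat.card_pos
        · rw [e, Nat.card_zpowers]
          obtain ⟨j, hj⟩ := IsPGroup.iff_orderOf.1 hR ⟨_, R.mul_mem (R.mul_mem (R.mul_mem ha hb)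
            (R.inv_mem ha)) (R.inv_mem hb)⟩
          rw [Subgroup.orderOf_mk] at hj
          rw [hj]
          rcases j with _ | j
          · have := orderOf_eq_one_iff.1 (show orderOf (a * b * a⁻¹ * b⁻¹) = 1 by simpa using hj)
            rw [mul_inv_eq_one, mul_inv_eq_iff_eq_mul] at this
            exact absurd this hab
          · exact Nat.le_self_pow (Nat.succ_ne_zero j) r
      refine (key g hg w hw hgw).symm.trans (Eq.trans ?_ (key w hw g hg (Ne.symm hgw)))
      rw [← Subgroup.zpowers_inv]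
      congr 1
      group
    refine ⟨A x₀, ?_, ?_, hAr x₀ hx₀, ?_, fun n hn => by rw [hfix n hn]; simp⟩
    · rintro _ ⟨_, ⟨n, rfl⟩, rfl⟩
      simp only [φ, dif_pos hx₀, MonoidHom.mk'_apply, Subgroup.coe_subtype]
      exact R.mul_mem (R.mul_mem (R.mul_mem hx₀ n.2) (R.inv_mem hx₀)) (R.inv_mem n.2)
    · exact ⟨fun z hz g => by
        rw [Subgroup.mem_center_iff.1 (Subgroup.map_subtype_le _ hz) g, mul_inv_cancel_right]; exact hz⟩
    intro a ha b hb
    by_cases hab : a * b = b * a
    · simp [hab]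
    -- an element commuting neither with `a` nor with `x₀`
    obtain ⟨w, hw, hwa, hwx⟩ : ∃ w ∈ R, a * w ≠ w * a ∧ x₀ * w ≠ w * x₀ := by
      by_cases h1 : x₀ * b = b * x₀
      · by_cases h2 : a * y₀ = y₀ * a
        · refine ⟨b * y₀, R.mul_mem hb hy₀, fun e => hab ?_, fun e => hne ?_⟩
          · have e2 : a * b * y₀ = b * a * y₀ := by
              calc a * b * y₀ = a * (b * y₀) := by group
                _ = b * y₀ * a := e
                _ = b * (a * y₀) := by rw [h2]; group
                _ = b * a * y₀ := by group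
            exact mul_right_cancel e2
          · have e2 : b * (x₀ * y₀) = b * (y₀ * x₀) := by
              calc b * (x₀ * y₀) = x₀ * b * y₀ := by rw [h1]; group
                _ = x₀ * (b * y₀) := by group
                _ = b * y₀ * x₀ := e
                _ = b * (y₀ * x₀) := by group
            exact mul_left_cancel e2
        · exact ⟨y₀, hy₀, h2, hne⟩
      · exact ⟨b, hb, hab, h1⟩
    rw [hAeq x₀ hx₀ w hw hwx, ← hAeq a ha w hw hwa]
    exact hA a ha b hb
  -- `h` moves `R`
  push Not at hfix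
  set C := Subgroup.centralizer ({h} : Set G) ⊓ R with hCdef
  have hCidx : (Subgroup.centralizer ({h} : Set G)).relIndex R = r := by
    refine ((Nat.dvd_prime hr.out).1 (hidx h)).resolve_left fun e => ?_
    obtain ⟨n, hn, hn1⟩ := hfix
    exact hn1 ((hC h n).1 (Subgroup.relIndex_eq_one.1 e hn)).symm
  have hCab : ∀ a ∈ C, ∀ b ∈ C, a * b = b * a := by
    rintro a ⟨ha1, ha2⟩ b ⟨hb1, hb2⟩
    have hca : Commute a h := (hC h a).1 ha1
    have hcop : (orderOf a).Coprime (orderOf h) := by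
      obtain ⟨j, hj⟩ := IsPGroup.iff_orderOf.1 hR ⟨a, ha2⟩
      rw [Subgroup.orderOf_mk] at hj
      rw [hj]
      exact hh.symm.pow_left j
    have heq : Subgroup.centralizer ({a * h} : Set G) ⊓ R ≤ Subgroup.centralizer ({a} : Set G) ⊓ C := by
      rintro n ⟨hn1, hn2⟩
      have hn' : Commute n (a * h) := (hC (a * h) n).1 hn1
      obtain ⟨e, he1, he2⟩ := Nat.chineseRemainder hcop 1 0
      have ha' : (a * h) ^ e = a := by
        rw [hca.mul_pow, ← pow_mod_orderOf a, he1, pow_mod_orderOf, pow_one,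
          ← pow_mod_orderOf h, he2, pow_mod_orderOf, pow_zero, mul_one]
      have hna : Commute n a := ha' ▸ hn'.pow_right e
      have hnh : Commute n h := by simpa using hna.inv_right.mul_right hn'
      exact ⟨(hC a n).2 hna, (hC h n).2 hnh, hn2⟩
    have h1 := CfsgLib.Solvable.card_inf_mul_relIndex (Subgroup.centralizer ({h} : Set G)) R
    rw [← hCdef, hCidx] at h1
    have h2 := CfsgLib.Solvable.card_inf_mul_relIndex (Subgroup.centralizer ({a * h} : Set G)) R
    have h3 : Nat.card C * r ≤ Nat.card ↥(Subgroup.centralizer ({a} : Set G) ⊓ C) * r := by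
      rw [h1, ← h2]
      exact Nat.mul_le_mul (Nat.le_of_dvd Nat.card_pos (Subgroup.card_dvd_of_le heq))
        (Nat.le_of_dvd hr.out.pos (hidx (a * h)))
    have h4 := Subgroup.eq_of_le_of_card_ge inf_le_right (Nat.le_of_mul_le_mul_right h3 hr.out.pos)
    exact ((hC a b).1 (h4.symm.le (show b ∈ C from ⟨hb1, hb2⟩)).1).symm
  -- a commutator outside `C`
  obtain ⟨n₁, hn₁, hl1⟩ : ∃ n ∈ R, h * n * h⁻¹ * n⁻¹ ∉ C := by
    obtain ⟨n, hn, hn1⟩ := hfix
    refine ⟨n, hn, fun hl => hn1 ?_⟩
    set l := h * n * h⁻¹ * n⁻¹ with hldef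
    have hlh : Commute h l := ((hC h l).1 hl.1).symm
    have hpow : ∀ j : ℕ, h ^ j * n * (h ^ j)⁻¹ = l ^ j * n := by
      intro j
      induction j with
      | zero => simp
      | succ j ih =>
        calc h ^ (j + 1) * n * (h ^ (j + 1))⁻¹ = h * (h ^ j * n * (h ^ j)⁻¹) * h⁻¹ := by
              rw [pow_succ']; group
          _ = h * l ^ j * (n * h⁻¹) := by rw [ih]; group
          _ = l ^ j * h * (n * h⁻¹) := by rw [(hlh.pow_right j).eq]
          _ = l ^ j * (h * n * h⁻¹ * n⁻¹) * n := by group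
          _ = l ^ (j + 1) * n := by rw [← hldef, pow_succ]
    have h1 := hpow (orderOf h)
    rw [pow_orderOf_eq_one, one_mul, inv_one, mul_one, right_eq_mul] at h1
    obtain ⟨j, hj⟩ := IsPGroup.iff_orderOf.1 hR ⟨l, hl.2⟩
    rw [Subgroup.orderOf_mk] at hj
    have : l = 1 := orderOf_eq_one_iff.1 (Nat.eq_one_of_dvd_coprimes (hh.symm.pow_left j)
      (hj ▸ dvd_rfl) (orderOf_dvd_of_pow_eq_one h1))
    rw [hldef, mul_inv_eq_one, mul_inv_eq_iff_eq_mul] at this
    exact this
  set l := h * n₁ * h⁻¹ * n₁⁻¹ with hldef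
  have hlR : l ∈ R := R.mul_mem (conj_mem_of_normal hn₁ h) (R.inv_mem hn₁)
  have hlC : ∀ c ∈ C, l * c = c * l := by
    intro c hc
    have hz := Subgroup.mem_center_iff.1 (hcen n₁ hn₁ c hc.2) h
    have hch : h * c = c * h := ((hC h c).1 hc.1).symm
    have hz' := Subgroup.mem_center_iff.1 (hcen n₁ hn₁ c hc.2) l
    have e1 : h * n₁ * h⁻¹ * c * (h * n₁ * h⁻¹)⁻¹ * c⁻¹ = n₁ * c * n₁⁻¹ * c⁻¹ := by
      calc h * n₁ * h⁻¹ * c * (h * n₁ * h⁻¹)⁻¹ * c⁻¹
          = h * n₁ * h⁻¹ * (c * h) * n₁⁻¹ * h⁻¹ * c⁻¹ := by group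
        _ = h * (n₁ * c * n₁⁻¹ * c⁻¹) * (c * h⁻¹ * c⁻¹) := by rw [← hch]; group
        _ = (n₁ * c * n₁⁻¹ * c⁻¹) * h * (c * h⁻¹ * c⁻¹) := by rw [hz]
        _ = (n₁ * c * n₁⁻¹ * c⁻¹) * (h * c) * h⁻¹ * c⁻¹ := by group
        _ = _ := by rw [hch]; group
    have e2 : h * n₁ * h⁻¹ * c * (h * n₁ * h⁻¹)⁻¹ * c⁻¹ =
        l * (n₁ * c * n₁⁻¹ * c⁻¹) * (c * l⁻¹ * c⁻¹) := by rw [hldef]; group
    rw [e2, hz'] at e1
    have e3 : l * c * l⁻¹ * c⁻¹ = 1 := by
      calc l * c * l⁻¹ * c⁻¹ = (n₁ * c * n₁⁻¹ * c⁻¹)⁻¹ * (n₁ * c * n₁⁻¹ * c⁻¹ * l * (c * l⁻¹ * c⁻¹)) := by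
            group
        _ = 1 := by rw [e1, inv_mul_cancel]
    rw [mul_inv_eq_one, mul_inv_eq_iff_eq_mul] at e3
    exact e3
  -- `R` is abelian
  set D := C ⊔ Subgroup.zpowers l with hD
  have hDR : D = R := by
    refine Subgroup.eq_of_le_of_card_ge (sup_le inf_le_right (Subgroup.zpowers_le.2 hlR)) ?_
    have h1 := CfsgLib.Solvable.card_inf_mul_relIndex (Subgroup.centralizer ({h} : Set G)) R
    rw [← hCdef, hCidx] at h1
    rw [← h1]
    have hCD : C ≤ D := le_sup_left
    obtain ⟨m, hm⟩ := Subgroup.card_dvd_of_le hCD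
    rw [hm]
    refine Nat.mul_le_mul_left _ ?_
    obtain ⟨j, hjle, hj⟩ : ∃ j ≤ 1, m = r ^ j := by
      refine (Nat.dvd_prime_pow hr.out).1 ?_
      rw [pow_one]
      have : Nat.card C * m ∣ Nat.card C * r := by
        rw [← hm, h1]
        exact Subgroup.card_dvd_of_le (sup_le inf_le_right (Subgroup.zpowers_le.2 hlR))
      exact Nat.dvd_of_mul_dvd_mul_left Nat.card_pos this
    rcases j with _ | _ | j
    · exfalso
      apply hl1
      have : C = D := Subgroup.eq_of_le_of_card_ge hCD (by rw [hm, hj]; simp)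
      rw [this]
      exact le_sup_right (a := C) (Subgroup.mem_zpowers l)
    · rw [hj]; simp
    · omega
  have habR : ∀ a ∈ R, ∀ b ∈ R, a * b = b * a := by
    have hD' : ∀ a ∈ D, ∀ b ∈ D, a * b = b * a := by
      have h1 : ∀ x, x ∈ C ∨ x = l → D ≤ Subgroup.centralizer ({x} : Set G) := by
        rintro x (hx | rfl)
        · exact sup_le (fun a ha => (hC x a).2 (hCab a ha x hx))
            (Subgroup.zpowers_le.2 ((hC x l).2 (hlC x hx)))
        · exact sup_le (fun a ha => (hC l a).2 (hlC a ha).symm)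
            (Subgroup.zpowers_le.2 ((hC l l).2 rfl))
      intro a ha b hb
      have h2 : D ≤ Subgroup.centralizer ({b} : Set G) :=
        sup_le (fun x hx => (hC b x).2 ((hC x b).1 (h1 x (Or.inl hx) hb)).symm)
          (Subgroup.zpowers_le.2 ((hC b l).2 ((hC l b).1 (h1 l (Or.inr rfl) hb)).symm))
      exact (hC b a).1 (h2 ha)
    rw [hDR] at hD'
    exact hD'
  let ψ : R →* R := MonoidHom.mk' (fun n => ⟨h * (n : G) * h⁻¹ * (n : G)⁻¹,
      R.mul_mem (conj_mem_of_normal n.2 h) (R.inv_mem n.2)⟩) (by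
    intro a b
    apply Subtype.ext
    simp only [Subgroup.coe_mul]
    have h1 := habR _ (R.mul_mem (conj_mem_of_normal b.2 h) (R.inv_mem b.2)) _ (R.inv_mem a.2)
    calc h * ((a : G) * b) * h⁻¹ * ((a : G) * b)⁻¹
        = h * a * h⁻¹ * ((h * b * h⁻¹ * (b : G)⁻¹) * (a : G)⁻¹) := by group
      _ = h * a * h⁻¹ * ((a : G)⁻¹ * (h * b * h⁻¹ * (b : G)⁻¹)) := by rw [h1]
      _ = _ := by group)
  set L := ψ.range.map R.subtype with hLdef
  refine ⟨L, Subgroup.map_subtype_le _, ?_, ?_, fun a ha b hb => by simp [habR a ha b hb],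
    fun n hn => ⟨_, ⟨⟨n, hn⟩, rfl⟩, rfl⟩⟩
  · -- `h` normalizes the image
    rw [← Subgroup.normalizer_eq_top_iff, eq_top_iff, ← hgen]
    have hfin : ∀ g : G, (∀ x ∈ L, g * x * g⁻¹ ∈ L) → g ∈ Subgroup.normalizer (L : Set G) := fun g hg => by
      refine Subgroup.mem_normalizer_iff_map_conj_eq.2 (Subgroup.eq_of_le_of_card_ge ?_ ?_)
      · rintro _ ⟨x, hx, rfl⟩; exact hg x hx
      · exact le_of_eq (Nat.card_congr (Subgroup.equivMapOfInjective L _ (MulAut.conj g).injective).toEquiv)
    refine sup_le (fun a ha => hfin a fun x hx => ?_) (Subgroup.zpowers_le.2 (hfin h ?_))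
    · rw [habR a ha x (Subgroup.map_subtype_le _ hx), mul_inv_cancel_right]; exact hx
    · rintro _ ⟨_, ⟨n, rfl⟩, rfl⟩
      refine ⟨_, ⟨⟨h * (n : G) * h⁻¹, conj_mem_of_normal n.2 h⟩, rfl⟩, ?_⟩
      simp only [ψ, MonoidHom.mk'_apply, Subgroup.coe_subtype]
      group
  · rw [hLdef, Subgroup.card_map_of_injective R.subtype_injective, ← Subgroup.index_ker]
    have hker : ψ.ker = (Subgroup.centralizer ({h} : Set G)).subgroupOf R := by
      ext n
      simp only [MonoidHom.mem_ker, ψ, MonoidHom.mk'_apply, Subgroup.mem_subgroupOf, hC,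
        Subtype.ext_iff, Subgroup.coe_one, mul_inv_eq_iff_eq_mul, one_mul]
      exact eq_comm
    rw [hker]
    exact hidx h

end Derived

end CfsgLib.FGStruct.SquareFreeClass
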