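import Mathlib
import Cfsg.Prelude.Def_Solvable
import Cfsg.Agent.Lib.Solvable.Basic
import Cfsg.Agent.Lib.Solvable.Core
import Cfsg.Agent.Lib.CharP.PCore

/-!
Subnormalizers of `p`-subgroups (Casolo): the elements `g` such that `H` is subnormal in `⟨H, g⟩` are
those normalizing some `p`-subgroup above `H`, and there are as many of them as elements `x` with
`H ≤ xPx⁻¹`.
-/

set_option autoImplicit false
set_option linter.style.haveILetI false

open scoped Pointwise

namespace CfsgLib.FGStruct.Subnormalizer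

/-! ### Euler characteristic of a finite poset -/

section Euler

open Classical

variable {α : Type*} [PartialOrder α]

theorem exists_upper_weight (X : Finset α) :
    ∃ μ : α → ℤ, ∀ x ∈ X, (∑ y ∈ X with x ≤ y, μ y) = 1 := by
  induction' X using Finset.strongInduction with X ih
  rcases X.eq_empty_or_nonempty with rfl | hX
  · exact ⟨0, by simp⟩
  obtain ⟨a, haX, ha⟩ := X.exists_minimal hX
  obtain ⟨μ, hμ⟩ := ih (X.erase a) (Finset.erase_ssubset haX)
  refine ⟨Function.update μ a (1 - ∑ y ∈ (X.erase a) with a ≤ y, μ y), fun x hx => ?_⟩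
  by_cases hxa : x = a
  · subst hxa
    have hs : X.filter (x ≤ ·) = insert x ((X.erase x).filter (x ≤ ·)) := by
      ext y; by_cases hy : y = x <;> simp [hy, haX]
    rw [hs, Finset.sum_insert (by simp), Function.update_self]
    have e : ∀ y ∈ (X.erase x).filter (x ≤ ·),
        Function.update μ x (1 - ∑ y ∈ (X.erase x) with x ≤ y, μ y) y = μ y := fun y hy =>
      Function.update_of_ne (Finset.mem_erase.mp (Finset.mem_filter.mp hy).1).1 _ _
    rw [Finset.sum_congr rfl e]
    ring
  · have hnle : ¬ x ≤ a := fun h => hxa (le_antisymm h (ha hx h))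
    have hs : X.filter (x ≤ ·) = (X.erase a).filter (x ≤ ·) := by
      ext y; by_cases hy : y = a <;> simp [hy, hnle]
    have e : ∀ y ∈ (X.erase a).filter (x ≤ ·),
        Function.update μ a (1 - ∑ y ∈ (X.erase a) with a ≤ y, μ y) y = μ y := fun y hy =>
      Function.update_of_ne (Finset.mem_erase.mp (Finset.mem_filter.mp hy).1).1 _ _
    rw [hs, Finset.sum_congr rfl e]
    exact hμ x (Finset.mem_erase.mpr ⟨hxa, hx⟩)

theorem exists_lower_weight (X : Finset α) :
    ∃ ν : α → ℤ, ∀ x ∈ X, (∑ y ∈ X with y ≤ x, ν y) = 1 := by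
  obtain ⟨μ, hμ⟩ := exists_upper_weight (α := αᵒᵈ) (X.map OrderDual.toDual.toEmbedding)
  refine ⟨fun y => μ (OrderDual.toDual y), fun x hx => ?_⟩
  have h := hμ (OrderDual.toDual x) (Finset.mem_map_of_mem _ hx)
  rw [Finset.filter_map, Finset.sum_map] at h
  exact h

/-- Euler characteristic of a finite poset, as a sum of upper weights. -/
noncomputable def eulerChar (X : Finset α) : ℤ :=
  ∑ x ∈ X, (exists_upper_weight X).choose x

theorem sum_weight_retract {X Y : Finset α} {μ ν : α → ℤ}
    (hμ : ∀ x ∈ X, (∑ y ∈ X with x ≤ y, μ y) = 1) (hν : ∀ x ∈ Y, (∑ y ∈ Y with y ≤ x, ν y) = 1)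
    (hYX : Y ⊆ X) (c : α → α) (hc : ∀ x ∈ X, c x ∈ Y ∧ c x ≤ x ∧ ∀ y ∈ Y, y ≤ x → y ≤ c x) :
    ∑ x ∈ X, μ x = ∑ y ∈ Y, ν y := by
  have h : ∀ x ∈ X, μ x = ∑ y ∈ Y, (if y ≤ x then ν y * μ x else 0) := by
    intro x hx
    obtain ⟨h1, h2, h3⟩ := hc x hx
    have hs : Y.filter (· ≤ x) = Y.filter (· ≤ c x) :=
      Finset.filter_congr fun y hy => ⟨h3 y hy, fun h => h.trans h2⟩
    rw [← Finset.sum_filter, hs, ← Finset.sum_mul, hν _ h1, one_mul]
  rw [Finset.sum_congr rfl h, Finset.sum_comm]
  refine Finset.sum_congr rfl fun y hy => ?_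
  rw [← Finset.sum_filter, ← Finset.mul_sum, hμ y (hYX hy), mul_one]

theorem eulerChar_eq {X : Finset α} {μ : α → ℤ}
    (hμ : ∀ x ∈ X, (∑ y ∈ X with x ≤ y, μ y) = 1) : eulerChar X = ∑ x ∈ X, μ x := by
  obtain ⟨ν, hν⟩ := exists_lower_weight X
  have hid : ∀ x ∈ X, id x ∈ X ∧ id x ≤ x ∧ ∀ y ∈ X, y ≤ x → y ≤ id x :=
    fun x hx => ⟨hx, le_rfl, fun _ _ h => h⟩
  rw [eulerChar, sum_weight_retract (exists_upper_weight X).choose_spec hν subset_rfl id hid,
    ← sum_weight_retract hμ hν subset_rfl id hid]

theorem eulerChar_retract {X Y : Finset α}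
    (hYX : Y ⊆ X) (c : α → α) (hc : ∀ x ∈ X, c x ∈ Y ∧ c x ≤ x ∧ ∀ y ∈ Y, y ≤ x → y ≤ c x) :
    eulerChar X = eulerChar Y := by
  obtain ⟨ν, hν⟩ := exists_lower_weight Y
  rw [eulerChar, eulerChar, sum_weight_retract (exists_upper_weight X).choose_spec hν hYX c hc,
    sum_weight_retract (exists_upper_weight Y).choose_spec hν subset_rfl id
      fun x hx => ⟨hx, le_rfl, fun _ _ h => h⟩]

theorem eulerChar_empty : eulerChar (∅ : Finset α) = 0 := Finset.sum_empty

theorem eulerChar_of_least {X : Finset α} {a : α} (haX : a ∈ X) (ha : ∀ x ∈ X, a ≤ x) :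
    eulerChar X = 1 := by
  obtain ⟨μ, hμ⟩ := exists_upper_weight X
  rw [eulerChar_eq hμ, ← hμ a haX, Finset.filter_true_of_mem ha]

theorem upper_weight_eq {X : Finset α} {μ : α → ℤ}
    (hμ : ∀ x ∈ X, (∑ y ∈ X with x ≤ y, μ y) = 1) {x : α} (hx : x ∈ X) :
    μ x = 1 - eulerChar (X.filter (x < ·)) := by
  have h := hμ x hx
  have hs : X.filter (x ≤ ·) = insert x (X.filter (x < ·)) := by
    ext y; by_cases hy : y = x <;> simp [hy, hx, lt_iff_le_and_ne, Ne.symm]
  rw [hs, Finset.sum_insert (by simp)] at h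
  have he : eulerChar (X.filter (x < ·)) = ∑ y ∈ X.filter (x < ·), μ y := by
    refine eulerChar_eq fun z hz => ?_
    rw [Finset.mem_filter] at hz
    rw [← hμ z hz.1, Finset.filter_filter]
    exact Finset.sum_congr (Finset.filter_congr fun y _ =>
      ⟨fun h => h.2, fun h => ⟨hz.2.trans_le h, h⟩⟩) fun _ _ => rfl
  rw [he]; linarith

end Euler

/-! ### Normalized `p`-subgroups -/

variable {G : Type*} [Group G] {p : ℕ}

open Subgroup

theorem mem_normalizer_of_conj_smul_eq {g : G} {H : Subgroup G} :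
    g ∈ normalizer (H : Set G) ↔ MulAut.conj g • H = H :=
  (CfsgLib.Solvable.conj_smul_eq_self_iff).symm

theorem normalizer_le_normalizer_pCore_map [Finite G] (R : Subgroup G) :
    normalizer (R : Set G) ≤
      normalizer (((Cfsg.pCore p ↥R).map R.subtype : Subgroup G) : Set G) := by
  intro g hg
  set O := (Cfsg.pCore p ↥R).map R.subtype with hO
  have hR : MulAut.conj g • R = R := mem_normalizer_of_conj_smul_eq.mp hg
  have hle : MulAut.conj g • O ≤ O := by
    apply CfsgLib.CharP.subgroup_le_pCore_map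
    · calc MulAut.conj g • O ≤ MulAut.conj g • R :=
            pointwise_smul_le_pointwise_smul_iff.mpr (map_subtype_le _)
        _ = R := hR
    · intro r hr
      rw [← hR, mem_pointwise_smul_iff_inv_smul_mem] at hr
      have hn := mem_normalizer_of_conj_smul_eq.mp (CfsgLib.CharP.le_normalizer_pCore_map (p := p) R hr)
      rw [← hO] at hn
      rw [mem_normalizer_of_conj_smul_eq, ← mul_smul, ← map_mul]
      have e : r * g = g * ((MulAut.conj g)⁻¹ • r) := by simp [mul_assoc]
      rw [e, map_mul, mul_smul, hn]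
    · exact ((CfsgLib.CharP.pCore_isPGroup').map _).map _
  rw [mem_normalizer_of_conj_smul_eq]
  exact SetLike.coe_injective (Set.eq_of_subset_of_ncard_le hle
    (by rw [Subgroup.coe_pointwise_smul, Set.ncard_smul_set]) (Set.toFinite _))

theorem isSubnormal_of_isPGroup [Finite G] [Fact p.Prime] (hG : IsPGroup p G) (A : Subgroup G) :
    A.IsSubnormal := by
  haveI := hG.isNilpotent
  induction' A using WellFoundedGT.induction with A ih
  rcases eq_or_ne A ⊤ with rfl | hA
  · exact Subgroup.IsSubnormal.top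
  have hlt : A < normalizer (A : Set G) := normalizerCondition_of_isNilpotent A hA.lt_top
  exact Subgroup.IsSubnormal.step A _ hlt.le (ih _ hlt) normal_in_normalizer

theorem exists_normal_pGroup_ge [Finite G] {H : Subgroup G} (hsn : H.IsSubnormal)
    (hH : IsPGroup p H) : H ≤ Cfsg.pCore p G := by
  have key : ∀ K : Subgroup G, K.IsSubnormal → ∀ L : Subgroup G, L ≤ K →
      K ≤ normalizer (L : Set G) → IsPGroup p L → L ≤ Cfsg.pCore p G := by
    intro K hK
    induction hK with
    | top =>
      intro L _ hn hL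
      exact CfsgLib.CharP.le_pCore' (normalizer_eq_top_iff.mp (top_le_iff.mp hn)) hL
    | step A B hAB _ hN ih =>
      intro L hL hn hLp
      rw [normal_subgroupOf_iff_le_normalizer hAB] at hN
      refine (CfsgLib.CharP.subgroup_le_pCore_map hL hn hLp).trans
        (ih _ ((map_subtype_le _).trans hAB) (hN.trans (normalizer_le_normalizer_pCore_map A))
          ((CfsgLib.CharP.pCore_isPGroup').map _))
  exact key H hsn H le_rfl le_normalizer hH

/-- `H` is subnormal in `⟨H, g⟩` iff `g` normalizes a `p`-subgroup containing `H`. -/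
theorem isSubnormal_sup_zpowers_iff [Finite G] [Fact p.Prime] {H : Subgroup G} (hH : IsPGroup p H)
    (g : G) : (H.subgroupOf (H ⊔ zpowers g)).IsSubnormal ↔
      ∃ R : Subgroup G, H ≤ R ∧ IsPGroup p R ∧ g ∈ normalizer (R : Set G) := by
  set K := H ⊔ zpowers g
  constructor
  · intro hsn
    refine ⟨(Cfsg.pCore p ↥K).map K.subtype, ?_, (CfsgLib.CharP.pCore_isPGroup').map _,
      CfsgLib.CharP.le_normalizer_pCore_map K ((le_sup_right : zpowers g ≤ K) (mem_zpowers g))⟩
    intro h hh
    exact ⟨⟨h, (le_sup_left : H ≤ K) hh⟩,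
      exists_normal_pGroup_ge hsn (hH.comap_subtype (K := K)) hh, rfl⟩
  · rintro ⟨R, hHR, hR, hg⟩
    have hK : K ≤ normalizer (R : Set G) :=
      sup_le (hHR.trans le_normalizer) (zpowers_le.mpr hg)
    have hn : (R.subgroupOf K).Normal := normal_subgroupOf_of_le_normalizer hK
    refine Subgroup.IsSubnormal.trans (K := R.subgroupOf K) (fun x hx => hHR hx) ?_ hn.isSubnormal
    exact isSubnormal_of_isPGroup (p := p) (hR.comap_subtype (K := K)) _

section Count

open Classical

variable [Fintype G] [Fintype (Subgroup G)]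

variable (p) in
/-- The `p`-subgroups contained in `M`. -/
noncomputable def pSubs (M : Subgroup G) : Finset (Subgroup G) :=
  Finset.univ.filter fun R => R ≤ M ∧ IsPGroup p R

variable (p) in
/-- The `g`-invariant `p`-subgroups of `M` properly above `K`. -/
noncomputable def above (M K : Subgroup G) (g : G) : Finset (Subgroup G) :=
  (pSubs p M).filter fun R => K < R ∧ g ∈ normalizer (R : Set G)

variable (p) in
/-- The local Euler characteristic weight of `K` in `M`. -/
noncomputable def localWeight (M K : Subgroup G) : ℤ :=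
  ∑ g : G with g ∈ M ∧ g ∈ normalizer (K : Set G), (1 - eulerChar (above p M K g))

theorem sum_eulerChar_upset (M : Subgroup G) (F : Finset (Subgroup G)) (hF : F ⊆ pSubs p M)
    (hup : ∀ R ∈ F, ∀ R' ∈ pSubs p M, R ≤ R' → R' ∈ F) :
    ∑ g : G with g ∈ M, eulerChar (F.filter fun R : Subgroup G => g ∈ normalizer (R : Set G)) =
      ∑ R ∈ F, localWeight p M R := by
  have h1 : ∀ g : G, eulerChar (F.filter fun R : Subgroup G => g ∈ normalizer (R : Set G)) =
      ∑ R ∈ F, if g ∈ normalizer (R : Set G) then 1 - eulerChar (above p M R g) else 0 := by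
    intro g
    obtain ⟨μ, hμ⟩ := exists_upper_weight (F.filter fun R : Subgroup G => g ∈ normalizer (R : Set G))
    rw [eulerChar_eq hμ, Finset.sum_filter]
    refine Finset.sum_congr rfl fun R hR => ?_
    split_ifs with hg
    · rw [upper_weight_eq hμ (Finset.mem_filter.mpr ⟨hR, hg⟩)]
      congr 2
      ext R'
      simp only [Finset.mem_filter, above]
      exact ⟨fun h => ⟨hF h.1.1, h.2, h.1.2⟩, fun h => ⟨⟨hup R hR R' h.1 h.2.1.le, h.2.2⟩, h.2.1⟩⟩
    · rfl
  simp only [h1]
  rw [Finset.sum_comm]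
  refine Finset.sum_congr rfl fun R _ => ?_
  rw [localWeight, ← Finset.filter_filter, Finset.sum_filter (fun g => g ∈ normalizer (R : Set G))]

theorem above_eq_empty_iff {M K : Subgroup G} :
    above p M K 1 = ∅ ↔ ∀ R : Subgroup G, R ≤ M → IsPGroup p R → K ≤ R → R = K := by
  simp only [above, pSubs, Finset.filter_eq_empty_iff, Finset.mem_filter, Finset.mem_univ, true_and,
    one_mem, and_true, not_lt_iff_le_imp_ge, and_imp]
  exact ⟨fun h R h1 h2 h3 => le_antisymm (h h1 h2 h3) h3, fun h R h1 h2 h3 => (h R h1 h2 h3).le⟩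

theorem map_subtype_subgroupOf_normalizer {M : Subgroup G} (Q : Subgroup M) :
    M ⊓ normalizer ((Q.map M.subtype : Subgroup G) : Set G) =
      (normalizer (Q : Set M)).map M.subtype := by
  ext g
  simp only [mem_inf, mem_map, coe_subtype]
  constructor
  · rintro ⟨hg, hn⟩
    refine ⟨⟨g, hg⟩, mem_normalizer_iff.mpr fun x => ?_, rfl⟩
    have := mem_normalizer_iff.mp hn x
    rw [← mem_map_iff_mem (f := M.subtype) M.subtype_injective,
      ← mem_map_iff_mem (f := M.subtype) M.subtype_injective (x := _ * x * _)]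
    exact this
  · rintro ⟨⟨g, hg⟩, hn, rfl⟩
    exact ⟨hg, Subgroup.le_normalizer_map M.subtype (mem_map_of_mem _ hn)⟩

theorem sum_card_normalizer_maximal [Fact p.Prime] (M : Subgroup G) :
    ∑ R ∈ pSubs p M with above p M R 1 = ∅, (Nat.card ↥(M ⊓ normalizer (R : Set G)) : ℤ) =
      Nat.card M := by
  haveI : Fintype (Sylow p M) := Fintype.ofFinite _
  rw [← Finset.sum_bij (s := (Finset.univ : Finset (Sylow p M)))
    (f := fun Q => (Nat.card ↥(normalizer ((Q : Subgroup M) : Set M)) : ℤ))
    (fun Q _ => (Q : Subgroup M).map M.subtype) ?_ ?_ ?_ ?_]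
  · rw [Finset.sum_congr rfl (g := fun _ => (Nat.card ↥(normalizer
      (((default : Sylow p M) : Subgroup M) : Set M)) : ℤ))]
    · have hn : Nat.card (Sylow p M) =
          (normalizer (((default : Sylow p M) : Subgroup M) : Set M)).index :=
        Sylow.card_eq_index_normalizer (default : Sylow p M)
      rw [Finset.sum_const, Finset.card_univ, ← Nat.card_eq_fintype_card, hn, nsmul_eq_mul,
        ← Nat.cast_mul, index_mul_card]
    · intro Q _
      congr 1
      have h1 : Nat.card (Sylow p M) = (normalizer ((Q : Subgroup M) : Set M)).index :=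
        Sylow.card_eq_index_normalizer Q
      have h2 : Nat.card (Sylow p M) =
          (normalizer (((default : Sylow p M) : Subgroup M) : Set M)).index :=
        Sylow.card_eq_index_normalizer (default : Sylow p M)
      have e1 := (normalizer ((Q : Subgroup M) : Set M)).index_mul_card
      have e2 := (normalizer (((default : Sylow p M) : Subgroup M) : Set M)).index_mul_card
      rw [← h1] at e1
      rw [← h2] at e2
      exact Nat.eq_of_mul_eq_mul_left Nat.card_pos (e1.trans e2.symm)
  · intro Q _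
    simp only [pSubs, Finset.mem_filter, Finset.mem_univ, true_and, above_eq_empty_iff]
    refine ⟨⟨map_subtype_le _, Q.isPGroup'.map _⟩, fun R hRM hR hQR => ?_⟩
    have hle : (Q : Subgroup M) ≤ R.subgroupOf M := fun x hx => hQR ⟨x, hx, rfl⟩
    rw [← Q.is_maximal' (hR.comap_subtype (K := M)) hle]
    exact (map_subgroupOf_eq_of_le hRM).symm
  · intro Q _ Q' _ h
    exact Sylow.ext (map_injective M.subtype_injective h)
  · intro R hR
    simp only [pSubs, Finset.mem_filter, Finset.mem_univ, true_and, above_eq_empty_iff] at hR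
    obtain ⟨⟨hRM, hRp⟩, hmax⟩ := hR
    obtain ⟨Q, hQ⟩ := (hRp.comap_subtype (K := M)).exists_le_sylow
    exact ⟨Q, Finset.mem_univ _, hmax _ (map_subtype_le _) (Q.isPGroup'.map _)
      fun x hx => ⟨⟨x, hRM hx⟩, hQ hx, rfl⟩⟩
  · intro Q _
    rw [map_subtype_subgroupOf_normalizer, card_map_of_injective M.subtype_injective]

theorem localWeight_eq [Fact p.Prime] : ∀ (K M : Subgroup G), K ∈ pSubs p M → localWeight p M K =
    if above p M K 1 = ∅ then (Nat.card ↥(M ⊓ normalizer (K : Set G)) : ℤ) else 0 := by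
  intro K
  induction' K using WellFoundedGT.induction with K ih
  intro M hK
  simp only [pSubs, Finset.mem_filter, Finset.mem_univ, true_and] at hK
  set M' := M ⊓ normalizer (K : Set G) with hM'
  have hcard : ((Finset.univ.filter fun g : G => g ∈ M').card : ℤ) = Nat.card M' := by
    rw [Nat.card_eq_fintype_card, Fintype.card_subtype]
  have hmem : (Finset.univ.filter fun g => g ∈ M ∧ g ∈ normalizer (K : Set G)) =
      Finset.univ.filter fun g : G => g ∈ M' :=
    Finset.filter_congr fun g _ => mem_inf.symm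
  split_ifs with hmax
  · rw [above_eq_empty_iff] at hmax
    have : ∀ g : G, above p M K g = ∅ := by
      intro g
      rw [above, Finset.filter_eq_empty_iff]
      intro R hR h
      simp only [pSubs, Finset.mem_filter, Finset.mem_univ, true_and] at hR
      exact h.1.ne (hmax R hR.1 hR.2 h.1.le).symm
    simp only [localWeight, this, eulerChar_empty, sub_zero, Finset.sum_const, nsmul_eq_mul, mul_one]
    rw [hmem, hcard]
  · have hKM' : K ≤ M' := le_inf hK.1 le_normalizer
    have key : ∀ R : Subgroup G, R ≤ M → IsPGroup p R → K < R → K < R ⊓ normalizer (K : Set G) := by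
      intro R _ hR hKR
      haveI := hR.isNilpotent
      have hlt : K.subgroupOf R < normalizer ((K.subgroupOf R : Subgroup R) : Set R) :=
        normalizerCondition_of_isNilpotent _ (lt_top_iff_ne_top.mpr fun h =>
          hKR.not_ge (subgroupOf_eq_top.mp h))
      obtain ⟨x, hx, hxK⟩ := SetLike.exists_of_lt hlt
      refine lt_of_le_of_ne (le_inf hKR.le le_normalizer) fun h => hxK ?_
      have : (x : G) ∈ R ⊓ normalizer (K : Set G) := by
        refine ⟨x.2, mem_normalizer_iff.mpr fun y => ?_⟩
        by_cases hy : y ∈ R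
        · exact mem_normalizer_iff.mp hx ⟨y, hy⟩
        · refine ⟨fun h => absurd (hKR.le h) hy, fun h => absurd ?_ hy⟩
          have := R.mul_mem (R.mul_mem (R.inv_mem x.2) (hKR.le h)) x.2
          simpa [mul_assoc] using this
      rw [← h] at this
      exact this
    have hloc : ∀ g ∈ Finset.univ.filter (fun g : G => g ∈ M'),
        eulerChar (above p M K g) = eulerChar (above p M' K g) := by
      intro g hg
      simp only [Finset.mem_filter, Finset.mem_univ, true_and, hM', mem_inf] at hg
      refine eulerChar_retract ?_ (fun R => R ⊓ normalizer (K : Set G)) ?_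
      · intro R hR
        simp only [above, pSubs, Finset.mem_filter, Finset.mem_univ, true_and] at hR ⊢
        exact ⟨⟨hR.1.1.trans inf_le_left, hR.1.2⟩, hR.2⟩
      · intro R hR
        simp only [above, pSubs, Finset.mem_filter, Finset.mem_univ, true_and] at hR ⊢
        refine ⟨⟨⟨inf_le_inf_right _ hR.1.1, hR.1.2.to_inf_left⟩,
          key R hR.1.1 hR.1.2 hR.2.1, ?_⟩, inf_le_left, fun Y hY hYR => le_inf hYR (hY.1.1.trans inf_le_right)⟩
        rw [mem_normalizer_of_conj_smul_eq, smul_inf,
          mem_normalizer_of_conj_smul_eq.mp hR.2.2,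
          mem_normalizer_of_conj_smul_eq.mp (le_normalizer hg.2)]
    set F := (pSubs p M').filter fun R => K < R with hF
    have hFup : ∀ R ∈ F, ∀ R' ∈ pSubs p M', R ≤ R' → R' ∈ F := fun R hR R' hR' h =>
      Finset.mem_filter.mpr ⟨hR', (Finset.mem_filter.mp hR).2.trans_le h⟩
    have hFg : ∀ g : G, F.filter (fun R : Subgroup G => g ∈ normalizer (R : Set G)) = above p M' K g := fun g => by
      rw [hF, Finset.filter_filter, above]
    have hsum : ∑ g : G with g ∈ M', eulerChar (above p M' K g) = Nat.card M' := by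
      simp only [← hFg]
      rw [sum_eulerChar_upset M' F (Finset.filter_subset _ _) hFup,
        Finset.sum_congr rfl (fun R hR => ih R (Finset.mem_filter.mp hR).2 M' (Finset.mem_filter.mp hR).1),
        ← Finset.sum_filter, Finset.filter_filter, ← sum_card_normalizer_maximal (p := p) M']
      refine Finset.sum_congr (Finset.filter_congr fun R hR => ⟨fun h => h.2, fun h => ⟨?_, h⟩⟩)
        fun _ _ => rfl
      simp only [pSubs, Finset.mem_filter, Finset.mem_univ, true_and] at hR
      rw [above_eq_empty_iff] at h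
      have hn : R ≤ normalizer (K : Set G) := hR.1.trans inf_le_right
      have hsup : IsPGroup p (R ⊔ K : Subgroup G) := hR.2.to_sup_of_normal_right' hK.2 hn
      have hKR : K ≤ R := by
        rw [← h _ (sup_le hR.1 hKM') hsup le_sup_left]
        exact le_sup_right
      refine lt_of_le_of_ne hKR fun e => hmax ?_
      subst e
      rw [above_eq_empty_iff]
      intro S hSM hS hKS
      by_contra hne
      have hlt := key S hSM hS (lt_of_le_of_ne hKS (Ne.symm hne))
      exact hlt.ne' (h _ (inf_le_inf_right _ hSM) hS.to_inf_left hlt.le)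
    rw [localWeight, hmem, Finset.sum_sub_distrib, Finset.sum_congr rfl hloc, hsum, Finset.sum_const,
      nsmul_eq_mul, mul_one, hcard, sub_self]

end Count

/-- Casolo: the subnormalizer of a `p`-subgroup `H` has as many elements as `{x | H ≤ xPx⁻¹}`. -/
theorem card_subnormalizer [Finite G] [Fact p.Prime] {H : Subgroup G} (hH : IsPGroup p H)
    (P : Sylow p G) :
    Nat.card {g : G // (H.subgroupOf (H ⊔ zpowers g)).IsSubnormal} =
      Nat.card {x : G // H ≤ ((x • P : Sylow p G) : Subgroup G)} := by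
  classical
  haveI : Fintype G := Fintype.ofFinite G
  haveI : Fintype (Subgroup G) := Fintype.ofFinite _
  haveI : Fintype (Sylow p G) := Fintype.ofFinite _
  set F := (pSubs p (⊤ : Subgroup G)).filter fun R : Subgroup G => H ≤ R with hF
  have hFup : ∀ R ∈ F, ∀ R' ∈ pSubs p (⊤ : Subgroup G), R ≤ R' → R' ∈ F := fun R hR R' hR' h =>
    Finset.mem_filter.mpr ⟨hR', (Finset.mem_filter.mp hR).2.trans h⟩
  have hchi : ∀ g : G, eulerChar (F.filter fun R : Subgroup G => g ∈ normalizer (R : Set G)) =
      if (H.subgroupOf (H ⊔ zpowers g)).IsSubnormal then 1 else 0 := by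
    intro g
    split_ifs with hg
    · obtain ⟨R, hHR, hR, hgR⟩ := (isSubnormal_sup_zpowers_iff hH g).mp hg
      have hne : (F.filter fun R : Subgroup G => g ∈ normalizer (R : Set G)).Nonempty := ⟨R, by
        simp [hF, pSubs, hHR, hR, hgR]⟩
      obtain ⟨A, hA, hAmin⟩ := Finset.exists_minimal hne
      refine eulerChar_of_least hA fun B hB => ?_
      have hAB : A ⊓ B ∈ F.filter fun R : Subgroup G => g ∈ normalizer (R : Set G) := by
        simp only [hF, pSubs, Finset.mem_filter, Finset.mem_univ, true_and, le_top] at hA hB ⊢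
        refine ⟨⟨hA.1.1.to_inf_left, le_inf hA.1.2 hB.1.2⟩, ?_⟩
        rw [mem_normalizer_of_conj_smul_eq, smul_inf,
          mem_normalizer_of_conj_smul_eq.mp hA.2, mem_normalizer_of_conj_smul_eq.mp hB.2]
      exact (hAmin hAB inf_le_left).trans inf_le_right
    · rw [Finset.filter_eq_empty_iff.mpr, eulerChar_empty]
      intro R hR hgR
      simp only [hF, pSubs, Finset.mem_filter, Finset.mem_univ, true_and, le_top] at hR
      exact hg ((isSubnormal_sup_zpowers_iff hH g).mpr ⟨R, hR.2, hR.1, hgR⟩)
  have h := sum_eulerChar_upset (⊤ : Subgroup G) F (Finset.filter_subset _ _) hFup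
  simp only [hchi, mem_top, Finset.filter_true, Finset.sum_boole] at h
  rw [← Fintype.card_subtype, ← Nat.card_eq_fintype_card] at h
  rw [Finset.sum_congr rfl (fun R hR => localWeight_eq (p := p) R ⊤ (Finset.mem_filter.mp hR).1),
    ← Finset.sum_filter] at h
  have h2 : ∑ R ∈ F with above p ⊤ R 1 = ∅, (Nat.card ↥(⊤ ⊓ normalizer (R : Set G)) : ℤ) =
      ∑ Q ∈ (Finset.univ : Finset (Sylow p G)).filter (fun Q : Sylow p G => H ≤ (Q : Subgroup G)), (Nat.card ↥(normalizer ((Q : Subgroup G) : Set G)) : ℤ) := by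
    symm
    refine Finset.sum_bij (fun Q _ => ((Q : Sylow p G) : Subgroup G)) ?_ ?_ ?_ ?_
    · intro Q hQ
      simp only [hF, pSubs, Finset.mem_filter, Finset.mem_univ, true_and, le_top, above_eq_empty_iff] at hQ ⊢
      exact ⟨⟨Q.isPGroup', hQ⟩, fun R _ hR hle => Q.is_maximal' hR hle⟩
    · intro Q _ Q' _ h
      exact Sylow.ext h
    · intro R hR
      simp only [hF, pSubs, Finset.mem_filter, Finset.mem_univ, true_and, le_top, above_eq_empty_iff] at hR ⊢
      obtain ⟨Q, hQ⟩ := hR.1.1.exists_le_sylow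
      have e := hR.2 _ trivial Q.isPGroup' hQ
      exact ⟨Q, by rw [e]; exact hR.1.2, e⟩
    · intro Q _
      rw [top_inf_eq]
  rw [h2] at h
  have hfib : ∀ Q : Sylow p G, ((Finset.univ.filter fun x : G => x • P = Q).card : ℤ) =
      Nat.card ↥(normalizer ((Q : Subgroup G) : Set G)) := by
    intro Q
    obtain ⟨a, ha⟩ := MulAction.exists_smul_eq G P Q
    rw [Nat.card_eq_fintype_card, Fintype.card_subtype]
    congr 1
    refine Finset.card_bij (fun x _ => x * a⁻¹) ?_ ?_ ?_
    · intro x hx
      simp only [Finset.mem_filter, Finset.mem_univ, true_and] at hx ⊢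
      refine Sylow.smul_eq_iff_mem_normalizer.mp ?_
      rw [mul_smul, ← ha, inv_smul_smul, ha]
      exact hx
    · intro x _ y _ h
      simpa using h
    · intro n hn
      simp only [Finset.mem_filter, Finset.mem_univ, true_and] at hn
      refine ⟨n * a, ?_, by simp⟩
      simp only [Finset.mem_filter, Finset.mem_univ, true_and]
      rw [mul_smul, ha]
      exact Sylow.smul_eq_iff_mem_normalizer.mpr hn
  have h3 : (Nat.card {x : G // H ≤ ((x • P : Sylow p G) : Subgroup G)} : ℤ) =
      ∑ Q ∈ (Finset.univ : Finset (Sylow p G)).filter (fun Q : Sylow p G => H ≤ (Q : Subgroup G)), (Nat.card ↥(normalizer ((Q : Subgroup G) : Set G)) : ℤ) := by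
    rw [Nat.card_eq_fintype_card, Fintype.card_subtype, ← Finset.sum_congr rfl (fun Q _ => hfib Q),
      ← Nat.cast_sum]
    congr 1
    rw [Finset.card_eq_sum_card_fiberwise (f := fun x : G => x • P)
      (t := (Finset.univ : Finset (Sylow p G)).filter fun Q : Sylow p G => H ≤ (Q : Subgroup G)) (fun x hx => by simpa using hx)]
    refine Finset.sum_congr rfl fun Q hQ => congrArg Finset.card ?_
    ext x
    simp only [Finset.mem_filter, Finset.mem_univ, true_and] at hQ ⊢
    exact ⟨fun h => h.2, fun h => ⟨h ▸ hQ, h⟩⟩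
  exact_mod_cast h.trans h3.symm

/-- Counting the elements mapped into `T` by a map whose fibres are the left cosets of `S`. -/
theorem card_preimage_eq_mul {α : Type*} (f : G → α) (S : Subgroup G)
    (hf : ∀ a b, f a = f b ↔ a⁻¹ * b ∈ S) (T : Set α) (hT : ∀ t ∈ T, ∃ g, f g = t) :
    Nat.card {g : G // f g ∈ T} = Nat.card T * Nat.card S := by
  choose sec hsec using hT
  rw [← Nat.card_prod]
  refine Nat.card_congr
    { toFun := fun g => (⟨f g.1, g.2⟩, ⟨(sec (f g.1) g.2)⁻¹ * g.1, (hf _ _).mp (hsec _ g.2)⟩)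
      invFun := fun ts => ⟨sec ts.1.1 ts.1.2 * ts.2.1, by
        have : f (sec ts.1.1 ts.1.2) = f (sec ts.1.1 ts.1.2 * ts.2.1) := (hf _ _).mpr (by simp)
        rw [← this, hsec]; exact ts.1.2⟩
      left_inv := fun g => by simp
      right_inv := ?_ }
  rintro ⟨⟨t, ht⟩, ⟨s, hs⟩⟩
  have e : f (sec t ht * s) = t := by
    rw [← (hf (sec t ht) (sec t ht * s)).mpr (by simpa using hs)]; exact hsec t ht
  refine Prod.ext (Subtype.ext e) (Subtype.ext ?_)
  show (sec (f (sec t ht * s)) _)⁻¹ * (sec t ht * s) = s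
  simp only [e, inv_mul_cancel_left]

end CfsgLib.FGStruct.Subnormalizer
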