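import Cfsg.Agent.Lib.Frobenius.Theorem
import Cfsg.Prelude.Def_OddOrderLocal
import Mathlib.GroupTheory.SchurZassenhaus
import Mathlib.GroupTheory.Nilpotent

/-!
Trivial-intersection Hall subgroups of a normalizer: Hall property in the whole group and the
normal complement theorem.
-/

set_option autoImplicit false
set_option linter.style.haveILetI false
set_option linter.unusedSectionVars false

open scoped Pointwise ComplexConjugate
open CfsgLib.Frobenius (mem_conjSMul_iff)

namespace CfsgLib.TIHall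

universe u

variable {G : Type u} [Group G] {H : Subgroup G}

theorem mem_normalizer_of_conj (hTI : Cfsg.IsTISubset (H : Set G)) {x g : G} (hx : x ∈ H)
    (h1 : x ≠ 1) (hg : g * x * g⁻¹ ∈ H) : g ∈ Subgroup.normalizer (H : Set G) :=
  by_contra fun h => h1 (hTI g h x hx hg)

theorem centralizer_le_normalizer (hTI : Cfsg.IsTISubset (H : Set G)) {x g : G} (hx : x ∈ H)
    (h1 : x ≠ 1) (hg : g * x = x * g) : g ∈ Subgroup.normalizer (H : Set G) :=
  mem_normalizer_of_conj hTI hx h1 (by rwa [hg, mul_inv_cancel_right])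

variable [Finite G]

/-- A TI subgroup which is a Hall subgroup of its normalizer is a Hall subgroup of the group. -/
theorem coprime_index (hTI : Cfsg.IsTISubset (H : Set G))
    (hHall : (Nat.card H).Coprime (H.subgroupOf (Subgroup.normalizer (H : Set G))).index) :
    (Nat.card H).Coprime H.index := by
  set NH := Subgroup.normalizer (H : Set G) with hNH
  refine Nat.coprime_of_dvd fun p hp hpH hpi => ?_
  haveI : Fact p.Prime := ⟨hp⟩
  let P : Sylow p H := default
  set P' := (P : Subgroup H).map H.subtype with hP'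
  have hP'ne : P' ≠ ⊥ := by
    rw [hP', Ne, Subgroup.map_eq_bot_iff_of_injective _ H.subtype_injective]
    exact P.ne_bot_of_dvd_card hpH
  have hN : Subgroup.normalizer (P' : Set G) ≤ NH := by
    intro g hg
    obtain ⟨x, hx, hx1⟩ := (Subgroup.bot_or_exists_ne_one P').resolve_left hP'ne
    exact mem_normalizer_of_conj hTI (Subgroup.map_subtype_le _ hx) hx1
      (Subgroup.map_subtype_le _ ((Subgroup.mem_normalizer_iff.1 hg x).1 hx))
  obtain ⟨n, hn⟩ := IsPGroup.iff_card.1 (P.isPGroup'.map H.subtype)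
  have hdvd : p ^ (n + 1) ∣ Nat.card G := by
    rw [← H.card_mul_index, pow_succ]
    refine mul_dvd_mul ?_ hpi
    rw [← hn]
    exact Subgroup.card_dvd_of_le (Subgroup.map_subtype_le _)
  have h1 : p ^ (n + 1) ∣ Nat.card NH :=
    (Sylow.prime_pow_dvd_card_normalizer hdvd hn).trans (Subgroup.card_dvd_of_le hN)
  rw [← (H.subgroupOf NH).card_mul_index,
    Nat.card_congr (Subgroup.subgroupOfEquivOfLe (H := H) Subgroup.le_normalizer).toEquiv] at h1
  have h2 : p ^ (n + 1) ∣ Nat.card P := P.pow_dvd_card_of_pow_dvd_card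
    (((hHall.coprime_dvd_left hpH).pow_left _).dvd_of_dvd_mul_right h1)
  have h3 : Nat.card P = p ^ n :=
    (Subgroup.card_map_of_injective (K := (P : Subgroup H)) H.subtype_injective).symm.trans hn
  rw [h3, Nat.pow_dvd_pow_iff_le_right hp.one_lt] at h2
  omega

section Complement

variable {K : Subgroup (Subgroup.normalizer (H : Set G))}

/-- With a normal complement `K` in the normalizer, the `|K|`-th power of an element outside `K`
is a nontrivial element of `H`. -/
theorem pow_card_mem
    (hHall : (Nat.card H).Coprime (H.subgroupOf (Subgroup.normalizer (H : Set G))).index)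
    (hKn : K.Normal) (hc : K.IsComplement' (H.subgroupOf (Subgroup.normalizer (H : Set G))))
    {x : Subgroup.normalizer (H : Set G)} (hx : x ∉ K) :
    ((x : G) ^ Nat.card K) ∈ H ∧ ((x : G) ^ Nat.card K) ≠ 1 := by
  set H' := H.subgroupOf (Subgroup.normalizer (H : Set G)) with hH'
  haveI : K.Normal := hKn
  haveI : H'.Normal := Subgroup.normal_in_normalizer
  obtain ⟨⟨k, h⟩, rfl⟩ := hc.2 x
  simp only at hx ⊢
  have hcomm : Commute (k : (Subgroup.normalizer (H : Set G))) h :=
    Subgroup.commute_of_normal_of_disjoint K H' hKn inferInstance hc.disjoint _ _ k.2 h.2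
  have hk : (k : (Subgroup.normalizer (H : Set G))) ^ Nat.card K = 1 := congrArg Subtype.val (pow_card_eq_one' (x := k))
  have he : ((k : (Subgroup.normalizer (H : Set G))) * (h : (Subgroup.normalizer (H : Set G)))) ^ Nat.card K = (h : (Subgroup.normalizer (H : Set G))) ^ Nat.card K := by
    rw [hcomm.mul_pow, hk, one_mul]
  rw [← Subgroup.coe_pow, he, Subgroup.coe_pow]
  refine ⟨H.pow_mem h.2 _, fun e => hx ?_⟩
  have hcop : (Nat.card H).Coprime (Nat.card K) := by rwa [← hc.index_eq_card]
  have h1 : orderOf ((h : (Subgroup.normalizer (H : Set G))) : G) = 1 := Nat.eq_one_of_dvd_coprimes hcop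
    (Subgroup.orderOf_dvd_natCard H h.2) (orderOf_dvd_of_pow_eq_one e)
  have h2 : (h : (Subgroup.normalizer (H : Set G))) = 1 := Subtype.ext (orderOf_eq_one_iff.1 h1)
  rw [h2, mul_one]
  exact k.2

/-- An element outside `K` is conjugated into the normalizer only by the normalizer. -/
theorem mem_normalizer_of_conj_mem (hTI : Cfsg.IsTISubset (H : Set G))
    (hHall : (Nat.card H).Coprime (H.subgroupOf (Subgroup.normalizer (H : Set G))).index)
    (hKn : K.Normal) (hc : K.IsComplement' (H.subgroupOf (Subgroup.normalizer (H : Set G))))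
    {x y : Subgroup.normalizer (H : Set G)} (hx : x ∉ K) (g : G) (hg : g * x * g⁻¹ = y) :
    g ∈ Subgroup.normalizer (H : Set G) := by
  obtain ⟨h1, h2⟩ := pow_card_mem hHall hKn hc hx
  refine mem_normalizer_of_conj hTI h1 h2 ?_
  have hy : y ∉ K := fun hy => h2 ?_
  · rw [← conj_pow, hg]
    exact (pow_card_mem hHall hKn hc hy).1
  · have h0 : y ^ Nat.card K = 1 :=
      congrArg Subtype.val (pow_card_eq_one' (x := (⟨y, hy⟩ : K)))
    have : (y : G) ^ Nat.card K = 1 := by rw [← Subgroup.coe_pow, h0, Subgroup.coe_one]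
    rwa [← hg, conj_pow, conj_eq_one_iff] at this

/-- Inducing a class function of the normalizer vanishing on `K` does not change its values. -/
theorem indFun_coe_eq [Fintype G] (hTI : Cfsg.IsTISubset (H : Set G))
    (hHall : (Nat.card H).Coprime (H.subgroupOf (Subgroup.normalizer (H : Set G))).index)
    (hKn : K.Normal) (hc : K.IsComplement' (H.subgroupOf (Subgroup.normalizer (H : Set G))))
    {φ : Subgroup.normalizer (H : Set G) → ℂ}
    (hφ : Cfsg.IsClassFunction (Subgroup.normalizer (H : Set G)) φ)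
    (h0 : ∀ x ∈ K, φ x = 0) (x : Subgroup.normalizer (H : Set G)) :
    Cfsg.indFun (Subgroup.normalizer (H : Set G)) φ x = φ x := by
  classical
  rw [CfsgLib.Char.indFun_apply]
  have hterm : ∀ t : G, Cfsg.extendByZero (Subgroup.normalizer (H : Set G)) φ (t⁻¹ * x * t) = if t ∈ (Subgroup.normalizer (H : Set G)) then φ x else 0 := by
    intro t
    split_ifs with ht
    · have h := CfsgLib.Char.extendByZero_conj (Subgroup.normalizer (H : Set G)) φ hφ (⟨t, ht⟩⁻¹) (x : G)
      simp only [Subgroup.coe_inv, inv_inv] at h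
      rw [h, CfsgLib.Char.extendByZero_coe]
    · by_cases hm : t⁻¹ * x * t ∈ (Subgroup.normalizer (H : Set G))
      · rw [CfsgLib.Char.extendByZero_apply_mem (Subgroup.normalizer (H : Set G)) φ hm]
        refine h0 _ (by_contra fun hy => ht ?_)
        exact mem_normalizer_of_conj_mem hTI hHall hKn hc hy t (y := x) (by simp [mul_assoc])
      · exact CfsgLib.Char.extendByZero_of_notMem (Subgroup.normalizer (H : Set G)) φ hm
  simp only [hterm]
  rw [← Finset.sum_filter, Finset.sum_const, nsmul_eq_mul, ← Fintype.card_subtype,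
    ← Nat.card_eq_fintype_card]
  exact inv_mul_cancel_left₀ (Nat.cast_ne_zero.2 (Nat.card_pos (α := (Subgroup.normalizer (H : Set G)))).ne') _

/-- Each nontrivial element of `H` is moved by a representation of `G` killing the elements which
have no conjugate in `N_G(H) ∖ K`. -/
theorem exists_extension (hTI : Cfsg.IsTISubset (H : Set G))
    (hHall : (Nat.card H).Coprime (H.subgroupOf (Subgroup.normalizer (H : Set G))).index)
    (hKn : K.Normal) (hc : K.IsComplement' (H.subgroupOf (Subgroup.normalizer (H : Set G))))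
    (h : G) (hh : h ∈ H) (h1 : h ≠ 1) :
    ∃ (n : ℕ) (ρ : Representation ℂ G (Fin n → ℂ)),
      (∀ x : G, (∀ (g : G) (y : Subgroup.normalizer (H : Set G)), g * x * g⁻¹ = y → y ∈ K) →
        ρ x = 1) ∧ ρ h ≠ 1 := by
  classical
  haveI : Fintype G := Fintype.ofFinite G
  haveI : Fintype (Subgroup.normalizer (H : Set G)) := Fintype.ofFinite (Subgroup.normalizer (H : Set G))
  haveI : K.Normal := hKn
  let hN : (Subgroup.normalizer (H : Set G)) := ⟨h, Subgroup.le_normalizer hh⟩
  have hhK : QuotientGroup.mk' K hN ≠ 1 := by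
    rw [Ne, QuotientGroup.mk'_apply, QuotientGroup.eq_one_iff]
    intro hk
    have : hN = 1 := Subgroup.disjoint_def.1 hc.disjoint hk (by simpa [Subgroup.mem_subgroupOf] using hh)
    exact h1 (congrArg Subtype.val this)
  obtain ⟨d, σ₀, hσ₀, hσh⟩ := CfsgLib.CharKernel.exists_irreducible_apply_ne_one _ hhK
  let σ : Representation ℂ (Subgroup.normalizer (H : Set G)) (Fin d → ℂ) := σ₀.comp (QuotientGroup.mk' K)
  have hnt : Nontrivial (Fin d → ℂ) := CfsgLib.CharKernel.nontrivial_of_irreducible σ₀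
  have hσ : σ.IsIrreducible := CfsgLib.CharKernel.isIrreducible_of_forall σ fun W hW =>
    CfsgLib.CharKernel.eq_bot_or_eq_top σ₀ W fun q v hv => by
      obtain ⟨x, rfl⟩ := QuotientGroup.mk'_surjective K q
      exact hW x v hv
  have hσK : ∀ k ∈ K, σ k = 1 := fun k hk => by
    simp [σ, (QuotientGroup.eq_one_iff k).2 hk]
  have hσh' : σ hN ≠ 1 := hσh
  set χ := σ.character with hχdef
  have hχ : Cfsg.IsIrrCharacter (Subgroup.normalizer (H : Set G)) χ := ⟨d, σ, hσ, rfl⟩
  have hχone : χ 1 = (d : ℂ) := by simp [hχdef]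
  have hd : 0 < d := by
    simpa using CfsgLib.Char.finrank_pos_of_isIrreducible σ
  have hχK : ∀ k ∈ K, χ k = (d : ℂ) := fun k hk => by
    simpa [hχdef] using (CfsgLib.Char.character_eq_degree_iff σ k).2 (hσK k hk)
  have hχne : χ hN ≠ (d : ℂ) := fun e => hσh' (by
    rw [show (1 : Module.End ℂ (Fin d → ℂ)) = LinearMap.id from rfl]
    exact (CfsgLib.Char.character_eq_degree_iff σ hN).1 (by simpa [hχdef] using e))
  have htriv : Cfsg.IsIrrCharacter (Subgroup.normalizer (H : Set G)) (fun _ => (1 : ℂ)) := by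
    simpa using CfsgLib.Char.isIrrCharacter_monoidHom (1 : (Subgroup.normalizer (H : Set G)) →* ℂˣ)
  have hχtriv : χ ≠ fun _ => (1 : ℂ) := by
    intro e
    have e1 := congrFun e 1
    rw [hχone] at e1
    exact hχne (by rw [congrFun e hN, e1])
  have i0 : Cfsg.classInner χ χ = 1 := CfsgLib.Char.classInner_irr_self hχ
  have i1 : Cfsg.classInner χ (fun _ => (1 : ℂ)) = 0 :=
    CfsgLib.Char.classInner_irr_of_ne hχ htriv hχtriv
  have i2 : Cfsg.classInner (fun _ : (Subgroup.normalizer (H : Set G)) => (1 : ℂ)) χ = 0 :=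
    CfsgLib.Char.classInner_irr_of_ne htriv hχ hχtriv.symm
  have i3 : Cfsg.classInner (fun _ : (Subgroup.normalizer (H : Set G)) => (1 : ℂ)) (fun _ => (1 : ℂ)) = 1 :=
    CfsgLib.Char.classInner_irr_self htriv
  set φ : (Subgroup.normalizer (H : Set G)) → ℂ := χ - (d : ℂ) • (fun _ => (1 : ℂ)) with hφdef
  have hφc : Cfsg.IsClassFunction (Subgroup.normalizer (H : Set G)) φ := fun a b => by
    simp [hφdef, CfsgLib.Char.IsIrrCharacter.isClassFunction hχ a b]
  have hφK : ∀ k ∈ K, φ k = 0 := fun k hk => by simp [hφdef, hχK k hk]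
  have hφgen : Cfsg.IsGeneralizedCharacter (Subgroup.normalizer (H : Set G)) φ := by
    refine ⟨χ, (d : ℂ) • (fun _ => (1 : ℂ)), CfsgLib.Char.IsIrrCharacter.isCharacter hχ, ?_, rfl⟩
    have := CfsgLib.Char.IsCharacter.nsmul (CfsgLib.Char.IsIrrCharacter.isCharacter htriv) d
    rwa [← Nat.cast_smul_eq_nsmul ℂ] at this
  set θ : G → ℂ := Cfsg.indFun (Subgroup.normalizer (H : Set G)) φ + (d : ℂ) • (fun _ => (1 : ℂ)) with hθdef
  have hθgen : Cfsg.IsGeneralizedCharacter G θ := by
    obtain ⟨a, b, ha, hb, hab⟩ := CfsgLib.Char.IsGeneralizedCharacter.indFun (Subgroup.normalizer (H : Set G)) hφgen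
    have := CfsgLib.Char.IsCharacter.nsmul (CfsgLib.Char.isCharacter_one (G := G)) d
    rw [← Nat.cast_smul_eq_nsmul ℂ] at this
    refine ⟨a + (d : ℂ) • (1 : G → ℂ), b, CfsgLib.Char.IsCharacter.add ha this, hb, ?_⟩
    rw [hθdef, hab]
    ext g
    simp
    ring
  have hres : (fun k : (Subgroup.normalizer (H : Set G)) => Cfsg.indFun (Subgroup.normalizer (H : Set G)) φ k) = φ :=
    funext (indFun_coe_eq hTI hHall hKn hc hφc hφK)
  have j0 : Cfsg.classInner (Cfsg.indFun (Subgroup.normalizer (H : Set G)) φ) (Cfsg.indFun (Subgroup.normalizer (H : Set G)) φ) = Cfsg.classInner φ φ := by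
    rw [CfsgLib.Char.classInner_indFun (Subgroup.normalizer (H : Set G)) φ _ (CfsgLib.Char.isClassFunction_indFun (Subgroup.normalizer (H : Set G)) φ), hres]
  have j1 : Cfsg.classInner (Cfsg.indFun (Subgroup.normalizer (H : Set G)) φ) (fun _ : G => (1 : ℂ)) =
      Cfsg.classInner φ (fun _ : (Subgroup.normalizer (H : Set G)) => (1 : ℂ)) := by
    rw [CfsgLib.Char.classInner_indFun (Subgroup.normalizer (H : Set G)) φ _ (fun _ _ => rfl)]
  have j2 : Cfsg.classInner (fun _ : G => (1 : ℂ)) (Cfsg.indFun (Subgroup.normalizer (H : Set G)) φ) =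
      Cfsg.classInner (fun _ : (Subgroup.normalizer (H : Set G)) => (1 : ℂ)) φ := by
    rw [← CfsgLib.Char.classInner_conj_symm, j1, CfsgLib.Char.classInner_conj_symm]
  have j3 : Cfsg.classInner (fun _ : G => (1 : ℂ)) (fun _ => (1 : ℂ)) = 1 :=
    CfsgLib.Char.classInner_irr_self (by
      simpa using CfsgLib.Char.isIrrCharacter_monoidHom (1 : G →* ℂˣ))
  have hnorm : Cfsg.classInner θ θ = 1 := by
    simp only [hθdef, CfsgLib.Char.classInner_add_left, CfsgLib.Char.classInner_add_right,
      CfsgLib.Char.classInner_smul_left, CfsgLib.Char.classInner_smul_right]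
    rw [j0, j1, j2, j3]
    simp only [hφdef, CfsgLib.Char.classInner_sub_left, CfsgLib.Char.classInner_sub_right,
      CfsgLib.Char.classInner_smul_left, CfsgLib.Char.classInner_smul_right, i0, i1, i2, i3,
      map_natCast]
    ring
  have hθker : ∀ x : G, (∀ (g : G) (y : (Subgroup.normalizer (H : Set G))), g * x * g⁻¹ = y → y ∈ K) → θ x = (d : ℂ) := by
    intro x hx
    have : Cfsg.indFun (Subgroup.normalizer (H : Set G)) φ x = 0 := by
      rw [CfsgLib.Char.indFun_apply, Finset.sum_eq_zero, mul_zero]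
      intro t _
      by_cases hm : t⁻¹ * x * t ∈ (Subgroup.normalizer (H : Set G))
      · rw [CfsgLib.Char.extendByZero_apply_mem (Subgroup.normalizer (H : Set G)) φ hm]
        exact hφK _ (hx t⁻¹ _ (by simp))
      · exact CfsgLib.Char.extendByZero_of_notMem (Subgroup.normalizer (H : Set G)) φ hm
    simp [hθdef, this]
  have hθ1 : θ 1 = (d : ℂ) := hθker 1 fun g y hy => by
    have : y = 1 := Subtype.ext (by simpa using hy.symm)
    rw [this]
    exact K.one_mem
  obtain ⟨n, ρ, hρ⟩ := CfsgLib.Frobenius.isCharacter_of_norm_one hθgen hnorm hd hθ1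
  have hn : (n : ℂ) = d := by rw [← hθ1, ← hρ]; simp
  refine ⟨n, ρ, fun x hx => ?_, fun e => hχne ?_⟩
  · refine (CfsgLib.Char.character_eq_degree_iff ρ x).1 ?_
    rw [hρ, hθker x hx, ← hn]
    simp
  · have e1 : θ h = (d : ℂ) := by
      rw [← hρ, ← hn]
      simpa using (CfsgLib.Char.character_eq_degree_iff ρ h).2 e
    have e2 : Cfsg.indFun (Subgroup.normalizer (H : Set G)) φ h = φ hN := indFun_coe_eq hTI hHall hKn hc hφc hφK hN
    simp only [hθdef, Pi.add_apply, e2] at e1
    simpa [hφdef] using e1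

/-- A TI Hall subgroup of its normalizer with a normal complement there has one in the group. -/
theorem exists_normal_complement (hTI : Cfsg.IsTISubset (H : Set G))
    (hHall : (Nat.card H).Coprime (H.subgroupOf (Subgroup.normalizer (H : Set G))).index)
    (hKn : K.Normal) (hc : K.IsComplement' (H.subgroupOf (Subgroup.normalizer (H : Set G)))) :
    ∃ N : Subgroup G, N.Normal ∧ N.IsComplement' H := by
  classical
  choose n ρ hρk hρh using fun h : {h : H // h ≠ 1} =>
    exists_extension hTI hHall hKn hc (h.1 : G) h.1.2 (fun e => h.2 (Subtype.ext e))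
  let N : Subgroup G := ⨅ i, (ρ i).ker
  have hNn : N.Normal := Subgroup.normal_iInf_normal fun i => MonoidHom.normal_ker (ρ i)
  let S : Set G := {x | ∀ (g : G) (y : (Subgroup.normalizer (H : Set G))), g * x * g⁻¹ = y → y ∈ K}
  have hSN : S ⊆ (N : Set G) := fun x hx => Subgroup.mem_iInf.2 fun i => hρk i x hx
  have hinf : ∀ x ∈ N, x ∈ H → x = 1 := by
    intro x hx hxH
    by_contra hx1
    exact hρh ⟨⟨x, hxH⟩, fun e => hx1 (congrArg Subtype.val e)⟩ (Subgroup.mem_iInf.1 hx _)
  have hle : Nat.card N ≤ H.index := by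
    rw [Subgroup.index_eq_card]
    refine Nat.card_le_card_of_injective (fun x => QuotientGroup.mk (x : G)) fun x y e => ?_
    have := hinf _ (N.mul_mem (N.inv_mem x.2) y.2) (QuotientGroup.eq.1 e)
    exact Subtype.ext (inv_mul_eq_one.1 this)
  -- count the elements having a conjugate outside `K`
  let f : (G ⧸ (Subgroup.normalizer (H : Set G))) × ((K : Set (Subgroup.normalizer (H : Set G)))ᶜ : Set (Subgroup.normalizer (H : Set G))) → G := fun t => t.1.out * (t.2 : (Subgroup.normalizer (H : Set G))) * t.1.out⁻¹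
  have hcover : Sᶜ ⊆ Set.range f := by
    intro x hx
    simp only [S, Set.mem_compl_iff, Set.mem_ofPred_eq, not_forall] at hx
    obtain ⟨g, y, hy, hyK⟩ := hx
    obtain ⟨b, hb⟩ := QuotientGroup.mk_out_eq_mul (Subgroup.normalizer (H : Set G)) g⁻¹
    refine ⟨⟨QuotientGroup.mk g⁻¹, ⟨b⁻¹ * y * b, fun h => hyK ?_⟩⟩, ?_⟩
    · have := hKn.conj_mem _ h b
      simpa [mul_assoc] using this
    · simp only [f]
      rw [hb]
      push_cast
      rw [← hy]
      group
  have hcard : Sᶜ.ncard ≤ (Subgroup.normalizer (H : Set G)).index * (Nat.card (Subgroup.normalizer (H : Set G)) - Nat.card K) := by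
    refine (Set.ncard_le_ncard hcover).trans ?_
    rw [← Nat.card_coe_set_eq]
    refine (Finite.card_range_le f).trans (le_of_eq ?_)
    rw [Nat.card_prod, ← Subgroup.index_eq_card, Nat.card_coe_set_eq, Set.ncard_compl,
      ← Nat.card_coe_set_eq]
    rfl
  have hidx : H.index = (Subgroup.normalizer (H : Set G)).index * Nat.card K := by
    have hrel : H.relIndex (Subgroup.normalizer (H : Set G)) = Nat.card K := hc.index_eq_card
    rw [← Subgroup.relIndex_mul_index (Subgroup.le_normalizer (H := H)), hrel, mul_comm]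
  have hge : H.index ≤ Nat.card N := by
    have h1 : S.ncard ≤ Nat.card N := by
      rw [← SetLike.coe_sort_coe, Nat.card_coe_set_eq]
      exact Set.ncard_le_ncard hSN
    have h2 := Set.ncard_add_ncard_compl S
    have h3 : Nat.card (Subgroup.normalizer (H : Set G)) * (Subgroup.normalizer (H : Set G)).index = Nat.card G := (Subgroup.normalizer (H : Set G)).card_mul_index
    have h4 : Nat.card K ≤ Nat.card (Subgroup.normalizer (H : Set G)) := Subgroup.card_le_card_group K
    obtain ⟨c, hc'⟩ : ∃ c, Nat.card (Subgroup.normalizer (H : Set G)) = Nat.card K + c := ⟨_, (Nat.add_sub_cancel' h4).symm⟩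
    rw [hc', Nat.add_sub_cancel_left] at hcard
    rw [hc', Nat.add_mul, mul_comm c, mul_comm (Nat.card K), ← hidx] at h3
    omega
  refine ⟨N, hNn, Subgroup.isComplement'_of_card_mul_and_disjoint ?_
    (Subgroup.disjoint_def.2 fun {x} hx hxH => hinf x hx hxH)⟩
  rw [le_antisymm hle hge, H.index_mul_card]

end Complement

section Cover

/-- An element of the normalizer whose order divides `|H|` lies in `H`. -/
theorem mem_of_orderOf_dvd
    (hHall : (Nat.card H).Coprime (H.subgroupOf (Subgroup.normalizer (H : Set G))).index)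
    {x : G} (hx : x ∈ Subgroup.normalizer (H : Set G)) (hd : orderOf x ∣ Nat.card H) : x ∈ H := by
  haveI : (H.subgroupOf (Subgroup.normalizer (H : Set G))).Normal := Subgroup.normal_in_normalizer
  let x' : Subgroup.normalizer (H : Set G) := ⟨x, hx⟩
  have h1 : orderOf (QuotientGroup.mk' (H.subgroupOf (Subgroup.normalizer (H : Set G))) x') = 1 := by
    refine Nat.eq_one_of_dvd_coprimes hHall ?_ ?_
    · exact (orderOf_map_dvd _ _).trans ((Subgroup.orderOf_mk x hx).symm ▸ hd)
    · rw [Subgroup.index_eq_card]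
      exact orderOf_dvd_natCard _
  rw [orderOf_eq_one_iff, QuotientGroup.mk'_apply, QuotientGroup.eq_one_iff] at h1
  exact h1

/-- Two conjugates of a TI subgroup with a common nontrivial element are equal. -/
theorem conj_eq_of_common (hTI : Cfsg.IsTISubset (H : Set G)) {a b x : G}
    (ha : x ∈ MulAut.conj a • H) (hb : x ∈ MulAut.conj b • H) (h1 : x ≠ 1) :
    a⁻¹ * b ∈ Subgroup.normalizer (H : Set G) := by
  rw [mem_conjSMul_iff] at ha hb
  refine mem_normalizer_of_conj hTI hb (fun e => h1 ?_) ?_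
  · have := congrArg (fun t => b * t * b⁻¹) e
    simpa [mul_assoc] using this
  · simpa [mul_assoc] using ha

/-- A subgroup whose order divides that of `H` is contained in a conjugate of `H`. -/
theorem exists_le_conj_of_card_dvd (hTI : Cfsg.IsTISubset (H : Set G))
    (hHall : (Nat.card H).Coprime (H.subgroupOf (Subgroup.normalizer (H : Set G))).index)
    {C : Subgroup G} (hC : Nat.card C ∣ Nat.card H) : ∃ g : G, C ≤ MulAut.conj g • H := by
  have hidx := coprime_index hTI hHall
  -- every nontrivial element lies in a conjugate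
  have hcov : ∀ x ∈ C, x ≠ 1 → ∃ g : G, x ∈ MulAut.conj g • H := by
    intro x hx hx1
    have hxd : orderOf x ∣ Nat.card H := (Subgroup.orderOf_dvd_natCard C hx).trans hC
    obtain ⟨p, hp, hpx⟩ := Nat.exists_prime_and_dvd (n := orderOf x)
      (fun h => hx1 (orderOf_eq_one_iff.1 h))
    haveI : Fact p.Prime := ⟨hp⟩
    set y := x ^ (orderOf x / p) with hy
    have hord : orderOf y = p := by
      rw [hy, orderOf_pow_of_dvd (Nat.pos_iff_ne_zero.1 (Nat.div_pos
        (Nat.le_of_dvd (orderOf_pos x) hpx) hp.pos)) (Nat.div_dvd_of_dvd hpx),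
        Nat.div_div_self hpx (orderOf_pos x).ne']
    have hyp : IsPGroup p (Subgroup.zpowers y) :=
      IsPGroup.of_card (n := 1) (by rw [Nat.card_zpowers, hord, pow_one])
    obtain ⟨Q, hQ⟩ := hyp.exists_le_sylow
    let P : Sylow p H := default
    have hidx' : ¬ p ∣ ((P : Subgroup H).map H.subtype).index := by
      rw [Subgroup.index_map_subtype]
      intro h
      rcases hp.dvd_mul.1 h with h | h
      · exact P.not_dvd_index h
      · exact (hp.coprime_iff_not_dvd.1 (hidx.coprime_dvd_left (hpx.trans hxd))) h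
    let P' : Sylow p G := (P.isPGroup'.map H.subtype).toSylow hidx'
    obtain ⟨g, hg⟩ := MulAction.exists_smul_eq G P' Q
    have hQH : (Q : Subgroup G) ≤ MulAut.conj g • H := by
      rw [← hg, Sylow.coe_subgroup_smul]
      exact Subgroup.pointwise_smul_le_pointwise_smul_iff.2 (Subgroup.map_subtype_le _)
    have hyH : g⁻¹ * y * g ∈ H := mem_conjSMul_iff.1 (hQH (hQ (Subgroup.mem_zpowers y)))
    have hy1 : g⁻¹ * y * g ≠ 1 := fun h => by
      have : y = 1 := by simpa [mul_assoc] using congrArg (fun t => g * t * g⁻¹) h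
      rw [this, orderOf_one] at hord
      exact hp.one_lt.ne hord
    have hxy : x * y = y * x := (Commute.self_pow x _).eq
    have hconj : (g⁻¹ * x * g) * (g⁻¹ * y * g) = (g⁻¹ * y * g) * (g⁻¹ * x * g) := by
      calc (g⁻¹ * x * g) * (g⁻¹ * y * g) = g⁻¹ * (x * y) * g := by group
        _ = g⁻¹ * (y * x) * g := by rw [hxy]
        _ = _ := by group
    refine ⟨g, mem_conjSMul_iff.2 (mem_of_orderOf_dvd hHall
      (centralizer_le_normalizer hTI hyH hy1 hconj) ?_)⟩
    refine (orderOf_dvd_of_pow_eq_one ?_).trans hxd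
    rw [show g⁻¹ * x * g = g⁻¹ * x * (g⁻¹)⁻¹ by group, conj_pow, pow_orderOf_eq_one, mul_one,
      mul_inv_cancel]
  -- a conjugate not containing `C` cuts out a Frobenius complement
  have key : ∀ g x : G, x ∈ C → x ≠ 1 → x ∈ MulAut.conj g • H → ¬ C ≤ MulAut.conj g • H →
      Cfsg.IsFrobeniusComplement ((MulAut.conj g • H).subgroupOf C) := by
    intro g x hx hx1 hxg hle
    refine ⟨?_, fun h => hle (Subgroup.subgroupOf_eq_top.1 h), fun c hc => ?_⟩
    · rw [Ne, Subgroup.subgroupOf_eq_bot, Subgroup.disjoint_def]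
      exact fun h => hx1 (h hxg hx)
    · rw [eq_bot_iff]
      intro z hz
      rw [Subgroup.mem_inf, mem_conjSMul_iff, Subgroup.mem_subgroupOf, Subgroup.mem_subgroupOf] at hz
      rw [Subgroup.mem_bot]
      by_contra hz1
      refine hc (Subgroup.mem_subgroupOf.2 (mem_conjSMul_iff.2 ?_))
      have h2 : (z : G) ∈ MulAut.conj ((c : G) * g) • H := by
        have hz2 := mem_conjSMul_iff.1 hz.2
        rw [mem_conjSMul_iff]
        simpa [mul_assoc] using hz2
      have hN := conj_eq_of_common hTI hz.1 h2 (fun e => hz1 (Subtype.ext e))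
      refine mem_of_orderOf_dvd hHall (by simpa [mul_assoc] using hN) ?_
      refine (orderOf_dvd_of_pow_eq_one ?_).trans ((Subgroup.orderOf_dvd_natCard C c.2).trans hC)
      rw [show g⁻¹ * (c : G) * g = g⁻¹ * (c : G) * (g⁻¹)⁻¹ by group, conj_pow, pow_orderOf_eq_one,
        mul_one, mul_inv_cancel]
  by_contra hcon
  push Not at hcon
  obtain ⟨x, hx, hx1⟩ : ∃ x ∈ C, x ≠ 1 := by
    rcases C.bot_or_exists_ne_one with h | h
    · exact absurd (h.le.trans bot_le) (hcon 1)
    · exact h
  obtain ⟨a, ha⟩ := hcov x hx hx1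
  have hA := key a x hx hx1 ha (hcon a)
  set A := (MulAut.conj a • H).subgroupOf C with hAdef
  obtain ⟨y, hy, hy1⟩ : ∃ y : C, y ∈ Cfsg.frobeniusKernel A ∧ y ≠ 1 := by
    by_contra h
    push Not at h
    have hs : Cfsg.frobeniusKernel A = {1} :=
      Set.eq_singleton_iff_unique_mem.2 ⟨Or.inl rfl, h⟩
    have := CfsgLib.Frobenius.ncard_kernel hA
    rw [hs, Set.ncard_singleton] at this
    have := CfsgLib.Frobenius.index_ge_two hA
    omega
  obtain ⟨b, hb⟩ := hcov y y.2 (fun e => hy1 (Subtype.ext e))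
  have hB := key b y y.2 (fun e => hy1 (Subtype.ext e)) hb (hcon b)
  set B := (MulAut.conj b • H).subgroupOf C with hBdef
  have hdisj : Disjoint (Cfsg.frobeniusKernel A)ᶜ (Cfsg.frobeniusKernel B)ᶜ := by
    rw [Set.disjoint_left]
    intro z hzA hzB
    simp only [Cfsg.frobeniusKernel, Set.mem_compl_iff, Set.mem_ofPred_eq, not_or] at hzA hzB
    obtain ⟨hz1, hzA⟩ := hzA
    obtain ⟨-, hzB⟩ := hzB
    push Not at hzA hzB
    obtain ⟨c, hc⟩ := hzA
    obtain ⟨d, hd⟩ := hzB
    simp only [mem_conjSMul_iff, hAdef, hBdef, Subgroup.mem_subgroupOf, Subgroup.coe_mul,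
      Subgroup.coe_inv] at hc hd
    have hN : ((c : G) * a)⁻¹ * ((d : G) * b) ∈ Subgroup.normalizer (H : Set G) := by
      refine conj_eq_of_common hTI (x := z) ?_ ?_ (fun e => hz1 (Subtype.ext e)) <;>
        rw [mem_conjSMul_iff]
      · simpa [mul_assoc] using hc
      · simpa [mul_assoc] using hd
    refine hy1 (CfsgLib.Frobenius.eq_one_of_mem_kernel_of_mem (g := d⁻¹ * c) hy ?_)
    rw [mem_conjSMul_iff, hAdef, Subgroup.mem_subgroupOf, mem_conjSMul_iff]
    have h3 := (Subgroup.mem_normalizer_iff.1 hN _).1 (mem_conjSMul_iff.1 hb)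
    simpa [mul_assoc] using h3
  have hun : (Cfsg.frobeniusKernel A)ᶜ ∪ (Cfsg.frobeniusKernel B)ᶜ ⊆ {(1 : C)}ᶜ := by
    rintro z (hz | hz) (rfl : z = 1) <;> exact hz (Or.inl rfl)
  have h3 := Set.ncard_le_ncard hun
  rw [Set.ncard_union_eq hdisj, Set.ncard_compl {(1 : C)}, Set.ncard_singleton] at h3
  have hiA := CfsgLib.Frobenius.ncard_kernel_compl hA
  have hiB := CfsgLib.Frobenius.ncard_kernel_compl hB
  have h4 : 2 * A.index ≤ Nat.card C := by
    rw [← A.card_mul_index]; exact Nat.mul_le_mul_right _ (CfsgLib.Frobenius.card_ge_two hA)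
  have h5 : 2 * B.index ≤ Nat.card C := by
    rw [← B.card_mul_index]; exact Nat.mul_le_mul_right _ (CfsgLib.Frobenius.card_ge_two hB)
  have h6 : 0 < Nat.card C := Nat.card_pos
  omega

/-- For each prime the normal complement of a TI Hall subgroup has an invariant Sylow subgroup. -/
theorem exists_invariant_sylow (hTI : Cfsg.IsTISubset (H : Set G))
    (hHall : (Nat.card H).Coprime (H.subgroupOf (Subgroup.normalizer (H : Set G))).index)
    {N : Subgroup G} (hN : N.Normal) (hc : N.IsComplement' H) (p : ℕ) [Fact p.Prime] :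
    ∃ R : Sylow p N, H ≤ Subgroup.normalizer (((R : Subgroup N).map N.subtype : Subgroup G) : Set G) := by
  have hNH : (Nat.card N).Coprime (Nat.card H) := by
    have := (coprime_index hTI hHall).symm
    rwa [hc.index_eq_card] at this
  let R₀ : Sylow p N := default
  set R' := (R₀ : Subgroup N).map N.subtype with hR'
  have htop : Subgroup.normalizer (R' : Set G) ⊔ N = ⊤ := Sylow.normalizer_sup_eq_top R₀
  set M := Subgroup.normalizer (R' : Set G) with hM
  haveI := hN
  have hMidx : (N.subgroupOf M).index = Nat.card H := by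
    rw [← hc.symm.index_eq_card]
    show N.relIndex M = N.index
    rw [← Subgroup.relIndex_top_right, ← htop, Subgroup.relIndex_sup_right]
  have hcop : (Nat.card (N.subgroupOf M)).Coprime (N.subgroupOf M).index := by
    rw [hMidx]
    refine hNH.coprime_dvd_left ?_
    rw [← Subgroup.card_map_of_injective M.subtype_injective, Subgroup.subgroupOf_map_subtype]
    exact Subgroup.card_dvd_of_le inf_le_left
  obtain ⟨C, hC⟩ := Subgroup.exists_right_complement'_of_coprime hcop
  have hCcard : Nat.card (C.map M.subtype) = Nat.card H := by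
    rw [Subgroup.card_map_of_injective M.subtype_injective, ← hMidx, hC.symm.index_eq_card]
  obtain ⟨g, hg⟩ := exists_le_conj_of_card_dvd hTI hHall (C := C.map M.subtype) (hCcard ▸ dvd_rfl)
  have heq : C.map M.subtype = MulAut.conj g • H := Subgroup.eq_of_le_of_card_ge hg
    (by rw [CfsgLib.Frobenius.card_conjSMul, hCcard])
  refine ⟨(MulAut.conjNormal g⁻¹ : MulAut N) • R₀, fun h hh => ?_⟩
  have hR : ((((MulAut.conjNormal g⁻¹ : MulAut N) • R₀ : Sylow p N) : Subgroup N)).map N.subtype =
      MulAut.conj g⁻¹ • R' := by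
    ext x
    simp only [Subgroup.mem_map, hR', mem_conjSMul_iff, inv_inv]
    constructor
    · rintro ⟨y, hy, rfl⟩
      rw [Sylow.pointwise_smul_def, Subgroup.mem_pointwise_smul_iff_inv_smul_mem] at hy
      exact ⟨_, hy, by simp⟩
    · rintro ⟨y, hy, hyx⟩
      refine ⟨MulAut.conjNormal g⁻¹ y, ?_, ?_⟩
      · rw [Sylow.pointwise_smul_def]
        exact Subgroup.smul_mem_pointwise_smul y (MulAut.conjNormal g⁻¹) _ hy
      · simp only [Subgroup.coe_subtype] at hyx
        simp [MulAut.conjNormal_apply, hyx, mul_assoc]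
  rw [hR]
  have hgh : g * h * g⁻¹ ∈ C.map M.subtype := by
    rw [heq, mem_conjSMul_iff]
    simpa [mul_assoc] using hh
  have hgM : g * h * g⁻¹ ∈ M := Subgroup.map_subtype_le _ hgh
  rw [Subgroup.mem_normalizer_iff]
  intro x
  simp only [mem_conjSMul_iff, inv_inv]
  have := Subgroup.mem_normalizer_iff.1 hgM (g * x * g⁻¹)
  simpa [mul_assoc] using this

/-- A TI Hall subgroup with a normal complement, not normal in the group, is isomorphic to a
Frobenius complement. -/
theorem exists_frobenius_complement (hTI : Cfsg.IsTISubset (H : Set G))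
    (hHall : (Nat.card H).Coprime (H.subgroupOf (Subgroup.normalizer (H : Set G))).index)
    (hnn : ¬ H.Normal) {N : Subgroup G} (hN : N.Normal) (hc : N.IsComplement' H) :
    ∃ (F : Type u) (_ : Group F) (_ : Finite F) (C : Subgroup F),
      Cfsg.IsFrobeniusComplement C ∧ Nonempty (H ≃* C) := by
  haveI := hN
  have hH1 : H ≠ ⊥ := fun h => hnn (h ▸ inferInstance)
  have hNH : (Nat.card N).Coprime (Nat.card H) := by
    have := (coprime_index hTI hHall).symm
    rwa [hc.index_eq_card] at this
  -- `N ∩ N_G(H)` centralises `H`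
  have hcent : ∀ a ∈ N, a ∈ Subgroup.normalizer (H : Set G) → ∀ h ∈ H, a * h = h * a := by
    intro a haN haH h hh
    have h1 : a * h * a⁻¹ * h⁻¹ ∈ N := by
      have := N.mul_mem haN (hN.conj_mem _ (N.inv_mem haN) h)
      simpa [mul_assoc] using this
    have h2 : a * h * a⁻¹ * h⁻¹ ∈ H :=
      H.mul_mem ((Subgroup.mem_normalizer_iff.1 haH h).1 hh) (H.inv_mem hh)
    have h3 := Subgroup.disjoint_def.1 hc.disjoint h1 h2
    rw [mul_inv_eq_one, mul_inv_eq_iff_eq_mul] at h3
    exact h3
  -- an invariant Sylow subgroup outside the normalizer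
  obtain ⟨p, hp, R, hRp, hRN, hRH, hRle⟩ : ∃ p : ℕ, p.Prime ∧ ∃ R : Subgroup G, IsPGroup p R ∧
      R ≤ N ∧ H ≤ Subgroup.normalizer (R : Set G) ∧ ¬ R ≤ Subgroup.normalizer (H : Set G) := by
    by_contra hcon
    push Not at hcon
    have hdvd : Nat.card N ∣ Nat.card ↥(N ⊓ Subgroup.normalizer (H : Set G)) := by
      rw [← Nat.factorization_le_iff_dvd (Nat.card_pos (α := N)).ne' Nat.card_pos.ne']
      intro q
      by_cases hq : q.Prime
      swap
      · simp [Nat.factorization_eq_zero_of_not_prime _ hq]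
      haveI : Fact q.Prime := ⟨hq⟩
      obtain ⟨R, hR⟩ := exists_invariant_sylow hTI hHall hN hc q
      have h1 : q ^ (Nat.card N).factorization q ∣ Nat.card ↥(N ⊓ Subgroup.normalizer (H : Set G)) := by
        rw [← Sylow.card_eq_multiplicity R,
          ← Subgroup.card_map_of_injective (K := (R : Subgroup N)) N.subtype_injective]
        exact Subgroup.card_dvd_of_le (le_inf (Subgroup.map_subtype_le _)
          (hcon q hq _ (R.isPGroup'.map _) (Subgroup.map_subtype_le _) hR))
      exact (hq.pow_dvd_iff_le_factorization Nat.card_pos.ne').1 h1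
    have hle : N ≤ Subgroup.normalizer (H : Set G) := by
      have h := Subgroup.eq_of_le_of_card_ge
        (inf_le_left : N ⊓ Subgroup.normalizer (H : Set G) ≤ N) (Nat.le_of_dvd Nat.card_pos hdvd)
      exact h.ge.trans inf_le_right
    refine hnn (Subgroup.normalizer_eq_top_iff.1 (top_le_iff.1 ?_))
    rw [← hc.sup_eq_top]
    exact sup_le hle Subgroup.le_normalizer
  haveI : Fact p.Prime := ⟨hp⟩
  set A := R ⊓ Subgroup.normalizer (H : Set G) with hA
  have hAlt : A < R := lt_of_le_of_ne inf_le_left fun e => hRle (e.ge.trans inf_le_right)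
  set B := R ⊓ Subgroup.normalizer (A : Set G) with hB
  have hBlt : ¬ B ≤ A := by
    haveI : Group.IsNilpotent R := hRp.isNilpotent
    have hA' : A.subgroupOf R < ⊤ := by
      rw [lt_top_iff_ne_top, Ne, Subgroup.subgroupOf_eq_top]
      exact hAlt.not_ge
    have h1 := Group.normalizerCondition_of_isNilpotent (G := R) _ hA'
    intro hBA
    refine h1.not_ge fun r hr => Subgroup.mem_subgroupOf.2 (hBA ⟨r.2, ?_⟩)
    show (r : G) ∈ Subgroup.normalizer (A : Set G)
    rw [Subgroup.mem_normalizer_iff]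
    intro a
    have hr' := Subgroup.mem_normalizer_iff.1 hr
    constructor
    · intro ha
      simpa [Subgroup.mem_subgroupOf] using (hr' ⟨a, inf_le_left (b := Subgroup.normalizer (H : Set G)) ha⟩).1
        (by simpa [Subgroup.mem_subgroupOf] using ha)
    · intro ha
      have haR : a ∈ R := by
        have := R.mul_mem (R.mul_mem (R.inv_mem r.2) ha.1) r.2
        simpa [mul_assoc] using this
      have := (hr' ⟨a, haR⟩).2 (by simpa [Subgroup.mem_subgroupOf] using ha)
      simpa [Subgroup.mem_subgroupOf] using this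
  have hHA : H ≤ Subgroup.normalizer (A : Set G) := by
    intro h hh
    rw [Subgroup.mem_normalizer_iff]
    intro a
    constructor
    · intro ha
      have := hcent a (hRN ha.1) ha.2 h hh
      rwa [← this, mul_inv_cancel_right]
    · intro ha
      have := hcent _ (hRN ha.1) ha.2 h hh
      rw [inv_mul_cancel_right] at this
      rw [← mul_left_cancel this] at ha
      exact ha
  have hHB : H ≤ Subgroup.normalizer (B : Set G) := fun h hh => by
    rw [Subgroup.mem_normalizer_iff]
    intro b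
    rw [hB, Subgroup.mem_inf, Subgroup.mem_inf, Subgroup.mem_normalizer_iff.1 (hRH hh) b]
    refine and_congr_right fun _ => ⟨fun hb => ?_, fun hb => ?_⟩
    · exact mul_mem (mul_mem (hHA hh) hb) (inv_mem (hHA hh))
    · have := mul_mem (mul_mem (inv_mem (hHA hh)) hb) (hHA hh)
      simpa [mul_assoc] using this
  set W := B ⊔ H with hW
  have hWA : W ≤ Subgroup.normalizer (A : Set G) := sup_le inf_le_right hHA
  have hWB : W ≤ Subgroup.normalizer (B : Set G) := sup_le Subgroup.le_normalizer hHB
  haveI hAn : (A.subgroupOf W).Normal := Subgroup.normal_subgroupOf_of_le_normalizer hWA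
  haveI : (B.subgroupOf W).Normal := Subgroup.normal_subgroupOf_of_le_normalizer hWB
  let q : W →* W ⧸ A.subgroupOf W := QuotientGroup.mk' _
  have hq : Function.Surjective q := QuotientGroup.mk'_surjective _
  set Kb := (B.subgroupOf W).map q with hKb
  set Cb := (H.subgroupOf W).map q with hCb
  haveI : Kb.Normal := Subgroup.Normal.map inferInstance q hq
  have hBW : B ≤ W := le_sup_left
  have hHW : H ≤ W := le_sup_right
  have hdisj : Disjoint Kb Cb := by
    rw [Subgroup.disjoint_def]
    rintro _ ⟨b, hb, rfl⟩ ⟨h, hh, he⟩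
    rw [← orderOf_eq_one_iff]
    refine Nat.eq_one_of_dvd_coprimes hNH ((orderOf_map_dvd q b).trans ?_)
      (he ▸ (orderOf_map_dvd q h).trans ?_)
    · rw [← Subgroup.orderOf_coe]
      exact Subgroup.orderOf_dvd_natCard N (hRN (Subgroup.mem_subgroupOf.1 hb).1)
    · rw [← Subgroup.orderOf_coe]
      exact Subgroup.orderOf_dvd_natCard H (Subgroup.mem_subgroupOf.1 hh)
  have hsup : Kb ⊔ Cb = ⊤ := by
    rw [hKb, hCb, ← Subgroup.map_sup, ← Subgroup.subgroupOf_sup hBW hHW, ← hW,
      Subgroup.subgroupOf_self, Subgroup.map_top_of_surjective q hq]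
  have hcompl : Kb.IsComplement' Cb := by
    refine Subgroup.isComplement'_of_disjoint_and_mul_eq_univ hdisj ?_
    rw [← Subgroup.normal_mul, hsup, Subgroup.coe_top]
  have hqker : ∀ w : W, q w = 1 ↔ (w : G) ∈ A := fun w => by
    rw [QuotientGroup.mk'_apply, QuotientGroup.eq_one_iff, Subgroup.mem_subgroupOf]
  have hinj : Function.Injective (q.comp (Subgroup.inclusion hHW)) := by
    rw [← MonoidHom.ker_eq_bot_iff, eq_bot_iff]
    intro h hh
    rw [Subgroup.mem_bot]
    exact Subtype.ext (Subgroup.disjoint_def.1 hc.disjoint (hRN ((hqker _).1 hh).1) h.2)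
  have hrange : Cb = (q.comp (Subgroup.inclusion hHW)).range := by
    rw [hCb, MonoidHom.range_comp, Subgroup.inclusion_range]
  have hKne : Kb ≠ ⊥ := by
    intro h
    apply hBlt
    intro b hb
    have : q ⟨b, hBW hb⟩ ∈ Kb := ⟨⟨b, hBW hb⟩, hb, rfl⟩
    rw [h, Subgroup.mem_bot] at this
    exact (hqker _).1 this
  have hCne : Cb ≠ ⊥ := by
    rw [hrange, Ne, MonoidHom.range_eq_bot_iff]
    intro h
    obtain ⟨x, hx, hx1⟩ := (Subgroup.bot_or_exists_ne_one H).resolve_left hH1
    exact hx1 (congrArg Subtype.val (hinj (a₁ := ⟨x, hx⟩) (a₂ := 1) (by rw [h]; rfl)))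
  have hfpf : ∀ c ∈ Cb, c ≠ 1 → Kb ⊓ Subgroup.centralizer {c} = ⊥ := by
    rintro _ ⟨h, hh, rfl⟩ h1
    rw [eq_bot_iff]
    rintro _ ⟨⟨b, hb, rfl⟩, hcm⟩
    have hh1 : (h : G) ≠ 1 := fun e => h1 ((hqker h).2 (e ▸ A.one_mem))
    have hcm : q b * q h = q h * q b := Subgroup.mem_centralizer_singleton_iff.1 hcm
    set a : G := (b : G)⁻¹ * (h : G) * b * (h : G)⁻¹ with ha'
    have ha : a ∈ A := by
      refine (hqker (b⁻¹ * h * b * h⁻¹)).1 ?_
      rw [map_mul, map_mul, map_mul, map_inv, map_inv, mul_assoc (q b)⁻¹, ← hcm]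
      group
    have hah : Commute a (h : G) := hcent a (hRN ha.1) ha.2 h hh
    have hpow : a ^ Nat.card H = 1 := by
      have e0 : ((h : G)) ^ Nat.card H = 1 :=
        congrArg Subtype.val (pow_card_eq_one' (x := (⟨(h : G), hh⟩ : H)))
      have e1 : (a * (h : G)) ^ Nat.card H = 1 := by
        have hah2 : a * (h : G) = (b : G)⁻¹ * (h : G) * ((b : G)⁻¹)⁻¹ := by rw [ha']; group
        rw [hah2, conj_pow, e0, mul_one, mul_inv_cancel]
      rwa [hah.mul_pow, e0, mul_one] at e1
    have ha1 : a = 1 := orderOf_eq_one_iff.1 (Nat.eq_one_of_dvd_coprimes hNH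
      (Subgroup.orderOf_dvd_natCard N (hRN ha.1)) (orderOf_dvd_of_pow_eq_one hpow))
    have hbh : (b : G) * h = h * b := by
      rw [ha', mul_inv_eq_one, mul_assoc, inv_mul_eq_iff_eq_mul] at ha1
      exact ha1.symm
    rw [Subgroup.mem_bot, hqker]
    exact ⟨(Subgroup.mem_subgroupOf.1 hb).1, centralizer_le_normalizer hTI hh hh1 hbh⟩
  exact ⟨W ⧸ A.subgroupOf W, inferInstance, inferInstance, Cb,
    CfsgLib.Frobenius.isFrobeniusComplement_of_fpf hcompl hKne hCne hfpf,
    ⟨(MonoidHom.ofInjective hinj).trans (MulEquiv.subgroupCongr hrange.symm)⟩⟩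

end Cover

end CfsgLib.TIHall
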