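import Mathlib
import Cfsg.Agent.Lib.Fusion.AlperinGroup
import Cfsg.Agent.Lib.PNilpotent.Basic

/-!
Focal subgroup and normal `p`-complement criterion through tame Sylow intersections.
-/

open Subgroup
open scoped commutatorElement

namespace CfsgLib.FGStruct

open CfsgLib.AlperinGroup

variable {G : Type*} [Group G] [Finite G] {p : ℕ} [Fact p.Prime]

/-- In a finite group a set of elements closed under products and containing `1` is a subgroup. -/
def subgroupOfFiniteClosed (S : Set G) (h1 : (1 : G) ∈ S) (hm : ∀ a ∈ S, ∀ b ∈ S, a * b ∈ S) : Subgroup G where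
  carrier := S
  one_mem' := h1
  mul_mem' := fun {a b} ha hb => hm a ha b hb
  inv_mem' := fun {a} ha => by
    have hpow : ∀ n : ℕ, a ^ n ∈ S := fun n => by
      induction n with
      | zero => simpa using h1
      | succ n ih => rw [pow_succ]; exact hm _ ih _ ha
    have e : a⁻¹ = a ^ (Nat.card G - 1) := by
      rw [inv_eq_iff_mul_eq_one, ← pow_succ', Nat.sub_add_cancel (Nat.card_pos (α := G)), pow_card_eq_one']
    rw [e]; exact hpow _

/-- `x` moves elements of `D` only by elements of `R`. -/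
def MovesInto (R D : Subgroup G) (x : G) : Prop := ∀ a ∈ D, a⁻¹ * (x⁻¹ * a * x) ∈ R

theorem movesInto_of_chain (P : Sylow p G) (R : Subgroup G) {A : Set G} {g : G} (h : Chain P A g) :
    ∀ T : Subgroup G, A = (T : Set G) →
      (∀ Q : Sylow p G, Tame P Q → Nat.card T ≤ Nat.card ((P : Subgroup G) ⊓ (Q : Subgroup G) : Subgroup G) →
        ∀ x ∈ normalizer ((((P : Subgroup G) ⊓ (Q : Subgroup G)) : Subgroup G) : Set G),
          MovesInto R ((P : Subgroup G) ⊓ (Q : Subgroup G)) x) →
      MovesInto R T g := by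
  induction h with
  | one A => intro T _ _ a ha; simp [one_mem]
  | cons A x h Q hA ht hx _ ih =>
    intro T hT hyp a ha
    have hTQ : T ≤ (P : Subgroup G) ⊓ (Q : Subgroup G) := fun b hb => hA (hT ▸ hb)
    have h1 := hyp Q ht (Subgroup.card_le_of_le hTQ) x hx a (hTQ ha)
    have hT' : (fun a => x⁻¹ * a * x) '' A = ((T.map (MulAut.conj x⁻¹).toMonoidHom : Subgroup G) : Set G) := by
      rw [hT, Subgroup.coe_map]
      exact Set.image_congr fun b _ => by simp
    have h2 := ih _ hT' (fun Q' ht' hc => hyp Q' ht' (by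
      rwa [Subgroup.card_map_of_injective (MulEquiv.injective _)] at hc)) (x⁻¹ * a * x) ⟨a, ha, by simp⟩
    have := mul_mem h1 h2
    simpa [mul_assoc] using this

namespace TameFocalAux

/-- Normalizers grow in a finite `p`-group. -/
theorem eq_of_normalizer_inf_le {P : Sylow p G} {D : Subgroup G} (hD : D ≤ (P : Subgroup G))
    (h : (P : Subgroup G) ⊓ normalizer (D : Set G) ≤ D) : D = (P : Subgroup G) := by
  haveI : Group.IsNilpotent (P : Subgroup G) := P.isPGroup'.isNilpotent
  by_contra hne
  have hlt : D.subgroupOf (P : Subgroup G) < ⊤ := by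
    rw [lt_top_iff_ne_top, Ne, Subgroup.subgroupOf_eq_top]
    exact fun hle => hne (le_antisymm hD hle)
  obtain ⟨y, hy, hy'⟩ := SetLike.exists_of_lt (Group.normalizerCondition_of_isNilpotent _ hlt)
  rw [← Subgroup.subgroupOf_normalizer_eq hD, Subgroup.mem_subgroupOf] at hy
  exact hy' (Subgroup.mem_subgroupOf.2 (h ⟨y.2, hy⟩))

end TameFocalAux

/-- Every element of the normalizer of a tame intersection moves it into `R`, once this holds for
elements of `N(P)` on `P` and for `p`-elements. -/
theorem movesInto_normalizer (P : Sylow p G) (R : Subgroup G)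
    (hP : ∀ x ∈ normalizer ((P : Subgroup G) : Set G), MovesInto R (P : Subgroup G) x)
    (hp : ∀ Q : Sylow p G, Tame P Q → ∀ x ∈ normalizer ((((P : Subgroup G) ⊓ (Q : Subgroup G)) : Subgroup G) : Set G),
      (∃ k : ℕ, orderOf x = p ^ k) → MovesInto R ((P : Subgroup G) ⊓ (Q : Subgroup G)) x) :
    ∀ Q : Sylow p G, Tame P Q → ∀ x ∈ normalizer ((((P : Subgroup G) ⊓ (Q : Subgroup G)) : Subgroup G) : Set G),
      MovesInto R ((P : Subgroup G) ⊓ (Q : Subgroup G)) x := by
  suffices key : ∀ (n : ℕ) (Q : Sylow p G), Nat.card (P : Subgroup G) - Nat.card ((P : Subgroup G) ⊓ (Q : Subgroup G) : Subgroup G) = n →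
      Tame P Q → ∀ x ∈ normalizer ((((P : Subgroup G) ⊓ (Q : Subgroup G)) : Subgroup G) : Set G),
      MovesInto R ((P : Subgroup G) ⊓ (Q : Subgroup G)) x from fun Q => key _ Q rfl
  intro n
  induction n using Nat.strong_induction_on with
  | _ n IH =>
    intro Q hn ht x hx
    set D := (P : Subgroup G) ⊓ (Q : Subgroup G) with hD
    set N := normalizer (D : Set G) with hN
    rcases (inf_le_left : D ≤ P).eq_or_lt with heq | hlt
    · have heq' : D = (P : Subgroup G) := heq
      have hx1 : x ∈ normalizer (D : Set G) := hx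
      rw [heq'] at hx1 ⊢
      exact hP x hx1
    have hDN : D ≤ N := Subgroup.le_normalizer
    -- the subgroup of good elements
    let S : Subgroup G := subgroupOfFiniteClosed {l | l ∈ N ∧ MovesInto R D l}
      ⟨one_mem _, fun a _ => by simp [one_mem]⟩
      (fun l hl m hm => ⟨mul_mem hl.1 hm.1, fun a ha => by
        have hal : l⁻¹ * a * l ∈ D := by
          have := (Subgroup.mem_normalizer_iff.1 (inv_mem hl.1) a).1 ha
          simpa using this
        have := mul_mem (hl.2 a ha) (hm.2 _ hal)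
        simpa [mul_assoc] using this⟩)
    suffices hS : N ≤ S from (hS hx).2
    set T := (P : Subgroup G) ⊓ N with hT
    have hTN : T ≤ N := inf_le_right
    have hTp : IsPGroup p T := P.isPGroup'.to_le inf_le_left
    let Ts : Sylow p N := (hTp.of_equiv (subgroupOfEquivOfLe hTN).symm).toSylow ht.1
    let L : Subgroup N := closure {l : N | ∃ k : ℕ, orderOf l = p ^ k}
    have hLn : L.Normal := ⟨fun a ha g => by
      induction ha using Subgroup.closure_induction with
      | mem z hz =>
        obtain ⟨k, hk⟩ := hz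
        refine Subgroup.subset_closure ⟨k, ?_⟩
        rw [← hk]; exact MulEquiv.orderOf_eq (MulAut.conj g) z
      | one => simp
      | mul u v _ _ hu hv => rw [show g * (u * v) * g⁻¹ = g * u * g⁻¹ * (g * v * g⁻¹) by group]; exact mul_mem hu hv
      | inv u _ hu => rw [show g * u⁻¹ * g⁻¹ = (g * u * g⁻¹)⁻¹ by group]; exact inv_mem hu⟩
    have hTL : (Ts : Subgroup N) ≤ L := fun t ht' => Subgroup.subset_closure (by
      obtain ⟨k, hk⟩ := (IsPGroup.iff_orderOf.1 Ts.isPGroup') ⟨t, ht'⟩
      exact ⟨k, by rw [← hk]; exact (Subgroup.orderOf_mk t ht').symm⟩)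
    have htop := Sylow.normalizer_sup_eq_top' Ts hTL
    have hsub : (⊤ : Subgroup N) ≤ S.subgroupOf N := by
      rw [← htop, sup_le_iff]
      refine ⟨fun y hy => ⟨y.2, ?_⟩, (Subgroup.closure_le _).2 fun l hl => ⟨l.2, ?_⟩⟩
      · -- `y` normalizes `T`
        have hy' : ∀ t ∈ T, (y : G)⁻¹ * t * y ∈ T := by
          intro t ht'
          have h1 := (Subgroup.mem_normalizer_iff.1 (inv_mem hy) ⟨t, hTN ht'⟩).1 (Subgroup.mem_subgroupOf.2 ht')
          have h2 := Subgroup.mem_subgroupOf.1 h1
          simpa using h2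
        have hch := alperin P (T : Set G) (y : G) (fun t ht' => ht'.1) (by
          rintro _ ⟨t, ht', rfl⟩; exact (hy' t ht').1)
        have hlt' : Nat.card D < Nat.card T := by
          have hgrow : D < T := by
            refine lt_of_le_of_ne (le_inf inf_le_left hDN) fun hDT => hlt.ne ?_
            have := CfsgLib.FGStruct.TameFocalAux.eq_of_normalizer_inf_le (P := P) (D := D) inf_le_left (hT ▸ hDT.ge)
            exact this
          exact lt_of_le_of_ne (Subgroup.card_le_of_le hgrow.le) fun he => hgrow.ne (Subgroup.eq_of_le_of_card_ge hgrow.le he.ge)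
        have := movesInto_of_chain P R hch T rfl (fun Q' ht' hc x' hx' => by
          refine IH _ ?_ Q' rfl ht' x' hx'
          have := Subgroup.card_le_of_le (inf_le_left : (P : Subgroup G) ⊓ (Q' : Subgroup G) ≤ (P : Subgroup G))
          have := Subgroup.card_le_of_le (inf_le_left : D ≤ (P : Subgroup G))
          omega)
        exact fun a ha => this a ⟨(inf_le_left : D ≤ P) ha, hDN ha⟩
      · obtain ⟨k, hk⟩ := hl
        exact hp Q ht l l.2 ⟨k, by rw [← hk, Subgroup.orderOf_coe]⟩
    intro z hz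
    exact Subgroup.mem_subgroupOf.1 (hsub (Subgroup.mem_top (⟨z, hz⟩ : N)))

/-- Focal subgroup theorem localized to tame intersections. -/
theorem inf_commutator_le_of_tame (P : Sylow p G) (R : Subgroup G)
    (hP : ∀ x ∈ normalizer ((P : Subgroup G) : Set G), MovesInto R (P : Subgroup G) x)
    (hp : ∀ Q : Sylow p G, Tame P Q → ∀ x ∈ normalizer ((((P : Subgroup G) ⊓ (Q : Subgroup G)) : Subgroup G) : Set G),
      (∃ k : ℕ, orderOf x = p ^ k) → MovesInto R ((P : Subgroup G) ⊓ (Q : Subgroup G)) x) :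
    (P : Subgroup G) ⊓ commutator G ≤ R := by
  rw [inf_comm, Subgroup.commutator_inf_eq_focalSubgroup P, Subgroup.focalSubgroup_def, Subgroup.closure_le]
  rintro z ⟨hz, a, ha, u, rfl⟩
  have hb : u * a⁻¹ * u⁻¹ ∈ (P : Subgroup G) := by
    have := mul_mem (inv_mem ha) hz
    simpa [commutatorElement_def, mul_assoc] using this
  have hch := alperin P ((Subgroup.zpowers a⁻¹ : Subgroup G) : Set G) u⁻¹ (Subgroup.zpowers_le.2 (inv_mem ha)) (by
    rintro _ ⟨b, hb', rfl⟩
    obtain ⟨i, rfl⟩ := Subgroup.mem_zpowers_iff.1 hb'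
    simp only [inv_inv, ← conj_zpow]
    exact zpow_mem hb i)
  have := movesInto_of_chain P R hch _ rfl (fun Q ht _ => movesInto_normalizer P R hP hp Q ht) a⁻¹
    (Subgroup.mem_zpowers _)
  simpa [commutatorElement_def, mul_assoc] using this

/-- Conjugation on a subset of `P` along a chain is induced by an element of `P` when all automizers of
tame intersections are `p`-groups. -/
theorem exists_mem_sylow_of_chain (P : Sylow p G)
    (h : ∀ Q : Sylow p G, Tame P Q → ∀ x ∈ normalizer ((((P : Subgroup G) ⊓ (Q : Subgroup G)) : Subgroup G) : Set G),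
      ∃ u ∈ (P : Subgroup G), ∀ a ∈ (P : Subgroup G) ⊓ (Q : Subgroup G), x⁻¹ * a * x = u⁻¹ * a * u)
    {A : Set G} {g : G} (hc : Chain P A g) :
    ∃ u ∈ (P : Subgroup G), ∀ a ∈ A, g⁻¹ * a * g = u⁻¹ * a * u := by
  induction hc with
  | one A => exact ⟨1, one_mem _, fun a _ => rfl⟩
  | cons A x h' Q hA ht hx _ ih =>
    obtain ⟨u, hu, hu'⟩ := h Q ht x hx
    obtain ⟨v, hv, hv'⟩ := ih
    refine ⟨u * v, mul_mem hu hv, fun a ha => ?_⟩
    calc (x * h')⁻¹ * a * (x * h') = h'⁻¹ * (x⁻¹ * a * x) * h' := by group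
      _ = v⁻¹ * (x⁻¹ * a * x) * v := hv' _ ⟨a, ha, rfl⟩
      _ = v⁻¹ * (u⁻¹ * a * u) * v := by rw [hu' a (hA ha)]
      _ = _ := by group

end CfsgLib.FGStruct
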