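import Mathlib
import Cfsg.Agent.Lib.PSL2Sub.Maximal
import Cfsg.Agent.Lib.Linear.Simple
import Cfsg.Agent.Lib.Solvable.Basic
import Cfsg.Agent.Lib.Solvable.Core

/-!
Normalisers of the subgroups of `PSL(2,13)` are maximal; the same for `SL(2,13)` and for their
products with a coprime abelian group.
-/

open Subgroup

namespace CfsgLib.FGStruct.ThirteenNorm

section Abstract

variable {G : Type*} [Group G] [Finite G]

/-- The orders of proper subgroups of `PSL(2,13)`. -/
def orders : List ℕ := [1, 2, 3, 4, 6, 7, 12, 13, 14, 26, 39, 78]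

/-- The arithmetic facts used. -/
structure Facts (G : Type*) [Group G] : Prop where
  simple : IsSimpleGroup G
  card : Nat.card G = 1092
  ord : ∀ g : G, g ^ 13 = 1 ∨ g ^ 6 = 1 ∨ g ^ 7 = 1
  sub : ∀ H : Subgroup G, H ≠ ⊤ → Nat.card H ∈ orders

variable (F : Facts G)
include F

theorem ne_top {H : Subgroup G} (h : Nat.card H < 1092) : H ≠ ⊤ := fun e => by
  rw [e, card_top, F.card] at h; exact lt_irrefl _ h

theorem card_normalizer_mem {H : Subgroup G} (h1 : H ≠ ⊥) (h2 : H ≠ ⊤) :
    normalizer (H : Set G) ≠ ⊤ ∧ Nat.card (normalizer (H : Set G)) ∈ orders ∧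
      Nat.card H ∣ Nat.card (normalizer (H : Set G)) := by
  haveI := F.simple
  have hne : normalizer (H : Set G) ≠ ⊤ := fun e =>
    (normalizer_eq_top_iff.1 e).eq_bot_or_eq_top.elim h1 h2
  exact ⟨hne, F.sub _ hne, card_dvd_of_le le_normalizer⟩

theorem maximal_of_card {M : Subgroup G} (h : Nat.card M = 12 ∨ Nat.card M = 14 ∨ Nat.card M = 78) :
    IsCoatom M := by
  refine ⟨ne_top F (by omega), fun L hL => ?_⟩
  by_contra hLt
  have h1 := F.sub L hLt
  have h2 : Nat.card M ∣ Nat.card L := card_dvd_of_le hL.le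
  refine hL.ne (eq_of_le_of_card_ge hL.le ?_)
  simp only [orders, List.mem_cons, List.not_mem_nil, or_false] at h1
  obtain ⟨c, hc⟩ := h2
  rcases h1 with h1 | h1 | h1 | h1 | h1 | h1 | h1 | h1 | h1 | h1 | h1 | h1 <;>
    rcases h with h | h | h <;> rw [h, h1] at hc <;> omega

theorem no_burnside {p : ℕ} [Fact p.Prime] (P : Sylow p G) (h1 : Nat.card (P : Subgroup G) ≠ 1)
    (h2 : Nat.card (P : Subgroup G) ≠ 1092) :
    ¬ normalizer ((P : Subgroup G) : Set G) ≤ centralizer ((P : Subgroup G) : Set G) := by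
  intro h
  haveI := F.simple
  have hc := (MonoidHom.ker_transferSylow_isComplement' P h).card_mul
  rcases (MonoidHom.normal_ker (MonoidHom.transferSylow P h)).eq_bot_or_eq_top with e | e
  · rw [e, card_bot, one_mul, F.card] at hc; exact h2 hc
  · rw [e, card_top] at hc; exact h1 ((Nat.mul_eq_left Nat.card_pos.ne').1 hc)

/-- Orders of normalisers of Sylow subgroups. -/
theorem sylow_normalizer {p : ℕ} (hp : p.Prime) (H : Subgroup G)
    (hH : Nat.card H = p ∧ (p = 3 ∨ p = 7 ∨ p = 13) ∨ Nat.card H = 4 ∧ p = 2) :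
    (Nat.card (normalizer (H : Set G)) * (normalizer (H : Set G)).index = 1092 ∧
      (normalizer (H : Set G)).index % p = 1) ∧
      ¬ normalizer (H : Set G) ≤ centralizer (H : Set G) := by
  haveI := Fact.mk hp
  have hH' : IsPGroup p H := by
    rcases hH with ⟨h, -⟩ | ⟨h, rfl⟩
    · exact IsPGroup.of_card (n := 1) (by rw [h, pow_one])
    · exact IsPGroup.of_card (n := 2) (by rw [h]; norm_num)
  have hi : ¬ p ∣ H.index := by
    have h1 := H.card_mul_index
    rw [F.card] at h1
    rintro ⟨c, hc⟩
    rw [hc] at h1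
    rcases hH with ⟨h, rfl | rfl | rfl⟩ | ⟨h, rfl⟩ <;> rw [h] at h1 <;> omega
  let P : Sylow p G := hH'.toSylow hi
  have hP : (P : Subgroup G) = H := rfl
  refine ⟨⟨(card_mul_index _).trans F.card, ?_⟩, ?_⟩
  · have h1 := card_sylow_modEq_one p G
    rw [P.card_eq_index_normalizer] at h1
    rw [← hP]
    rw [Nat.ModEq, Nat.one_mod_eq_one.2 hp.ne_one] at h1
    exact h1
  · refine no_burnside F P ?_ ?_ <;>
      (show Nat.card H ≠ _; rcases hH with ⟨h, rfl | rfl | rfl⟩ | ⟨h, rfl⟩ <;> omega)

theorem card_three {H : Subgroup G} (h : Nat.card H = 3) : Nat.card (normalizer (H : Set G)) = 12 := by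
  obtain ⟨⟨h1, h2⟩, h3⟩ := sylow_normalizer F (p := 3) (by norm_num) H (Or.inl ⟨h, Or.inl rfl⟩)
  obtain ⟨-, h4, ⟨c, h5⟩⟩ := card_normalizer_mem F (H := H) (fun e => by rw [e, card_bot] at h; omega)
    (ne_top F (by omega))
  simp only [orders, List.mem_cons, List.not_mem_nil, or_false] at h4
  rw [h] at h5
  rcases h4 with h4 | h4 | h4 | h4 | h4 | h4 | h4 | h4 | h4 | h4 | h4 | h4 <;> rw [h4] at h1
  case inr.inr.inl =>
    exfalso
    refine h3 ?_
    rw [← eq_of_le_of_card_ge (le_normalizer : H ≤ _) (by omega)]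
    exact fun x hx y hy => by
      haveI := isCyclic_of_prime_card (p := 3) (hp := ⟨by norm_num⟩) h
      exact congrArg Subtype.val
        (IsCyclic.commGroup.mul_comm (⟨y, hy⟩ : H) ⟨x, hx⟩)
  case inr.inr.inr.inr.inr.inr.inr.inr.inr.inr.inl =>
    exfalso
    -- order `39`: the Sylow `13`-subgroup centralises `H`
    haveI := Fact.mk (show Nat.Prime 13 by norm_num)
    haveI := Fact.mk (show Nat.Prime 3 by norm_num)
    obtain ⟨u, hu⟩ := exists_prime_orderOf_dvd_card' (G := normalizer (H : Set G)) 13 (by rw [h4]; norm_num)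
    obtain ⟨v, hv⟩ := exists_prime_orderOf_dvd_card' (G := H) 3 (by rw [h])
    have hn : ∀ x : H, x = 1 ∨ x = v ∨ x = v ^ 2 := by
      intro x
      have hg : x ∈ zpowers v := by
        rw [eq_top_of_card_eq (zpowers v) (by rw [Nat.card_zpowers, hv, h])]; exact mem_top _
      rw [mem_zpowers_iff] at hg
      obtain ⟨k, rfl⟩ := hg
      rw [← zpow_mod_orderOf, hv]
      have h0 : (0 : ℤ) ≤ k % 3 := Int.emod_nonneg _ (by norm_num)
      have h3' : k % 3 < 3 := Int.emod_lt_of_pos _ (by norm_num)
      push_cast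
      rcases (show k % 3 = 0 ∨ k % 3 = 1 ∨ k % 3 = 2 by omega) with e | e | e <;> rw [e]
      · exact Or.inl (zpow_zero _)
      · exact Or.inr (Or.inl (zpow_one _))
      · exact Or.inr (Or.inr (by norm_num [zpow_ofNat]))
    let φ : normalizer (H : Set G) →* MulAut H := normalizerMonoidHom H
    have hu2 : φ u ^ 13 = 1 := by rw [← map_pow, ← hu, pow_orderOf_eq_one, map_one]
    have hfix : φ u v = v := by
      rcases hn (φ u v) with e | e | e
      · exact absurd ((MulEquiv.map_eq_one_iff _).1 e) (fun e' => by rw [e', orderOf_one] at hv; omega)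
      · exact e
      · have hsq : φ u (φ u v) = v := by
          rw [e, map_pow, e, ← pow_mul, ← pow_mod_orderOf, hv, pow_one]
        have : (φ u ^ 12) v = v := by
          have h2' : (φ u ^ 2) v = v := by rw [pow_two]; exact hsq
          have h4' : ∀ n : ℕ, ((φ u ^ 2) ^ n) v = v := fun n => by
            induction n with
            | zero => rfl
            | succ n ih => rw [pow_succ, MulAut.mul_apply, h2', ih]
          rw [show (12 : ℕ) = 2 * 6 from rfl, pow_mul]; exact h4' 6
        have h13 : (φ u ^ 13) v = φ u v := by rw [pow_succ' (φ u) 12, MulAut.mul_apply, this]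
        rw [hu2] at h13; exact h13.symm
    have hcomm : Commute (u : G) (v : G) := by
      have := congrArg Subtype.val hfix
      show (u : G) * v = v * u
      exact mul_inv_eq_iff_eq_mul.1 this
    have ho : orderOf ((u : G) * v) = 39 := by
      rw [hcomm.orderOf_mul_eq_mul_orderOf_of_coprime] <;> rw [orderOf_coe, orderOf_coe, hu, hv]
      norm_num
    rcases F.ord ((u : G) * v) with e | e | e <;>
      (have := orderOf_dvd_of_pow_eq_one e; rw [ho] at this; omega)
  all_goals omega

theorem card_four {H : Subgroup G} (h : Nat.card H = 4) :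
    Nat.card (normalizer (H : Set G)) = 12 ∧ ∀ x ∈ H, x * x = 1 := by
  have hsq : ∀ x ∈ H, x * x = 1 := by
    intro x hx
    have h4 : x ^ 4 = 1 := by
      rw [← h]; exact congrArg Subtype.val (pow_card_eq_one' (x := (⟨x, hx⟩ : H)))
    rw [← pow_two]
    rcases F.ord x with e | e | e
    · have h1 : x ^ 12 = 1 := by rw [show (12 : ℕ) = 4 * 3 from rfl, pow_mul, h4, one_pow]
      rw [pow_succ, h1, one_mul] at e; rw [e, one_pow]
    · rw [show (6 : ℕ) = 4 + 2 from rfl, pow_add, h4, one_mul] at e; exact e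
    · have h1 : x ^ 8 = 1 := by rw [show (8 : ℕ) = 4 * 2 from rfl, pow_mul, h4, one_pow]
      rw [pow_succ, e, one_mul] at h1; rw [h1, one_pow]
  refine ⟨?_, hsq⟩
  obtain ⟨⟨h1, h2⟩, h3⟩ := sylow_normalizer F (p := 2) Nat.prime_two H (Or.inr ⟨h, rfl⟩)
  obtain ⟨-, h4, ⟨c, h5⟩⟩ := card_normalizer_mem F (H := H) (fun e => by rw [e, card_bot] at h; omega)
    (ne_top F (by omega))
  simp only [orders, List.mem_cons, List.not_mem_nil, or_false] at h4
  rw [h] at h5
  rcases h4 with h4 | h4 | h4 | h4 | h4 | h4 | h4 | h4 | h4 | h4 | h4 | h4 <;> try omega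
  exfalso
  refine h3 ?_
  rw [← eq_of_le_of_card_ge (le_normalizer : H ≤ _) (by omega)]
  intro x hx y hy
  have e1 := hsq (y * x) (mul_mem hy hx)
  have ey := eq_inv_of_mul_eq_one_left (hsq y hy)
  have ex := eq_inv_of_mul_eq_one_left (hsq x hx)
  have e2 : y * x = x⁻¹ * y⁻¹ := by rw [← mul_inv_rev]; exact eq_inv_of_mul_eq_one_left e1
  rw [e2, ← ex, ← ey]

theorem card_seven {H : Subgroup G} (h : Nat.card H = 7) :
    Nat.card (normalizer (H : Set G)) = 14 := by
  obtain ⟨⟨h1, h2⟩, h3⟩ := sylow_normalizer F (p := 7) (by norm_num) H (Or.inl ⟨h, Or.inr (Or.inl rfl)⟩)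
  obtain ⟨-, h4, ⟨c, h5⟩⟩ := card_normalizer_mem F (H := H) (fun e => by rw [e, card_bot] at h; omega)
    (ne_top F (by omega))
  simp only [orders, List.mem_cons, List.not_mem_nil, or_false] at h4
  rw [h] at h5
  rcases h4 with h4 | h4 | h4 | h4 | h4 | h4 | h4 | h4 | h4 | h4 | h4 | h4 <;> rw [h4] at h1 <;> omega

theorem card_thirteen {H : Subgroup G} (h : Nat.card H = 13) :
    Nat.card (normalizer (H : Set G)) = 78 := by
  obtain ⟨⟨h1, h2⟩, h3⟩ := sylow_normalizer F (p := 13) (by norm_num) H (Or.inl ⟨h, Or.inr (Or.inr rfl)⟩)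
  obtain ⟨-, h4, ⟨c, h5⟩⟩ := card_normalizer_mem F (H := H) (fun e => by rw [e, card_bot] at h; omega)
    (ne_top F (by omega))
  simp only [orders, List.mem_cons, List.not_mem_nil, or_false] at h4
  rw [h] at h5
  rcases h4 with h4 | h4 | h4 | h4 | h4 | h4 | h4 | h4 | h4 | h4 | h4 | h4 <;> rw [h4] at h1 <;> omega

/-- An involution commuting with an element of order `3`. -/
theorem exists_six : ∃ s : G, orderOf s = 2 ∧ ∃ u : G, orderOf u = 3 ∧ u * s = s * u := by
  haveI := Fact.mk (show Nat.Prime 3 by norm_num)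
  obtain ⟨v, hv⟩ := exists_prime_orderOf_dvd_card' (G := G) 3 (by rw [F.card]; norm_num)
  let Q := zpowers v
  have hQ : Nat.card Q = 3 := by rw [Nat.card_zpowers, hv]
  have hN := card_three F hQ
  let φ : normalizer (Q : Set G) →* MulAut Q := normalizerMonoidHom Q
  have hk : 2 ∣ Nat.card φ.ker := by
    have h1 := φ.ker.card_mul_index
    rw [hN, Subgroup.index_ker] at h1
    haveI : IsCyclic Q := isCyclic_of_prime_card hQ
    have h2 : Nat.card φ.range ∣ 2 := by
      refine (card_subgroup_dvd_card φ.range).trans ?_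
      rw [IsCyclic.card_mulAut, hQ]; decide
    rcases (Nat.dvd_prime Nat.prime_two).1 h2 with e | e <;> rw [e] at h1 <;> omega
  haveI := Fact.mk Nat.prime_two
  obtain ⟨s, hs⟩ := exists_prime_orderOf_dvd_card' (G := φ.ker) 2 hk
  refine ⟨((s : normalizer (Q : Set G)) : G), by rw [orderOf_coe, orderOf_coe, hs], v, hv, ?_⟩
  have h1 : φ (s : normalizer (Q : Set G)) = 1 := s.2
  have h2 := congrArg (fun f : MulAut Q => ((f ⟨v, mem_zpowers v⟩ : Q) : G)) h1
  exact (mul_inv_eq_iff_eq_mul.1 h2).symm

/-- Nontrivial elements of a four-group are conjugate. -/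
theorem four_conj {V : Subgroup G} (hV : Nat.card V = 4) {x y : G} (hx : x ∈ V) (hy : y ∈ V)
    (hx1 : x ≠ 1) (hy1 : y ≠ 1) : IsConj x y := by
  classical
  rcases eq_or_ne x y with rfl | hxy
  · exact IsConj.refl _
  obtain ⟨hN, hsq⟩ := card_four F hV
  haveI := Fact.mk (show Nat.Prime 3 by norm_num)
  obtain ⟨g, hg⟩ := exists_prime_orderOf_dvd_card' (G := normalizer (V : Set G)) 3 (by rw [hN]; norm_num)
  let φ : normalizer (V : Set G) →* MulAut V := normalizerMonoidHom V
  have hg3 : φ g ^ 3 = 1 := by rw [← map_pow, ← hg, pow_orderOf_eq_one, map_one]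
  let X : V := ⟨x, hx⟩
  let Y : V := ⟨y, hy⟩
  have hX : X ≠ 1 := fun e => hx1 (congrArg Subtype.val e)
  have hY : Y ≠ 1 := fun e => hy1 (congrArg Subtype.val e)
  have hXY : X ≠ Y := fun e => hxy (congrArg Subtype.val e)
  have sq : ∀ Z : V, Z * Z = 1 := fun Z => Subtype.ext (hsq Z Z.2)
  have inv' : ∀ Z : V, Z⁻¹ = Z := fun Z => (eq_inv_of_mul_eq_one_left (sq Z)).symm
  have comm : ∀ A B : V, A * B = B * A := fun A B => by
    rw [← inv' (A * B), mul_inv_rev, inv', inv']
  have hZ1 : X * Y ≠ 1 := fun e => hXY (by rw [← inv' Y]; exact eq_inv_of_mul_eq_one_left e)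
  have hall : ∀ Z : V, Z = 1 ∨ Z = X ∨ Z = Y ∨ Z = X * Y := by
    intro Z
    by_contra hne
    push Not at hne
    have := Fintype.ofFinite V
    have hcard : ({1, X, Y, X * Y, Z} : Finset V).card ≤ Fintype.card V := Finset.card_le_univ _
    rw [← Nat.card_eq_fintype_card, hV] at hcard
    rw [Finset.card_insert_of_notMem (by simp [hX.symm, hY.symm, hZ1.symm, hne.1.symm]),
      Finset.card_insert_of_notMem (by simp [hXY, hY, hne.2.1.symm]),
      Finset.card_insert_of_notMem (by simp [hX, hne.2.2.1.symm]),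
      Finset.card_insert_of_notMem (by simp [hne.2.2.2.symm]), Finset.card_singleton] at hcard
    omega
  set f := φ g with hf
  have f3 : ∀ Z, f (f (f Z)) = Z := fun Z => by
    have := DFunLike.congr_fun hg3 Z
    simpa [pow_succ, MulAut.mul_apply] using this
  -- `f` fixes no nontrivial element
  have hfree : ∀ A : V, A ≠ 1 → f A ≠ A := by
    intro A hA hfA
    have hall' : ∀ B, f B = B := by
      intro B
      by_contra hB
      have hB1 : B ≠ 1 := fun e => hB (by rw [e, map_one])
      have hBA : B ≠ A := fun e => hB (by rw [e, hfA])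
      have h' : f B = A * B := by
        have hf1 : f B ≠ 1 := fun e => hB1 (f.map_eq_one_iff.1 e)
        have hfa : f B ≠ A := fun e => hBA (f.injective (e.trans hfA.symm))
        by_contra hne
        have := Fintype.ofFinite V
        have hAB : A * B ≠ 1 := fun e => hBA (by rw [← inv' A]; exact eq_inv_of_mul_eq_one_right e)
        have hcard : ({1, A, B, A * B, f B} : Finset V).card ≤ Fintype.card V := Finset.card_le_univ _
        rw [← Nat.card_eq_fintype_card, hV] at hcard
        rw [Finset.card_insert_of_notMem (by simp [hA.symm, hB1.symm, hAB.symm, hf1.symm]),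
          Finset.card_insert_of_notMem (by simp [hBA.symm, hB1, hfa.symm]),
          Finset.card_insert_of_notMem (by simp [hA, Ne.symm hB]),
          Finset.card_insert_of_notMem (by simp [Ne.symm hne]), Finset.card_singleton] at hcard
        omega
      have := f3 B
      have e2 : f (f B) = B := by rw [h', map_mul, hfA, h', ← mul_assoc, sq A, one_mul]
      rw [e2, h'] at this
      exact hA (mul_eq_right.1 this)
    -- then `N(V) = C(V)`
    obtain ⟨-, h3⟩ := sylow_normalizer F (p := 2) Nat.prime_two V (Or.inr ⟨hV, rfl⟩)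
    refine h3 fun n hn => ?_
    have hker : φ.ker = ⊤ := by
      have hg' : g ∈ φ.ker := MulEquiv.ext hall'
      have hV' : V.subgroupOf (normalizer (V : Set G)) ≤ φ.ker := fun v hv => MulEquiv.ext fun B => Subtype.ext (by
        show (v : G) * B * (v : G)⁻¹ = B
        have := congrArg Subtype.val (comm ⟨v, hv⟩ B)
        rw [show (v : G) * B = B * v from this, mul_inv_cancel_right])
      refine eq_top_of_card_eq _ (Nat.dvd_antisymm (card_subgroup_dvd_card _) ?_)
      rw [hN, show (12 : ℕ) = 3 * 4 from rfl]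
      refine Nat.Coprime.mul_dvd_of_dvd_of_dvd (by norm_num) ?_ ?_
      · rw [← hg]; exact orderOf_mk g hg' ▸ orderOf_dvd_natCard _
      · rw [← hV, ← Nat.card_congr (subgroupOfEquivOfLe (le_normalizer : V ≤ _)).toEquiv]
        exact card_dvd_of_le hV'
    intro v hv
    have h1 : φ ⟨n, hn⟩ = 1 := by rw [← MonoidHom.mem_ker, hker]; exact mem_top _
    have h2 := congrArg (fun e : MulAut V => ((e ⟨v, hv⟩ : V) : G)) h1
    exact (mul_inv_eq_iff_eq_mul.1 h2).symm
  have hfX : f X = Y ∨ f (f X) = Y := by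
    rcases hall (f X) with e | e | e | e
    · exact absurd (f.map_eq_one_iff.1 e) hX
    · exact absurd e (hfree X hX)
    · exact Or.inl e
    · right
      rcases hall (f Y) with e' | e' | e' | e'
      · exact absurd (f.map_eq_one_iff.1 e') hY
      · rw [e, map_mul, e, e', comm X Y, mul_assoc, sq, mul_one]
      · exact absurd e' (hfree Y hY)
      · exact absurd (f.injective (e.trans e'.symm)) hXY
  rcases hfX with e | e
  · exact isConj_iff.2 ⟨(g : G), congrArg Subtype.val e⟩
  · refine isConj_iff.2 ⟨(g : G) * g, ?_⟩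
    have e' : (g : G) * ((g : G) * x * (g : G)⁻¹) * (g : G)⁻¹ = y := congrArg Subtype.val e
    simpa [mul_assoc] using e'

theorem card_two {H : Subgroup G} (h : Nat.card H = 2) : Nat.card (normalizer (H : Set G)) = 12 := by
  haveI := Fact.mk Nat.prime_two
  obtain ⟨t, ht⟩ := exists_prime_orderOf_dvd_card' (G := H) 2 (by rw [h])
  obtain ⟨s, hs, u, hu, hus⟩ := exists_six F
  have ht' : orderOf (t : G) = 2 := by rw [orderOf_coe, ht]
  have hHt : H = zpowers (t : G) := (eq_of_le_of_card_ge (zpowers_le.2 t.2) (by rw [Nat.card_zpowers, ht', h])).symm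
  -- a four-group through a given involution
  have hV : ∀ r : G, orderOf r = 2 → ∃ P : Sylow 2 G, r ∈ (P : Subgroup G) ∧ Nat.card (P : Subgroup G) = 4 := by
    intro r hr
    obtain ⟨P, hP⟩ := (IsPGroup.of_card (n := 1) (by rw [Nat.card_zpowers, hr, pow_one]) :
      IsPGroup 2 (zpowers r)).exists_le_sylow
    refine ⟨P, hP (mem_zpowers r), ?_⟩
    obtain ⟨j, hj⟩ := IsPGroup.iff_card.1 P.2
    have h1 := card_mul_index (P : Subgroup G)
    have h2 := P.not_dvd_index
    have h3 : Nat.card (P : Subgroup G) ∣ 1092 := F.card ▸ card_subgroup_dvd_card _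
    rw [hj, F.card] at h1
    rw [hj] at h3 ⊢
    have hj2 : j ≤ 2 := by
      by_contra hlt
      have := (pow_dvd_pow 2 (show 3 ≤ j by omega)).trans h3
      norm_num at this
    have : ∀ c, (P : Subgroup G).index ≠ 2 * c := fun c hc => h2 ⟨c, hc⟩
    rcases (show j = 0 ∨ j = 1 ∨ j = 2 by omega) with rfl | rfl | rfl
    · exact absurd (show (P : Subgroup G).index = 2 * 546 by omega) (this _)
    · exact absurd (show (P : Subgroup G).index = 2 * 273 by omega) (this _)
    · rfl
  obtain ⟨P, hsP, hPc⟩ := hV s hs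
  obtain ⟨R, htR, hRc⟩ := hV (t : G) ht'
  obtain ⟨k, hk⟩ := MulAction.exists_smul_eq G R P
  have htP : k * (t : G) * k⁻¹ ∈ (P : Subgroup G) := by
    rw [← hk]; exact Subgroup.smul_mem_pointwise_smul _ (MulAut.conj k) _ htR
  have hne : ∀ r : G, orderOf r = 2 → r ≠ 1 := fun r hr e => by rw [e, orderOf_one] at hr; omega
  have hcj : IsConj (t : G) s :=
    (isConj_iff.2 ⟨k, rfl⟩).trans (four_conj F hPc htP hsP
      (fun e => hne _ ht' (conj_eq_one_iff.1 e)) (hne _ hs))
  obtain ⟨c, hc⟩ := isConj_iff.1 hcj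
  -- `u' = c⁻¹ u c` centralises `t`
  obtain ⟨hN, h4, -⟩ := card_normalizer_mem F (H := H) (fun e => by rw [e, card_bot] at h; omega)
    (ne_top F (by omega))
  have hCN : centralizer ({(t : G)} : Set G) ≤ normalizer (H : Set G) := by
    have e : normalizer (H : Set G) = normalizer ((zpowers (t : G)) : Set G) :=
      congrArg (fun K : Subgroup G => normalizer (K : Set G)) hHt
    rw [e, zpowers_eq_closure, ← centralizer_closure]
    exact centralizer_le_normalizer _
  have h3 : 3 ∣ Nat.card (normalizer (H : Set G)) := by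
    have hmem : c⁻¹ * u * c ∈ normalizer (H : Set G) := by
      refine hCN (mem_centralizer_singleton_iff.2 ?_)
      rw [← hc] at hus
      calc c⁻¹ * u * c * (t : G) = c⁻¹ * (u * (c * t * c⁻¹)) * c := by group
        _ = c⁻¹ * ((c * t * c⁻¹) * u) * c := by rw [hus]
        _ = (t : G) * (c⁻¹ * u * c) := by group
    have ho : orderOf (c⁻¹ * u * c) = 3 := by
      have : c⁻¹ * u * c = MulAut.conj c⁻¹ u := by simp [MulAut.conj_apply]
      rw [this, MulEquiv.orderOf_eq, hu]
    rw [← ho, ← orderOf_mk _ hmem]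
    exact orderOf_dvd_natCard _
  have h4' : 4 ∣ Nat.card (normalizer (H : Set G)) := by
    rw [← hRc]
    refine card_dvd_of_le (le_trans (fun r hr => mem_centralizer_singleton_iff.2 ?_) hCN)
    obtain ⟨-, hsq⟩ := card_four F hRc
    have e1 := hsq _ (mul_mem hr htR)
    have er := eq_inv_of_mul_eq_one_left (hsq r hr)
    have et := eq_inv_of_mul_eq_one_left (hsq _ htR)
    have e2 : r * (t : G) = (t : G)⁻¹ * r⁻¹ := by rw [← mul_inv_rev]; exact eq_inv_of_mul_eq_one_left e1
    rw [e2, ← et, ← er]
  simp only [orders, List.mem_cons, List.not_mem_nil, or_false] at h4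
  obtain ⟨a, ha⟩ := h3
  obtain ⟨b, hb⟩ := h4'
  omega

/-- Nontrivial proper subgroups have maximal normalisers. -/
theorem main {H : Subgroup G} (h1 : H ≠ ⊥) (h2 : H ≠ ⊤) : IsCoatom (normalizer (H : Set G)) := by
  obtain ⟨hN, -, -⟩ := card_normalizer_mem F h1 h2
  have hself : IsCoatom H → IsCoatom (normalizer (H : Set G)) := fun h => by
    rcases (le_normalizer : H ≤ normalizer (H : Set G)).eq_or_lt with e | e
    · rw [← e]; exact h
    · exact absurd (h.2 _ e) hN
  -- a subgroup normal in the maximal normaliser of a characteristic one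
  have hup : ∀ Q : Subgroup G, (Nat.card (normalizer (Q : Set G)) = 12 ∨ Nat.card (normalizer (Q : Set G)) = 78) →
      H ≤ normalizer (Q : Set G) → (H.subgroupOf (normalizer (Q : Set G))).Normal → IsCoatom (normalizer (H : Set G)) := by
    intro Q hQ hle hn
    have hM : IsCoatom (normalizer (Q : Set G)) := maximal_of_card F (by omega)
    have hle2 := (normal_subgroupOf_iff_le_normalizer hle).1 hn
    rcases hle2.eq_or_lt with e | e
    · rw [← e]; exact hM
    · exact absurd (hM.2 _ e) hN
  have hc := F.sub H h2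
  simp only [orders, List.mem_cons, List.not_mem_nil, or_false] at hc
  rcases hc with h | h | h | h | h | h | h | h | h | h | h | h
  · exact absurd ((card_eq_one).1 h) h1
  · exact maximal_of_card F (Or.inl (card_two F h))
  · exact maximal_of_card F (Or.inl (card_three F h))
  · exact maximal_of_card F (Or.inl (card_four F h).1)
  · -- order `6`
    haveI := Fact.mk (show Nat.Prime 3 by norm_num)
    obtain ⟨v, hv⟩ := exists_prime_orderOf_dvd_card' (G := H) 3 (by rw [h]; norm_num)
    have hvH : zpowers (v : G) ≤ H := zpowers_le.2 v.2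
    have hv3 : Nat.card (zpowers (v : G)) = 3 := by rw [Nat.card_zpowers, orderOf_coe, hv]
    have hle : H ≤ normalizer ((zpowers (v : G)) : Set G) := by
      refine (normal_subgroupOf_iff_le_normalizer hvH).1 (normal_of_index_eq_two ?_)
      have e := ((zpowers (v : G)).subgroupOf H).card_mul_index
      rw [Nat.card_congr (subgroupOfEquivOfLe hvH).toEquiv, hv3, h] at e
      omega
    refine hup _ (Or.inl (card_three F hv3)) hle (normal_of_index_eq_two ?_)
    have e := (H.subgroupOf (normalizer ((zpowers (v : G)) : Set G))).card_mul_index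
    rw [Nat.card_congr (subgroupOfEquivOfLe hle).toEquiv, h, card_three F hv3] at e
    omega
  · exact maximal_of_card F (Or.inr (Or.inl (card_seven F h)))
  · exact hself (maximal_of_card F (Or.inl h))
  · exact maximal_of_card F (Or.inr (Or.inr (card_thirteen F h)))
  · exact hself (maximal_of_card F (Or.inr (Or.inl h)))
  all_goals
    -- the orders `26`, `39`, `78`
    haveI := Fact.mk (show Nat.Prime 13 by norm_num)
    obtain ⟨P⟩ : Nonempty (Sylow 13 H) := inferInstance
    have hn13 := card_sylow_modEq_one 13 H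
    have hmul : Nat.card (P : Subgroup H) = 13 := by
      obtain ⟨j, hj⟩ := IsPGroup.iff_card.1 P.2
      have e := card_mul_index (P : Subgroup H)
      rw [hj, h] at e
      rcases j with _ | _ | j
      · exfalso
        rw [pow_zero, one_mul] at e
        exact P.not_dvd_index (by rw [e]; norm_num)
      · rw [hj]; rfl
      · exfalso
        rw [show j + 1 + 1 = 2 + j by omega, pow_add, mul_assoc] at e
        omega
    have hPn : (P : Subgroup H).Normal := by
      have e := card_mul_index (P : Subgroup H)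
      rw [hmul, h] at e
      obtain ⟨c, hc⟩ := P.card_dvd_index
      have hpos : 0 < Nat.card (Sylow 13 H) := Nat.card_pos
      have hle : Nat.card (Sylow 13 H) ≤ (P : Subgroup H).index := Nat.le_of_dvd (by omega) ⟨c, hc⟩
      have h13 : Nat.card (Sylow 13 H) % 13 = 1 := hn13
      haveI : Subsingleton (Sylow 13 H) := (Nat.card_eq_one_iff_unique.1 (by omega)).1
      exact P.normal_of_subsingleton
    let Q := (P : Subgroup H).map H.subtype
    have hQ : Nat.card Q = 13 := by rw [card_map_of_injective H.subtype_injective, hmul]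
    have hQH : Q ≤ H := map_subtype_le _
    have hle : H ≤ normalizer (Q : Set G) := by
      intro x hx
      rw [mem_normalizer_iff]
      intro y
      constructor
      · rintro ⟨z, hz, rfl⟩
        exact ⟨⟨x, hx⟩ * z * ⟨x, hx⟩⁻¹, hPn.conj_mem z hz _, rfl⟩
      · rintro ⟨z, hz, e⟩
        refine ⟨⟨x, hx⟩⁻¹ * z * ⟨x, hx⟩⁻¹⁻¹, hPn.conj_mem z hz _, ?_⟩
        show x⁻¹ * H.subtype z * x⁻¹⁻¹ = y
        rw [e]; group
    refine hup Q (Or.inr (card_thirteen F hQ)) hle ?_
    -- `N(Q)/Q` is abelian
    let φ : normalizer (Q : Set G) →* MulAut Q := normalizerMonoidHom Q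
    have hker : φ.ker ≤ H.subgroupOf (normalizer (Q : Set G)) := by
      intro x hx
      rw [mem_subgroupOf]
      refine hQH ?_
      by_contra hxQ
      obtain ⟨u, hu⟩ := exists_prime_orderOf_dvd_card' (G := Q) 13 (by rw [hQ])
      have hcomm : Commute (x : G) (u : G) := by
        have h2 := congrArg (fun e : MulAut Q => ((e u : Q) : G)) (show φ x = 1 from hx)
        exact mul_inv_eq_iff_eq_mul.1 h2
      rcases F.ord (x : G) with e | e | e
      · refine hxQ ?_
        have hle' : Q ≤ zpowers (x : G) ⊔ Q := le_sup_right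
        have h13 : IsPGroup 13 (zpowers (x : G)) := by
          obtain ⟨j, -, hj⟩ := (Nat.dvd_prime_pow (by norm_num : Nat.Prime 13)).1
            ((orderOf_dvd_of_pow_eq_one e).trans (pow_one 13).symm.dvd)
          exact IsPGroup.of_card (by rw [Nat.card_zpowers, hj])
        have hJ : IsPGroup 13 (zpowers (x : G) ⊔ Q : Subgroup G) :=
          h13.to_sup_of_normal_right' (IsPGroup.of_card (n := 1) (by rw [hQ, pow_one])) (zpowers_le.2 x.2)
        obtain ⟨j, hj⟩ := IsPGroup.iff_card.1 hJ
        have hd : 13 ^ j ∣ 1092 := F.card ▸ hj ▸ card_subgroup_dvd_card _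
        have hj1 : j ≤ 1 := by
          by_contra hlt
          have := (pow_dvd_pow 13 (show 2 ≤ j by omega)).trans hd
          norm_num at this
        have heq : Q = zpowers (x : G) ⊔ Q := eq_of_le_of_card_ge hle' (by
          rw [hj, hQ]; exact (Nat.pow_le_pow_right (by norm_num) hj1).trans (pow_one 13).le)
        exact heq.ge (mem_sup_left (mem_zpowers _))
      all_goals
        have hd := orderOf_dvd_of_pow_eq_one e
        have hu' : orderOf (u : G) = 13 := by rw [orderOf_coe, hu]
        have hcop : (orderOf (x : G)).Coprime 13 :=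
          Nat.Coprime.coprime_dvd_left hd (by norm_num)
        have ho : orderOf ((x : G) * u) = orderOf (x : G) * 13 := by
          rw [hcomm.orderOf_mul_eq_mul_orderOf_of_coprime (by rw [hu']; exact hcop), hu']
        have hx1 : orderOf (x : G) ≠ 1 := fun e' => hxQ (by rw [orderOf_eq_one_iff.1 e']; exact one_mem _)
        rcases F.ord ((x : G) * u) with e' | e' | e'
        all_goals
          have hd' := orderOf_dvd_of_pow_eq_one e'
          rw [ho] at hd'
        · exact hx1 (Nat.dvd_one.1 (Nat.dvd_of_mul_dvd_mul_right (by norm_num : 0 < 13) (hd'.trans (one_mul 13).symm.dvd)))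
        all_goals
          have := (Dvd.intro_left _ rfl : 13 ∣ orderOf (x : G) * 13).trans hd'
          norm_num at this
    haveI : IsCyclic Q := isCyclic_of_prime_card (p := 13) hQ
    refine ⟨fun a ha b => ?_⟩
    have hab : φ (b * a * b⁻¹) = φ a := by
      have hc : φ b * φ a = φ a * φ b := (IsCyclic.mulAutMulEquiv Q).injective (by rw [map_mul, map_mul, mul_comm])
      rw [map_mul, map_mul, map_inv, hc, mul_inv_cancel_right]
    have : b * a * b⁻¹ * a⁻¹ ∈ φ.ker := by rw [MonoidHom.mem_ker, map_mul, hab, map_inv, mul_inv_cancel]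
    have := mul_mem (hker this) ha
    rwa [inv_mul_cancel_right] at this

end Abstract

end CfsgLib.FGStruct.ThirteenNorm
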