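import Mathlib
import Cfsg.Agent.Lib.FGStruct.ThirteenNorm

/-!
Non-normal subgroups of `K × S`, for `K` one of `PSL(2,13)`, `SL(2,13)` and `S` abelian of coprime
order, have maximal normalisers.
-/

open Subgroup

namespace CfsgLib.FGStruct.ThirteenNorm

instance fact13 : Fact (Nat.Prime 13) := ⟨by norm_num⟩

theorem facts_psl : Facts (CfsgLib.PSL2Sub.PS (ZMod 13)) := by
  have hq : Fintype.card (ZMod 13) = 13 := ZMod.card 13
  have hcard : Nat.card (CfsgLib.PSL2Sub.PS (ZMod 13)) = 1092 := by
    have h := CfsgLib.PSL2Sub.gcd_mul_card_PS (F := ZMod 13)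
    rw [hq, show Nat.gcd 2 (13 - 1) = 2 from rfl] at h
    omega
  haveI hs : IsSimpleGroup (CfsgLib.PSL2Sub.PS (ZMod 13)) :=
    CfsgLib.Linear.isSimpleGroup_PSL_fin 2 le_rfl fun _ => by
      rw [Nat.card_eq_fintype_card, hq]; norm_num
  refine ⟨hs, hcard, fun g => ?_, fun H hH => ?_⟩
  · have h := CfsgLib.SL2Trace.psl_pow_cases 13 g
    rw [hq] at h
    norm_num at h
    exact h
  · simp only [orders, List.mem_cons, List.not_mem_nil, or_false]
    have htor : ∀ k, CfsgLib.PSL2Sub.DvdTorus (Fintype.card (ZMod 13)) k →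
        k = 1 ∨ k = 2 ∨ k = 3 ∨ k = 6 ∨ k = 7 := by
      intro k hk
      rw [CfsgLib.PSL2Sub.DvdTorus, hq] at hk
      norm_num at hk
      rcases hk with hk | hk
      · rcases (Nat.dvd_prime (by norm_num : Nat.Prime 7)).1 hk with e | e <;> omega
      · have := Nat.le_of_dvd (by norm_num) hk
        interval_cases k <;> omega
    have hdvd : Nat.card H ∣ 1092 := hcard ▸ card_subgroup_dvd_card H
    rcases CfsgLib.PSL2Sub.classify_psl 13 H with h | ⟨k, hk2, -, hk, ⟨e⟩⟩ | ⟨h13, y, hy⟩ | h | h | h | ⟨E, hE⟩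
    · rcases htor _ h.2.2 with e | e | e | e | e <;> omega
    · rw [Nat.card_congr e.toEquiv, DihedralGroup.nat_card]
      rcases htor _ hk with e | e | e | e | e <;> omega
    · have h1 : H ≤ CfsgLib.PSL2Sub.pointStab y := fun g hg => hy g hg
      have h2 := CfsgLib.PSL2Sub.gcd_mul_card_pointStab y
      rw [hq] at h2
      norm_num at h2
      have h3 := card_dvd_of_le h1
      rw [show Nat.card (CfsgLib.PSL2Sub.pointStab y) = 78 by omega] at h3
      obtain ⟨c, hc⟩ := h13
      have hle := Nat.le_of_dvd (by norm_num) h3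
      rw [hc] at h3 hle ⊢
      have hc6 : c ∣ 6 := Nat.dvd_of_mul_dvd_mul_left (by norm_num : 0 < 13) h3
      have := Nat.le_of_dvd (by norm_num) hc6
      interval_cases c <;> omega
    · obtain ⟨-, hc⟩ := CfsgLib.PSL2Sub.exceptional_facts 13 (Or.inl h)
      rcases hc with ⟨hc, -⟩ | ⟨hc, -⟩ | ⟨hc, -⟩ <;> rw [hc] at hdvd <;> first | omega | norm_num at hdvd
    · obtain ⟨-, hc⟩ := CfsgLib.PSL2Sub.exceptional_facts 13 (Or.inr (Or.inl h))
      rcases hc with ⟨hc, -⟩ | ⟨hc, -⟩ | ⟨hc, -⟩ <;> rw [hc] at hdvd <;> first | omega | norm_num at hdvd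
    · obtain ⟨-, hc⟩ := CfsgLib.PSL2Sub.exceptional_facts 13 (Or.inr (Or.inr h))
      rcases hc with ⟨hc, -⟩ | ⟨hc, -⟩ | ⟨hc, -⟩ <;> rw [hc] at hdvd <;> first | omega | norm_num at hdvd
    · obtain ⟨-, h3, hsq, -⟩ := CfsgLib.PSL2Sub.field_bounds 13 hH hE
      have h3' := h3 (by norm_num)
      obtain ⟨m, hm0, hm⟩ := CfsgLib.PSL2Sub.card_subfield_pow E
      rw [hq] at hsq hm
      have : Nat.card E = 3 := by nlinarith
      rw [this] at hm
      have : 3 ∣ 3 ^ m := dvd_pow_self 3 (by omega)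
      omega

/-- Pulling the result back along a central extension. -/
theorem main_ext {K G : Type*} [Group K] [Group G] [Finite G] (F : Facts G) (f : K →* G)
    (hf : Function.Surjective f) (hker : f.ker ≤ center K)
    (hH : ∀ H : Subgroup K, f.ker ≤ H ∨ (Nat.card H).Coprime (Nat.card f.ker))
    (H : Subgroup K) (hn : ¬ H.Normal) : IsCoatom (normalizer (H : Set K)) := by
  haveI := F.simple
  have key : normalizer (H : Set K) = (normalizer ((H.map f : Subgroup G) : Set G)).comap f := by
    rw [comap_normalizer_eq_of_surjective _ hf, comap_map_eq]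
    refine le_antisymm (fun g hg => ?_) (fun g hg => ?_)
    · rw [← CfsgLib.Solvable.conj_smul_eq_self_iff] at hg ⊢
      rw [smul_sup, hg]
      congr 1
      exact CfsgLib.Solvable.conj_smul_eq_self_iff.2 (by rw [normalizer_eq_top_iff.2 inferInstance]; exact mem_top _)
    · rcases hH H with hk | hk
      · rwa [sup_of_le_left hk] at hg
      rw [mem_normalizer_iff] at hg ⊢
      have hmem : ∀ y ∈ H ⊔ f.ker, (∃ n, (Nat.card H).Coprime n ∧ y ^ Nat.card H = 1) → y ∈ H := by
        rintro y hy ⟨-, -, hy1⟩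
        obtain ⟨h, hh, z, hz, rfl⟩ := mem_sup_of_normal_right.1 hy
        have hc : Commute h z := mem_center_iff.1 (hker hz) h
        have hh1 : h ^ Nat.card H = 1 := congrArg Subtype.val (pow_card_eq_one' (x := (⟨h, hh⟩ : H)))
        rw [hc.mul_pow, hh1, one_mul] at hy1
        have hz1 : z ^ Nat.card f.ker = 1 := congrArg Subtype.val (pow_card_eq_one' (x := (⟨z, hz⟩ : f.ker)))
        have hz0 : z = 1 := by
          rw [← orderOf_eq_one_iff]
          exact Nat.dvd_one.1 (hk ▸ Nat.dvd_gcd (orderOf_dvd_of_pow_eq_one hy1) (orderOf_dvd_of_pow_eq_one hz1))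
        rw [hz0, mul_one]; exact hh
      intro h
      constructor
      · intro hh
        refine hmem _ ((hg h).1 (mem_sup_left hh)) ⟨1, Nat.coprime_one_right _, ?_⟩
        have h1 : h ^ Nat.card H = 1 := congrArg Subtype.val (pow_card_eq_one' (x := (⟨h, hh⟩ : H)))
        rw [conj_pow, h1, mul_one, mul_inv_cancel]
      · intro hh
        refine hmem _ ((hg h).2 (mem_sup_left hh)) ⟨1, Nat.coprime_one_right _, ?_⟩
        have h1 : (g * h * g⁻¹) ^ Nat.card H = 1 := congrArg Subtype.val (pow_card_eq_one' (x := (⟨_, hh⟩ : H)))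
        rwa [conj_pow, mul_inv_eq_one, mul_eq_left] at h1
  have hb : H.map f ≠ ⊥ := fun e => by
    refine hn ⟨fun x hx g => ?_⟩
    have : x ∈ center K := hker ((map_eq_bot_iff H).1 e hx)
    rw [mem_center_iff.1 this g, mul_inv_cancel_right]
    exact hx
  have ht : H.map f ≠ ⊤ := fun e => by
    refine hn (normalizer_eq_top_iff.1 ?_)
    rw [key, e, normalizer_eq_top_iff.2 inferInstance, comap_top]
  rw [key]
  obtain ⟨h1, h2⟩ := main F hb ht
  refine ⟨fun e => h1 (comap_injective hf (e.trans (comap_top f).symm)), fun L hL => ?_⟩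
  have hkL : f.ker ≤ L := le_trans (by
    intro x hx; rw [mem_comap, MonoidHom.mem_ker.1 hx]; exact one_mem _) hL.le
  rw [← sup_of_le_left hkL, ← comap_map_eq, h2 (L.map f) ?_, comap_top]
  refine lt_of_le_of_ne ?_ fun e => hL.ne ?_
  · rw [← map_comap_eq_self_of_surjective hf (normalizer _)]; exact map_mono hL.le
  · rw [e, comap_map_eq, sup_of_le_left hkL]

theorem center_of_sq_eq_one (x : Matrix.SpecialLinearGroup (Fin 2) (ZMod 13)) (hx : x * x = 1) :
    x ∈ center (Matrix.SpecialLinearGroup (Fin 2) (ZMod 13)) := by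
  have hinv : x⁻¹ = x := (eq_inv_of_mul_eq_one_left hx).symm
  have e : Matrix.adjugate (x : Matrix (Fin 2) (Fin 2) (ZMod 13)) = (x : Matrix (Fin 2) (Fin 2) (ZMod 13)) := by
    rw [← Matrix.SpecialLinearGroup.coe_inv, hinv]
  rw [Matrix.adjugate_fin_two] at e
  have h00 := congrFun (congrFun e 0) 0
  have h01 := congrFun (congrFun e 0) 1
  have h10 := congrFun (congrFun e 1) 0
  simp at h00 h01 h10
  have hb : (x : Matrix (Fin 2) (Fin 2) (ZMod 13)) 0 1 = 0 := by
    have : ∀ b : ZMod 13, -b = b → b = 0 := by decide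
    exact this _ h01
  have hc : (x : Matrix (Fin 2) (Fin 2) (ZMod 13)) 1 0 = 0 := by
    have : ∀ b : ZMod 13, -b = b → b = 0 := by decide
    exact this _ h10
  rw [mem_center_iff]
  intro g
  apply Matrix.SpecialLinearGroup.ext
  intro i j
  fin_cases i <;> fin_cases j <;>
    simp [Matrix.SpecialLinearGroup.coe_mul, Matrix.mul_apply, Fin.sum_univ_two, hb, hc, h00] <;> ring

theorem ker_sl :
    let π := QuotientGroup.mk' (center (Matrix.SpecialLinearGroup (Fin 2) (ZMod 13)))
    ∀ H : Subgroup (Matrix.SpecialLinearGroup (Fin 2) (ZMod 13)),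
      π.ker ≤ H ∨ (Nat.card H).Coprime (Nat.card π.ker) := by
  intro π H
  have hker : π.ker = center _ := QuotientGroup.ker_mk' _
  have h2 : Nat.card π.ker = 2 := by
    rw [hker]
    have h := (center (Matrix.SpecialLinearGroup (Fin 2) (ZMod 13))).card_eq_card_quotient_mul_card_subgroup
    rw [CfsgLib.Linear.card_SL_two, show Nat.card ((Matrix.SpecialLinearGroup (Fin 2) (ZMod 13)) ⧸
      center (Matrix.SpecialLinearGroup (Fin 2) (ZMod 13))) = 1092 from facts_psl.card, ZMod.card] at h
    norm_num at h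
    rw [← Nat.card_eq_fintype_card] at h
    omega
  rw [h2, Nat.coprime_two_right]
  rcases Nat.even_or_odd (Nat.card H) with he | ho
  · left
    haveI := Fact.mk Nat.prime_two
    obtain ⟨x, hx⟩ := exists_prime_orderOf_dvd_card' (G := H) 2 (even_iff_two_dvd.1 he)
    have hx' : orderOf (x : Matrix.SpecialLinearGroup (Fin 2) (ZMod 13)) = 2 := by rw [orderOf_coe, hx]
    have hxk : (x : Matrix.SpecialLinearGroup (Fin 2) (ZMod 13)) ∈ π.ker := by
      rw [hker]
      refine center_of_sq_eq_one _ ?_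
      have := pow_orderOf_eq_one (x : Matrix.SpecialLinearGroup (Fin 2) (ZMod 13))
      rw [hx', pow_two] at this
      exact this
    have e : zpowers (x : Matrix.SpecialLinearGroup (Fin 2) (ZMod 13)) = π.ker :=
      eq_of_le_of_card_ge (zpowers_le.2 hxk) (by rw [Nat.card_zpowers, hx', h2])
    rw [← e]
    exact zpowers_le.2 x.2
  · exact Or.inr ho

/-- The statement for one of the two groups. -/
theorem main_prod {K S : Type*} [Group K] [CommGroup S] [Finite K] [Finite S]
    (hKS : (Nat.card K).Coprime (Nat.card S))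
    (hK : ∀ H : Subgroup K, ¬ H.Normal → IsCoatom (normalizer (H : Set K)))
    (H : Subgroup (K × S)) (hH : ¬ H.Normal) : IsCoatom (normalizer (H : Set (K × S))) := by
  let f := MonoidHom.fst K S
  have hproj : ∀ z ∈ H, ((z.1, (1 : S)) : K × S) ∈ H := by
    intro z hz
    obtain ⟨n, hn1, hn2⟩ := Nat.chineseRemainder hKS 1 0
    have e : z ^ n = (z.1, 1) := by
      refine Prod.ext ?_ ?_
      · rw [Prod.pow_fst]
        show z.1 ^ n = z.1
        conv_rhs => rw [← pow_one z.1]
        exact pow_eq_pow_iff_modEq.2 (hn1.of_dvd (_root_.orderOf_dvd_natCard _))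
      · rw [Prod.pow_snd]
        show z.2 ^ n = 1
        exact orderOf_dvd_iff_pow_eq_one.1 ((_root_.orderOf_dvd_natCard _).trans (Nat.modEq_zero_iff_dvd.1 hn2))
    exact e ▸ pow_mem hz n
  have hsnd : ∀ z ∈ H, ((1 : K), z.2) ∈ H := by
    intro z hz
    have e : ((1 : K), z.2) = ((z.1, (1 : S)) : K × S)⁻¹ * z := by
      ext <;> simp
    rw [e]; exact mul_mem (inv_mem (hproj z hz)) hz
  have hmem : ∀ z : K × S, z ∈ H ↔ z.1 ∈ H.map f ∧ ((1 : K), z.2) ∈ H := by
    refine fun z => ⟨fun h => ⟨⟨z, h, rfl⟩, hsnd z h⟩, ?_⟩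
    rintro ⟨⟨w, hw, e⟩, h2⟩
    have e' : w.1 = z.1 := e
    have := mul_mem (hproj w hw) h2
    simpa [e'] using this
  have key : normalizer (H : Set (K × S)) = (normalizer ((H.map f : Subgroup K) : Set K)).comap f := by
    ext g
    rw [mem_comap, mem_normalizer_iff, mem_normalizer_iff]
    have hc : ∀ z : K × S, (g * z * g⁻¹).1 = g.1 * z.1 * g.1⁻¹ ∧ (g * z * g⁻¹).2 = z.2 := fun z =>
      ⟨rfl, by show g.2 * z.2 * g.2⁻¹ = z.2; rw [mul_inv_cancel_comm]⟩
    constructor
    · intro h k
      have h1 := h (k, 1)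
      rw [hmem, hmem (g * (k, 1) * g⁻¹), (hc _).1, (hc _).2] at h1
      have h0 : ((1 : K), (1 : S)) ∈ H := one_mem H
      simpa [h0, f] using h1
    · intro h z
      rw [hmem z, hmem (g * z * g⁻¹), (hc _).1, (hc _).2]
      exact and_congr_left fun _ => h z.1
  have hn : ¬ (H.map f).Normal := fun hn => hH (normalizer_eq_top_iff.1 (by
    rw [key, normalizer_eq_top_iff.2 hn, comap_top]))
  have hf : Function.Surjective f := fun k => ⟨(k, 1), rfl⟩
  obtain ⟨h1, h2⟩ := hK _ hn
  rw [key]
  refine ⟨fun e => h1 (comap_injective hf (e.trans (comap_top f).symm)), fun L hL => ?_⟩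
  have hkL : f.ker ≤ L := le_trans (by
    intro x hx; rw [mem_comap, MonoidHom.mem_ker.1 hx]; exact one_mem _) hL.le
  rw [← sup_of_le_left hkL, ← comap_map_eq, h2 (L.map f) ?_, comap_top]
  refine lt_of_le_of_ne ?_ fun e => hL.ne ?_
  · rw [← map_comap_eq_self_of_surjective hf (normalizer _)]; exact map_mono hL.le
  · rw [e, comap_map_eq, sup_of_le_left hkL]

/-- The statement. -/
theorem main_thirteen {K S : Type*} [Group K] [CommGroup S] [Finite K] [Finite S]
    (hK : Nonempty (K ≃* Matrix.ProjectiveSpecialLinearGroup (Fin 2) (ZMod 13)) ∨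
      Nonempty (K ≃* Matrix.SpecialLinearGroup (Fin 2) (ZMod 13)))
    (hKS : (Nat.card K).Coprime (Nat.card S)) (H : Subgroup (K × S)) (hH : ¬ H.Normal) :
    IsCoatom (normalizer (H : Set (K × S))) := by
  refine main_prod hKS (fun A hA => ?_) H hH
  rcases hK with hK | hK <;> obtain ⟨e⟩ := hK
  · refine main_ext facts_psl e.toMonoidHom e.surjective ?_ (fun B => Or.inl ?_) A hA
    all_goals rw [(MonoidHom.ker_eq_bot_iff _).2 e.injective]; exact bot_le
  · let π := QuotientGroup.mk' (center (Matrix.SpecialLinearGroup (Fin 2) (ZMod 13)))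
    have hker : (π.comp e.toMonoidHom).ker = π.ker.comap e.toMonoidHom := (MonoidHom.comap_ker π e.toMonoidHom).symm
    have hcard : Nat.card (π.comp e.toMonoidHom).ker = Nat.card π.ker := by
      conv_rhs => rw [← map_comap_eq_self_of_surjective (f := e.toMonoidHom) e.surjective π.ker]
      rw [card_map_of_injective (f := e.toMonoidHom) e.injective, hker]
    refine main_ext facts_psl (π.comp e.toMonoidHom)
      ((QuotientGroup.mk'_surjective _).comp e.surjective) ?_ (fun B => ?_) A hA
    · intro x hx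
      rw [hker, mem_comap, QuotientGroup.ker_mk', mem_center_iff] at hx
      exact mem_center_iff.2 fun y => e.injective (by rw [map_mul, map_mul]; exact hx (e y))
    · rcases ker_sl (B.map e.toMonoidHom) with h | h
      · left
        rw [hker, ← comap_map_eq_self_of_injective (f := e.toMonoidHom) e.injective B]
        exact comap_mono h
      · right
        rw [hcard]
        rwa [← Nat.card_congr (B.equivMapOfInjective e.toMonoidHom e.injective).toEquiv] at h

end CfsgLib.FGStruct.ThirteenNorm
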