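import Mathlib
import Cfsg.Agent.Lib.SmallOrder.Auto

/-!
No simple group has exactly 35 Sylow 17-subgroups.
-/

open Subgroup MulAction
open scoped Pointwise

namespace CfsgLib.FGStruct.ThirtyFive

variable {G : Type*} [Group G] [Finite G] [IsSimpleGroup G] [hp : Fact (Nat.Prime 17)]

theorem exists_dvd_false_of_prime_sq {n : ℕ} (h : n ∣ (35 : ℕ).factorial) (k : ℕ) (hk : n = 17 ^ k) : k ≤ 2 := by
  by_contra hc
  have : 17 ^ 3 ∣ (35 : ℕ).factorial := ((pow_dvd_pow 17 (by omega : 3 ≤ k)).trans hk.symm.dvd).trans h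
  revert this
  norm_num [Nat.factorial]

theorem dvd_card (h35 : Nat.card (Sylow 17 G) = 35) : 17 ∣ Nat.card G := by
  by_contra hc
  obtain ⟨P⟩ : Nonempty (Sylow 17 G) := inferInstance
  have hP : Nat.card (P : Subgroup G) = 1 := by
    rw [P.card_eq_multiplicity, Nat.factorization_eq_zero_of_not_dvd hc, pow_zero]
  have hn : Nat.card (Sylow 17 G) = (normalizer ((P : Subgroup G) : Set G)).index := P.card_eq_index_normalizer
  rw [Subgroup.card_eq_one.1 hP, h35] at hn
  rw [Subgroup.normalizer_eq_top_iff.2 inferInstance, index_top] at hn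
  omega

theorem not_comm (h35 : Nat.card (Sylow 17 G) = 35) : ¬ IsMulCommutative G := fun h => by
  obtain ⟨P⟩ : Nonempty (Sylow 17 G) := inferInstance
  have hn : Nat.card (Sylow 17 G) = (normalizer ((P : Subgroup G) : Set G)).index := P.card_eq_index_normalizer
  haveI : (P : Subgroup G).Normal := ⟨fun n hn g => by rw [h.is_comm.comm g n, mul_inv_cancel_right]; exact hn⟩
  rw [Subgroup.normalizer_eq_top_iff.2 inferInstance, index_top, h35] at hn
  omega

theorem faithful (h35 : Nat.card (Sylow 17 G) = 35) : Function.Injective (MulAction.toPermHom G (Sylow 17 G)) := by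
  rw [← MonoidHom.ker_eq_bot_iff]
  refine (inferInstance : (MulAction.toPermHom G (Sylow 17 G)).ker.Normal).eq_bot_or_eq_top.resolve_right fun h => ?_
  have : Subsingleton (Sylow 17 G) := ⟨fun A B => by
    obtain ⟨g, rfl⟩ := MulAction.exists_smul_eq G A B
    have hg : g ∈ (MulAction.toPermHom G (Sylow 17 G)).ker := h ▸ mem_top g
    exact (congrArg (fun f : Equiv.Perm (Sylow 17 G) => f A) hg).symm⟩
  have := Finite.card_le_one_iff_subsingleton.2 this
  omega

theorem eq_one_of_fix (h35 : Nat.card (Sylow 17 G) = 35) {y : G} (h : ∀ R : Sylow 17 G, y • R = R) : y = 1 :=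
  faithful h35 (by rw [map_one]; exact Equiv.ext h)

variable (P : Sylow 17 G)

/-- The orbit of a Sylow subgroup under `P`. -/
abbrev orb (a : Sylow 17 G) : Set (Sylow 17 G) := MulAction.orbit (P : Subgroup G) a

omit [IsSimpleGroup G] in
theorem eq_of_fixed {R : Sylow 17 G} (h : ∀ x : (P : Subgroup G), x • R = R) : R = P := by
  have h1 : R ∈ fixedPoints (P : Subgroup G) (Sylow 17 G) := h
  rw [P.2.sylow_mem_fixedPoints_iff] at h1
  exact Sylow.ext (P.3 R.2 h1)

omit [IsSimpleGroup G] in
theorem orb_card (h35 : Nat.card (Sylow 17 G) = 35) {a : Sylow 17 G} (ha : a ≠ P) : (orb P a).ncard = 17 := by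
  obtain ⟨k, hk⟩ := P.2.card_orbit a
  have hle : (orb P a).ncard ≤ 35 := h35 ▸ Set.ncard_le_card _
  rw [Nat.card_coe_set_eq] at hk
  rw [hk] at hle ⊢
  match k with
  | 0 =>
    exfalso
    refine ha (eq_of_fixed P fun x => ?_)
    obtain ⟨b, hb⟩ := Set.ncard_eq_one.1 (hk.trans (pow_zero 17))
    have h1 : x • a ∈ orb P a := mem_orbit a x
    have h2 : a ∈ orb P a := mem_orbit_self a
    unfold orb at h1 h2
    rw [hb, Set.mem_singleton_iff] at h1 h2
    rw [h1, h2]
  | 1 => norm_num
  | k + 2 => exact absurd hle (by rw [pow_add]; have := Nat.one_le_pow k 17 (by norm_num); omega)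

omit [IsSimpleGroup G] in
theorem self_notMem_orb {a : Sylow 17 G} (ha : a ≠ P) : P ∉ orb P a := by
  rintro ⟨x, hx⟩
  refine ha ?_
  change x • a = P at hx
  rw [← inv_smul_smul x a, hx]
  show ((x⁻¹ : (P : Subgroup G)) : G) • P = P
  rw [Sylow.smul_eq_iff_mem_normalizer]
  exact le_normalizer (inv_mem x.2)

omit [IsSimpleGroup G] in
theorem orb_eq_of_mem {a b : Sylow 17 G} (h : b ∈ orb P a) : orb P b = orb P a := orbit_eq_iff.2 h

omit [IsSimpleGroup G] in
/-- There are exactly two non-trivial orbits. -/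
theorem mem_orb_of_ne (h35 : Nat.card (Sylow 17 G) = 35) {a b c : Sylow 17 G} (ha : a ≠ P) (hb : b ≠ P)
    (hc : c ≠ P) (hab : b ∉ orb P a) : c ∈ orb P a ∨ c ∈ orb P b := by
  by_contra hh
  push Not at hh
  have d1 : Disjoint (orb P a) (orb P b) := (orbit.eq_or_disjoint a b).resolve_left fun e => hab (e.symm.subset (mem_orbit_self b))
  have d2 : Disjoint (orb P a) (orb P c) := (orbit.eq_or_disjoint a c).resolve_left fun e => hh.1 (e.symm.subset (mem_orbit_self c))
  have d3 : Disjoint (orb P b) (orb P c) := (orbit.eq_or_disjoint b c).resolve_left fun e => hh.2 (e.symm.subset (mem_orbit_self c))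
  have hle := Set.ncard_le_card (orb P a ∪ orb P b ∪ orb P c)
  rw [Set.ncard_union_eq (Set.disjoint_union_left.2 ⟨d2, d3⟩) (Set.toFinite _) (Set.toFinite _),
    Set.ncard_union_eq d1 (Set.toFinite _) (Set.toFinite _), orb_card P h35 ha, orb_card P h35 hb,
    orb_card P h35 hc, h35] at hle
  omega

omit [IsSimpleGroup G] in
theorem smul_orb {y : G} (hy : y ∈ normalizer ((P : Subgroup G) : Set G)) {a b : Sylow 17 G} (h : b ∈ orb P a) :
    y • b ∈ orb P (y • a) := by
  obtain ⟨x, rfl⟩ := h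
  refine ⟨⟨y * x * y⁻¹, (mem_normalizer_iff.1 hy _).1 x.2⟩, ?_⟩
  change (y * (x : G) * y⁻¹) • (y • a) = y • ((x : G) • a)
  simp only [smul_smul]
  congr 1
  group

omit [IsSimpleGroup G] in
theorem smul_ne_self {y : G} (hy : y ∈ normalizer ((P : Subgroup G) : Set G)) {a : Sylow 17 G} (ha : a ≠ P) :
    y • a ≠ P := fun e => ha (smul_left_cancel y (e.trans (Sylow.smul_eq_iff_mem_normalizer.2 hy).symm))

omit [IsSimpleGroup G] in
theorem sq_smul_mem (h35 : Nat.card (Sylow 17 G) = 35) {y : G} (hy : y ∈ normalizer ((P : Subgroup G) : Set G))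
    {a : Sylow 17 G} (ha : a ≠ P) : y • y • a ∈ orb P a := by
  by_cases h1 : y • a ∈ orb P a
  · rw [← orb_eq_of_mem P h1]; exact smul_orb P hy h1
  rcases mem_orb_of_ne P h35 ha (smul_ne_self P hy ha) (smul_ne_self P hy (smul_ne_self P hy ha)) h1 with h | h
  · exact h
  · exfalso
    apply h1
    have h2 := smul_orb P (inv_mem hy) h
    rwa [inv_smul_smul, inv_smul_smul] at h2

omit [IsSimpleGroup G] in
theorem odd_smul_mem (h35 : Nat.card (Sylow 17 G) = 35) {y : G} (hy : y ∈ normalizer ((P : Subgroup G) : Set G))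
    (hodd : Odd (orderOf y)) {a : Sylow 17 G} (ha : a ≠ P) : y • a ∈ orb P a := by
  obtain ⟨k, hk⟩ := hodd
  have e : y = y ^ (k + 1) * y ^ (k + 1) := by
    rw [← pow_add, show k + 1 + (k + 1) = orderOf y + 1 by omega, pow_succ, pow_orderOf_eq_one, one_mul]
  rw [e, ← smul_smul]
  exact sq_smul_mem P h35 (pow_mem hy _) ha

omit [IsSimpleGroup G] in
theorem pow_smul_orb {y : G} (hy : ∀ x ∈ (P : Subgroup G), y * x = x * y) {a : Sylow 17 G}
    {x : (P : Subgroup G)} (h : y • a = x • a) (n : ℕ) : y ^ n • a = x ^ n • a := by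
  induction n with
  | zero => simp
  | succ n ih =>
    have hc : Commute (y ^ n) (x : G) := (show Commute y (x : G) from hy x x.2).pow_left n
    rw [pow_succ, ← smul_smul, h]
    show y ^ n • ((x : G) • a) = _
    rw [smul_smul, hc.eq, ← smul_smul, ih, pow_succ']
    simp only [Subgroup.smul_def, smul_smul]
    rfl

omit [IsSimpleGroup G] in
theorem fix_of_coprime {y : G} (hy : ∀ x ∈ (P : Subgroup G), y * x = x * y) (hc : (orderOf y).Coprime 17)
    {a : Sylow 17 G} (h : y • a ∈ orb P a) : y • a = a := by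
  obtain ⟨x, hx⟩ := h
  have hn := pow_smul_orb P hy hx.symm (orderOf y)
  rw [pow_orderOf_eq_one, one_smul] at hn
  obtain ⟨k, hk⟩ := IsPGroup.iff_orderOf.1 P.2 x
  have h1 : x ^ orderOf y ∈ MulAction.stabilizer (P : Subgroup G) a := hn.symm
  obtain ⟨m, hm⟩ := exists_pow_eq_self_of_coprime (x := x) (n := orderOf y) (by rw [hk]; exact hc.pow_right k)
  have h2 : x ∈ MulAction.stabilizer (P : Subgroup G) a := hm ▸ pow_mem h1 m
  exact hx.symm.trans h2

theorem eq_one_of_fix_one (h35 : Nat.card (Sylow 17 G) = 35) {y : G} (hy : ∀ x ∈ (P : Subgroup G), y * x = x * y)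
    (hc : (orderOf y).Coprime 17) {a : Sylow 17 G} (ha : a ≠ P) (h : y • a = a) : y = 1 := by
  have hyN : y ∈ normalizer ((P : Subgroup G) : Set G) :=
    centralizer_le_normalizer _ (mem_centralizer_iff.2 fun x hx => (hy x hx).symm)
  refine eq_one_of_fix h35 fun b => ?_
  by_cases hb : b = P
  · subst hb; exact Sylow.smul_eq_iff_mem_normalizer.2 hyN
  refine fix_of_coprime P hy hc ?_
  by_cases hba : b ∈ orb P a
  · have := smul_orb P hyN hba
    rw [h] at this
    rwa [orb_eq_of_mem P hba]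
  rcases mem_orb_of_ne P h35 ha hb (smul_ne_self P hyN hb) hba with h1 | h1
  · exfalso
    apply hba
    have h2 := smul_orb P (inv_mem hyN) h1
    rwa [inv_smul_smul, show y⁻¹ • a = a from inv_smul_eq_iff.2 h.symm] at h2
  · exact h1

/-- With a Sylow subgroup of order 17 the centraliser of it has order dividing 34. -/
theorem centralizer_dvd (h35 : Nat.card (Sylow 17 G) = 35) (h17 : Nat.card (P : Subgroup G) = 17) :
    Nat.card (centralizer ((P : Subgroup G) : Set G)) ∣ 34 := by
  classical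
  set C := centralizer ((P : Subgroup G) : Set G) with hC
  have hyC : ∀ y ∈ C, ∀ x ∈ (P : Subgroup G), y * x = x * y := fun y hy x hx => (mem_centralizer_iff.1 hy x hx).symm
  obtain ⟨a, ha⟩ : ∃ a : Sylow 17 G, a ≠ P := by
    by_contra hall
    push Not at hall
    have : Nat.card (Sylow 17 G) ≤ 1 := Finite.card_le_one_iff_subsingleton.2 ⟨fun A B => (hall A).trans (hall B).symm⟩
    omega
  -- elements of order prime to 17 move every point out of its orbit
  have hmove : ∀ y ∈ C, (orderOf y).Coprime 17 → y ≠ 1 → y • a ∉ orb P a := fun y hy hc h1 hin =>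
    h1 (eq_one_of_fix_one P h35 (hyC y hy) hc ha (fix_of_coprime P (hyC y hy) hc hin))
  have hcop2 : ∀ y : G, ∀ k : ℕ, orderOf y ∣ 2 ^ k → (orderOf y).Coprime 17 := fun y k h =>
    Nat.Coprime.coprime_dvd_left h ((by norm_num : Nat.Coprime 2 17).pow_left k)
  haveI : Fact (Nat.Prime 2) := ⟨Nat.prime_two⟩
  obtain ⟨S⟩ : Nonempty (Sylow 2 C) := inferInstance
  have hS : Nat.card (S : Subgroup C) ≤ 2 := by
    by_contra hlt
    have hnt : Nontrivial (S : Subgroup C) := Finite.one_lt_card_iff_nontrivial.1 (by omega)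
    obtain ⟨u, hu⟩ := exists_ne (1 : (S : Subgroup C))
    have hle : ∀ v : (S : Subgroup C), v = 1 ∨ v = u := by
      intro v
      by_cases hv : v = 1
      · exact Or.inl hv
      right
      have hc2 : ∀ w : (S : Subgroup C), (orderOf ((w : C) : G)).Coprime 17 := fun w => by
        obtain ⟨k, hk⟩ := IsPGroup.iff_orderOf.1 S.2 w
        exact hcop2 _ k (by rw [Subgroup.orderOf_coe, Subgroup.orderOf_coe, hk])
      have hne : ∀ w : (S : Subgroup C), w ≠ 1 → ((w : C) : G) • a ∉ orb P a := fun w hw =>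
        hmove _ (w : C).2 (hc2 w) fun e => hw (Subtype.ext (Subtype.ext e))
      have hN : ∀ w : (S : Subgroup C), ((w : C) : G) ∈ normalizer ((P : Subgroup G) : Set G) := fun w =>
        centralizer_le_normalizer _ (w : C).2
      have hsame : ((v : C) : G) • a ∈ orb P (((u : C) : G) • a) :=
        (mem_orb_of_ne P h35 ha (smul_ne_self P (hN u) ha) (smul_ne_self P (hN v) ha) (hne u hu)).resolve_left (hne v hv)
      have h1 := smul_orb P (inv_mem (hN u)) hsame
      rw [inv_smul_smul, smul_smul] at h1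
      by_contra hvu
      exact hne (u⁻¹ * v) (fun e => hvu (inv_mul_eq_one.1 e).symm) (by simpa using h1)
    have : Nat.card (S : Subgroup C) ≤ Nat.card Bool := Nat.card_le_card_of_injective
      (fun v => decide (v = u)) fun v w e => by
        rcases hle v with rfl | rfl <;> rcases hle w with rfl | rfl <;> first | rfl | simp_all
    simp only [Nat.card_eq_fintype_card, Fintype.card_bool] at this
    omega
  have hne0 : Nat.card C ≠ 0 := Nat.card_pos.ne'
  rw [← Nat.factorization_le_iff_dvd hne0 (by norm_num)]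
  intro r
  by_cases hr : r.Prime
  swap
  · simp [Nat.factorization_eq_zero_of_not_prime _ hr]
  by_cases hr2 : r = 2
  · subst hr2
    have h34 : (34 : ℕ).factorization 2 = 1 := by
      rw [show (34 : ℕ) = 2 * 17 by norm_num, Nat.factorization_mul (by norm_num) (by norm_num), Finsupp.add_apply,
        Nat.Prime.factorization_self Nat.prime_two, Nat.factorization_eq_zero_of_not_dvd (by norm_num)]
    rw [h34]
    rw [S.card_eq_multiplicity] at hS
    exact (Nat.pow_le_pow_iff_right (le_refl 2)).1 (by simpa using hS)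
  by_cases hr17 : r = 17
  · subst hr17
    have h34 : (34 : ℕ).factorization 17 = 1 := by
      rw [show (34 : ℕ) = 2 * 17 by norm_num, Nat.factorization_mul (by norm_num) (by norm_num), Finsupp.add_apply,
        Nat.Prime.factorization_self hp.out, Nat.factorization_eq_zero_of_not_dvd (by norm_num)]
    have h1 := (Nat.factorization_le_iff_dvd hne0 Nat.card_pos.ne').2 C.card_subgroup_dvd_card 17
    have h2 := P.card_eq_multiplicity
    rw [h17] at h2
    have h3 : 17 ^ 1 = 17 ^ (Nat.card G).factorization 17 := by rw [pow_one]; exact h2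
    rw [h34, Nat.pow_right_injective (by norm_num) h3]
    exact h1
  rw [Nat.factorization_eq_zero_of_not_dvd (fun hd => ?_)]
  · exact Nat.zero_le _
  haveI := Fact.mk hr
  obtain ⟨⟨y, hy⟩, hord⟩ := exists_prime_orderOf_dvd_card' r hd
  rw [Subgroup.orderOf_mk] at hord
  have hy1 : y ≠ 1 := fun e => hr.ne_one (by rw [← hord, e, orderOf_one])
  refine hmove y hy (by rw [hord]; exact (Nat.coprime_primes hr hp.out).2 hr17) hy1 ?_
  exact odd_smul_mem P h35 (centralizer_le_normalizer _ hy) (hord ▸ hr.odd_of_ne_two hr2) ha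

theorem order_mem (h35 : Nat.card (Sylow 17 G) = 35) (h17 : Nat.card (P : Subgroup G) = 17) :
    Nat.card G ∈ [595, 1190, 2380, 4760, 9520, 19040] := by
  haveI : IsCyclic (P : Subgroup G) := isCyclic_of_prime_card h17
  have hH := SmallOrder.card_normalizer_mul P
  rw [h35] at hH
  let f := (P : Subgroup G).normalizerMonoidHom
  have h1 : Nat.card f.range ∣ 16 := by
    refine (Subgroup.card_subgroup_dvd_card _).trans ?_
    rw [IsCyclic.card_mulAut, h17, Nat.totient_prime hp.out]
  have h2 : Nat.card f.ker ∣ 34 := by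
    rw [Subgroup.normalizerMonoidHom_ker, Nat.card_congr (subgroupOfEquivOfLe (centralizer_le_normalizer _)).toEquiv]
    exact centralizer_dvd P h35 h17
  have h3 : Nat.card (normalizer ((P : Subgroup G) : Set G)) ∣ 34 * 16 := by
    rw [← f.ker.card_mul_index, Subgroup.index_ker]
    exact mul_dvd_mul h2 h1
  have h4 : 17 ∣ Nat.card (normalizer ((P : Subgroup G) : Set G)) := h17.symm.dvd.trans (card_dvd_of_le le_normalizer)
  obtain ⟨m, hm⟩ := h4
  rw [hm] at h3 hH
  have h5 : m ∣ 32 := Nat.dvd_of_mul_dvd_mul_left (by norm_num : 0 < 17) (by simpa using h3)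
  have h6 : m ∈ Nat.divisors 32 := Nat.mem_divisors.2 ⟨h5, by norm_num⟩
  rw [show Nat.divisors 32 = {1, 2, 4, 8, 16, 32} by decide +kernel] at h6
  simp only [Finset.mem_insert, Finset.mem_singleton] at h6
  rcases h6 with rfl | rfl | rfl | rfl | rfl | rfl <;> simp [← hH]

theorem preprimitive (h35 : Nat.card (Sylow 17 G) = 35) : IsPreprimitive G (Sylow 17 G) := by
  haveI : Nontrivial (Sylow 17 G) := Finite.one_lt_card_iff_nontrivial.1 (by omega)
  obtain ⟨P⟩ : Nonempty (Sylow 17 G) := inferInstance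
  apply (isCoatom_stabilizer_iff_preprimitive (G := G) P).1
  have hidx : (stabilizer G P).index = 35 := by rw [index_stabilizer_of_transitive, h35]
  refine ⟨fun e => by rw [e, index_top] at hidx; omega, fun M hM => ?_⟩
  by_contra hMt
  have hd : M.index ∣ 35 := hidx ▸ index_dvd_of_le hM.le
  have hlt : M.index < 35 := by
    rw [← hidx]
    exact Nat.lt_of_le_of_ne (Nat.le_of_dvd (by omega) (index_dvd_of_le hM.le)) fun e =>
      hM.ne (eq_of_le_of_card_ge hM.le (Nat.le_of_mul_le_mul_right (by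
        rw [card_mul_index, e, card_mul_index]) (Nat.pos_of_ne_zero index_ne_zero_of_finite : 0 < M.index)))
  have h7 : M.index ≤ 7 := by
    have : M.index ∈ Nat.divisors 35 := Nat.mem_divisors.2 ⟨hd, by norm_num⟩
    rw [show Nat.divisors 35 = {1, 5, 7, 35} by decide +kernel] at this
    simp only [Finset.mem_insert, Finset.mem_singleton] at this
    omega
  have hdvd : Nat.card G ∣ M.index.factorial := by
    have := Subgroup.card_dvd_of_injective _ (SmallOrder.toPermHom_injective (G := G) hMt)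
    rwa [Nat.card_perm, ← index_eq_card] at this
  exact absurd ((dvd_card h35).trans (hdvd.trans (Nat.factorial_dvd_factorial h7))) (by norm_num [Nat.factorial])

/-- The Sylow subgroups have order 17. -/
theorem card_eq (h35 : Nat.card (Sylow 17 G) = 35) : Nat.card (P : Subgroup G) = 17 := by
  obtain ⟨k, hk⟩ := IsPGroup.iff_card.1 P.2
  have hdvd : Nat.card (P : Subgroup G) ∣ (35 : ℕ).factorial := by
    have := Subgroup.card_dvd_of_injective ((MulAction.toPermHom G (Sylow 17 G)).comp (P : Subgroup G).subtype)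
      ((faithful h35).comp (P : Subgroup G).subtype_injective)
    rwa [Nat.card_perm, h35] at this
  have hk2 := exists_dvd_false_of_prime_sq hdvd k hk
  have hk0 : k ≠ 0 := fun e => P.ne_bot_of_dvd_card (dvd_card h35) (Subgroup.card_eq_one.1 (by rw [hk, e, pow_zero]))
  obtain rfl | rfl : k = 1 ∨ k = 2 := by omega
  · simpa using hk
  exfalso
  have hab : ∀ x y : (P : Subgroup G), x * y = y * x := IsPGroup.commutative_of_card_eq_prime_sq hk
  obtain ⟨a, ha⟩ : ∃ a : Sylow 17 G, a ≠ P := by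
    by_contra hall
    push Not at hall
    have : Nat.card (Sylow 17 G) ≤ 1 := Finite.card_le_one_iff_subsingleton.2 ⟨fun A B => (hall A).trans (hall B).symm⟩
    omega
  have hDcard : Nat.card (stabilizer (P : Subgroup G) a) = 17 := by
    have h1 := (stabilizer (P : Subgroup G) a).card_mul_index
    rw [index_stabilizer, orb_card P h35 ha, hk] at h1
    omega
  have hDfix : ∀ d ∈ stabilizer (P : Subgroup G) a, ∀ c ∈ orb P a, d • c = c := by
    rintro d hd _ ⟨x, rfl⟩
    show d • x • a = x • a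
    rw [smul_smul, hab, ← smul_smul, hd]
  obtain ⟨d, hd, hd1⟩ : ∃ d ∈ stabilizer (P : Subgroup G) a, d ≠ 1 := by
    by_contra hall
    push Not at hall
    rw [show stabilizer (P : Subgroup G) a = ⊥ from (eq_bot_iff_forall _).2 hall, card_bot] at hDcard
    omega
  obtain ⟨b, hb⟩ : ∃ b, d • b ≠ b := by
    by_contra hall
    push Not at hall
    exact hd1 (Subtype.ext (eq_one_of_fix h35 hall))
  have hbP : b ≠ P := by
    rintro rfl
    exact hb (Sylow.smul_eq_iff_mem_normalizer.2 (le_normalizer d.2))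
  have hba : b ∉ orb P a := fun h => hb (hDfix d hd b h)
  let s : Set (Sylow 17 G) := insert P (orb P a)
  have hs : s.ncard = 17 + 1 := by rw [Set.ncard_insert_of_notMem (self_notMem_orb P ha), orb_card P h35 ha]
  have hout : ∀ c, c ∉ s → c ∈ orb P b := fun c hc => by
    simp only [s, Set.mem_insert_iff, not_or] at hc
    exact (mem_orb_of_ne P h35 ha hbP hc.1 hba).resolve_left hc.2
  have hbs : b ∉ s := by simp [s, hbP, hba]
  have hsmul : ((d : G)) ∈ fixingSubgroup G s := by
    rw [mem_fixingSubgroup_iff]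
    rintro c (rfl | hc)
    · exact Sylow.smul_eq_iff_mem_normalizer.2 (le_normalizer d.2)
    · exact hDfix d hd c hc
  -- the fixing subgroup of `s` is transitive on the complement
  have horb : ∀ c, c ∉ s → ∃ i : ℕ, d ^ i • b = c := by
    intro c hc
    have hsub : MulAction.orbit (stabilizer (P : Subgroup G) a) b ⊆ orb P b := by
      rintro _ ⟨e, rfl⟩; exact ⟨(e : (P : Subgroup G)), rfl⟩
    have hcard : (MulAction.orbit (stabilizer (P : Subgroup G) a) b).ncard = 17 := by
      obtain ⟨j, hj⟩ := (P.2.to_subgroup (stabilizer (P : Subgroup G) a)).card_orbit b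
      rw [Nat.card_coe_set_eq] at hj
      have hle : 17 ^ j ≤ 17 ^ 1 := by rw [← hj, pow_one]; exact (Set.ncard_le_ncard hsub).trans (orb_card P h35 hbP).le
      have : j ≠ 0 := by
        rintro rfl
        obtain ⟨c', hc'⟩ := Set.ncard_eq_one.1 (hj.trans (pow_zero 17))
        have e1 : d • b ∈ MulAction.orbit (stabilizer (P : Subgroup G) a) b := ⟨⟨d, hd⟩, rfl⟩
        have e2 : b ∈ MulAction.orbit (stabilizer (P : Subgroup G) a) b := mem_orbit_self b
        rw [hc', Set.mem_singleton_iff] at e1 e2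
        exact hb (e1.trans e2.symm)
      have := (Nat.pow_le_pow_iff_right (by norm_num)).1 hle
      rw [hj, show j = 1 by omega, pow_one]
    have heq := Set.eq_of_subset_of_ncard_le hsub (by rw [orb_card P h35 hbP, hcard])
    obtain ⟨e, he⟩ := heq.symm.subset (hout c hc)
    haveI : Fact (Nat.Prime 17) := hp
    obtain ⟨i, hi⟩ := Submonoid.mem_powers_iff _ _ |>.1
      (mem_powers_of_prime_card hDcard (g' := e) (g := ⟨d, hd⟩) (fun h => hd1 (congrArg Subtype.val h)))
    exact ⟨i, by rw [← he, ← hi]; rfl⟩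
  haveI hpre : IsPreprimitive (fixingSubgroup G s) (SubMulAction.ofFixingSubgroup G s) := by
    haveI : IsPretransitive (fixingSubgroup G s) (SubMulAction.ofFixingSubgroup G s) := by
      rw [MulAction.isPretransitive_iff_base ⟨b, hbs⟩]
      rintro ⟨c, hc⟩
      obtain ⟨i, hi⟩ := horb c hc
      exact ⟨⟨(d : G) ^ i, pow_mem hsmul i⟩, Subtype.ext hi⟩
    refine IsPreprimitive.of_prime_card ?_
    have : Nat.card (SubMulAction.ofFixingSubgroup G s) = (sᶜ : Set (Sylow 17 G)).ncard := Nat.card_coe_set_eq _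
    rw [this, Set.ncard_compl, h35, hs]
    norm_num
  have hM := (preprimitive h35).isMultiplyPreprimitive hs (by omega) hpre
  have h19 := hM.isMultiplyPretransitive
  obtain ⟨t, ht⟩ : ∃ t : Set (Sylow 17 G), t.ncard = 17 + 2 := by
    obtain ⟨t, -, ht⟩ := Set.exists_subset_card_eq (s := (Set.univ : Set (Sylow 17 G))) (n := 17 + 2) (by rw [Set.ncard_univ]; omega)
    exact ⟨t, ht⟩
  have hidx := MulAction.IsMultiplyPretransitive.index_of_fixingSubgroup_eq t (ht ▸ h19)
  have h13 : 13 ∣ Nat.card G := by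
    refine dvd_trans ?_ (fixingSubgroup G t).index_dvd_card
    rw [hidx, ht]
    exact (Nat.dvd_factorial (by norm_num) (by norm_num)).mul_left _
  have h13' : 13 ∣ Nat.card (normalizer ((P : Subgroup G) : Set G)) := by
    rw [← SmallOrder.card_normalizer_mul P, h35] at h13
    exact (Nat.Coprime.dvd_mul_right (by norm_num)).1 h13
  haveI h13p : Fact (Nat.Prime 13) := ⟨by norm_num⟩
  obtain ⟨⟨y, hyN⟩, hy⟩ := exists_prime_orderOf_dvd_card' 13 h13'
  rw [Subgroup.orderOf_mk] at hy
  have hy1 : y ≠ 1 := fun e => by rw [e, orderOf_one] at hy; norm_num at hy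
  refine hy1 (eq_one_of_fix h35 fun c => ?_)
  by_cases hcP : c = P
  · subst hcP; exact Sylow.smul_eq_iff_mem_normalizer.2 hyN
  -- `y` fixes two points of the orbit
  have horbN : ∀ z ∈ zpowers y, ∀ e ∈ orb P c, z • e ∈ orb P c := by
    intro z hz e he
    have hzN : z ∈ normalizer ((P : Subgroup G) : Set G) := zpowers_le.2 hyN hz
    have hzo : Odd (orderOf z) := Odd.of_dvd_nat (by rw [hy]; decide) (orderOf_dvd_of_mem_zpowers hz)
    have := smul_orb P hzN he
    rwa [orb_eq_of_mem P (odd_smul_mem P h35 hzN hzo hcP)] at this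
  let T : SubMulAction (zpowers y) (Sylow 17 G) := ⟨orb P c, fun z {e} he => horbN z z.2 e he⟩
  have hT : Nat.card T = 17 := (Nat.card_coe_set_eq _).trans (orb_card P h35 hcP)
  have hy13 : IsPGroup 13 (zpowers y) := IsPGroup.of_card (n := 1) (by rw [Nat.card_zpowers, hy, pow_one])
  have hmod := hy13.card_modEq_card_fixedPoints T
  rw [hT] at hmod
  obtain ⟨⟨⟨c1, hc1⟩, h1⟩, ⟨⟨c2, hc2⟩, h2⟩, hne⟩ : ∃ u v : fixedPoints (zpowers y) T, u ≠ v := by
    have : 1 < Nat.card (fixedPoints (zpowers y) T) := by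
      unfold Nat.ModEq at hmod
      omega
    exact (Finite.one_lt_card_iff_nontrivial.1 this).exists_pair_ne
  have hf1 : y • c1 = c1 := congrArg Subtype.val (h1 ⟨y, mem_zpowers y⟩)
  have hf2 : y • c2 = c2 := congrArg Subtype.val (h2 ⟨y, mem_zpowers y⟩)
  let K : Subgroup (P : Subgroup G) :=
    { carrier := {q | (y * q * y⁻¹ * (q : G)⁻¹) • c1 = c1}
      one_mem' := by simp
      mul_mem' := fun {q r} hq hr => by
        show (y * ((q : G) * r) * y⁻¹ * ((q : G) * r)⁻¹) • c1 = c1
        have hc : ∀ u ∈ (P : Subgroup G), ∀ v ∈ (P : Subgroup G), u * v = v * u := fun u hu v hv =>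
          congrArg Subtype.val (hab ⟨u, hu⟩ ⟨v, hv⟩)
        have hyr : y * r * y⁻¹ ∈ (P : Subgroup G) := (mem_normalizer_iff.1 hyN _).1 r.2
        have e : y * ((q : G) * r) * y⁻¹ * ((q : G) * r)⁻¹ = (y * q * y⁻¹ * (q : G)⁻¹) * (y * r * y⁻¹ * (r : G)⁻¹) := by
          have e1 : y * r * y⁻¹ * (r : G)⁻¹ * (q : G)⁻¹ = (q : G)⁻¹ * (y * r * y⁻¹ * (r : G)⁻¹) :=
            hc _ (mul_mem hyr (inv_mem r.2)) _ (inv_mem q.2)
          calc y * ((q : G) * r) * y⁻¹ * ((q : G) * r)⁻¹ = y * q * y⁻¹ * (y * r * y⁻¹ * (r : G)⁻¹ * (q : G)⁻¹) := by group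
            _ = _ := by rw [e1]; group
        rw [e, ← smul_smul, hr, hq]
      inv_mem' := fun {q} hq => by
        show (y * ((q⁻¹ : (P : Subgroup G)) : G) * y⁻¹ * ((q⁻¹ : (P : Subgroup G)) : G)⁻¹) • c1 = c1
        have hyq : y * q * y⁻¹ ∈ (P : Subgroup G) := (mem_normalizer_iff.1 hyN _).1 q.2
        have e : y * ((q⁻¹ : (P : Subgroup G)) : G) * y⁻¹ * ((q⁻¹ : (P : Subgroup G)) : G)⁻¹ = (y * q * y⁻¹ * (q : G)⁻¹)⁻¹ := by
          have e1 : (y * q * y⁻¹)⁻¹ * q = q * (y * q * y⁻¹)⁻¹ :=
            congrArg Subtype.val (hab ⟨_, inv_mem hyq⟩ q)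
          calc y * ((q⁻¹ : (P : Subgroup G)) : G) * y⁻¹ * ((q⁻¹ : (P : Subgroup G)) : G)⁻¹
              = (y * q * y⁻¹)⁻¹ * q := by simp only [Subgroup.coe_inv]; group
            _ = _ := by rw [e1]; group
        rw [e, inv_smul_eq_iff, hq] }
  have hc1 : c1 ∈ orb P c := hc1
  have hc2 : c2 ∈ orb P c := hc2
  have hc1P : c1 ≠ P := fun e => by rw [e] at hc1; exact self_notMem_orb P hcP hc1
  have hDK : stabilizer (P : Subgroup G) c1 ≤ K := by
    intro q hq
    change (y * q * y⁻¹ * (q : G)⁻¹) • c1 = c1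
    have hq' : (q : G) • c1 = c1 := hq
    simp only [← smul_smul]
    rw [inv_smul_eq_iff.2 hq'.symm, inv_smul_eq_iff.2 hf1.symm, hq', hf1]
  obtain ⟨q, hq⟩ := (orb_eq_of_mem P hc1).symm.subset hc2
  change q • c1 = c2 at hq
  have hqK : q ∈ K := by
    change (y * q * y⁻¹ * (q : G)⁻¹) • c1 = c1
    have h' : (y * q * y⁻¹) • c1 = c2 := by
      rw [← smul_smul, ← smul_smul, inv_smul_eq_iff.2 hf1.symm]
      change y • q • c1 = c2
      rw [hq, hf2]
    have hcm : y * q * y⁻¹ * (q : G)⁻¹ = (q : G)⁻¹ * (y * q * y⁻¹) :=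
      congrArg Subtype.val (hab ⟨_, (mem_normalizer_iff.1 hyN _).1 q.2⟩ q⁻¹)
    rw [hcm, ← smul_smul, h', ← hq]
    exact inv_smul_smul _ _
  have hKtop : K = ⊤ := by
    have hidx1 : (stabilizer (P : Subgroup G) c1).index = 17 := by rw [index_stabilizer, orb_card P h35 hc1P]
    have hd1 : K.index ∣ 17 := (index_dvd_of_le hDK).trans hidx1.dvd
    rcases (Nat.dvd_prime hp.out).1 hd1 with h | h
    · exact index_eq_one.1 h
    · exfalso
      have : stabilizer (P : Subgroup G) c1 = K := eq_of_le_of_card_ge hDK (Nat.le_of_mul_le_mul_right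
        (by rw [card_mul_index, ← hidx1.trans h.symm, card_mul_index]) (by omega : 0 < K.index))
      have : q • c1 = c1 := (this ▸ hqK : q ∈ stabilizer (P : Subgroup G) c1)
      exact hne (Subtype.ext (Subtype.ext (this.symm.trans hq)))
  obtain ⟨r, hr⟩ : c ∈ orb P c1 := by rw [orb_eq_of_mem P hc1]; exact mem_orbit_self c
  change r • c1 = c at hr
  have hrK : r ∈ K := hKtop ▸ mem_top r
  change (y * r * y⁻¹ * (r : G)⁻¹) • c1 = c1 at hrK
  have hcm : y * r * y⁻¹ * (r : G)⁻¹ = (r : G)⁻¹ * (y * r * y⁻¹) :=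
    congrArg Subtype.val (hab ⟨_, (mem_normalizer_iff.1 hyN _).1 r.2⟩ r⁻¹)
  rw [hcm, ← smul_smul, inv_smul_eq_iff, ← smul_smul, ← smul_smul, inv_smul_eq_iff.2 hf1.symm] at hrK
  rw [← hr]
  exact hrK

theorem card_sylow_ne : Nat.card (Sylow 17 G) ≠ 35 := fun h35 => by
  obtain ⟨P⟩ : Nonempty (Sylow 17 G) := inferInstance
  have hmem := order_mem P h35 (card_eq P h35)
  have hall : ([595, 1190, 2380, 4760, 9520, 19040].all SmallOrder.orderExcluded) = true := by decide +kernel
  exact SmallOrder.card_ne_of_orderExcluded (not_comm h35) (List.all_eq_true.1 hall _ hmem) rfl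

end CfsgLib.FGStruct.ThirtyFive
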